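import Cfsg.Agent.PQ.EA.LrS
import Cfsg.Agent.KM.Sc.E0

/-!
# S4982, tools for the rows `LR` (helper37)

* `dt_of_iso` : `G ^ F` is the simple group and the multiplier is an `r`-group; `tr_of_mult`;
* `mx_isog`, `sca_isog` : the matrix of `F` along an isogeny; `dt_of_isog`.
-/

set_option autoImplicit false
set_option linter.unusedSectionVars false

namespace Cfsg.Agent.PQ.EA.LrE

open Cfsg Subgroup Matrix Cfsg.Agent.LV Cfsg.Agent.DL Cfsg.Agent.KM Cfsg.Agent.KM.Sc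

theorem tr_of_mult {S : Type} [Group S] {r : ℕ} {A : Type} [CommGroup A] (h : HasSchurMultiplier S A)
    (hA : IsPGroup r A) : Tr r S :=
  fun K _ _ σ hσ => let ⟨π, hπ⟩ := h.2 K σ hσ; hA.of_surjective π hπ

variable {r : ℕ} [Fact r.Prime] {k : Type} [Field k] [CharP k r] [IsAlgClosed k]
  {Y' : Type} [Group Y'] {N' : Type} [Fintype N'] [DecidableEq N'] {ρ' : Y' →* GL N' k} {F' : MulAut Y'}
  {G' : Subgroup Y'} {Y : Type} [Group Y] {N : Type} [Fintype N] [DecidableEq N] {ρ : Y →* GL N k} {F : MulAut Y}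
  {G : Subgroup Y} {X' : Datum r ρ' F' G'} {X : Datum r ρ F G} {θ : Y' →* Y} {z : ℕ} {S : Type} [Group S] {u : ℤ}

/-- **`Dt` if `G ^ F` is the simple group and the multiplier is an `r`-group** -/
theorem dt_of_iso (i : ↥(GF F G) ≃* S) (hT : Tr r S)
    (h : ∀ l : ℕ, l.Prime → l ≠ 2 → l ≠ r → l ∣ Nat.card S → AbS l S → Gd X l ∧ Sca X u l) : Dt r u S := by
  have e : i.toMonoidHom.ker = ⊥ := (MonoidHom.ker_eq_bot_iff _).2 i.injective
  refine ⟨_, k, _, _, ‹_›, Y, _, N, _, _, ρ, F, G, X, i.toMonoidHom, ⟨i.surjective, e ▸ bot_le, e ▸ bot_le⟩,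
    fun z hz g _ => ?_, fun K _ _ σ k1 k2 => ?_, fun l k1 k2 k3 k4 k5 => .inr ⟨?_, h l k1 k2 k3 k4 k5⟩⟩
  · rw [mem_bot.1 (e.le hz), OneMemClass.coe_one, mul_one, one_mul]
  · have h1 : Function.Injective σ := (MonoidHom.ker_eq_bot_iff _).1 (card_eq_one.1
      ((hT K σ k1).card_eq_or_dvd.resolve_right k2))
    let j := MulEquiv.ofBijective σ ⟨h1, k1.1⟩
    exact ⟨(i.trans j.symm).toMonoidHom, (i.trans j.symm).surjective, fun s => j.apply_symm_apply _⟩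
  · rw [e, card_bot]
    exact k1.not_dvd_one

theorem mx_isog (I : Isog X' X θ z) : I.P * X'.Mx = X.Mx * I.P := by
  ext i j
  refine congrFun (chr_inj (k := k) (m := I.P i ᵥ* X'.Mx) (m' := X.Mx i ᵥ* I.P) fun c => ?_) j
  have h1 := I.comm (X'.τ c)
  rw [X'.F_τ, I.tau, I.tau, X.F_τ] at h1
  rw [← chr_mon, ← chr_chr]
  exact congrFun (X.τ_inj h1) i

theorem wm_isog (I : Isog X' X θ z) (w : X.W) : ∃ w', I.P * X'.Wm w' = X.Wm w * I.P := by
  obtain ⟨m, hm, -⟩ := X.exists_rp w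
  obtain ⟨y, hy, rfl⟩ := I.surj m (X.NN_le_G ⟨w, hm⟩)
  obtain ⟨w', h⟩ := I.mem_NN hy ⟨w, hm⟩
  refine ⟨w', ?_⟩
  ext i j
  refine congrFun (chr_inj (k := k) (m := I.P i ᵥ* X'.Wm w') (m' := X.Wm w i ᵥ* I.P) fun c => ?_) j
  have h1 := congrArg θ (X'.conj_τ h c)
  rw [map_mul, map_mul, map_inv, I.tau, I.tau, X.conj_τ hm] at h1
  rw [← chr_mon, ← chr_chr]
  exact (congrFun (X.τ_inj h1) i).symm

theorem cancel_isog (I : Isog X' X θ z) {A B : Matrix X'.R X'.R ℤ} (h : I.P * A = I.P * B) : A = B := by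
  have h1 := congrArg (I.Q * ·) h
  simp only [← Matrix.mul_assoc, I.QP, Matrix.smul_mul, Matrix.one_mul] at h1
  exact smul_right_injective _ (Int.natCast_ne_zero.2 I.pos.ne') h1

/-- **`Sca` along an isogeny** -/
theorem sca_isog (I : Isog X' X θ z) {w : X.W} (h : X.Mx = u • X.Wm w) {n l : ℕ} (hn : X.Wm w ^ n = 1) (hl : ¬ l ∣ n) :
    Sca X' u l := by
  obtain ⟨w', e⟩ := wm_isog I w
  have h1 : ∀ j : ℕ, I.P * X'.Wm w' ^ j = X.Wm w ^ j * I.P := fun j => by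
    induction j with
    | zero => rw [pow_zero, pow_zero, Matrix.mul_one, Matrix.one_mul]
    | succ j ih => rw [pow_succ, pow_succ, ← Matrix.mul_assoc, ih, Matrix.mul_assoc, e, Matrix.mul_assoc]
  refine ⟨X'.Wm w', n, cancel_isog I ?_, cancel_isog I ?_, hl⟩
  · rw [mx_isog I, h, Matrix.mul_smul, e, Matrix.smul_mul]
  · rw [h1, hn, Matrix.mul_one, Matrix.one_mul]

/-- **`Dt` from an isogeny** -/
theorem dt_of_isog (I : Isog X' X θ z) (s : KM.Sc X' S) {ι : S →* Y} (hι : ∀ h, ι (s.π h) = θ h)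
    (hs : IsSimpleGroup S) (hn : ¬ IsMulCommutative S) {w : X.W} (h : X.Mx = u • X.Wm w) {n : ℕ} (h1 : X.Wm w ^ n = 1)
    (h2 : ∀ l : ℕ, l.Prime → l ≠ 2 → l ≠ r → l ∣ Nat.card S → AbS l S → l.Coprime z ∧ ¬ l ∣ n ∧ Tor.Lev X l) :
    Dt r u S :=
  Lr.dt_of_scS s hs hn fun l k1 k2 k3 k4 k5 =>
    let ⟨k6, k7, k8⟩ := h2 l k1 k2 k3 k4 k5
    .inr ⟨I.not_dvd s hι k1 k6, I.lev k6 k8, sca_isog I h h1 k7⟩

end Cfsg.Agent.PQ.EA.LrE
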