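import Cfsg.Agent.PQ.EA.Defs
import Cfsg.Agent.PQ.EL.SL
import Cfsg.Agent.H600.RIM.Row
import Cfsg.Agent.H95.StemCover
import Cfsg.Agent.N2.Cl.RAlt.Dat
import Cfsg.Agent.S2116
import Cfsg.Agent.S5164

/-!
# S4982: the row `QPs` for the alternating groups (helper62)

A spin character with a label `(n - i, i)` has degree divisible by exactly one of the two primes.
-/

set_option autoImplicit false
set_option maxHeartbeats 400000

namespace Cfsg.Agent.PQ.EA

open Cfsg Subgroup Cfsg.Agent.Characters.Core Cfsg.Agent.H614.Spin Cfsg.Agent.H686.Spin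
open Cfsg.Agent.SporadicRecognition.AltCover Cfsg.Agent.N2C.RAlt

namespace AltQ

/-! ### numbers -/

theorem dvd_sub_iff {l a r t : ℕ} (hr : 1 ≤ r) (hrl : r ≤ l) (ht : 0 < t) (htl : t < 2 * l) (hn : t ≤ a * l + r) :
    l ∣ a * l + r - t ↔ t = r ∨ t = r + l := by
  refine ⟨fun ⟨c, hc⟩ => ?_, ?_⟩
  · have h1 : a * l + r = l * c + t := by omega
    have h2 : c < a + 1 := by nlinarith
    have h3 : a < c + 2 := by nlinarith
    obtain rfl | rfl : a = c ∨ a = c + 1 := by omega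
    · left; nlinarith
    · right; nlinarith
  · rintro (rfl | rfl)
    · rw [Nat.add_sub_cancel]
      exact Dvd.intro_left a rfl
    · rw [show a * l + r - (r + l) = a * l - l by omega]
      exact Nat.dvd_sub (Dvd.intro_left a rfl) dvd_rfl

theorem dvd_iff {l n i x a r : ℕ} (hl : l.Prime) (hr : 1 ≤ r) (hrl : r ≤ l) (hn : n = a * l + r) (hi : 1 ≤ i) (hil : i < l)
    (h2 : 2 * i < n) (h : x * n = n.choose i * (n - 2 * i)) : l ∣ x ↔ r < i ∨ 2 * i = r := by
  obtain ⟨m, rfl⟩ : ∃ m, n = m + 1 := ⟨n - 1, by omega⟩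
  obtain ⟨j, rfl⟩ : ∃ j, i = j + 1 := ⟨i - 1, by omega⟩
  have h1 : x * (j + 1).factorial = m.descFactorial j * (m + 1 - 2 * (j + 1)) := by
    refine Nat.eq_of_mul_eq_mul_left m.succ_pos ?_
    rw [← mul_assoc, ← mul_assoc, mul_comm _ x, h, ← Nat.succ_descFactorial_succ, Nat.descFactorial_eq_factorial_mul_choose]
    ring
  have h3 : l ∣ x ↔ l ∣ x * (j + 1).factorial := by
    rw [hl.dvd_mul, hl.dvd_factorial]
    exact ⟨.inl, fun k => k.resolve_right (by omega)⟩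
  have h4 : l ∣ m.descFactorial j ↔ r < j + 1 := by
    rw [Nat.descFactorial_eq_prod_range, hl.prime.dvd_finsetProd_iff]
    have k : ∀ t, t < j → (l ∣ m - t ↔ t + 1 = r ∨ t + 1 = r + l) := fun t ht => by
      rw [show m - t = a * l + r - (t + 1) by omega]
      exact dvd_sub_iff hr hrl (by omega) (by omega) (by omega)
    refine ⟨fun ⟨t, h5, h6⟩ => ?_, fun h5 => ⟨r - 1, Finset.mem_range.2 (by omega), (k _ (by omega)).2 (by omega)⟩⟩
    have h7 := Finset.mem_range.1 h5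
    have h8 := (k t h7).1 h6
    omega
  rw [h3, h1, hl.dvd_mul, h4, hn, dvd_sub_iff hr hrl (by omega) (by omega) (by omega)]
  omega

theorem not_dvd {q n i x : ℕ} (hq : q.Prime) (h2 : 2 < q) (hn : q ∣ n) (hlt : n < q ^ 2) (hi : 2 * i < n)
    (h : x * n = n.choose i * (n - 2 * i)) : ¬ q ∣ x := fun hx => by
  have := Fact.mk hq
  have h3 : q ^ 2 ∣ n.choose i * (n - 2 * i) := by
    rw [← h, sq]
    exact mul_dvd_mul hx hn
  by_cases h4 : q ∣ i
  · have h5 := Choose.choose_modEq_choose_mod_mul_choose_div_nat (n := n) (k := i) (p := q)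
    rw [Nat.mod_eq_zero_of_dvd hn, Nat.mod_eq_zero_of_dvd h4, Nat.choose_self, one_mul] at h5
    have h6 : q.Coprime (n.choose i) := by
      rw [Nat.coprime_comm, Nat.Coprime, h5.gcd_eq, Nat.gcd_comm]
      exact hq.coprime_choose_of_lt (Nat.div_lt_of_lt_mul (by rwa [← sq])) (Nat.div_le_div_right (by omega))
    have h7 := Nat.le_of_dvd (by omega) ((h6.pow_left 2).dvd_of_dvd_mul_left h3)
    omega
  · have h5 : q.Coprime (n - 2 * i) := hq.coprime_iff_not_dvd.2 fun k => by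
      have h6 : q ∣ 2 * i := by
        rw [show 2 * i = n - (n - 2 * i) by omega]
        exact Nat.dvd_sub hn k
      exact h4 ((hq.dvd_mul.1 h6).resolve_left fun k => absurd (Nat.le_of_dvd two_pos k) (by omega))
    have h6 := (hq.pow_dvd_iff_le_factorization (Nat.choose_pos (by omega)).ne').1 ((h5.pow_left 2).dvd_of_dvd_mul_right h3)
    have h7 := Nat.factorization_choose_le_one (k := i) hlt
    omega

theorem exists_rem {l n : ℕ} (hl : 0 < l) (hn : 0 < n) : ∃ a r, 1 ≤ r ∧ r ≤ l ∧ n = a * l + r :=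
  ⟨(n - 1) / l, (n - 1) % l + 1, by omega, Nat.mod_lt _ hl, by
    rw [← add_assoc, Nat.div_add_mod']
    omega⟩

/-- **the label** -/
theorem exists_row {p q n : ℕ} (hp : p.Prime) (hq : q.Prime) (h2 : 2 < q) (hqp : q < p) (hpn : p ≤ n) (hn : n < q ^ 2)
    (hF : ¬ q ∣ p - 1) : ∃ i, 1 ≤ i ∧ 2 * i < n ∧ ∀ x, x * n = n.choose i * (n - 2 * i) → ¬ (p ∣ x ↔ q ∣ x) := by
  obtain ⟨a, r, r1, r2, ha⟩ := exists_rem hp.pos (show 0 < n by omega)
  obtain ⟨b, s, s1, s2, hb⟩ := exists_rem hq.pos (show 0 < n by omega)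
  have p2 : p % 2 = 1 := hp.eq_two_or_odd.resolve_left (by omega)
  have q2 : q % 2 = 1 := hq.eq_two_or_odd.resolve_left (by omega)
  have hc : ∀ t, 0 < t → t ≤ n → p ∣ t → q ∣ t → False := fun t h3 h4 h5 h6 => by
    have h7 := Nat.le_of_dvd h3 (((Nat.coprime_primes hp hq).2 hqp.ne').mul_dvd_of_dvd_of_dvd h5 h6)
    nlinarith
  have a1 : p ∣ a * p := Dvd.intro_left a rfl
  have b1 : q ∣ b * q := Dvd.intro_left b rfl
  have a2 : a * p = 0 ∨ a * p = p ∨ 2 * p ≤ a * p := by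
    rcases a with _ | _ | a
    · exact .inl (zero_mul p)
    · exact .inr (.inl (one_mul p))
    · exact .inr (.inr (Nat.mul_le_mul_right p (by omega)))
  have b2 : b * q = 0 ∨ q ≤ b * q := (Nat.eq_zero_or_pos _).imp_right fun k => Nat.le_of_dvd k b1
  have h3 : r ≠ s := fun k => hc (a * p) (by omega) (by omega) a1 (by rwa [show a * p = b * q by omega])
  rcases s2.eq_or_lt with rfl | h4
  · have h4 : s ∣ n := hb ▸ b1.add dvd_rfl
    have h5 : r ≠ p := fun k => hc n (by omega) le_rfl (by rw [ha, k]; exact a1.add dvd_rfl) h4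
    have h6 : n ≠ 2 * (p - 1) := fun k => hF ((hq.dvd_mul.1 (k ▸ h4)).resolve_left fun k => absurd (Nat.le_of_dvd two_pos k)
      (by omega))
    obtain ⟨i, i1, i2, i3, i4⟩ : ∃ i, 1 ≤ i ∧ i < p ∧ 2 * i < n ∧ (r < i ∨ 2 * i = r) := by
      rcases Nat.mod_two_eq_zero_or_one r with k | k
      · exact ⟨r / 2, by omega⟩
      · exact ⟨r + 1, by omega⟩
    exact ⟨i, i1, i3, fun x hx k => not_dvd hq h2 h4 hn i3 hx (k.1 ((dvd_iff hp r1 r2 ha i1 i2 i3 hx).2 i4))⟩
  have h5 : ¬ (s + 2 = q ∧ r = 2 * s + 2) := fun k => hc (a * p) (by omega) (by omega) a1 (by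
    rw [show a * p = b * q - q by omega]
    exact Nat.dvd_sub b1 dvd_rfl)
  obtain ⟨i, i1, i2, i3, i4⟩ : ∃ i, 1 ≤ i ∧ i < q ∧ 2 * i < n ∧ ¬ (r < i ∨ 2 * i = r ↔ s < i ∨ 2 * i = s) := by
    rcases h3.lt_or_gt with k | k
    · by_cases k1 : s = 2 * r + 2
      · exact ⟨r + 2, by omega⟩
      · exact ⟨r + 1, by omega⟩
    · rcases Nat.mod_two_eq_zero_or_one s with k1 | k1
      · exact ⟨s / 2, by omega⟩
      · by_cases k2 : r = 2 * s + 2
        · exact ⟨s + 2, by omega⟩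
        · exact ⟨s + 1, by omega⟩
  refine ⟨i, i1, i3, fun x hx => ?_⟩
  rwa [dvd_iff hp r1 r2 ha i1 (by omega) i3 hx, dvd_iff hq s1 s2 hb i1 i2 i3 hx]

/-! ### groups -/

section grp

variable {S : Type} [Group S] {g y : S} {n p q j : ℕ}

theorem pow_modEq (hg : orderOf g = p) (hy : y * g * y⁻¹ = g ^ j) {k : ℕ} (hk : g * y ^ k = y ^ k * g) : j ^ k ≡ 1 [MOD p] := by
  have h3 : ∀ k : ℕ, y ^ k * g * (y ^ k)⁻¹ = g ^ j ^ k := fun k => by
    induction k with
    | zero => simp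
    | succ k ih =>
      calc y ^ (k + 1) * g * (y ^ (k + 1))⁻¹ = y * (y ^ k * g * (y ^ k)⁻¹) * y⁻¹ := by group
        _ = _ := by rw [ih, ← conj_pow, hy, ← pow_mul, ← pow_succ']
  rw [← hg, ← pow_eq_pow_iff_modEq, ← h3, ← hk, mul_inv_cancel_right, pow_one]

theorem exists_conj (e : S ≃* alternatingGroup (Fin n)) (hp : p.Prime) (hg : orderOf g = p) (hj : ¬ p ∣ j) :
    ∃ y, y * g * y⁻¹ = g ^ (j * j) := by
  have h1 := e.symm.toMonoidHom.map_isConj (conj_sq hp ((e.orderOf_eq g).trans hg) hj)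
  rw [map_pow] at h1
  exact isConj_iff.1 (by simpa using h1)

variable [Finite S]

theorem mem_norm (hy : y * g * y⁻¹ = g ^ j) : y ∈ normalizer (zpowers g : Set S) := by
  refine Subgroup.mem_normalizer_fintype ?_
  rintro _ ⟨k, rfl⟩
  simp only []
  rw [← conj_zpow, hy]
  exact zpow_mem (npow_mem_zpowers g j) k

theorem not_dvd_pred (e : S ≃* alternatingGroup (Fin n)) (hp : p.Prime) (hq : q.Prime) (h2 : 2 < q) (h1 : p ∣ Nat.card S)
    (hW : EL.WA p q S) : ¬ q ∣ p - 1 := fun hd => by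
  have := Fact.mk hp
  have := Fact.mk hq
  obtain ⟨g, hg⟩ := exists_prime_orderOf_dvd_card' p h1
  obtain ⟨u, hu⟩ := exists_prime_orderOf_dvd_card' (G := (ZMod p)ˣ) q (by rwa [Nat.card_eq_fintype_card, ZMod.card_units])
  have h3 : (((u : ZMod p).val : ℕ) : ZMod p) = u := ZMod.natCast_zmod_val _
  obtain ⟨y, hy⟩ := exists_conj e hp hg (j := (u : ZMod p).val) fun k =>
    u.ne_zero (by rw [← h3, ZMod.natCast_eq_zero_iff]; exact k)
  obtain ⟨a, m, hm, h4⟩ := Nat.exists_eq_pow_mul_and_not_dvd (orderOf_pos y).ne' q hq.ne_one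
  have h5 : IsPGroup q (zpowers (y ^ m)) := by
    rintro ⟨_, k, rfl⟩
    refine ⟨a, Subtype.ext ?_⟩
    show ((y ^ m) ^ k) ^ q ^ a = 1
    rw [← zpow_natCast _ (q ^ a), ← zpow_mul, mul_comm, zpow_mul, zpow_natCast, ← pow_mul, mul_comm, ← h4, pow_orderOf_eq_one,
      one_zpow]
  have h6 := pow_modEq hg hy (EL.SL.wa_com hp hq hW (IsPGroup.of_card (n := 1) (by rw [Nat.card_zpowers, hg, pow_one])) h5
    (zpowers_le.2 (pow_mem (mem_norm hy) m)) g (mem_zpowers g) _ (mem_zpowers _))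
  rw [← ZMod.natCast_eq_natCast_iff, Nat.cast_pow, Nat.cast_mul, h3, Nat.cast_one, ← sq, ← pow_mul, ← Units.val_pow_eq_pow_val,
    Units.val_eq_one, ← orderOf_dvd_iff_pow_eq_one, hu] at h6
  exact hm ((hq.dvd_mul.1 h6).resolve_left fun k => absurd (Nat.le_of_dvd two_pos k) (by omega))

theorem comm_of {G : Type} [Group G] (e : S ≃* G) (hq : q.Prime) (hW : EL.WA p q S) {Q : Subgroup G} (hQ : IsPGroup q Q) :
    IsMulCommutative Q := ⟨⟨fun a b => by
  have h3 := hW (Q.map e.symm.toMonoidHom) (fun r hr hd => .inr (EL.SL.eq_of_dvd hr hq (hQ.map _) hd))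
    (e.symm a) ⟨a, a.2, rfl⟩ (e.symm b) ⟨b, b.2, rfl⟩
  rw [← map_mul, ← map_mul] at h3
  exact Subtype.ext (e.symm.injective h3)⟩⟩

theorem lt_sq (e : S ≃* alternatingGroup (Fin n)) (hq : q.Prime) (h2 : 2 < q) (h1 : q ∣ Nat.card S)
    (hW : EL.WA p q S) : n < q ^ 2 := by
  have := Fact.mk hq
  by_cases h6 : n < 6
  · exact h6.trans_le (le_trans (by norm_num) (Nat.pow_le_pow_left h2 2))
  obtain ⟨Q⟩ : Nonempty (Sylow q (alternatingGroup (Fin n))) := inferInstance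
  rw [Nat.card_congr e.toEquiv] at h1
  exact (S5164.result n q (by omega) Q (Q.ne_bot_of_dvd_card h1)).1 (comm_of e hq hW Q.2)

theorem seven (e : S ≃* alternatingGroup (Fin 7)) (hs : IsSimpleGroup S) (hn : ¬ IsMulCommutative S) (h1 : 7 ∣ Nat.card S)
    (h2 : 5 ∣ Nat.card S) {P R : Subgroup S} (H : EL.Hy 7 5 P R) : False := by
  have h7 : Nat.Prime 7 := by norm_num
  have := Fact.mk h7
  obtain ⟨⟨g, hgP⟩, hg⟩ := exists_prime_orderOf_dvd_card' (G := P) 7
    ((h7.dvd_mul.1 (P.card_mul_index ▸ h1)).resolve_right H.iP)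
  rw [← Subgroup.orderOf_coe] at hg
  have h3 : ∀ x, g * x = x * g → x ∈ zpowers g := fun x hx => by
    obtain ⟨k, hk⟩ := cent_le (c := 7) (r := 7) (by norm_num) (isPC h7 ((e.orderOf_eq g).trans hg) (by norm_num))
      (show e x ∈ centralizer {e g} from mem_centralizer_singleton_iff.2 (by rw [← map_mul, ← hx, map_mul]))
    exact ⟨k, e.injective ((map_zpow e g k).trans hk)⟩
  obtain rfl : R = ⊥ := eq_bot_iff.2 fun x hx => by
    obtain ⟨⟨k, hk⟩, h4⟩ := (H.mem x).1 hx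
    have h5 := orderOf_dvd_of_mem_zpowers (h3 x (h4 g hgP))
    rw [hg, hk] at h5
    exact mem_bot.2 (orderOf_eq_one_iff.1 (hk.trans (Nat.Coprime.eq_one_of_dvd (Nat.Coprime.pow_left k (by norm_num)) h5)))
  obtain rfl : P = zpowers g := le_antisymm
    (fun x hx => h3 x (H.wa P (fun r hr hd => .inl (EL.SL.eq_of_dvd hr h7 H.pP hd)) g hgP x hx)) (zpowers_le.2 hgP)
  obtain ⟨y, hy⟩ := exists_conj e h7 hg (j := 3) (by norm_num)
  obtain ⟨c, hc⟩ : (centralizer (zpowers g : Set S)).relIndex (normalizer (zpowers g : Set S)) ∣ 4 :=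
    H.ac hs hn h1 h2 (H.pP.toSylow H.iP)
  have h4 : y ^ 4 ∈ centralizer (zpowers g : Set S) := by
    rw [hc, pow_mul]
    exact pow_mem (((centralizer (zpowers g : Set S)).subgroupOf _).pow_index_mem ⟨y, mem_norm hy⟩) c
  exact absurd (pow_modEq hg hy (h4 g (mem_zpowers g))) (by decide)

end grp

/-! ### spin characters -/

theorem exists_char {n : ℕ} (hn : 5 ≤ n) {H : Type} [Group H] [Finite H] {π : H →* alternatingGroup (Fin n)} {z : H}
    (h : IsCover π z) {L : List ℤ} (hL : Strict L) (hs : L.sum = n) :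
    ∃ χ : IrrCharacter H, (χ : H → ℂ) z = -(χ : H → ℂ) 1 ∧
      ∀ l : ℕ, l.Prime → 2 < l → (l ∣ dg χ ↔ l ∣ (H600.RIM.dg n L).natAbs) := by
  classical
  obtain ⟨T, iT, fT, P, zT, b, e, hsp, hPe, hez⟩ := exists_spinData hn h
  have := Fintype.ofFinite T
  have : Fintype ((alternatingGroup (Fin n)).comap P : Subgroup T) := Fintype.ofFinite _
  have hz : zT ∈ (alternatingGroup (Fin n)).comap P := by
    rw [Subgroup.mem_comap, (hsp.ker zT).2 (Or.inr rfl)]
    exact one_mem _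
  obtain ⟨χ, hχ, hχz, j, k, ε, hε, hdeg⟩ := H600.RIM.exists_abs (by omega) hsp.surj hsp.z_ne hsp.ker hsp.z_comm hsp.neg hsp.sq
    hsp.van hsp.divT ((alternatingGroup (Fin n)).comap P) rfl (by
      intro m a ha
      obtain ⟨θ, h1, h2⟩ := hsp.divH m a ha
      refine ⟨θ, h1, fun x => ?_⟩
      rw [h2 x, add_assoc]) hz hL hs
  refine ⟨⟨χ ∘ e.toMonoidHom, isIrr_comp e.toMonoidHom e.surjective hχ⟩, ?_, fun l hl h2 => ?_⟩
  · show χ (e z) = -χ (e 1)
    rw [show e z = ⟨zT, hz⟩ from Subtype.ext hez, map_one, hχz]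
  obtain ⟨m, -, hm⟩ := isIrr_apply_one hχ
  rw [show dg _ = m from H600.RIM.charDegree_of (show χ (e 1) = m by rw [map_one, hm])]
  obtain ⟨k', hk'⟩ := hsp.one_pos
  rw [map_one, H614.ty_one, Fintype.card_fin, hk', hm] at hdeg
  have h3 : 2 ^ (j + 1) * m = 2 ^ (k + k') * (H600.RIM.dg n L).natAbs := by
    have h4 : ∀ s : ℤ, s.natAbs = 1 → ε = s → 2 ^ (j + 1) * m = 2 ^ (k + k') * (H600.RIM.dg n L).natAbs := fun s h4 h5 => by
      have h6 : ((2 ^ (j + 1) * (m : ℤ) : ℤ) : ℂ) = ((s * (2 ^ (k + k') * H600.RIM.dg n L) : ℤ) : ℂ) := by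
        rw [H600.RIM.dg]
        push_cast
        rw [pow_succ, pow_add, ← h5]
        linear_combination hdeg
      simpa [Int.natAbs_mul, Int.natAbs_pow, h4] using congrArg Int.natAbs (Int.cast_injective h6)
    rcases hε with h5 | h5
    · exact h4 1 rfl (by rw [h5, Int.cast_one])
    · exact h4 (-1) rfl (by rw [h5, Int.cast_neg, Int.cast_one])
  have h4 : ∀ t, l.Coprime (2 ^ t) := fun t => ((Nat.coprime_primes hl Nat.prime_two).2 h2.ne').pow_right t
  rw [← (h4 (j + 1)).dvd_mul_left, h3, (h4 _).dvd_mul_left]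

theorem isCover {n : ℕ} {K : Type} [Group K] {π : K →* alternatingGroup (Fin n)} (h : IsStemExtension π)
    (hK : commutator K = ⊤) (h2 : Nat.card π.ker = 2) : ∃ z : π.ker, IsCover π (z : K) := by
  obtain ⟨z, hz1, hz⟩ := (Nat.card_eq_two_iff' (1 : π.ker)).1 h2
  have h3 : ∀ x : π.ker, x = 1 ∨ x = z := fun x => (em (x = 1)).imp_right (hz x)
  have h4 : (z : K) ≠ 1 := fun k => hz1 (Subtype.ext k)
  refine ⟨z, h4, congrArg Subtype.val ((h3 (z * z)).resolve_right fun k => hz1 (mul_eq_left.1 k)),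
    fun x => mem_center_iff.1 (h.2.1 z.2) x, h.1, fun x => ⟨fun k => (h3 ⟨x, k⟩).imp (congrArg Subtype.val)
      (congrArg Subtype.val), ?_⟩, H600.RIM.nonsplit_of_perfect h.2.1 hK z.2 h4⟩
  rintro (rfl | rfl)
  · exact map_one π
  · exact z.2

end AltQ

open AltQ

/-- **the alternating groups** -/
theorem altQ : All (fun S _ => IsAlternating S) EL.QPs := by
  rintro S _ _ hs hna ⟨n, hn, ⟨e⟩⟩ p q hp hq h2 hqp h5 h6 K _ _ σ k1 k2 k3 k4 lam k5 k6 P R H
  exfalso
  have hpn : p ≤ n := by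
    refine hp.dvd_factorial.1 ?_
    rw [← two_mul_card (c := n) (by omega), ← Nat.card_congr e.toEquiv]
    exact h5.mul_left 2
  let π : K →* alternatingGroup (Fin n) := e.toMonoidHom.comp σ
  have h1 : π.ker = σ.ker := Subgroup.ext fun x => e.map_eq_one_iff
  have h3 : IsStemExtension π := ⟨e.surjective.comp k1.1, h1 ▸ k1.2.1, h1 ▸ k1.2.2⟩
  have h4 : commutator K = ⊤ := H95.StemCover.perfect_of_stem ((hs.eq_bot_or_eq_top_of_normal _ inferInstance).resolve_left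
    fun k => hna ⟨⟨fun a b => commutatorElement_eq_one_iff_mul_comm.1
      (mem_bot.1 (k ▸ commutator_mem_commutator (mem_top a) (mem_top b)))⟩⟩) k1
  have h7 : Nat.card π.ker = 2 := by
    have h7 : 1 < Nat.card π.ker := by
      rw [h1]
      exact (one_lt_card_iff_ne_bot _).2 k2
    by_cases h8 : n = 6 ∨ n = 7
    · have h9 := H95.StemCover.card_ker_dvd_cyclic (S2116.result n h8) h4 π h3.1 h3.2.1
      have h10 := Nat.le_of_dvd (by norm_num) h9
      have p2 : p % 2 = 1 := hp.eq_two_or_odd.resolve_left (by omega)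
      have q2 : q % 2 = 1 := hq.eq_two_or_odd.resolve_left (by omega)
      obtain rfl | ⟨rfl, rfl, rfl⟩ : q = 3 ∨ q = 5 ∧ p = 7 ∧ n = 7 := by omega
      · rw [← h1] at k4
        generalize Nat.card π.ker = c at h7 h9 h10 k4
        interval_cases c <;> omega
      · exact (seven e hs hna h5 h6 H).elim
    · have h9 := S0892.result n (by omega) (fun k => h8 (.inl k)) (fun k => h8 (.inr k)) π.ker h3.2.1 h3.2.2
        (QuotientGroup.quotientKerEquivOfSurjective π h3.1)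
      omega
  obtain ⟨z, hz⟩ := isCover h3 h4 h7
  obtain ⟨i, i1, i2, i3⟩ := exists_row hp hq h2 hqp hpn (lt_sq e hq h2 h6 H.wa) (not_dvd_pred e hp hq h2 h5 H.wa)
  obtain ⟨l1, l2, l3⟩ := H600.RIM.two_rows i1 i2
  obtain ⟨χ, c1, c2⟩ := exists_char hn hz l1 l2
  refine i3 _ ?_ ((c2 p hp (by omega)).symm.trans ((not_iff_not.1 (k6 χ fun x => ?_)).trans (c2 q hq h2)))
  · have h8 := congrArg Int.natAbs l3
    rwa [Int.natAbs_mul, Int.natAbs_mul, Int.natAbs_natCast, Int.natAbs_natCast,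
      show ((n : ℤ) - 2 * i).natAbs = n - 2 * i by omega] at h8
  · rcases (hz.ker x).1 (h1.ge x.2) with k | k
    · rw [show x = 1 from Subtype.ext k, map_one, OneMemClass.coe_one, Units.val_one, one_mul]
    · have h8 : ((lam x : ℂˣ) : ℂ) * lam x = 1 := by
        rw [← Units.val_mul, ← map_mul, show x * x = 1 from Subtype.ext (by rw [Subgroup.coe_mul, k]; exact hz.z_mul), map_one,
          Units.val_one]
      rw [(mul_self_eq_one_iff.1 h8).resolve_left fun h9 => hz.z_ne (k.symm.trans (congrArg Subtype.val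
        (k5 ((Units.ext h9).trans lam.map_one.symm)))), k, c1, neg_one_mul]

theorem altQ_of (_ : BoxCntP) (_ : BoxCntQ) : All (fun S _ => IsAlternating S) EL.QPs := altQ

end Cfsg.Agent.PQ.EA
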