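import Cfsg.Agent.PQ.Fa.Main

/-!
# S4982, row `AUT`: automorphisms of `q`-power order act on a Sylow `l`-subgroup, `l < q`, like inner ones (helper42)
-/

set_option autoImplicit false
set_option linter.unusedSectionVars false

namespace Cfsg.Agent.PQ.EA.Au

open Cfsg Cfsg.Agent.PQ.Fa Cfsg.Agent.DL Cfsg.Agent.DL.PP Cfsg.Agent.DL.Uni Cfsg.Agent.DL.Asm Cfsg.Agent.Nodes.Reps Matrix
  Cfsg.Agent.KZ.Lie Cfsg.Agent.KZ.Dat Cfsg.Agent.KZ.Dat.Om Cfsg.Agent.KZ.DatX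

section grp

open Subgroup

variable {S : Type} [Group S] [Finite S] {l q : ℕ} {τ : MulAut S}

theorem pow_fix_tot {x : S} {u : ℤ} (h1 : τ x = x ^ u) {n : ℕ} (hn : orderOf x ∣ n) : (τ ^ n.totient) x = x := by
  obtain ⟨v, hv⟩ := (mem_powers_iff_mem_zpowers.2 ⟨u, rfl⟩ : x ^ u ∈ Submonoid.powers x)
  have h2 : τ x = x ^ v := h1.trans hv.symm
  have h3 : ∀ j : ℕ, (τ ^ j) x = x ^ v ^ j := fun j => by
    induction j with
    | zero => simp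
    | succ j ih => rw [pow_succ, MulAut.mul_apply, h2, map_pow, ih, ← pow_mul, pow_succ]
  have h4 := τ.orderOf_eq x
  rw [h2, orderOf_pow, Nat.div_eq_self] at h4
  have h5 := Nat.ModEq.pow_totient (Nat.Coprime.symm (h4.resolve_left (orderOf_pos x).ne'))
  obtain ⟨c, hc⟩ := Nat.totient_dvd_of_dvd hn
  have h6 := h5.pow c
  rw [← pow_mul, ← hc, one_pow] at h6
  rw [h3, pow_eq_pow_iff_modEq.2 h6, pow_one]

theorem not_dvd_tot (hl : l.Prime) (hq : q.Prime) (hlq : l < q) (a : ℕ) : ¬ q ∣ (l ^ a).totient * l ^ a := by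
  have h1 : ∀ j, ¬ q ∣ l ^ j := fun j h => hlq.ne' ((Nat.prime_dvd_prime_iff_eq hq hl).1 (hq.dvd_of_dvd_pow h))
  intro h
  rcases hq.dvd_mul.1 h with h | h
  · rcases Nat.eq_zero_or_pos a with rfl | ha
    · exact hq.not_dvd_one (by simpa using h)
    · rw [Nat.totient_prime_pow hl ha] at h
      rcases hq.dvd_mul.1 h with h | h
      · exact h1 _ h
      · have := Nat.le_of_dvd (by have := hl.two_le; omega) h
        omega
  · exact h1 _ h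

theorem inn_of_tor' (hl : l.Prime) (hq : q.Prime) (hlq : l < q) {N T : Subgroup S} (hN : ¬ l ∣ N.index) (hTN : T ≤ N)
    (hT : ∀ a ∈ T, ∀ b ∈ T, a * b = b * a) (hNT : ∀ n ∈ N, ∀ t ∈ T, n * t * n⁻¹ ∈ T) {u : ℤ}
    (h1 : ∀ t ∈ T, τ t = t ^ u) (h2 : ∀ n ∈ N, τ n * n⁻¹ ∈ T) : ∃ M : ℕ, ¬ q ∣ M ∧ Fa.Inn l (τ ^ M) := by
  obtain ⟨a, ha⟩ : ∃ a, a = (Nat.card S).factorization l := ⟨_, rfl⟩
  obtain ⟨M, hM⟩ : ∃ M, M = (l ^ a).totient := ⟨_, rfl⟩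
  obtain ⟨m, hm⟩ : ∃ m, m = Nat.card S / l ^ a := ⟨_, rfl⟩
  have hc : Nat.card S = l ^ a * m := by rw [hm, ha, Nat.ordProj_mul_ordCompl_eq_self]
  have hlm : ¬ l ∣ m := by rw [hm, ha]; exact Nat.not_dvd_ordCompl hl Nat.card_pos.ne'
  have k1 : ∀ j : ℕ, ∀ t ∈ T, (τ ^ j) t ∈ T := fun j => by
    induction j with
    | zero => exact fun t ht => ht
    | succ j ih => exact fun t ht => by rw [pow_succ, MulAut.mul_apply, h1 t ht]; exact ih _ (zpow_mem ht u)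
  have k2 : ∀ j : ℕ, ∀ n ∈ N, (τ ^ j) n * n⁻¹ ∈ T := fun j n hn => by
    induction j with
    | zero => simp
    | succ j ih =>
      rw [show (τ ^ (j + 1)) n * n⁻¹ = (τ ^ j) (τ n * n⁻¹) * ((τ ^ j) n * n⁻¹) by
        rw [pow_succ, MulAut.mul_apply, map_mul, map_inv]; group]
      exact mul_mem (k1 j _ (h2 n hn)) ih
  have k3 : ∀ t ∈ T, (τ ^ M) (t ^ m) = t ^ m := fun t ht => by
    rw [hM]
    exact pow_fix_tot (h1 _ (pow_mem ht m)) (orderOf_dvd_of_pow_eq_one (by rw [← pow_mul, mul_comm, ← hc, pow_card_eq_one']))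
  have k4 : ∀ j : ℕ, ∀ t ∈ T, ((τ ^ M) ^ j) (t ^ m) = t ^ m := fun j t ht => by
    induction j with
    | zero => rfl
    | succ j ih => rw [pow_succ, MulAut.mul_apply, k3 t ht, ih]
  have k5 : ∀ j : ℕ, ∀ n ∈ N, (((τ ^ M) ^ j) n * n⁻¹) ^ m = (((τ ^ M) n * n⁻¹) ^ m) ^ j := fun j n hn => by
    induction j with
    | zero => simp
    | succ j ih =>
      have h4 : ((τ ^ M) ^ j) ((τ ^ M) n * n⁻¹) ∈ T := by rw [← pow_mul]; exact k1 _ _ (k2 M n hn)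
      have h5 : ((τ ^ M) ^ j) n * n⁻¹ ∈ T := by rw [← pow_mul]; exact k2 _ n hn
      rw [show ((τ ^ M) ^ (j + 1)) n * n⁻¹ = ((τ ^ M) ^ j) ((τ ^ M) n * n⁻¹) * (((τ ^ M) ^ j) n * n⁻¹) by
        rw [pow_succ, MulAut.mul_apply, map_mul, map_inv]; group,
        (show Commute _ _ from hT _ h4 _ h5).mul_pow, ← map_pow, k4 j _ (k2 M n hn), ih, pow_succ']
  let K : Subgroup S :=
    { carrier := {t | t ∈ T ∧ t ^ m = 1}
      one_mem' := ⟨one_mem _, one_pow _⟩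
      mul_mem' := fun {a b} ha hb => ⟨mul_mem ha.1 hb.1, by
        rw [(show Commute a b from hT a ha.1 b hb.1).mul_pow, ha.2, hb.2, one_mul]⟩
      inv_mem' := fun {a} ha => ⟨inv_mem ha.1, by rw [inv_pow, ha.2, inv_one]⟩ }
  refine ⟨M * l ^ a, hM ▸ not_dvd_tot hl hq hlq a, inn_of_mod hl (K := K) hN (fun t ht => hTN ht.1)
    (fun n hn t ht => ⟨hNT n hn t ht.1, by rw [conj_pow, ht.2, mul_one, mul_inv_cancel]⟩)
    (fun t ht => .inl fun h => hlm (h.trans (orderOf_dvd_of_pow_eq_one ht.2))) fun n hn => ⟨k2 _ n hn, ?_⟩⟩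
  rw [pow_mul, k5 _ n hn, ← pow_mul, mul_comm, ← hc, pow_card_eq_one']

end grp

/-- the conclusion -/
def Cs (r : ℕ) (S : Type) [Group S] : Prop :=
  ∀ l q : ℕ, l.Prime → q.Prime → l ≠ r → l < q → 5 ≤ q → ∀ (σ : MulAut S) (j : ℕ), orderOf σ = q ^ j → Fa.Inn l σ

section

variable {p : ℕ} [Fact p.Prime] {k : Type} [Field k] [CharP k p] {Y : Type} [Group Y] {N : Type} [Fintype N]
  [DecidableEq N] {ρ : Y →* GL N k} {F : MulAut Y} {G : Subgroup Y} [IsAlgClosed k] {D : Datum p ρ F G}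
  {Adm : Matrix D.R D.R ℤ → Prop} {S T : Type} [Group S] [Group T] {α : MulAut Y} {σ : MulAut S} {l q n : ℕ} {u : ℤ}

theorem inn_of_scalar' [Fintype ↥(GF F G)] (s : Sit D Adm S) (hl : l.Prime) (hp : l ≠ p) (hq : q.Prime) (hlq : l < q) {g : Y}
    (hg : g ∈ GF F G) (hα : Au D α (u • 1)) (L : Lt s σ g α) : ∃ M : ℕ, ¬ q ∣ M ∧ Fa.Inn l (σ ^ M) := by
  obtain ⟨f⟩ := nonempty_fr D
  have hA : Api f := KZ.Mts.boxApi f s.qs
  have := s.finite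
  have := s.normal
  obtain ⟨w, hw⟩ := LV.Blk.exists_card D hl hp
  have hy := yw_mem D w
  have h1 := rp_scalar hα (yw_rp D w)
  rw [map_mul, map_inv, hα.comm] at h1
  obtain ⟨m, hm, e⟩ := exists_fix ((hα.memG _).2 hy) h1 (yw_rp D w) (tc_one w)
  have h0 : yw D w * m * (α (yw D w))⁻¹ ∈ GF F G :=
    ⟨G.mul_mem (G.mul_mem hy hm.mem_G) (G.inv_mem ((hα.memG _).2 hy)), e⟩
  obtain ⟨a, ha, t, ht, e1⟩ := s.exists_T hA w (mul_mem hg (inv_mem h0))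
  have hv : D.Rp 1 ((yw D w)⁻¹ * (a⁻¹ * g) * α (yw D w)) := by
    have h2 := (rp_of_mem (mem_cj.1 ht.1) : D.Rp 1 _).mul hm
    rw [one_mul] at h2
    rw [show (yw D w)⁻¹ * (a⁻¹ * g) * α (yw D w) = (yw D w)⁻¹ * t * yw D w * m by
      rw [← eq_mul_inv_iff_mul_eq.1 e1]; generalize yw D w = y; group]
    exact h2
  let b : S := s.π ⟨a, ha⟩
  have L1 : Lt s (MulAut.conj b⁻¹ * σ) (a⁻¹ * g) α := fun h => by
    obtain ⟨h', e2, e3⟩ := L h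
    refine ⟨⟨a, ha⟩⁻¹ * h' * ⟨a, ha⟩, ?_, ?_⟩
    · show a⁻¹ * h' * a = _
      rw [e2]
      group
    · rw [map_mul, map_mul, map_inv, e3, MulAut.mul_apply, MulAut.conj_apply, inv_inv]
  have hb : ∀ x, (MulAut.conj b⁻¹ * σ) x = b⁻¹ * σ x * b⁻¹⁻¹ := fun _ => rfl
  obtain ⟨M, h4, h5⟩ := inn_of_tor' (τ := MulAut.conj b⁻¹ * σ) (u := u) hl hq hlq
    (N := ((Subgroup.normalizer (Tw D w : Set Y)).subgroupOf s.H0).map s.π) (T := ((Tw D w).subgroupOf s.H0).map s.π)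
    (fun h => by
      have h4 := h.trans (Subgroup.index_map_dvd _ s.surj)
      have h5 : (Nz F G (Tw D w)).relIndex s.H1 = ((Subgroup.normalizer (Tw D w : Set Y)).subgroupOf s.H0).index :=
        Subgroup.relIndex_subgroupOf s.le
      rw [← h5] at h4
      exact not_dvd_index hl (hw.trans (congrArg (fun n => n.factorization l) (card_Nz hy (yw_rp D w)).symm))
        (h4.trans (relIndex_dvd _ _)))
    (Subgroup.map_mono fun x hx => Subgroup.le_normalizer (H := Tw D w) hx)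
    (by
      rintro _ ⟨x, hx, rfl⟩ _ ⟨z, hz, rfl⟩
      rw [← map_mul, ← map_mul]
      exact congrArg _ (Subtype.ext ((sys' D).comm _ (Tw_mem w) x ⟨hx, s.le x.2⟩ z ⟨hz, s.le z.2⟩)))
    (by
      rintro _ ⟨x, hx, rfl⟩ _ ⟨z, hz, rfl⟩
      exact ⟨x * z * x⁻¹, (Subgroup.mem_normalizer_iff.1 hx z).1 hz, by rw [map_mul, map_mul, map_inv]⟩)
    (by
      rintro _ ⟨x, hx, rfl⟩
      obtain ⟨x', e2, e3⟩ := L1 x
      obtain ⟨c, hc⟩ := (D.mem_T _).1 (mem_cj.1 (show (x : Y) ∈ cj (yw D w) D.T from hx))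
      have e4 : (x : Y) = yw D w * D.τ c * (yw D w)⁻¹ := by rw [hc]; generalize yw D w = y; group
      rw [← e3, ← map_zpow]
      refine congrArg _ (Subtype.ext ?_)
      rw [e2, Subgroup.coe_zpow, e4, lf_tau hv hα, D.Wm_one, one_mul, mon_zsmul, mon_one, map_zpow, conj_zpow])
    (by
      rintro _ ⟨x, hx, rfl⟩
      obtain ⟨x', e2, e3⟩ := L1 x
      obtain ⟨v, h4⟩ : ∃ v, D.Rp v ((yw D w)⁻¹ * x * yw D w) :=
        ⟨_, rp_wN hy (⟨⟨x, s.le x.2⟩, hx⟩ : Nz F G (cj (yw D w) D.T))⟩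
      have h5 := (((hv.mul (rp_scalar hα h4)).mul hv.inv).mul h4.inv)
      rw [one_mul, inv_one, mul_one, mul_inv_cancel] at h5
      refine ⟨x' * x⁻¹, mem_cj.2 ?_, by rw [map_mul, map_inv, e3]⟩
      refine (congrArg (· ∈ D.T) ?_).mpr h5.mem_of_one
      show _ * ((x' : Y) * (x : Y)⁻¹) * _ = _
      rw [e2, map_mul, map_mul, map_inv]
      generalize yw D w = y
      group)
  obtain ⟨c, hc⟩ := conj_pow_aut hb M
  exact ⟨M, h4, h5.of_conj hc⟩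

theorem cs_of_sit (s : Sit D Adm S) (e : T ≃* S) (hn : n ∣ 6) (hAdm : ∀ A, Adm A → ∃ u : ℤ, A ^ n = u • 1) : Cs p T := by
  intro l q hl hq hp hlq h0 σ j hj
  have := finite_GF D
  have := Fintype.ofFinite ↥(GF F G)
  obtain ⟨g, hg, α, A, h1, h2, L⟩ := (sitTr s e.symm).aut σ
  obtain ⟨u, hu⟩ := hAdm A h2
  obtain ⟨h4, g', h5, L'⟩ := lt_pow hg h1 L n
  rw [hu] at h4
  obtain ⟨M, h7, h8⟩ := inn_of_scalar' _ hl hp hq hlq h5 h4 L'
  rw [← pow_mul] at h8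
  refine h8.of_pow ?_
  rw [hj]
  refine Nat.Coprime.pow_right _ ((hq.coprime_iff_not_dvd.2 fun h => (hq.dvd_mul.1 h).elim (fun h6 => ?_) h7).symm)
  rcases hq.dvd_mul.1 (show q ∣ 2 * 3 from h6.trans hn) with h9 | h9
  all_goals
    have := Nat.le_of_dvd (by norm_num) h9
    omega

end

theorem cs_of_has {C : Lie.ChevalleyDatum} {l : ℕ} {M : CoxeterMatrix (Fin l)}
    {hp : Nodes.RGDChev.IsType C l M} {p : ℕ} [Fact p.Prime] {Mx : Matrix (Fin l) (Fin l) ℤ}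
    {Adm : Matrix (Fin l) (Fin l) ℤ → Prop} {d n : ℕ} {S T : Type} [Group S] [Group T] (h : Has hp p Mx Adm d S)
    (e : T ≃* S) (hn : n ∣ 6) (h1 : ∀ A, Adm A → ∃ u : ℤ, A ^ n = u • 1) : Cs p T := by
  obtain ⟨k, _, _, _, X, ⟨s⟩⟩ := h
  exact cs_of_sit s.sit e hn h1

variable {S : Type} [Group S] {r : ℕ}

/-- **all families** -/
theorem cs_of_lie (hr : r.Prime) (h : IsLieTypeChar r S) : Cs r S := by
  have : Fact r.Prime := ⟨hr⟩
  have t2 : 2 ∣ 6 := by norm_num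
  rcases h with h | h | h | h | h | h | h | h | h | h | h
  · obtain ⟨F, _, _, _, n, h1, h2, ⟨i⟩⟩ := h
    obtain ⟨k, _, _, _, hk, e, he, f, hF⟩ := hasC r F
    obtain ⟨n, rfl⟩ : ∃ m, n = m + 1 := ⟨n - 1, by omega⟩
    exact cs_of_sit (covL f hk he hF (by omega) fun h => h2 (by omega)).sit i t2 sc_A
  · obtain ⟨F, _, _, _, n, h1, h2, ⟨i⟩⟩ := h
    obtain ⟨k, _, _, _, hk, e, he, f, hF⟩ := hasC r F
    by_cases h3 : n = 2 ∧ r = 2
    · obtain ⟨rfl, rfl⟩ := h3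
      exact cs_of_has (has_PSp4 hF) i t2 (sc_L2 sq_GamB)
    · exact cs_of_sit (sitC f hk he hF h1 fun a b => h3 ⟨a, b⟩) i t2 sc_Q
  · obtain ⟨F, _, _, _, n, q, h0, h1, h2, ⟨i⟩⟩ := h
    obtain ⟨k, _, _, _, hk, -, -, f, -⟩ := hasC r F
    obtain ⟨e, he, rfl⟩ := eq_pow_of_card hr two_ne_zero h0
    obtain ⟨n, rfl⟩ : ∃ m, n = m + 1 := ⟨n - 1, by omega⟩
    exact cs_of_sit (covU f hk he h0 (by omega) fun h => h2 ⟨by omega, h.2⟩).sit i t2 sc_Q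
  · obtain ⟨F, _, _, _, n, h1, h2, ⟨i⟩⟩ := h
    obtain ⟨k, _, _, _, hk, e, he, f, hF⟩ := hasC r F
    obtain ⟨t, -⟩ := sitB f hF hk he (two_ne hF h2 he) h2 h1
    exact cs_of_sit t i t2 sc_Q
  · obtain ⟨F, _, _, _, n, h1, ⟨i⟩⟩ := h
    obtain ⟨k, _, _, _, hk, e, he, f, hF⟩ := hasC r F
    rcases h1.eq_or_lt with rfl | h1
    · refine cs_of_has (has_plus8 hF) i dvd_rfl (sc_L fun B hB => ⟨1, ?_⟩)
      rw [one_smul, ← pow_L4 B hB]
      simp only [pow_succ, pow_zero, one_mul, mul_assoc]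
    · obtain ⟨n, rfl⟩ : ∃ m, n = m + 2 := ⟨n - 2, by omega⟩
      obtain ⟨t, -⟩ := sitP f hF hk he (n := n) (by omega)
      exact cs_of_sit t i t2 sc_D
  · obtain ⟨F, _, _, _, n, a, b, h1, h2, ⟨i⟩⟩ := h
    obtain ⟨k, _, _, _, hk, e, he, f, hF⟩ := hasC r F
    obtain ⟨n, rfl⟩ : ∃ m, n = m + 2 := ⟨n - 2, by omega⟩
    obtain ⟨t, -⟩ := sitM f hF hk he (n := n) (by omega) h2
    exact cs_of_sit t i t2 sc_D
  · obtain ⟨F, _, _, _, h⟩ := h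
    obtain ⟨e, -, hF⟩ := FiniteField.card F r
    rcases h with ⟨h1, ⟨i⟩⟩ | ⟨⟨i⟩⟩ | ⟨⟨i⟩⟩ | ⟨⟨i⟩⟩ | ⟨⟨i⟩⟩
    · by_cases h3 : r = 3
      · subst h3
        exact cs_of_has (has_G2three hF) i t2 (sc_L2 sq_GamG)
      · exact cs_of_has (has_G2 hF h3 h1) i t2 (sc_Q (p := r))
    · by_cases h2 : r = 2
      · subst h2
        exact cs_of_has (has_F4two hF) i t2 (sc_L2 sq_GamF)
      · exact cs_of_has (has_F4 hF h2) i t2 (sc_Q (p := r))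
    · exact cs_of_has (has_E6 hF) i t2 (sc_L2 sq_P6)
    · exact cs_of_has (has_E7 hF) i t2 (sc_Q (p := r))
    · exact cs_of_has (has_E8 hF) i t2 (sc_Q (p := r))
  · obtain ⟨K, _, _, _, q, -, ⟨hK, ⟨i⟩⟩ | ⟨hK, ⟨i⟩⟩⟩ := h
    · obtain ⟨e, -, rfl⟩ := eq_pow_of_card hr two_ne_zero hK
      exact cs_of_has (has_2E6 hK) i t2 (sc_Q (p := r))
    · obtain ⟨e, -, rfl⟩ := eq_pow_of_card hr three_ne_zero hK
      exact cs_of_has (has_3D4 hK) i t2 (sc_Q (p := r))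
  · obtain ⟨rfl, K, _, _, m, hm, hK, ⟨i⟩⟩ := h
    exact cs_of_has (has_2B2 hm hK) i t2 (sc_Q (p := 2))
  · obtain ⟨rfl, K, _, _, m, hm, hK, ⟨i⟩⟩ := h
    exact cs_of_has (has_2F4 hm hK) i t2 (sc_Q (p := 2))
  · obtain ⟨rfl, K, _, _, m, hm, hK, ⟨i⟩⟩ := h
    exact cs_of_has (has_2G2 hm hK) i t2 (sc_Q (p := 3))

end Cfsg.Agent.PQ.EA.Au
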