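import Cfsg.Agent.PQ.EA.Defs
import Cfsg.Agent.PQ.EA.AutB
import Cfsg.Agent.PQ.Dg.Main
import Cfsg.Agent.LV.Red.Back
import Cfsg.Agent.H666.Clif.Gall
import Cfsg.Agent.Blocks.ExistsModular
import Cfsg.Agent.S0886
import Cfsg.Agent.S4076

/-!
# S4982: the row `AUT` (helper42)
-/

set_option autoImplicit false
set_option linter.unusedSectionVars false

namespace Cfsg.Agent.PQ.EA

open Cfsg Subgroup Cfsg.Agent.LV Cfsg.Agent.H684.BlockTools

namespace Au

variable {S : Type} [Group S] [Finite S] {l : ℕ} {M : Ideal AlgInt}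

theorem conj_inj (hs : IsSimpleGroup S) (hn : ¬ IsMulCommutative S) :
    Function.Injective (MulAut.conj : S →* MulAut S) := by
  refine (MonoidHom.ker_eq_bot_iff _).1 ((hs.eq_bot_or_eq_top_of_normal _ inferInstance).resolve_right fun h => hn ⟨⟨fun a b => ?_⟩⟩)
  have h1 : a * b * a⁻¹ = b := MulEquiv.congr_fun (MonoidHom.mem_ker.1 (h.ge (mem_top a))) b
  exact mul_inv_eq_iff_eq_mul.1 h1

theorem conj_conj (σ : MulAut S) (y : S) : σ * MulAut.conj y * σ⁻¹ = MulAut.conj (σ y) := by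
  ext x
  simp

theorem fix_inn (θ : IrrCharacter S) : Fix (Inn S) θ := by
  rintro _ ⟨s, rfl⟩ g
  exact (Characters.Core.isIrr_isClassFunction θ.2) g s

/-- the automorphisms which fix a character -/
def fixer (θ : IrrCharacter S) : Subgroup (MulAut S) where
  carrier := {σ | ∀ g, (θ : S → ℂ) (σ g) = (θ : S → ℂ) g}
  one_mem' := fun _ => rfl
  mul_mem' := fun {a b} ha hb g => by rw [MulAut.mul_apply, ha, hb]
  inv_mem' := fun {a} ha g => by rw [← ha, MulAut.apply_inv_self]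

/-- an automorphism of order prime to `l` which acts on a Sylow `l`-subgroup like an inner one fixes the principal block -/
theorem fix_of_inn (hs : IsSimpleGroup S) (hn : ¬ IsMulCommutative S) (hM : IsPModular l M) {σ : MulAut S} (h : Fa.Inn l σ)
    (ho : ¬ l ∣ orderOf σ) {θ : IrrCharacter S} (hθ : θ ∈ principalBlock M S) (g : S) :
    (θ : S → ℂ) (σ g) = (θ : S → ℂ) g := by
  have hl : l.Prime := hM.1
  have : Fact l.Prime := ⟨hl⟩
  have : Finite (MulAut S) := Finite.of_injective _ (DFunLike.coe_injective (F := MulAut S))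
  have hN := H679.conj_range_normal' S
  have hi := conj_inj hs hn
  obtain ⟨Q, s, h1⟩ := h
  obtain ⟨P, hP⟩ := (Q.2.map (MulAut.conj : S →* MulAut S)).exists_le_sylow
  let b := (MulAut.conj s)⁻¹ * σ
  have h2 : b ∈ centralizer (((P : Subgroup (MulAut S)) ⊓ Inn S : Subgroup (MulAut S)) : Set (MulAut S)) := by
    rintro _ ⟨h3, y, rfl⟩
    have h4 := Q.is_maximal' (P.2.comap_of_injective _ hi) (map_le_iff_le_comap.1 hP)
    have h5 : b y = y := by
      change s⁻¹ * σ y * s = y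
      rw [h1 y (h4.le h3)]
      group
    rw [← mul_inv_eq_iff_eq_mul.1 (conj_conj b y ▸ congrArg MulAut.conj h5)]
  obtain ⟨a, n, h3, h4⟩ := Nat.exists_eq_pow_mul_and_not_dvd (orderOf_pos b).ne' l hl.ne_one
  have h5 := Red.reg_mem_stab hM P (Inn S) (pow_mem h2 (l ^ a)) (by
    rwa [orderOf_pow_of_dvd (pow_ne_zero a hl.ne_zero) ⟨n, h4⟩, h4, Nat.mul_div_cancel_left _ (pow_pos hl.pos a)])
  have h6 : σ ^ l ^ a ∈ Red.stab M (Inn S) := by
    have h7 : ((b ^ l ^ a : MulAut S) : MulAut S ⧸ Inn S) = (σ ^ l ^ a : MulAut S) := by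
      rw [QuotientGroup.mk_pow, QuotientGroup.mk_pow, QuotientGroup.mk_mul,
        (QuotientGroup.eq_one_iff _).2 ((Inn S).inv_mem ⟨s, rfl⟩), one_mul]
    rw [← mul_inv_cancel_left (b ^ l ^ a) (σ ^ l ^ a)]
    exact mul_mem h5 (Red.le_stab _ (QuotientGroup.eq.1 h7))
  obtain ⟨m, hm⟩ := exists_pow_eq_self_of_coprime (x := σ) (Nat.Coprime.pow_left a (hl.coprime_iff_not_dvd.2 ho))
  have h7 : σ ∈ Red.stab M (Inn S) := hm ▸ pow_mem h6 m
  let e := MonoidHom.ofInjective hi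
  have h8 := h7 _ (infl_mem hM e.symm.toMonoidHom e.symm.surjective hθ) (e g)
  rw [show MulAut.conjNormal σ (e g) = e (σ g) from Subtype.ext (conj_conj σ g)] at h8
  change (θ : S → ℂ) (e.symm (e (σ g))) = (θ : S → ℂ) (e.symm (e g)) at h8
  rwa [e.symm_apply_apply, e.symm_apply_apply] at h8

/-- an `l`-group of automorphisms which fixes the principal `l`-block is inner -/
theorem le_inn (hs : IsSimpleGroup S) (hn : ¬ IsMulCommutative S) (hM : IsPModular l M) (hd : l ∣ Nat.card S) (hA : AbS l S)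
    {B : Subgroup (MulAut S)} (hB : IsPGroup l B) (h : ∀ θ ∈ principalBlock M S, Fix B θ ∧ ¬ l ∣ dg θ) : B ≤ Inn S := by
  classical
  have hl : l.Prime := hM.1
  have : Fact l.Prime := ⟨hl⟩
  have : Finite (MulAut S) := Finite.of_injective _ (DFunLike.coe_injective (F := MulAut S))
  have hN := H679.conj_range_normal' S
  have hi := conj_inj hs hn
  intro β0 h0
  by_contra h1
  obtain ⟨β, hβ, h2, h3⟩ : ∃ β ∈ B, β ∉ Inn S ∧ β ^ l ∈ Inn S := by
    have h2 : ∃ k, β0 ^ l ^ k ∈ Inn S := by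
      obtain ⟨k, hk⟩ := hB ⟨β0, h0⟩
      exact ⟨k, by rw [show β0 ^ l ^ k = 1 from congrArg Subtype.val hk]; exact one_mem _⟩
    have h3 := Nat.find_spec h2
    obtain ⟨j, hj⟩ : ∃ j, Nat.find h2 = j + 1 := Nat.exists_eq_succ_of_ne_zero fun h4 => h1 (by
      rwa [h4, pow_zero, pow_one] at h3)
    exact ⟨β0 ^ l ^ j, pow_mem h0 _, Nat.find_min h2 (by omega), by rwa [← pow_mul, ← pow_succ, ← hj]⟩
  let X := Inn S ⊔ zpowers β
  have hX : Inn S ≤ X := le_sup_left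
  let N := (Inn S).subgroupOf X
  let x : X := ⟨β, mem_sup_right (mem_zpowers β)⟩
  have h4 : ∀ z : X ⧸ N, z ∈ zpowers (x : X ⧸ N) := fun z => by
    obtain ⟨⟨g, hg⟩, rfl⟩ := QuotientGroup.mk_surjective z
    obtain ⟨a, ha, _, ⟨i, rfl⟩, rfl⟩ := mem_sup_of_normal_left.1 hg
    refine ⟨i, ?_⟩
    change ((x ^ i : X) : X ⧸ N) = ((⟨a, hX ha⟩ * x ^ i : X) : X ⧸ N)
    rw [QuotientGroup.mk_mul, (QuotientGroup.eq_one_iff (N := N) ⟨a, hX ha⟩).2 ha, one_mul]
  have h5 : N.index = l := by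
    rw [index_eq_card, ← orderOf_eq_card_of_forall_mem_zpowers h4]
    exact orderOf_eq_prime (by rw [← QuotientGroup.mk_pow, QuotientGroup.eq_one_iff]; exact h3)
      fun k => h2 ((QuotientGroup.eq_one_iff x).1 k)
  let ι : S ≃* N := (MonoidHom.ofInjective hi).trans (subgroupOfEquivOfLe hX).symm
  have hι : ∀ y, ((ι y : X) : MulAut S) = MulAut.conj y := fun _ => rfl
  have h6 : HZ0 l M X := fun χ hχ hc => by
    have := Fintype.ofFinite X
    have := Fintype.ofFinite N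
    obtain ⟨θ, hθ⟩ := H921.EB515.exists_under N χ
    obtain ⟨h7, h8⟩ := h _ (infl_mem hM ι.toMonoidHom ι.surjective
      (H611.CoverPrincipal.mem_principalBlock_of_over l hM N χ θ hθ hχ))
    have h9 : X ≤ fixer (infl ι.toMonoidHom ι.surjective θ) := sup_le (fix_inn _) (zpowers_le.2 (h7 β hβ))
    obtain ⟨ψ, hψ, h10⟩ := S0886.result N ⟨⟨_, h4⟩⟩ θ θ.2 fun g n => by
      obtain ⟨y, rfl⟩ := ι.surjective n
      refine Eq.trans (congrArg _ (Subtype.ext (Subtype.ext ?_))) (h9 g.2 y)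
      exact conj_conj g.1 y
    obtain ⟨μ, -, h11⟩ := H666.Clif.exists_tl N ⟨⟨_, h4⟩⟩ (χ := ⟨ψ, hψ⟩) (ε := θ) ((H666.Clif.ov_iff N _ _).2 (by
      rw [show (fun n : N => ψ n) = θ from funext h10, Characters.Core.classInner_irr_self θ.2]
      exact one_ne_zero)) ((H666.Clif.ov_iff N _ _).2 hθ)
    refine h8 (Dvd.dvd.trans ?_ (Red.deg_infl ι.toMonoidHom ι.surjective θ).symm.dvd)
    have h12 : charDegree (χ : X → ℂ) = charDegree (θ : N → ℂ) := by
      unfold charDegree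
      rw [h11, H666.Clif.tl_apply, map_one, Units.val_one, one_mul, ← h10 1]
      rfl
    exact h12 ▸ hc
  obtain ⟨P⟩ : Nonempty (Sylow l X) := inferInstance
  refine S4076.result hn hd X hX (h5 ▸ dvd_rfl) P (abS_of_index hM h6 P (N.subgroupOf P)
    (h5 ▸ relIndex_dvd_index_of_normal N P) (fun a b => ?_) P)
  obtain ⟨Q, hQ⟩ := (P.2.comap_of_injective (N.subtype.comp ι.toMonoidHom)
    (N.subtype_injective.comp ι.injective)).exists_le_sylow
  obtain ⟨y, hy⟩ := ι.surjective ⟨a.1.1, a.2⟩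
  obtain ⟨z, hz⟩ := ι.surjective ⟨b.1.1, b.2⟩
  have h7 : y * z = z * y := congrArg Subtype.val ((hA Q).is_comm.comm
    ⟨y, hQ (show (ι y : X) ∈ (P : Subgroup X) from hy ▸ a.1.2)⟩ ⟨z, hQ (show (ι z : X) ∈ (P : Subgroup X) from hz ▸ b.1.2)⟩)
  have h8 := congrArg (fun w => (ι w : X)) h7
  simp only [map_mul, hy, hz] at h8
  exact Subtype.ext (Subtype.ext h8)

theorem aut_lt {r p q : ℕ} (hs : IsSimpleGroup S) (hn : ¬ IsMulCommutative S) (hr : r.Prime) (h : IsLieTypeChar r S) (hf : Fw S)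
    (hP : Pair p q S) (hlt : q < p) {A B : Subgroup (MulAut S)} (hA : IsPGroup p A) (hB : IsPGroup q B)
    (H : ∀ θ : IrrCharacter S, (Fix A θ ∧ ¬ p ∣ dg θ) ↔ (Fix B θ ∧ ¬ q ∣ dg θ)) : A ≤ Inn S ∧ B ≤ Inn S := by
  obtain ⟨Mp, hp⟩ := Blocks.ExistsModular.exists_isPModular hP.pp
  obtain ⟨Mq, hq⟩ := Blocks.ExistsModular.exists_isPModular hP.pq
  have h5 : 5 ≤ p := hP.pp.five_le_of_ne_two_of_ne_three hP.p2 fun h3 => by
    have := hP.pq.two_le
    have := hP.q2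
    omega
  have h1 := le_inn hs hn hq hP.dq hP.abq hB fun θ hθ => (H θ).1 ⟨fun σ hσ => by
    obtain ⟨j, hj⟩ := Red.order_of_mem hP.pp hA hσ
    exact fix_of_inn hs hn hq (cs_of_lie hr h q p hP.pq hP.pp (hP.nc r hr h).2 hlt h5 σ j hj)
      (fun k => hlt.ne ((Nat.prime_dvd_prime_iff_eq hP.pq hP.pp).1 (hP.pq.dvd_of_dvd_pow (hj ▸ k)))) hθ, hf p q Mq hq hP θ hθ⟩
  exact ⟨le_inn hs hn hp hP.dp hP.abp hA fun θ hθ =>
    (H θ).2 ⟨fun σ hσ => fix_inn θ σ (h1 hσ), hf q p Mp hp hP.symm θ hθ⟩, h1⟩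

omit [Finite S] in
theorem aut_of_outTwo (h : H679.OutTwo S) : AUT S := by
  have h1 : ∀ l, l.Prime → l ≠ 2 → ∀ A : Subgroup (MulAut S), IsPGroup l A → A ≤ Inn S := fun l hl h2 A hA σ hσ => by
    obtain ⟨j, hj⟩ := Red.order_of_mem hl hA hσ
    obtain ⟨s, rfl⟩ := H205.RV.inner_of_outTwo h (φ := σ) (by rw [hj]; exact (hl.odd_of_ne_two h2).pow)
    exact ⟨s, rfl⟩
  exact fun p q hP A B hA hB _ => ⟨h1 p hP.pp hP.p2 A hA, h1 q hP.pq hP.q2 B hB⟩

theorem lie : All LieAny AUT := by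
  rintro S _ _ hs hn ⟨r, hr, h⟩ p q hP A B hA hB H
  have hf : Fw S := Dg.fw_known S hs hn S0000.result
  rcases hP.ne.lt_or_gt with h1 | h1
  · exact (aut_lt hs hn hr h hf hP.symm h1 hB hA fun θ => (H θ).symm).symm
  · exact aut_lt hs hn hr h hf hP h1 hA hB H

end Au

/-- **the row `AUT`** -/
theorem aut : All Known AUT := by
  refine all_known_of_lie ⟨?_, fun S _ _ _ _ h => Au.aut_of_outTwo (H679.outTwo_sporadic h),
    fun S _ _ _ _ h => Au.aut_of_outTwo (H679.SporOut.tits h)⟩ Au.lie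
  rintro S _ _ _ _ ⟨n, hn, ⟨e⟩⟩
  exact Au.aut_of_outTwo (H679.OutTwo.congr e (H205.RV.outTwo_alt' hn))

end Cfsg.Agent.PQ.EA
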