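import Cfsg.Agent.PQ.EA.Defs
import Cfsg.Agent.PQ.EL.T2
import Cfsg.Agent.H678.DG.BlkRel
import Cfsg.Agent.H646.DefectBasic
import Cfsg.Agent.H967.TI.PropC
import Cfsg.Agent.Blocks.ExistsModular
import Cfsg.Agent.S4510

/-!
# S4982, blocks of defect one: `boxCntP`, `boxCntQ` (helper86)
-/

set_option autoImplicit false

namespace Cfsg.Agent.PQ.EA

open Cfsg Subgroup Cfsg.Agent.Blocks.Basic

namespace Cnt

variable {K : Type} [Group K] [Finite K] {q : ℕ} [hq : Fact q.Prime] {M : Ideal AlgInt}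

theorem ov_of (hM : IsPModular q M) {Z : Subgroup K} (hZ : Z ≤ center K) (hc : ¬ q ∣ Nat.card Z) {lam : Z →* ℂˣ}
    {χ ψ : IrrCharacter K} (h : SameBlock M (χ : K → ℂ) (ψ : K → ℂ)) (h1 : Ov lam χ) : Ov lam ψ := fun z => by
  have : Z.Normal := ⟨fun x hx g => by rwa [mem_center_iff.1 (hZ hx) g, mul_inv_cancel_right]⟩
  have h2 := H967.TI.apply_div_of_sameBlock hM Z hc h z.2
  rw [h1 z, mul_div_cancel_right₀ _ (irr_one_ne_zero χ.2)] at h2
  rw [h2, div_mul_cancel₀ _ (irr_one_ne_zero ψ.2)]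

/-- the structure of a block of defect one -/
theorem blk (hM : IsPModular q M) (Q : Sylow q K) (hQ : Nat.card (Q : Subgroup K) = q) {R : Subgroup K}
    (hR : R ≤ normalizer ((Q : Subgroup K) : Set K))
    (hR' : ∀ g ∈ R, ∀ c ∈ centralizer ((Q : Subgroup K) : Set K), ¬ q ∣ orderOf c → g * c = c * g)
    {χ : IrrCharacter K} (hχ : ¬ q ∣ dg χ) :
    ∃ e, (centralizer ((Q : Subgroup K) : Set K)).relIndex R ∣ e ∧ e ∣ au (Q : Subgroup K) ∧
      (∀ ψ ∈ blockOf M (χ : K → ℂ), ¬ q ∣ dg ψ) ∧ Nat.card (blockOf M (χ : K → ℂ)) = e + (q - 1) / e ∧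
      ∃ (X Y : Finset (IrrCharacter K)) (δ : IrrCharacter K → ℤ), X.card = e ∧ Disjoint X Y ∧
        (∀ ψ, (ψ ∈ X ∨ ψ ∈ Y) ↔ ψ ∈ blockOf M (χ : K → ℂ)) ∧ (∀ χ, δ χ = 1 ∨ δ χ = -1) ∧
        (∀ ψ ∈ Y, δ ψ * dg ψ + ∑ χ ∈ X, δ χ * dg χ = 0) ∧
        (∀ χ ∈ X, ∀ χ' ∈ X, δ χ * dg χ ≡ δ χ' * dg χ' [ZMOD q]) ∧
        ∀ ψ ∈ Y, ∀ χ ∈ X, δ ψ * dg ψ ≡ -(e * (δ χ * dg χ)) [ZMOD q] := by
  classical
  have := hM.2.1.isPrime
  have := Characters.Core.finite_irr (G := K)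
  have hB := isPBlock_blockOf (M := M) χ
  have hD := (H646.DefectBasic.isDefectGroup_iff_sylow hM hB (mem_blockOf_self χ) hχ _).2 ⟨Q, rfl⟩
  have hc : IsCyclic (Q : Subgroup K) := isCyclic_of_prime_card hQ
  obtain ⟨b, hb⟩ := H658.exists_root_centralizer hM ⟨⟨fun x y => (IsCyclic.commGroup (α := (Q : Subgroup K))).mul_comm x y⟩⟩ hD hB
  obtain ⟨T, hT⟩ := H658.exists_stabilizer hM (Q : Subgroup K) hb.1
  obtain ⟨-, h2, X, Y, h3, h4, h5, h6, -, δ, δ₀, h7, h8, h9, h10, h11⟩ :=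
    S4696.result q M hM _ hc 1 le_rfl (by rw [hQ, pow_one]) _ hB hD b hb T hT _ rfl
  rw [pow_one] at h6 h10 h11
  have key : ∀ {A B : Subgroup K}, A ≤ B → B ≤ normalizer ((Q : Subgroup K) : Set K) →
      (centralizer ((Q : Subgroup K) : Set K)).relIndex A ∣ (centralizer ((Q : Subgroup K) : Set K)).relIndex B := by
    intro A B h1 h2
    have : ((centralizer ((Q : Subgroup K) : Set K)).subgroupOf B).Normal := ⟨fun c hc g y hy => by
      have k1 : (g : K)⁻¹ * y * g ∈ (Q : Subgroup K) := by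
        simpa using (mem_normalizer_iff.1 (h2 (B.inv_mem g.2)) y).1 hy
      have k2 : (g : K)⁻¹ * y * g * c = c * ((g : K)⁻¹ * y * g) := hc _ k1
      change y * (g * c * (g : K)⁻¹) = g * c * (g : K)⁻¹ * y
      calc y * (g * c * (g : K)⁻¹) = g * ((g : K)⁻¹ * y * g * c) * (g : K)⁻¹ := by group
        _ = _ := by rw [k2]; group⟩
    rw [← relIndex_subgroupOf h1]
    exact relIndex_dvd_index_of_normal _ _
  have hXY : ∀ ψ ∈ Y, ψ ∉ X := fun ψ k1 k2 => Set.disjoint_left.1 h4 k2 k1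
  refine ⟨_, key (fun g hg => (hT g).2 ⟨hR hg, fun θ hθ θ' k => ?_⟩) fun g hg => ((hT g).1 hg).1,
    key (fun g hg => ((hT g).1 hg).1) le_rfl, fun ψ hψ k => ?_, ?_, (Set.toFinite X).toFinset, (Set.toFinite Y).toFinset,
    fun ψ => if ψ ∈ X then δ ψ else δ₀, ?_, by simpa using h4, fun ψ => by simp [h3], fun ψ => ?_, fun ψ hψ => ?_,
    fun ψ hψ ψ' hψ' => ?_, fun ψ hψ ψ' hψ' => ?_⟩
  · exact isPBlock_mem_of_sameBlock hb.1 hθ (H678.DG.sameBlock_of_eq_reg hM fun c hc =>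
      k c c (by rw [hR' g hg c c.2 (by rwa [Subgroup.orderOf_coe]), mul_inv_cancel_right]))
  · have k1 := h2 ψ hψ
    have k0 : sInf ((fun ψ : IrrCharacter K => (charDegree (ψ : K → ℂ)).factorization q) '' blockOf M (χ : K → ℂ)) = 0 :=
      Nat.eq_zero_of_le_zero (Nat.sInf_le ⟨χ, mem_blockOf_self χ, Nat.factorization_eq_zero_of_not_dvd hχ⟩)
    rw [blockHeight_def, k0, Nat.sub_zero] at k1
    exact (hq.out.factorization_pos_of_dvd (charDegree_pos ψ.2).ne' k).ne' k1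
  · rw [h3, Nat.card_coe_set_eq, Set.ncard_union_eq h4, ← Nat.card_coe_set_eq, ← Nat.card_coe_set_eq, h5, h6]
  · rw [← Set.ncard_eq_toFinset_card, ← Nat.card_coe_set_eq, h5]
  · beta_reduce
    split_ifs with k
    exacts [h7 ψ k, h8]
  · rw [Set.Finite.mem_toFinset] at hψ
    have k1 := h9 ψ hψ 1 (by rw [orderOf_one, Nat.dvd_one]; exact hq.out.ne_one)
    rw [finsum_mem_eq_finite_toFinset_sum _ (Set.toFinite X), irr_one_eq_charDegree ψ.2,
      Finset.sum_congr rfl fun x _ => by rw [irr_one_eq_charDegree x.2]] at k1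
    beta_reduce
    rw [if_neg (hXY ψ hψ), Finset.sum_congr rfl fun x hx => by rw [if_pos ((Set.Finite.mem_toFinset _).1 hx)]]
    exact_mod_cast k1
  · rw [Set.Finite.mem_toFinset] at hψ hψ'
    beta_reduce
    rw [if_pos hψ, if_pos hψ']
    exact h10 ψ hψ ψ' hψ'
  · rw [Set.Finite.mem_toFinset] at hψ hψ'
    beta_reduce
    rw [if_neg (hXY ψ hψ), if_pos hψ']
    have k1 := (h11 ψ hψ ψ' hψ').mul_left δ₀
    rwa [show ∀ e x y : ℤ, δ₀ * -(e * δ₀ * x * y) = -(e * (x * y)) from fun e x y => by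
      rcases h8 with rfl | rfl <;> ring] at k1

/-- all `p`-regular elements which centralise a Sylow subgroup lie in `Z` -/
theorem same (hM : IsPModular q M) (Q : Sylow q K) {Z : Subgroup K} [hZ : Z.Normal]
    (hC : ∀ c ∈ centralizer ((Q : Subgroup K) : Set K), ¬ q ∣ orderOf c → c ∈ Z) {lam : Z →* ℂˣ} {χ ψ : IrrCharacter K}
    (h1 : Ov lam χ) (h2 : Ov lam ψ) (d1 : ¬ q ∣ dg χ) (d2 : ¬ q ∣ dg ψ) : SameBlock M (χ : K → ℂ) (ψ : K → ℂ) := by
  have := hM.2.1.isPrime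
  rw [S4510.result q M hM _ χ ψ (H646.DefectBasic.blockDefect_eq_of_degree (mem_blockOf_self χ) d1)
    (H646.DefectBasic.blockDefect_eq_of_degree (mem_blockOf_self ψ) d2)]
  intro x hx hcx
  have hxZ : x ∈ Z := by
    obtain ⟨P⟩ : Nonempty (Sylow q (centralizer ({x} : Set K))) := inferInstance
    obtain ⟨R, hR⟩ := (P.2.map (centralizer ({x} : Set K)).subtype).exists_le_sylow
    have h3 := eq_of_le_of_card_ge hR (by
      rw [card_map_of_injective (subtype_injective _), P.card_eq_multiplicity, R.card_eq_multiplicity, hcx])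
    obtain ⟨g, hg⟩ := MulAction.exists_smul_eq K R Q
    have h4 := hZ.conj_mem _ (hC (g * x * g⁻¹) (fun y hy => by
      rw [← hg] at hy
      obtain ⟨r, hr, rfl⟩ := hy
      obtain ⟨s, -, rfl⟩ := h3.ge hr
      have h5 : (s : K) * x = x * s := mem_centralizer_singleton_iff.1 s.2
      change g * s * g⁻¹ * (g * x * g⁻¹) = g * x * g⁻¹ * (g * s * g⁻¹)
      calc g * s * g⁻¹ * (g * x * g⁻¹) = g * (s * x) * g⁻¹ := by group
        _ = _ := by rw [h5]; group) (by rwa [← MulAut.conj_apply, MulEquiv.orderOf_eq])) g⁻¹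
    rwa [show g⁻¹ * (g * x * g⁻¹) * g⁻¹⁻¹ = x by group] at h4
  rw [centralChar_def, centralChar_def, h1 ⟨x, hxZ⟩, h2 ⟨x, hxZ⟩, ← mul_assoc, ← mul_assoc,
    mul_div_cancel_right₀ _ (irr_one_ne_zero χ.2), mul_div_cancel_right₀ _ (irr_one_ne_zero ψ.2), sub_self]
  exact Blocks.Fong.lideal_zero this

end Cnt

theorem boxCntQ : BoxCntQ := by
  classical
  intro q K _ _ Z lam hq hZ Q hQ hc R hR hR'
  have := Fact.mk hq
  obtain ⟨M, hM⟩ := Blocks.ExistsModular.exists_isPModular hq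
  have := hM.2.1.isPrime
  have := Characters.Core.finite_irr (G := K)
  have := Fintype.ofFinite (IrrCharacter K)
  let s : Finset (IrrCharacter K) := Finset.univ.filter fun χ => Ov lam χ ∧ ¬ q ∣ dg χ
  let f : IrrCharacter K → Set (IrrCharacter K) := fun χ => blockOf M (χ : K → ℂ)
  have h1 : ∀ B ∈ s.image f, ∃ e, ((centralizer ((Q : Subgroup K) : Set K)).relIndex R ∣ e ∧ e ∣ au (Q : Subgroup K)) ∧
      (s.filter (f · = B)).card = e + (q - 1) / e := fun B hB => by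
    obtain ⟨χ, hχ, rfl⟩ := Finset.mem_image.1 hB
    obtain ⟨k1, k2⟩ := (Finset.mem_filter.1 hχ).2
    obtain ⟨e, h1, h2, h3, h4, -⟩ := Cnt.blk hM Q hQ hR hR' k2
    refine ⟨e, ⟨h1, h2⟩, ?_⟩
    rw [← h4, ← Nat.card_eq_finsetCard]
    refine Nat.card_congr (Equiv.subtypeEquivRight fun ψ => ?_)
    rw [Finset.mem_filter, Finset.mem_filter]
    exact ⟨fun k => k.2.le (mem_blockOf_self ψ), fun k => ⟨⟨Finset.mem_univ _, Cnt.ov_of hM hZ hc k k1, h3 ψ k⟩,
      (blockOf_eq_of_sameBlock k).symm⟩⟩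
  choose! e he he' using h1
  refine ⟨(s.image f).toList.map e, fun x hx => ?_, ?_⟩
  · obtain ⟨B, hB, rfl⟩ := List.mem_map.1 hx
    exact he B (Finset.mem_toList.1 hB)
  · rw [List.map_map, Finset.sum_map_toList, cnt, Nat.card_eq_fintype_card, Fintype.card_subtype,
      Finset.card_eq_sum_card_image f]
    exact Finset.sum_congr rfl he'

theorem boxCntP : BoxCntP := by
  intro p K S _ _ _ σ lam hp hσ hZ hc P hP hC e he
  have := Fact.mk hp
  have : Finite S := Finite.of_surjective σ hσ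
  obtain ⟨M, hM⟩ := Blocks.ExistsModular.exists_isPModular hp
  have := hM.2.1.isPrime
  obtain ⟨Q, rfl⟩ := Sylow.mapSurjective_surjective hσ p P
  rw [Sylow.coe_mapSurjective] at hP hC he
  have h0 : ∀ z ∈ σ.ker, ∀ k, z ^ p ^ k = 1 → z = 1 := fun z hz k h1 => orderOf_eq_one_iff.1 (Nat.eq_one_of_dvd_coprimes
    (((Nat.Prime.coprime_iff_not_dvd hp).2 hc).pow_left k) (orderOf_dvd_of_pow_eq_one h1) (orderOf_dvd_natCard _ hz))
  have hQ : Nat.card (Q : Subgroup K) = p := by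
    refine (Nat.card_congr (Equiv.ofBijective (σ.subgroupMap _) ⟨(injective_iff_map_eq_one _).2 fun x hx => ?_,
      σ.subgroupMap_surjective _⟩)).trans hP
    obtain ⟨k, hk⟩ := Q.2 x
    exact Subtype.ext (h0 x (congrArg Subtype.val hx) k (congrArg Subtype.val hk))
  have hcy : IsCyclic (Q : Subgroup K) := isCyclic_of_prime_card hQ
  have h1 : ∀ c, σ c ∈ (Q : Subgroup K).map σ → ∃ y ∈ (Q : Subgroup K), ∃ z ∈ σ.ker, c = y * z := by
    rintro c ⟨y, hy, e⟩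
    exact ⟨y, hy, y⁻¹ * c, by rw [MonoidHom.mem_ker, map_mul, map_inv, e, inv_mul_cancel], by group⟩
  have h2 : centralizer ((Q : Subgroup K) : Set K) = (centralizer (((Q : Subgroup K).map σ : Subgroup S) : Set S)).comap σ := by
    ext c
    constructor
    · rintro hc _ ⟨y, hy, rfl⟩
      rw [← map_mul, ← map_mul, hc y hy]
    · intro hc x hx
      rw [hC] at hc
      obtain ⟨y, hy, z, hz, rfl⟩ := h1 c hc
      have k1 : x * y = y * x := congrArg Subtype.val ((IsCyclic.commGroup (α := (Q : Subgroup K))).mul_comm ⟨x, hx⟩ ⟨y, hy⟩)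
      rw [← mul_assoc, k1, mul_assoc, mul_assoc, mem_center_iff.1 (hZ hz) x]
  have h3 : (normalizer ((Q : Subgroup K) : Set K)).map σ = normalizer (((Q : Subgroup K).map σ : Subgroup S) : Set S) := by
    refine le_antisymm (le_normalizer_map σ) fun n hn => ?_
    obtain ⟨g, rfl⟩ := hσ n
    refine ⟨g, mem_normalizer_fintype fun x hx => ?_, rfl⟩
    obtain ⟨y, hy, z, hz, k⟩ := h1 (g * x * g⁻¹) (by
      rw [map_mul, map_mul, map_inv]
      exact (mem_normalizer_iff.1 hn _).1 ⟨x, hx, rfl⟩)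
    have k1 : ∀ x ∈ (Q : Subgroup K), x ^ p = 1 := fun x hx => by
      have k2 := congrArg Subtype.val (pow_card_eq_one' (x := (⟨x, hx⟩ : (Q : Subgroup K))))
      rwa [hQ] at k2
    have k2 : (y * z) ^ p = 1 := by rw [← k, conj_pow, k1 x hx, mul_one, mul_inv_cancel]
    rw [(show Commute y z from mem_center_iff.1 (hZ hz) y).mul_pow, k1 y hy, one_mul] at k2
    rw [k, h0 z hz 1 (by rwa [pow_one]), mul_one]
    exact hy
  have h4 : au (Q : Subgroup K) = e := by rw [← he, au, au, h2, relIndex_comap, h3]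
  have h5 : ∀ c ∈ centralizer ((Q : Subgroup K) : Set K), ¬ p ∣ orderOf c → c ∈ σ.ker := fun c k1 k2 => by
    rw [h2, hC] at k1
    exact orderOf_eq_one_iff.1 (Nat.eq_one_of_dvd_coprimes ((Nat.Prime.coprime_iff_not_dvd hp).2 k2)
      (hP ▸ orderOf_dvd_natCard _ k1) (orderOf_map_dvd σ c))
  obtain ⟨χ, k1, k2⟩ := EL.T2.exists_deg σ.ker.subtype (subtype_injective _) (fun z => hZ z.2) lam hc
  obtain ⟨e', e1, e2, e3, e4, X, Y, δ, e5, e6, e7, e8⟩ := Cnt.blk hM Q hQ le_rfl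
    (fun g _ c k3 k4 => mem_center_iff.1 (hZ (h5 c k3 k4)) g) k2
  obtain rfl : e' = e := h4 ▸ Nat.dvd_antisymm e2 e1
  have h6 : ∀ ψ, ψ ∈ blockOf M (χ : K → ℂ) ↔ Ov lam ψ ∧ ¬ p ∣ dg ψ := fun ψ =>
    ⟨fun k => ⟨Cnt.ov_of hM hZ hc k k1, e3 ψ k⟩, fun k => Cnt.same hM Q h5 k1 k.1 k2 k.2⟩
  exact ⟨(Nat.card_congr (Equiv.subtypeEquivRight h6)).symm.trans e4, X, Y, δ, e5, e6, fun ψ => (e7 ψ).trans (h6 ψ), e8⟩

end Cfsg.Agent.PQ.EA
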