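import Cfsg.Agent.PQ.EA.Defs3
import Cfsg.Agent.PQ.SS.ACrs

/-!
# S4982 (helper8): invariant witnesses for the linear and unitary groups, `cA_of`
-/

set_option autoImplicit false
set_option linter.unusedSectionVars false

namespace Cfsg.Agent.PQ.EA.CA

open Cfsg Cfsg.Agent.DL Cfsg.Agent.DL.PP Cfsg.Agent.KZ.Lie Cfsg.Agent.KZ.Dat Cfsg.Agent.LV.Blk Matrix
  Cfsg.Agent.ODD.C2 Cfsg.Agent.ODD.C2.GlA Cfsg.Agent.Nodes.RootsA Cfsg.Agent.PQ.SS Cfsg.Agent.PQ.SS.RA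

section

variable {p : ℕ} [Fact p.Prime] {k : Type} [Field k] [CharP k p] {Y : Type} [Group Y] {N : Type} [Fintype N]
  [DecidableEq N] {ρ : Y →* GL N k} {F : MulAut Y} {G : Subgroup Y} [IsAlgClosed k] {D : Datum p ρ F G}
  {Adm : Matrix D.R D.R ℤ → Prop} {S : Type} [Group S] [Fintype ↥(GF F G)] {l m : ℕ}

/-- a witness in `G ^ F` gives an invariant character -/
theorem wa_of_wt (hC : BoxSemA) (f : Fr D) (s : Sit D Adm S) {B : Matrix D.R D.R ℤ} {n : ℕ} (hl : l.Prime) (hp : l ≠ p)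
    (hm : m.Prime) (hmp : m ≠ p) (h1 : Dual D l B) (h2 : CZl D l) (h3 : Good D l) (h4 : Ker f s l B) (hn : ¬ l ∣ n)
    (hA : ∀ A, Adm A → ∃ (u : ℤ) (v : D.W), A ^ n = u • D.Wm v)
    {x : ↥(GF F G)} (hx : (x : Y) ∈ s.H0) (h : Wt l m x) : WA l m S := fun A hA' => by
  have h5 : IsL l x := ⟨1, by rw [pow_one, h.1]⟩
  obtain ⟨i, hi, h6⟩ := boxForm D hl hp h3 x x.2 ⟨1, by rw [pow_one]; exact congrArg Subtype.val h.1⟩
  have h7 := cls_pow hl hi h5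
  obtain ⟨θ, h8, j, h9⟩ := hC f s hl hp h1 h2 h4 hn hA (x ^ i) (pow_mem hx i) h6
    (by rw [← pow_mul, mul_comm, pow_mul, h.1, one_pow]) (h7 ▸ h.2.1) A hA'
  rw [h7] at h9
  refine ⟨θ, h8, fun h10 => h.2.1 (h9 ▸ h10.mul_right _), (hm.dvd_mul.1 (h9 ▸ h.2.2)).resolve_right fun h10 => ?_⟩
  exact hmp ((Nat.prime_dvd_prime_iff_eq hm Fact.out).1 (hm.dvd_of_dvd_pow h10))

theorem cv_of (hC : BoxSemA) {s : Sit D Adm S} {Q : ℤ} (L : AL s Q)
    (hA : ∀ A, Adm A → ∃ (u : ℤ) (v : D.W), A = u • D.Wm v) {X : Type} [Group X] (e : X ≃* ↥(GF F G))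
    (hl : l.Prime) (hm : m.Prime) (hp : l ≠ p) (hp' : m ≠ p)
    (h : l ∣ Nat.card X → m ∣ Nat.card X → Ab l m X ∨ ∃ x : X, (e x : Y) ∈ s.H0 ∧ (Wt l m x ∨ Wt m l x))
    (h1 : l ∣ Nat.card S) (h2 : m ∣ Nat.card S) (h3 : ¬ Com l m S) : WA l m S ∨ WA m l S := by
  have := s.normal
  have : Finite S := Finite.of_surjective _ s.π1_surj
  obtain ⟨f⟩ := nonempty_fr D
  have hA' : ∀ A, Adm A → ∃ (u : ℤ) (v : D.W), A ^ 1 = u • D.Wm v := fun A h => by rw [pow_one]; exact hA A h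
  have h4 : Nat.card S ∣ Nat.card X := (Subgroup.card_dvd_of_surjective _ s.π1_surj).trans
    ((Subgroup.card_subgroup_dvd_card _).trans (Nat.card_congr e.toEquiv).symm.dvd)
  rcases h (h1.trans h4) (h2.trans h4) with h5 | ⟨x, hx, h5 | h5⟩
  · exact absurd ((((h5.map e.toMonoidHom e.surjective).sub s.H1).map _ s.π1_surj).com hl hm) h3
  · exact .inl (wa_of_wt hC f s hl hp hm hp' (L.dual hl) (L.czl hl) (L.good hl) (L.ker f) hl.not_dvd_one hA' hx (h5.map e))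
  · exact .inr (wa_of_wt hC f s hm hp' hl hp (L.dual hm) (L.czl hm) (L.good hm) (L.ker f) hm.not_dvd_one hA' hx (h5.map e))

end

attribute [local instance] finite_WA

/-- **cross characteristic, linear and unitary groups** -/
theorem _root_.Cfsg.Agent.PQ.EA.cA_of (hC : BoxSemA) : AllC ClA CvX := by
  rintro r S _ _ - - - (⟨F, _, _, _, n, h1, h2, ⟨i⟩⟩ | ⟨F, _, _, _, n, q, hF, h1, h2, ⟨i⟩⟩) l m hl hm hlm hr hr'
  · obtain ⟨n, rfl⟩ : ∃ n', n = n' + 1 := ⟨n - 1, by omega⟩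
    obtain ⟨p, _, e, k, _, _, _, f, hk, he, hF⟩ := hasL F
    obtain rfl : r = p := char_eq f
    have := (datL n hk he).amb.finite_GF (GA n k)
    have := Fintype.ofFinite (GF (1 * frP _ r k e) (GA n k))
    refine cv_of hC (alL hk he f hF (by omega) (fun h => h2 (by omega)) i.symm) (fun A h => ?_)
      (Subgroup.topEquiv.trans (eqvL f hF)) hl hm
      hr hr' fun h3 h4 => ((taL r).main hl hm hlm hr hr' h1 h3 h4).imp_right fun ⟨x, h5, h6⟩ => ⟨x, ?_, h6⟩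
    · obtain ⟨j, s, π, h5⟩ := admA_eq h
      exact ⟨_, (pwA n).symm π, h5.trans (congrArg _ (datA_Wm' hk he _ π).symm)⟩
    · exact (mem_ιL f hF _).2 ⟨Subtype.prop _, (det_glmap f x.1).trans (by rw [h5, map_one])⟩
  · obtain ⟨n, rfl⟩ : ∃ n', n = n' + 1 := ⟨n - 1, by omega⟩
    obtain ⟨p, _, e, k, _, _, _, f, hk, he, rfl⟩ := hasU F hF
    obtain rfl : r = p := char_eq f
    have := (datU n hk he).amb.finite_GF (GA n k)
    have := Fintype.ofFinite (GF (γA n k * frP _ r k e) (GA n k))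
    refine cv_of hC (alU hk he f hF (by omega) (fun h => h2 ⟨by omega, h.2⟩) i.symm) (fun A h => ?_) (eqvU f hk he hF) hl hm
      hr hr' fun h3 h4 => ((taU r hF).main hl hm hlm hr hr' (by omega) h3 h4).imp_right fun ⟨x, h5, h6⟩ => ⟨x, ?_, h6⟩
    · obtain ⟨j, s, π, h5⟩ := admA_eq (AdmQ.admA h)
      exact ⟨_, (pwA n).symm π, h5.trans (congrArg _ (datA_Wm' hk he _ π).symm)⟩
    · refine (mem_ιU f hk he hF _).2 ⟨Subtype.prop _, ?_⟩
      show GeneralLinearGroup.det (lz n hk he * GeneralLinearGroup.map f x * (lz n hk he)⁻¹) = 1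
      rw [map_mul, map_mul, map_inv, mul_inv_cancel_comm, det_glmap, h5, map_one]

end Cfsg.Agent.PQ.EA.CA
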