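import Cfsg.Agent.PQ.EA.Defs3

/-!
# S4982, symplectic and orthogonal groups: the form of the invariant SEMI (helper47)
-/

set_option autoImplicit false

namespace Cfsg.Agent.PQ.EA

open Cfsg

/-- `PΩ⁺₈` in characteristic `r` -/
def P8 (r : ℕ) (S : Type) [Group S] : Prop :=
  ∃ (F : Type) (_ : Field F) (_ : Fintype F) (_ : CharP F r), Nonempty (S ≃* POmega F (quadFormPlus 4 F))

/-- invariant SEMI for the symplectic and orthogonal groups -/
def SemB : Prop :=
  ∀ (r l : ℕ) (S : Type) [Group S] [Finite S], r.Prime → l.Prime → l ≠ r → l ≠ 2 → SS.ClB r S → (l = 3 → ¬ P8 r S) →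
    SemiA r l S

/-- the primes `2`, `3` in `PΩ⁺₈` -/
def P823 : Prop := ∀ (r : ℕ) (S : Type) [Group S] [Finite S], r.Prime → 2 ≠ r → 3 ≠ r → P8 r S → WA 2 3 S ∨ WA 3 2 S

end Cfsg.Agent.PQ.EA
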