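import Cfsg.Agent.PQ.EA.CvB2
import Cfsg.Agent.PQ.EA.SemB2

/-!
# S4982, symplectic and orthogonal groups (helper47): `cB : AllC ClB CvX`

* `exists_fixed` : an `l`-group of automorphisms fixes an element of order `l` with class size prime to `l`;
* `fix_of_fix` : the semisimple character of a fixed element is fixed; `p823`, `cB`.
-/

set_option autoImplicit false
set_option linter.unusedSectionVars false
set_option maxHeartbeats 400000

namespace Cfsg.Agent.PQ.EA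

open Cfsg Cfsg.Agent.DL Cfsg.Agent.DL.PP Cfsg.Agent.DL.Uni Cfsg.Agent.DL.Asm Cfsg.Agent.KZ Cfsg.Agent.KZ.Lie
  Cfsg.Agent.LV.Blk Cfsg.Agent.KZ.ClD Cfsg.Agent.Characters.Core Matrix Cfsg.Agent.Nodes.Reps Cfsg.Agent.PQ.SS

namespace CB

open scoped Pointwise in
/-- a fixed element in the centre of an invariant Sylow subgroup -/
theorem exists_fixed {S : Type} [Group S] [Finite S] {l : ℕ} (hl : l.Prime) (h : l ∣ Nat.card S)
    {A : Subgroup (MulAut S)} (hA : IsPGroup l A) : ∃ x : S, orderOf x = l ∧ ¬ l ∣ cls x ∧ ∀ σ ∈ A, σ x = x := by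
  have := Fact.mk hl
  obtain ⟨P, hP⟩ := hA.nonempty_fixed_point_of_prime_not_dvd_card (Sylow l S) (not_dvd_card_sylow l S)
  have h1 : ∀ σ : A, ∀ y, y ∈ (P : Subgroup S) → (σ : MulAut S) y ∈ (P : Subgroup S) := fun σ y hy => by
    have h2 : σ • y ∈ σ • (P : Subgroup S) := Subgroup.smul_mem_pointwise_smul y σ _ hy
    exact (congrArg Sylow.toSubgroup (hP σ)).le h2
  let Z : Subgroup S := (P : Subgroup S) ⊓ Subgroup.centralizer (P : Set S)
  let act : MulAction A Z :=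
    { smul := fun σ z => ⟨(σ : MulAut S) z, h1 σ z z.2.1, fun y hy => by
        have h2 := congrArg (σ : MulAut S) (z.2.2 _ (h1 σ⁻¹ y hy))
        rwa [map_mul, map_mul, Subgroup.coe_inv, MulAut.apply_inv_self] at h2⟩
      one_smul := fun z => rfl
      mul_smul := fun σ τ z => rfl }
  have h2 : l ∣ Nat.card Z := by
    have : Nontrivial (P : Subgroup S) := (P : Subgroup S).nontrivial_iff_ne_bot.2 (P.ne_bot_of_dvd_card h)
    obtain ⟨n, hn, h2⟩ := (P.2.to_subgroup (Subgroup.center P)).nontrivial_iff_card.1 P.2.center_nontrivial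
    obtain ⟨a, ha⟩ := exists_prime_orderOf_dvd_card' (G := Subgroup.center (P : Subgroup S)) l
      (h2 ▸ dvd_pow_self l hn.ne')
    have h3 : orderOf (⟨a, a.1.2, fun y hy => congrArg Subtype.val (Subgroup.mem_center_iff.1 a.2 ⟨y, hy⟩)⟩ : Z) = l := by
      rw [← Subgroup.orderOf_coe, Subgroup.orderOf_coe a.1, Subgroup.orderOf_coe, ha]
    exact h3 ▸ orderOf_dvd_natCard _
  obtain ⟨b, hb, h3⟩ := hA.exists_fixed_point_of_prime_dvd_card_of_fixed_point Z h2 (a := 1)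
    fun σ => Subtype.ext (map_one (σ : MulAut S))
  have h4 : l ∣ orderOf b := by
    obtain ⟨j, hj⟩ := (IsPGroup.iff_orderOf.1 (P.2.to_inf_left (K := Subgroup.centralizer (P : Set S)))) b
    refine hj ▸ dvd_pow_self l fun e => h3 ?_
    rw [e, pow_zero, orderOf_eq_one_iff] at hj
    exact hj.symm
  refine ⟨(b ^ (orderOf b / l) : Z), by rw [Subgroup.orderOf_coe, orderOf_pow_orderOf_div (orderOf_pos b).ne' h4],
    fun h5 => P.not_dvd_index (h5.trans (Subgroup.index_dvd_of_le fun y hy => ?_)), fun σ hσ => ?_⟩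
  · exact Subgroup.mem_centralizer_singleton_iff.2 ((b ^ (orderOf b / l)).2.2 y hy)
  · rw [Subgroup.coe_pow, map_pow]
    exact congrArg (· ^ _) (congrArg Subtype.val (hb ⟨σ, hσ⟩))

variable {p : ℕ} [Fact p.Prime] {k : Type} [Field k] [CharP k p] {Y : Type} [Group Y] {N : Type} [Fintype N]
  [DecidableEq N] {ρ : Y →* GL N k} {F : MulAut Y} {G : Subgroup Y} [IsAlgClosed k] {D : Datum p ρ F G} {l j : ℕ}
  {v : D.R → ℤ} {B : Matrix D.R D.R ℤ} [Fintype ↥(GF F G)] (f : Fr D) {w : D.W} {c : Lbl D}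

variable {f} in
/-- an automorphism which fixes the class of the label -/
theorem chi_aut (hA : Api f) {α : MulAut Y} {A : Matrix D.R D.R ℤ} (h : Au D α A) (hc : Fx D w c) {b : D.W}
    (hb : Rel D b c (mon Aᵀ c)) {χ : IrrCharacter ↥(GF F G)} {ε : ℂ} (e : (χ : GF F G → ℂ) = ε • ss f w c)
    (g : ↥(GF F G)) : (χ : GF F G → ℂ) (h.aut g) = (χ : GF F G → ℂ) g := by
  obtain ⟨a, ha⟩ := (hA.aut α A h).1
  have h1 : ∀ u : Wc D c, ∃ u' ∈ Wc D c, ∀ g, RW f (u * w) c (h.aut g) = RW f (u' * w) c g := fun u => by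
    obtain ⟨h2, h3⟩ := (hA.aut α A h).2 (a.symm (u * w)) (u * w) (mon Aᵀ c) c
      (by rw [← ha, MulEquiv.apply_symm_apply]) (fun z => (chr_tr D _ z _).symm) (hc.mul u.2)
    obtain ⟨u', h4, h5⟩ := TF.Mix.exists_ser (f := f) hc hb h2
    exact ⟨u', h4, fun g => (h3 g (h.aut g) rfl).trans (congrFun h5 g)⟩
  choose u' h2 h3 using h1
  have := Fintype.ofFinite (Wc D c)
  have h4 : (Res.pull h.aut.toMonoidHom h.aut.surjective χ : GF F G → ℂ) =
      ε • (Nat.card (Wc D c) : ℂ)⁻¹ • ∑ u, RW f (u' u * w) c := funext fun g => by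
    show (χ : GF F G → ℂ) (h.aut g) = _
    rw [e, Pi.smul_apply, Pi.smul_apply, Pi.smul_apply, Finset.sum_apply, ss, avg,
      finsum_eq_sum_of_fintype]
    exact congrArg _ (congrArg _ (Finset.sum_congr rfl fun u _ => (one_mul _).trans (h3 u g)))
  have h5 : ε ≠ 0 := fun h5 => isIrr_apply_one_ne_zero χ.2 (by rw [e, h5, zero_smul, Pi.zero_apply])
  refine (congrFun (by_contra fun h6 => ?_ : χ.1 = (Res.pull h.aut.toMonoidHom h.aut.surjective χ).1) g).symm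
  have h7 := classInner_irr_ne χ.2 (Res.pull h.aut.toMonoidHom h.aut.surjective χ).2 h6
  rw [h4, e, classInner_smul_left, classInner_smul_right, classInner_smul_right, classInner_sum_right,
    Finset.sum_congr rfl fun u _ => TF.Mix.ip_ser hc (fun _ _ _ _ => rfl) (h2 u), Finset.sum_const, Finset.card_univ,
    nsmul_eq_mul, mul_one, map_inv₀, map_natCast, ← Nat.card_eq_fintype_card, inv_mul_cancel₀ (card_ne _), mul_one] at h7
  exact mul_ne_zero h5 ((map_ne_zero _).2 h5) h7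

variable {Adm : Matrix D.R D.R ℤ → Prop} {S : Type} [Group S] (s : Sit D Adm S)

/-- **the character of a fixed element is fixed** -/
theorem fix_of_fix (hB : Dual D l B) (hi : Function.Injective s.π)
    (hAdm : ∀ A, Adm A → ∃ u : ℤ, (l : ℤ) ∣ u - 1 ∧ Aᵀ * B * A = u • B) (x : s.H0) {ζ : kˣ} {y : Y}
    (hζ : IsPrimitiveRoot ζ (l ^ j)) (hy : y ∈ G) (hx : (x : Y) = y * D.τ (coch v ζ) * y⁻¹) {ξ : ℂˣ}
    (hξ : IsPrimitiveRoot ξ (l ^ j)) (h : Fx D w (coch (B *ᵥ v) ξ)) (hc : coch (B *ᵥ v) ξ ^ l = 1)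
    {χ : IrrCharacter ↥(GF F G)} {ε : ℂ} (e : (χ : GF F G → ℂ) = ε • ss f w (coch (B *ᵥ v) ξ)) {ψ : IrrCharacter S}
    (hd : s.Dn χ ψ) {σ : MulAut S} (hσ : σ (s.π x) = s.π x) (t : S) : (ψ : S → ℂ) (σ t) = (ψ : S → ℂ) t := by
  obtain ⟨g, hg, α, A, h1, h2, L⟩ := s.aut σ
  obtain ⟨u, ⟨d, h3⟩, h4⟩ := hAdm A h2
  obtain ⟨x', e1, e2⟩ := L x
  obtain rfl : x' = x := hi (e2.trans hσ)
  rw [hx, map_mul, map_mul, map_inv, h1.tau, mon_coch] at e1
  obtain ⟨-, -, m, ⟨b, hm⟩, h5, -⟩ := D.exists_conj_form (ι := Unit) (s := fun _ => D.τ (coch (A *ᵥ v) ζ))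
    (t := fun _ => D.τ (coch v ζ)) (fun _ => D.τ_mem _) (fun _ => D.τ_mem _)
    (mul_mem (mul_mem (inv_mem hy) hg.1) ((h1.memG y).2 hy)) fun _ => by
      rw [show D.τ (coch v ζ) = y⁻¹ * (y * D.τ (coch v ζ) * y⁻¹) * y by group, e1]
      group
  have h6 : Cg ((l ^ j : ℕ) : ℤ) (D.Wm b *ᵥ (A *ᵥ v)) v := by
    rw [← coch_eq_iff hζ, ← mon_coch]
    exact D.τ_inj (by rw [← D.conj_τ hm, h5 (), mul_inv_cancel_right])
  obtain ⟨a, ha⟩ := ((Mts.boxApi f s.qs).aut α A h1).1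
  obtain ⟨b, rfl⟩ := a.surjective b
  obtain ⟨b, rfl⟩ := hB.dl.surjective b
  have h7 := h6.mulVec (Aᵀ * B)
  rw [mulVec_mulVec v, ha, mulVec_mulVec, ← mul_assoc, h4, smul_mul_assoc, smul_mulVec, ← mulVec_mulVec, ← hB.vecMul_B,
    ← mulVec_mulVec, ← coch_eq_iff hξ, ← mon_coch] at h7
  have h8 : Rel D b (mon Aᵀ (coch (B *ᵥ v) ξ)) (coch (B *ᵥ v) ξ) := fun z => by
    have h9 : chr (D.Wm b *ᵥ z) (coch (B *ᵥ v) ξ) ^ (l : ℤ) = 1 := by
      rw [zpow_natCast, ← map_pow, hc, map_one]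
    rw [← h7, chr_coch' z, smul_dotProduct, ← dotProduct_mulVec, smul_eq_mul, mul_comm, _root_.zpow_mul, ← chr_coch',
      sub_eq_iff_eq_add.1 h3, _root_.zpow_add, _root_.zpow_mul, h9, _root_.one_zpow, one_mul, zpow_one]
  obtain ⟨t, rfl⟩ := s.surj t
  obtain ⟨t', e3, e4⟩ := L t
  rw [← e4, hd, hd, show (⟨t', s.le t'.2⟩ : GF F G) = ⟨g, hg⟩ * h1.aut ⟨t, s.le t.2⟩ * (⟨g, hg⟩ : GF F G)⁻¹ from
    Subtype.ext e3, isIrr_isClassFunction χ.2, chi_aut (Mts.boxApi f s.qs) h1 h h8.symm e]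

omit [Fintype ↥(GF F G)] in
/-- the invariant witness, if every element of order `l` with class size prime to `l` has class size divisible by `m` -/
theorem wa_of_all [Finite S] (hl : l.Prime) (hp : l ≠ p) (hB : Dual D l B) (hZ : CZl D l) (hG : Good D l)
    (hi : Function.Injective s.π) (hn : ¬ l ∣ s.H1.index)
    (hAdm : ∀ A, Adm A → ∃ u : ℤ, (l : ℤ) ∣ u - 1 ∧ Aᵀ * B * A = u • B) (hd : l ∣ Nat.card S) {m : ℕ} (hm : m.Prime)
    (hmp : m ≠ p) (h : ∀ x : S, orderOf x = l → m ∣ cls x) : WA l m S := fun A hA => by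
  have := finite_GF D
  have := Fintype.ofFinite ↥(GF F G)
  have := s.normal
  obtain ⟨f⟩ := nonempty_fr D
  have hk : ¬ l ∣ Nat.card s.π.ker := by
    rw [(MonoidHom.ker_eq_bot_iff _).2 hi, Subgroup.card_bot]
    exact hl.not_dvd_one
  obtain ⟨x, h1, h2, h3⟩ := exists_fixed hl hd hA
  obtain ⟨x, rfl⟩ := s.π1_surj x
  have h4 : x ^ l = 1 := by
    have h5 : s.π (⟨x.1.1, x.2⟩ ^ l) = s.π 1 := by
      rw [map_pow, map_one, ← h1]
      exact pow_orderOf_eq_one _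
    have h6 := congrArg Subtype.val (hi h5)
    exact Subtype.ext (Subtype.ext h6)
  have h5 : IsL l x := ⟨1, by rw [pow_one, h4]⟩
  obtain ⟨n, h6, j, ζ, v, y, hζ, hy, hN, hx, hv⟩ := boxForm D hl hp hG _ (x : GF F G).2
    ⟨1, by rw [pow_one]; exact congrArg (fun z => z.1.1) h4⟩
  have h7 : cls (s.π1 (x ^ n)) = cls (s.π1 x) := by rw [map_pow, cls_pow hl h6 ⟨1, by rw [pow_one, ← map_pow, h4, map_one]⟩]
  have h8 : (x ^ n) ^ l = 1 := by rw [← pow_mul, mul_comm, pow_mul, h4, one_pow]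
  have h9 : ¬ l ∣ cls ((x ^ n : s.H1) : GF F G) := fun h9 =>
    (hl.dvd_mul.1 (h9.trans (cls_dvd_sub s.H1 _))).elim (fun h10 => h2 (by
      rwa [← h7, cls_map_eq hl s.π1 s.π1_surj (fun z hz g => Subtype.ext (s.π1_cen z hz g)) (card_ker s ▸ hk)
        ⟨1, by rw [pow_one, h8]⟩])) hn
  obtain ⟨ξ, w, χ, ε, hξ, g3, g4, g5, -, i, g7⟩ := SemA.chi f s.qs hl hB hZ ((x ^ n : s.H1) : GF F G) hζ hy hN hx
    (gen_of_lev f s.qs hl hB hZ hv)
  obtain ⟨ψ, g8⟩ := SemA.down f s hl g3 ⟨j, by rw [← map_pow, hξ.pow_eq_one, map_one]⟩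
    (ker_of_coprime (Mts.boxApi f s.qs) s hl hk B j ζ v y ξ hζ hξ.pow_eq_one hy (hx ▸ (x ^ n).2)) g4 g5
    fun h => h9 (g7 ▸ h.mul_right _)
  have g9 : coch v ζ ^ l = 1 := D.τ_inj (by
    have h11 : (((x : GF F G) : Y) ^ n) ^ l = 1 := congrArg (fun z => z.1.1) h8
    rw [hx, conj_pow, mul_inv_eq_one, mul_eq_left] at h11
    rw [map_pow, h11, map_one])
  refine ⟨ψ, fun σ hσ => fix_of_fix f s hB hi hAdm ⟨_, (x ^ n).2⟩ hζ hy hx hξ g3 (funext fun r => ?_) g5 g8 ?_,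
    fun h10 => h9 (g7 ▸ (h10.trans g8.deg.dvd).mul_right _), ?_⟩
  · rw [Pi.pow_apply, coch_apply, ← zpow_natCast, ← _root_.zpow_mul, Pi.one_apply, hξ.zpow_eq_one_iff_dvd, mulVec,
      dotProduct, Finset.sum_mul]
    refine Finset.dvd_sum fun r' _ => ?_
    have h10 := congrFun g9 r'
    rw [Pi.pow_apply, coch_apply, ← zpow_natCast, ← _root_.zpow_mul, Pi.one_apply, hζ.zpow_eq_one_iff_dvd] at h10
    exact mul_assoc (B r r') _ _ ▸ h10.mul_left _
  · show σ (s.π1 (x ^ n)) = s.π1 (x ^ n)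
    rw [map_pow, map_pow, h3 σ hσ]
  · have h10 := (h7 ▸ h _ h1).trans ((cls_map_dvd s.π1 s.π1_surj _).trans (cls_sub_dvd s.H1 _))
    rw [← g7] at h10
    rw [dg, g8.deg]
    exact (hm.dvd_mul.1 h10).resolve_right fun h8 =>
      hmp ((Nat.prime_dvd_prime_iff_eq hm Fact.out).1 (hm.dvd_of_dvd_pow h8))

/-- the symmetric dual matrix -/
def bS : Matrix (Fin 4) (Fin 4) ℤ := !![2, 2, 1, 1; 2, 4, 2, 2; 1, 2, 2, 1; 1, 2, 1, 2]

theorem tyS : Ty Lie.chevD4 4 bS id 2 2 :=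
  ⟨by decide +kernel, by decide +kernel, by decide +kernel, by decide +kernel, by decide +kernel⟩

theorem inv_L4 : ∀ A ∈ DatX.L4, Aᵀ * bS * A = bS := by decide +kernel

theorem dvd_cls_of_pa {H : Type} [Group H] [Finite H] {l m : ℕ} (hm : m.Prime) (h1 : H17.CR.PA m l H) {y : H}
    (hy : y ^ l = 1) (h2 : y ≠ 1) : m ∣ cls y := by_contra fun h4 => by
  have := Fact.mk hm
  obtain ⟨A, hA, h3⟩ := h1
  obtain ⟨g, hg⟩ := H630.NH.exists_conj_le m A hA _ h4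
  have h5 := h3 (g⁻¹ * y * g) (by
    rw [show g⁻¹ * y * g = g⁻¹ * y * g⁻¹⁻¹ by rw [inv_inv], conj_pow, hy, mul_one, mul_inv_cancel])
    fun a ha => by
      rw [show a * (g⁻¹ * y * g) = g⁻¹ * (g * a * g⁻¹ * y) * g by group,
        Subgroup.mem_centralizer_singleton_iff.1 (hg a ha)]
      group
  exact h2 (by rw [show y = g * (g⁻¹ * y * g) * g⁻¹ by group, h5, mul_one, mul_inv_cancel])

theorem dvd_cls_quot {H T : Type} [Group H] [Finite H] [Group T] {l m : ℕ} (hl : l.Prime) (hm : m.Prime)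
    (h1 : H17.CR.PA m l H) (h2 : ¬ l ∣ Nat.card (Subgroup.center H)) (i : T ≃* H ⧸ Subgroup.center H) (x : T)
    (hx : orderOf x = l) : m ∣ cls x := by
  let π : H →* T := i.symm.toMonoidHom.comp (QuotientGroup.mk' _)
  have h3 : Function.Surjective π := i.symm.surjective.comp (QuotientGroup.mk'_surjective _)
  have h4 : π.ker = Subgroup.center H := Subgroup.ext fun z =>
    i.symm.map_eq_one_iff.trans (QuotientGroup.eq_one_iff z)
  obtain ⟨y, rfl⟩ := h3 x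
  have h5 : π y ^ l = 1 := hx ▸ pow_orderOf_eq_one _
  obtain ⟨y, ⟨j, hj⟩, e⟩ := exists_isL hl π (a := y) ⟨1, (pow_one l).symm ▸ h5⟩
  rw [← e] at h5 hx ⊢
  rw [← h4] at h2
  have h6 : y ^ l = 1 := congrArg Subtype.val ((pow_eq_one_iff_of_coprime (a := (⟨y ^ l, by
      rw [MonoidHom.mem_ker, map_pow, h5]⟩ : π.ker)) ((hl.coprime_iff_not_dvd.2 h2).pow_left j)).1
    ⟨Subtype.ext (show (y ^ l) ^ l ^ j = 1 by rw [← pow_mul, mul_comm, pow_mul, hj, one_pow]), pow_card_eq_one'⟩)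
  rw [cls_map_eq hl π h3 (fun z hz g => Subgroup.mem_center_iff.1 (h4.le hz) g) h2 ⟨j, hj⟩]
  refine dvd_cls_of_pa hm h1 h6 fun h7 => hl.one_lt.ne ?_
  rw [← hx, h7, map_one, orderOf_one]

open Cfsg.Agent.LieClassical.OrthCore Cfsg.Agent.LieClassical.OrthForms Cfsg.Agent.H17.CR Cfsg.Agent.PQ.SS.RB in
theorem two_dvd_cls {r : ℕ} (hr : r.Prime) (h2 : 2 ≠ r) {K : Type} [Field K] [Fintype K] [CharP K r] {ι : Type}
    [Fintype ι] [DecidableEq ι] (Q : QuadraticForm K (ι → K)) (hQ : Nondeg Q) (h5 : 5 ≤ Fintype.card ι)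
    {q : (ι → K) → K} (hf : ⇑Q = q) (h3 : 3 ∣ Nat.card (Spc.mk (F := K) (ι → K) fun u _ => q u).G) {T : Type} [Group T]
    (i : T ≃* POmega K q) : 3 ∣ Nat.card T ∧ ∀ x : T, orderOf x = 3 → 2 ∣ cls x := by
  subst hf
  have e : isometryGroup K ⇑Q ≃* (Spc.mk (F := K) (ι → K) fun u _ => Q u).G :=
    H749.isoEquiv (j := LinearEquiv.refl K _) (c := 1) ⟨one_ne_zero, fun x y => (one_mul _).symm⟩
  have h8 : Module.finrank K (ι → K) = Fintype.card ι := Module.finrank_fintype_fun_eq_card K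
  obtain ⟨e'⟩ := comm_equiv e.symm
  have h6 : ¬ 3 ∣ Nat.card (Subgroup.center (Omega K ⇑Q)) := by
    refine not_dvd_sq Nat.prime_three (by decide) fun z => Subtype.ext ?_
    obtain ⟨w, -, h1, h2⟩ := LieClassical.OrthFinite.exists_sing_mem (Q := Q) ⊤ (by rw [finrank_top, h8]; omega)
    refine LieClassical.OmegaCenter.omega_ext ?_
    show LieClassical.OmegaCenter.omegaMat z.1 ^ 2 = 1
    rcases (LieClassical.OmegaCenter.mem_center_omega_iff Q ⟨fun x hx => hQ x hx, fun x hx => hQ x fun y =>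
      (QuadraticMap.polar_comm _ _ _).trans (hx y)⟩ (by omega) ⟨w, h1, h2⟩ z.1).1 z.2 with h | h <;> rw [h]
    exacts [one_pow 2, neg_one_sq]
  refine ⟨?_, dvd_cls_quot Nat.prime_three Nat.prime_two ((pa_om (X := Spc.mk (F := K) (ι → K) fun u _ => Q u)
    (two_ne hr h2) (by decide) Q (fun _ _ => rfl) hQ (h8 ▸ by omega)).congr e') h6 i⟩
  obtain ⟨n, hn⟩ := exists_index_two_pow (Omega K ⇑Q) (H377.mul_self_mem_Omega Q hQ h5)
  rw [← Nat.card_congr e.toEquiv, ← (Omega K ⇑Q).card_mul_index, hn, ← (Subgroup.center (Omega K ⇑Q)).card_mul_index]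
    at h3
  rw [Nat.card_congr i.toEquiv]
  exact (Nat.prime_three.dvd_mul.1 ((Nat.prime_three.dvd_mul.1 h3).resolve_right fun h =>
    absurd (Nat.prime_three.dvd_of_dvd_pow h) (by decide))).resolve_left h6

open Cfsg.Agent.H17.CR Cfsg.Agent.PQ.SS.RB in
theorem three_dvd {K : Type} [Field K] [Fintype K] {Φ : Fam K} {X : Spc K} (hl : H17.CR.Good K 3) (hX : Φ.T 4 1 X) :
    3 ∣ Nat.card X.G := by_contra fun h => by
  have h0 : dd K 3 = 1 := by
    have := hl.two_dd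
    have := hl.dd_pos
    omega
  have h1 := Φ.evT hX hl
  rw [ev_eq_zero h, show NN Φ.bT (dd K 3) (Φ.s 3) 4 1 = 4 from nT_four hl h0] at h1
  exact (nu_lt hl.vv_pos (by decide : 0 < 4)).ne ((nu_zero _ _).trans h1)

end CB

open CB Cfsg.Agent.LieClassical.OrthForms in
/-- **the primes `2`, `3` in `PΩ⁺₈`** -/
theorem p823 : P823 := by
  rintro r S _ _ hr h2 h3 ⟨F, _, _, _, ⟨i⟩⟩
  have : Fact r.Prime := ⟨hr⟩
  obtain ⟨hd, h5⟩ := two_dvd_cls hr h2 _ (nondeg_plusForm 4 F)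
    (by simp only [Fintype.card_sum, Fintype.card_fin]; omega) (coe_plusForm 4 F)
    (three_dvd (Φ := H17.CR.famEven F) (H17.CR.good_of hr Nat.prime_three (by decide) h3) (H17.CR.isOE_plus 4)) i
  obtain ⟨e, hF⟩ := card_eq_pow F r
  obtain ⟨k, _, _, _, X, ⟨s⟩⟩ := (DatX.has_plus8 hF).congr i
  have h4 := Nat.prime_three
  refine .inr (wa_of_all s.sit h4 h3 (tyS.dual X (mx_one _) h4 (by decide)) (czl X h4)
    (boxHi X.D h4 (czl X h4) (tyS.hi X (by decide))) s.sit_π_inj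
    (SS.not_dvd_index s h4 fun h => absurd (h.trans (Nat.gcd_dvd_left _ _)) (by decide)) ?_ hd Nat.prime_two h2 h5)
  rintro _ ⟨j, A, hA, rfl⟩
  refine ⟨((r : ℤ) ^ 2) ^ j, (?_ : ((3 : ℕ) : ℤ) ∣ (r : ℤ) ^ 2 - 1).trans (sub_one_dvd_pow_sub_one _ _), ?_⟩
  · have h5 : ¬ 3 ∣ r := fun h => h3 ((Nat.prime_dvd_prime_iff_eq h4 hr).1 h)
    have h6 : (r : ℤ) % 3 = 1 ∨ (r : ℤ) % 3 = 2 := by omega
    refine Int.dvd_of_emod_eq_zero ?_
    rcases h6 with h6 | h6 <;> simp [pow_two, Int.sub_emod, Int.mul_emod, h6]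
  · show ((r : ℤ) ^ j • A)ᵀ * bS * ((r : ℤ) ^ j • A) = ((r : ℤ) ^ 2) ^ j • bS
    rw [transpose_smul, smul_mul_assoc, smul_mul_assoc, mul_smul_comm, inv_L4 A hA, smul_smul, ← mul_pow, pow_two]

/-- **cross characteristic, symplectic and orthogonal groups** -/
theorem cB : AllC ClB CvX := cB_of semB p823

end Cfsg.Agent.PQ.EA
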