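import Cfsg.Agent.PQ.EA.CvB0
import Cfsg.Agent.PQ.SS.BFam

/-!
# S4982, symplectic and orthogonal groups: witnesses of prime order, two odd primes (helper47)

Copy of `PQ/SS/BFam` with `WZ1`; `w1_four` : the prime `3` in dimension `8`, plus type.
-/

set_option autoImplicit false
set_option linter.unusedSectionVars false

namespace Cfsg.Agent.PQ.EA.CB

open Cfsg Cfsg.Agent.LV.Blk Cfsg.Agent.H17.CR Subgroup Cfsg.Agent.PQ.SS Cfsg.Agent.PQ.SS.RB

section Grp

variable {G H : Type} [Group G] [Group H] [Finite G] {l m : ℕ}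

theorem w1_of (hl : l.Prime) (hm : m.Prime) {x : G} (h1 : x ^ l = 1) (h2 : ev l G ≤ ce l x) (h3 : ce m x < ev m G) :
    WZ1 l m G :=
  ⟨x, h1, (not_dvd_index_iff hl _).2 (le_antisymm (ce_le l x) h2),
    by_contra fun h => h3.ne ((not_dvd_index_iff hm _).1 h)⟩

theorem w1_of_pa (hl : l.Prime) (hm : m.Prime) (h : l ∣ Nat.card G) (h1 : PA m l G) : WZ1 l m G := by
  have := Fact.mk hm
  obtain ⟨y, hy, h2⟩ := exists_cen hl h
  obtain ⟨A, hA, h3⟩ := h1
  refine ⟨y, by rw [← hy, pow_orderOf_eq_one], h2, by_contra fun h4 => ?_⟩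
  obtain ⟨g, hg⟩ := H630.NH.exists_conj_le m A hA _ h4
  have h5 := h3 (g⁻¹ * y * g) (by
    rw [show g⁻¹ * y * g = g⁻¹ * y * g⁻¹⁻¹ by rw [inv_inv], conj_pow, ← hy, pow_orderOf_eq_one, mul_one, mul_inv_cancel])
    fun a ha => by
      rw [show a * (g⁻¹ * y * g) = g⁻¹ * (g * a * g⁻¹ * y) * g by group, mem_centralizer.1 (hg a ha)]
      group
  rw [mul_assoc, inv_mul_eq_one, ← mul_right_inj y⁻¹, inv_mul_cancel_left, ← mul_inv_eq_one, mul_inv_cancel_right,
    inv_eq_one] at h5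
  rw [h5, orderOf_one] at hy
  exact hl.one_lt.ne hy

omit [Finite G] in
theorem w1_congr (h : WZ1 l m G) (e : G ≃* H) : WZ1 l m H := by
  obtain ⟨x, h1, h2, h3⟩ := h
  have h4 := cls_map_dvd e.symm.toMonoidHom e.symm.surjective (e x)
  rw [MulEquiv.toMonoidHom_eq_coe, MonoidHom.coe_coe, e.symm_apply_apply] at h4
  exact ⟨e x, by rw [← map_pow, h1, map_one], fun h5 => h2 (h5.trans (cls_map_dvd e.toMonoidHom e.surjective x)),
    h3.trans h4⟩

theorem w1_normal (hl : l.Prime) (hm : m.Prime) (h : WZ1 l m G) (K : Subgroup G) [K.Normal] (h1 : ¬ l ∣ K.index)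
    (h2 : ¬ m ∣ K.index) : WZ1 l m K := by
  obtain ⟨x, h3, h4, h5⟩ := h
  have h6 : x ∈ K := by
    rw [← QuotientGroup.eq_one_iff]
    refine (pow_eq_one_iff_of_coprime (hl.coprime_iff_not_dvd.2 h1)).1 ⟨?_, pow_card_eq_one'⟩
    rw [← QuotientGroup.mk_pow, h3, QuotientGroup.mk_one]
  exact ⟨⟨x, h6⟩, Subtype.ext h3, fun h7 => h4 (h7.trans (cls_sub_dvd K ⟨x, h6⟩)),
    (hm.dvd_mul.1 (h5.trans (cls_dvd_sub K ⟨x, h6⟩))).resolve_right h2⟩

omit [Finite G] in
theorem w1_quot (hl : l.Prime) (h : WZ1 l m G) (h1 : ¬ l ∣ Nat.card (center G)) : WZ1 l m (G ⧸ center G) := by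
  obtain ⟨x, h3, h4, h5⟩ := h
  have h6 := cls_map_eq hl (QuotientGroup.mk' (center G)) (QuotientGroup.mk'_surjective _)
    (fun z hz g => mem_center_iff.1 ((QuotientGroup.eq_one_iff z).1 hz) g) (by rwa [QuotientGroup.ker_mk'])
    ⟨1, by rw [pow_one, h3]⟩
  exact ⟨QuotientGroup.mk' _ x, by rw [← map_pow, h3, map_one], h6 ▸ h4, h6 ▸ h5⟩

end Grp

variable {F : Type} [Field F] [Fintype F]
variable {Φ : Fam F} (hE : Ext Φ) {n : ℕ} {ε : ℤ} {X M : Spc F} {l m : ℕ}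
variable (hl : H17.CR.Good F l) (hm : H17.CR.Good F m) (hX : Φ.T n ε X)
include hl hm hX

theorem w1_gen {k : ℕ} (hk : k ≤ nT Φ l n ε) {U : Spc F} (hU : Φ.E (k * dd F l) (Φ.s l ^ k) U) {y : U.G} (h1 : y ^ l = 1)
    (h2 : ∀ u, y.1 u = u → u = 0) (h3 : nu l (vv F l) (nT Φ l n ε) ≤ ce l y + nu l (vv F l) (nT Φ l n ε - k))
    (h4 : ce m y + nu m (vv F m) (nT Φ m (n - k * dd F l) (ε * Φ.s l ^ k)) < nu m (vv F m) (nT Φ m n ε)) :
    WZ1 l m X.G := by
  obtain ⟨X', hX', h5⟩ := split hl hX hk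
  obtain ⟨e⟩ := h5 U hU
  refine w1_congr (w1_of hl.prime hm.prime (x := emb U X' (y, 1)) ?_ ?_ ?_) e.symm
  · rw [← map_pow, Prod.pow_mk, h1, one_pow]
    exact map_one _
  · refine le_trans ?_ (ce_emb_ge l y 1)
    rw [ce_one, ← ev_congr l e, Φ.evT hX hl, Φ.evT hX' hl, NN_sub (Φ.sgn hl) hk]
    exact h3
  · refine lt_of_le_of_lt (ev_centralizer_le m (NI.one_right h2) (NI.one_left h2)) ?_
    rw [← ev_congr m e, Φ.evT hX hm]
    refine lt_of_le_of_lt (Nat.add_le_add_left (ce_le m _) _) ?_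
    rw [Φ.evT hX' hm]
    exact h4

include hE in
/-- two blocks -/
theorem w1_two {k k' : ℕ} (hk : k + k' ≤ nT Φ l n ε) (h2 : k' = 0 ∨ 2 * dd F l + 1 < l)
    (h3 : nu l (vv F l) (nT Φ l n ε) ≤ nu l (vv F l) k + nu l (vv F l) k' + nu l (vv F l) (nT Φ l n ε - (k + k')))
    (h4 : nu m (vv F m) (nE Φ m (k * dd F l) (Φ.s l ^ k)) + nu m (vv F m) (nE Φ m (k' * dd F l) (Φ.s l ^ k')) +
      nu m (vv F m) (nT Φ m (n - (k + k') * dd F l) (ε * Φ.s l ^ (k + k'))) < nu m (vv F m) (nT Φ m n ε)) :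
    WZ1 l m X.G := by
  obtain ⟨M, hM, a, ha, h5⟩ := atom Φ hl
  obtain ⟨j, hj, h6, h7⟩ : ∃ j, orderOf (a ^ j) = l ∧ (k' = 0 ∨ NI a.1 (a ^ j).1) ∧ (k' = 0 ∨ NI (a ^ j).1 a.1) := by
    rcases h2 with h2 | h2
    · exact ⟨1, by rw [pow_one, ha], .inl h2, .inl h2⟩
    · obtain ⟨j, h6, h7, h8⟩ := Φ.two hM hl rfl h2 a ha
      exact ⟨j, h6, .inr h7, .inr h8⟩
  have h8 : ∀ (b : M.G) (i : ℕ), orderOf b = l → (RB.dg M i fun _ => b) ^ l = 1 := fun b i hb => by
    rw [← map_pow, ← map_one (RB.dg M i)]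
    exact congrArg _ (funext fun _ => hb ▸ pow_orderOf_eq_one b)
  have h9 : ∀ (b : M.G) (i : ℕ), orderOf b = l → vv F l ≤ ce l b → nu l (vv F l) i ≤ ce l (RB.dg M i fun _ => b) :=
    fun b i hb h => le_trans (Nat.add_le_add_right (Nat.mul_le_mul_left i h) _)
      (ce_dg l (fun h1 => hl.prime.one_lt.ne (by rw [← hb, h1, orderOf_one])) i)
  refine w1_gen hl hm hX hk (U := (pw M k).prod (pw M k')) (by
    rw [add_mul, pow_add]
    exact Φ.addE (hE.pw hM k) (hE.pw hM k')) (y := emb _ _ (RB.dg M k fun _ => a, RB.dg M k' fun _ => a ^ j)) ?_ ?_ ?_ ?_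
  · rw [← map_pow, Prod.pow_mk, h8 a k ha, h8 _ k' hj]
    exact map_one _
  · exact fun u hu => Prod.ext (funext fun i => Φ.fix hM hl rfl a ha _ (congrFun (congrArg Prod.fst hu) i))
      (funext fun i => Φ.fix hM hl rfl _ hj _ (congrFun (congrArg Prod.snd hu) i))
  · exact h3.trans (Nat.add_le_add_right ((Nat.add_le_add (h9 a k ha h5) (h9 _ k' hj (h5.trans (ce_pow l a j)))).trans
      (ce_emb_ge l _ _)) _)
  · refine lt_of_le_of_lt (Nat.add_le_add_right ((ev_centralizer_le m (ni_dg (.inr h6))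
      (ni_dg (h7.elim .inl fun h => .inr (.inr h)))).trans (Nat.add_le_add (ce_le m _) (ce_le m _))) _) ?_
    rw [Φ.evE (hE.pw hM k) hm, Φ.evE (hE.pw hM k') hm]
    exact h4

include hE in
/-- the same atoms -/
theorem w1_same (hd : dd F m = dd F l) (hs : Φ.s m = Φ.s l) {k k' : ℕ} (hk : k + k' ≤ nT Φ l n ε)
    (h2 : k' = 0 ∨ 2 * dd F l + 1 < l) (h3 : ¬ l ∣ (nT Φ l n ε).choose (k + k')) (h4 : ¬ l ∣ (k + k').choose k)
    (h5 : m ∣ (nT Φ l n ε).choose (k + k') ∨ m ∣ (k + k').choose k) : WZ1 l m X.G := by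
  refine w1_two hE hl hm hX hk h2 ?_ ?_
  · rw [nu_eq hk h3, nu_eq (Nat.le_add_right k k') h4, Nat.add_sub_cancel_left]
  · simp only [nE, nT, hd, hs]
    rw [NN_self hl.dd_pos, NN_self hl.dd_pos, NN_sub (Φ.sgn hl) hk]
    rcases h5 with h5 | h5
    · exact lt_of_le_of_lt (Nat.add_le_add_right (nu_add_le _ _ _ _) _) (nu_lt' hm.prime hk h5)
    · have h6 := nu_lt' (v := vv F m) hm.prime (Nat.le_add_right k k') h5
      have h7 := nu_split m (vv F m) hk
      rw [Nat.add_sub_cancel_left] at h6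
      simp only [nT] at h7
      omega

include hE in
/-- atoms of different signs, one block -/
theorem w1_mix (hd : dd F m = dd F l) (hs : Φ.s m ≠ Φ.s l) (h1 : 1 ≤ nT Φ l n ε) (h2 : nT Φ m n ε = n / dd F l) :
    WZ1 l m X.G := by
  obtain ⟨i, h3, h4⟩ := low hl.prime (N := nT Φ l n ε) (by omega)
  have h5 := Nat.le_of_dvd h1 h3
  have h6 : nT Φ l n ε ≤ n / dd F l := NN_le _ _
  have h7 := pow_pos hl.prime.pos i
  refine w1_two hE hl hm hX (k := l ^ i) (k' := 0) h5 (.inl rfl) ?_ ?_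
  · rw [nu_eq h5 h4, nu_zero, add_zero, add_zero]
  · rw [nE_odd hl hm hd hs (hl.prime.odd_of_ne_two hl.ne_two).pow, nE_zero hm, nu_zero, add_zero, h2]
    exact lt_of_le_of_lt ((Nat.add_le_add_left (nu_mono (nT_le hl hd _ _)) _).trans (nu_add_le _ _ _ _))
      (nu_lt hm.vv_pos (by omega))

include hE in
/-- **two odd primes** -/
theorem w1_or (hlt : l < m) (h1 : l ∣ Nat.card X.G) (h2 : m ∣ Nat.card X.G) :
    PT {l, m} X.G ∨ WZ1 l m X.G ∨ WZ1 m l X.G := by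
  rcases lt_trichotomy (dd F l) (dd F m) with hd | hd | hd
  · exact .inr (.inr (w1_of_pa hm.prime hl.prime h2 (Φ.pa hl hm hd n hX)))
  swap
  · exact .inr (.inl (w1_of_pa hl.prime hm.prime h1 (Φ.pa hm hl hd n hX)))
  have h3 := one_le_nT hl hX h1
  have h4 := one_le_nT hm hX h2
  have h5 : 2 * dd F m + 1 < m := hd ▸ hl.two_dd.trans_lt hlt
  have hπ : ∀ p ∈ ({l, m} : Set ℕ), H17.CR.Good F p := by
    rintro p (rfl | rfl)
    exacts [hl, hm]
  by_cases hs : Φ.s l = Φ.s m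
  · have h6 : nT Φ l n ε = nT Φ m n ε := by rw [nT, hd, hs]
    rcases lt_or_ge (nT Φ m n ε) l with h7 | h7
    · obtain ⟨M, hM, a, ha, h8⟩ := atom Φ hm
      by_cases h9 : l ∣ cls a
      · refine .inr (.inr (w1_gen hm hl hX h4 (U := M) (by rwa [one_mul, pow_one]) (ha ▸ pow_orderOf_eq_one a)
          (Φ.fix hM hm rfl a ha) ?_ ?_))
        · rw [nu_eq h4 (by rw [Nat.choose_one_right]; exact Nat.not_dvd_of_pos_of_lt h4 (h7.trans hlt)), nu_one]
          exact Nat.add_le_add_right h8 _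
        · have h10 : ce l a < vv F l := by
            refine lt_of_lt_of_eq (lt_of_le_of_ne (ce_le l a) fun h => (not_dvd_index_iff hl.prime _).2 h h9) ?_
            rw [Φ.evE hM hl, hd, hs, NN_one hm.dd_pos, nu_one]
          have h11 := nu_split l (vv F l) h4
          rw [nu_one] at h11
          rw [h6, nT, hd, hs, NN_sub (Φ.sgn hm) h4]
          simp only [nT] at h11 ⊢
          omega
      · refine .inl ((Φ.sys (π := {l, m}) hm.dd_pos (Φ.sgn hm) hπ (by rintro p (rfl | rfl); exacts [hd, rfl])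
          (by rintro p (rfl | rfl); exacts [hs, rfl])).pt_of_small (fun p hp => (hπ p hp).prime) (M := M)
          (show Φ.E (1 * _) (_ ^ 1) M by rwa [one_mul, pow_one]) ⟨centralizer {a}, ⟨⟨fun x y => Subtype.ext
            (Φ.comm hM hm rfl a ha _ _ (mem_centralizer.1 x.2) (mem_centralizer.1 y.2))⟩⟩, ?_⟩ _ (t := (n, ε)) hX rfl ?_)
        · rintro p (rfl | rfl)
          · exact h9
          · refine (not_dvd_index_iff hm.prime _).2 (le_antisymm (ce_le _ a) ?_)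
            rwa [Φ.evE hM hm, NN_one hm.dd_pos, nu_one]
        · rintro p (rfl | rfl)
          exacts [h7, h7.trans hlt]
    · rcases le_or_gt l (nT Φ m n ε % m) with h8 | h8
      · have h9 : 1 + (l - 1) = l := by have := hl.prime.pos; omega
        refine .inr (.inr (w1_same hE hm hl hX hd hs (k := 1) (k' := l - 1) (by omega) (.inr h5) ?_ ?_ (.inr ?_))) <;>
          rw [h9]
        · exact not_dvd_small hm.prime h8
        · rw [Nat.choose_one_right]
          exact Nat.not_dvd_of_pos_of_lt hl.prime.pos hlt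
        · rw [Nat.choose_one_right]
      · obtain ⟨k, h9, ⟨h10, h11⟩ | ⟨h10, h11⟩⟩ := comb hl.prime hm.prime hlt h7 h8
        · rw [← h6] at h9 h10 h11
          exact .inr (.inl (w1_same hE hl hm hX hd.symm hs.symm (k := k) (k' := 0) h9 (.inl rfl) h10
            (by rw [add_zero, Nat.choose_self]; exact hl.prime.not_dvd_one) (.inl h11)))
        · exact .inr (.inr (w1_same hE hm hl hX hd hs (k := k) (k' := 0) h9 (.inl rfl) h10
            (by rw [add_zero, Nat.choose_self]; exact hm.prime.not_dvd_one) (.inl h11)))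
  by_cases h6 : nT Φ l n ε = n / dd F m
  · exact .inr (.inr (w1_mix hE hm hl hX hd hs h4 h6))
  by_cases h7 : nT Φ m n ε = n / dd F l
  · exact .inr (.inl (w1_mix hE hl hm hX hd.symm (Ne.symm hs) h3 h7))
  obtain ⟨hb, hdv, h8⟩ : Φ.bT ∧ dd F l ∣ n ∧ Φ.s l ^ (n / dd F l) ≠ ε := by
    by_contra h
    exact h6 (hd ▸ if_neg h)
  have h9 : Φ.s m ^ (n / dd F m) ≠ ε := fun h => h7 (hd ▸ if_neg fun h' => h'.2.2 h)
  have h10 : nT Φ l n ε = n / dd F l - 1 := if_pos ⟨hb, hdv, h8⟩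
  have h11 : nT Φ m n ε = n / dd F m - 1 := if_pos ⟨hb, hd ▸ hdv, h9⟩
  have h12 := s_neg hm hl hs
  obtain ⟨N, hN⟩ : ∃ N, n / dd F m = N + 1 := ⟨n / dd F m - 1, by omega⟩
  rw [hd] at h8 h10 hdv
  rw [hN] at h8 h9 h10 h11
  rw [Nat.add_sub_cancel] at h10 h11
  have h13 : Odd N := by
    rw [← Nat.not_even_iff_odd]
    intro h
    rw [h12, h.add_one.neg_pow] at h8
    rcases pm_pow (Φ.sgn hm) (N + 1) with h' | h' <;> rcases Φ.signT hX with h'' | h'' <;> rw [h', h''] at h8 h9 <;>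
      simp at h8 h9
  rcases h3.eq_or_lt with h14 | h14
  · obtain rfl : N = 1 := by omega
    obtain ⟨X', hX', h15⟩ := split hm hX h4
    obtain ⟨M, hM, -⟩ := atom Φ hm
    obtain ⟨e⟩ := h15 M (by rwa [one_mul, pow_one])
    have h16 : n - 1 * dd F m = dd F l := by
      rw [← Nat.div_mul_cancel hdv, hN, hd]
      omega
    have h17 : ε * Φ.s m ^ 1 = Φ.s l := by
      rw [h12, pow_one]
      rcases Φ.sgn hm with h' | h' <;> rcases Φ.signT hX with h'' | h'' <;> rw [h', h''] at h9 ⊢ <;> simp at h9 ⊢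
    rw [h16, h17] at hX'
    have h18 := Φ.toE hb hX'
    obtain ⟨T, g1, g2, g3⟩ := pt_atom hm hl hd hs hM
    obtain ⟨T', g4, g5, g6⟩ := pt_atom hl hm hd.symm (Ne.symm hs) h18
    refine .inl (PT.congr (PT.prod (fun p hp => (hπ p hp).prime) ⟨T, g1, ?_⟩ ⟨T', g4, ?_⟩ ?_) e.symm)
    · rintro p (rfl | rfl)
      exacts [g3, g2]
    · rintro p (rfl | rfl)
      exacts [g5, g6]
    · rintro p (rfl | rfl)
      · rw [← ev_congr _ e, Φ.evT hX hl, Φ.evE hM hl, Φ.evE h18 hl, NN_one hl.dd_pos, ← hd,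
          NN_ne (Φ.bET hb) hl.dd_pos hs, nu_zero, zero_add]
        exact congrArg _ h10
      · rw [← ev_congr _ e, Φ.evT hX hm, Φ.evE hM hm, Φ.evE h18 hm, NN_one hm.dd_pos, hd,
          NN_ne (Φ.bET hb) hm.dd_pos (Ne.symm hs), nu_zero, add_zero]
        exact congrArg _ h11
  by_cases h15 : m ∣ N
  · refine .inr (.inl (w1_two hE hl hm hX (k := N) (k' := 0) h10.ge (.inl rfl) ?_ ?_))
    · rw [h10]
      omega
    · have h16 := nT_le (Φ := Φ) (n := n) hl hd.symm (N + 0) (ε * Φ.s l ^ (N + 0))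
      rw [show n / dd F l - (N + 0) = 1 by rw [hd, hN]; omega] at h16
      rw [nE_odd hl hm hd.symm (Ne.symm hs) h13, nE_zero hm, nu_zero, add_zero, h11, add_comm]
      exact lt_of_le_of_lt (Nat.add_le_add_right (nu_mono h16) _)
        (nu_lt' hm.prime (by omega) (by rwa [Nat.choose_one_right]))
  · obtain ⟨i, h16, h17⟩ := low hm.prime (N := N - 1) (by omega)
    have h18 := Nat.le_of_dvd (by omega) h16
    have h19 := pow_pos hm.prime.pos i
    refine .inr (.inr (w1_two hE hm hl hX (k := 1) (k' := m ^ i) (by omega) (.inr h5) ?_ ?_))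
    · rw [h11, nu_eq (k := 1) (by omega) (by rwa [Nat.choose_one_right]), nu_eq h18 h17, Nat.sub_sub, add_assoc]
    · have h20 := nT_le (Φ := Φ) (n := n) hm hd (1 + m ^ i) (ε * Φ.s m ^ (1 + m ^ i))
      rw [nE_odd hm hl hd hs odd_one, nE_odd hm hl hd hs (hm.prime.odd_of_ne_two hm.ne_two).pow, Nat.sub_self, nu_zero, zero_add, h10]
      exact lt_of_le_of_lt ((Nat.add_le_add_left (nu_mono h20) _).trans (nu_add_le _ _ _ _)) (nu_lt hl.vv_pos (by omega))


omit hX hm in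
theorem nT_four (hd : dd F l = 1) : nT Φ l 4 1 = 4 := by
  have h : Φ.s l ^ (4 / 1) = 1 := by rcases Φ.sgn hl with h | h <;> rw [h] <;> decide
  rw [nT, hd]
  exact if_neg fun h1 => h1.2.2 h

omit hX hl in
include hE in
/-- **the prime three in dimension eight** -/
theorem w1_four (hl : H17.CR.Good F 3) (hX : Φ.T 4 1 X) (hlt : 3 < m) (h2 : m ∣ Nat.card X.G) : WZ1 m 3 X.G := by
  have h0 : dd F 3 = 1 := by
    have := hl.two_dd
    have := hl.dd_pos
    omega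
  rcases (Nat.succ_le_of_lt hm.dd_pos).eq_or_lt with hd | hd
  swap
  · exact w1_of_pa hm.prime hl.prime h2 (Φ.pa hl hm (h0 ▸ hd) 4 hX)
  have h1 : dd F m = 1 := hd.symm
  have h3 := nT_four (Φ := Φ) hl h0
  have h4 := nT_four (Φ := Φ) hm h1
  have h5 : m ≠ 4 := by
    rintro rfl
    exact absurd hm.prime (by decide)
  by_cases hs : Φ.s 3 = Φ.s m
  · refine w1_same hE hm hl hX (h0.trans hd) hs (k := 1) (k' := 2) (by omega) (.inr (by omega)) ?_ ?_ (.inr (by decide))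
    · rw [h4]
      exact Nat.not_dvd_of_pos_of_lt (by decide) (show 4 < m by omega)
    · exact Nat.not_dvd_of_pos_of_lt (by decide) (show 3 < m by omega)
  · exact w1_mix hE hm hl hX (h0.trans hd) hs (by omega) (by rw [h3, h1])

end Cfsg.Agent.PQ.EA.CB
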