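import Cfsg.Agent.PQ.EA.CvB1
import Cfsg.Agent.PQ.SS.BCrs

/-!
# S4982, symplectic and orthogonal groups (helper47): `cB_of : SemB → P823 → AllC ClB CvX`
-/

set_option autoImplicit false
set_option linter.unusedSectionVars false

namespace Cfsg.Agent.PQ.EA.CB

open Cfsg Cfsg.Agent.LV Cfsg.Agent.LV.Blk Cfsg.Agent.H17.CR Subgroup Cfsg.Agent.LieClassical.OrthCore
  Cfsg.Agent.LieClassical.OrthForms Cfsg.Agent.PQ.SS Cfsg.Agent.PQ.SS.RB

section Grp

variable {r : ℕ} {b : Prop} {G H : Type} [Group G] [Group H] [Finite G]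

/-- the alternative for two odd primes; under `b` the prime `3` is never used as the order -/
def Tri1 (r : ℕ) (b : Prop) (G : Type) [Group G] : Prop :=
  ∀ l m : ℕ, l.Prime → m.Prime → l ≠ 2 → l < m → l ≠ r → m ≠ r → l ∣ Nat.card G → m ∣ Nat.card G →
    Com l m G ∨ ((l = 3 → ¬ b) ∧ WZ1 l m G) ∨ WZ1 m l G

theorem Tri1.congr (h : Tri1 r b G) (e : G ≃* H) : Tri1 r b H := fun l m hl hm h1 h2 h3 h4 h5 h6 => by
  rw [← Nat.card_congr e.toEquiv] at h5 h6
  exact (h l m hl hm h1 h2 h3 h4 h5 h6).imp (fun h7 => Red.com_surj hl hm h7 e.toMonoidHom e.surjective)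
    (Or.imp (And.imp_right (w1_congr · e)) (w1_congr · e))

theorem Tri1.normal (h : Tri1 r b G) (K : Subgroup G) [K.Normal] (hK : ∀ g, g * g ∈ K) : Tri1 r b K := by
  intro l m hl hm h1 h2 h3 h4 h5 h6
  obtain ⟨k, hk⟩ := exists_index_two_pow K hK
  have h7 : ∀ p : ℕ, p.Prime → p ≠ 2 → ¬ p ∣ K.index := fun p hp h8 h9 =>
    h8 ((Nat.prime_dvd_prime_iff_eq hp Nat.prime_two).1 (hp.dvd_of_dvd_pow (hk ▸ h9)))
  have h8 : m ≠ 2 := by have := hl.two_le; omega
  exact (h l m hl hm h1 h2 h3 h4 (h5.trans (card_subgroup_dvd_card K)) (h6.trans (card_subgroup_dvd_card K))).imp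
    (fun h9 => Red.com_normal hl hm h9 K)
    (Or.imp (And.imp_right (w1_normal hl hm · K (h7 l hl h1) (h7 m hm h8)))
      (w1_normal hm hl · K (h7 m hm h8) (h7 l hl h1)))

theorem fin (hB : SemB) (h8p : P823) {S : Type} [Group S] [Finite S] (hT : Tri1 r (P8 r S) G)
    (h2 : 2 ≠ r → ∀ q, Odd q → PA 2 q G) (hZ : ∀ z ∈ center G, z ^ 2 = 1) (i : S ≃* G ⧸ center G) (hr : r.Prime)
    (hS : ClB r S) : CvX r S := by
  intro p q hp hq hpq h3 h4 h5 h6 h7
  have h8 : Nat.card S ∣ Nat.card G := Nat.card_congr i.toEquiv ▸ card_quotient_dvd_card _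
  have h9 : q ≠ 2 := by have := hp.two_le; omega
  have h10 : ∀ l m : ℕ, l.Prime → m.Prime → l ≠ 2 → l ≠ r → m ≠ r → m ≠ l → (l = 3 → ¬ P8 r S) → WZ1 l m G → WA l m S :=
    fun l m hl hm g1 g2 g3 g4 g5 h => (hB r l S hr hl g2 g1 hS g5).of_wz1 hm g4 g3
      (w1_congr (w1_quot hl h (not_dvd_sq hl g1 fun z => Subtype.ext (hZ z.1 z.2))) i.symm)
  by_cases h : p = 2
  · subst h
    by_cases h11 : q = 3 → ¬ P8 r S
    · exact .inr (h10 q 2 hq hp h9 h4 h3 hpq.ne h11 (w1_of_pa hq hp (h6.trans h8) (h2 h3 q (hq.odd_of_ne_two h9))))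
    · obtain ⟨rfl, h12⟩ := Classical.not_imp.1 h11
      exact h8p r S hr h3 h4 (not_not.1 h12)
  · rcases hT p q hp hq h hpq h3 h4 (h5.trans h8) (h6.trans h8) with h11 | h11 | h11
    · exact absurd (Red.com_surj hp hq h11 (i.symm.toMonoidHom.comp (QuotientGroup.mk' _))
        (i.symm.surjective.comp (QuotientGroup.mk'_surjective _))) h7
    · exact .inl (h10 p q hp hq h h3 h4 hpq.ne' h11.1 h11.2)
    · exact .inr (h10 q p hq hp h9 h4 h3 hpq.ne (fun e => by have := hp.two_le; omega) h11)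

end Grp

variable {F : Type} [Field F] [Fintype F] {r : ℕ} {b : Prop}

theorem tri_fam {Φ : Fam F} (hE : Ext Φ) (hr : r.Prime) [CharP F r] {n : ℕ} {ε : ℤ} {X : Spc F} (hX : Φ.T n ε X)
    (hb : ¬ b) : Tri1 r b X.G := fun l m hl hm h1 h2 h3 h4 h5 h6 =>
  (w1_or hE (good_of hr hl h1 h3) (good_of hr hm (by have := hl.two_le; omega) h4) hX h2 h5 h6).imp
    (com_of_pt hl hm) (Or.imp_left fun h => ⟨fun _ => hb, h⟩)

theorem tri_four {Φ : Fam F} (hE : Ext Φ) (hr : r.Prime) [CharP F r] {X : Spc F} (hX : Φ.T 4 1 X) :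
    Tri1 r b X.G := fun l m hl hm h1 h2 h3 h4 h5 h6 => by
  have h7 := good_of (F := F) hr hm (by have := hl.two_le; omega) h4
  by_cases h : l = 3
  · subst h
    exact .inr (.inr (w1_four hE h7 (good_of hr hl h1 h3) hX h2 h6))
  · exact (w1_or hE (good_of hr hl h1 h3) h7 hX h2 h5 h6).imp (com_of_pt hl hm)
      (Or.imp_left fun h8 => ⟨fun e => absurd e h, h8⟩)

theorem finO (hB : SemB) (h8p : P823) [CharP F r] {ι : Type} [Fintype ι] [DecidableEq ι] (Q : QuadraticForm F (ι → F))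
    (hQ : Nondeg Q) (h5 : 5 ≤ Fintype.card ι) {f : (ι → F) → F} (hf : ⇑Q = f) {S : Type} [Group S] [Finite S]
    (hT : Tri1 r (P8 r S) (Spc.mk (F := F) (ι → F) fun u _ => f u).G) (i : S ≃* POmega F f) (hr : r.Prime)
    (hS : ClB r S) : CvX r S := by
  subst hf
  have e : isometryGroup F ⇑Q ≃* (Spc.mk (F := F) (ι → F) fun u _ => Q u).G :=
    H749.isoEquiv (j := LinearEquiv.refl F _) (c := 1) ⟨one_ne_zero, fun x y => (one_mul _).symm⟩
  have h8 : Module.finrank F (ι → F) = Fintype.card ι := Module.finrank_fintype_fun_eq_card F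
  refine fin hB h8p ((hT.congr e.symm).normal (Omega F ⇑Q) (H377.mul_self_mem_Omega Q hQ h5)) (fun h q hq => ?_)
    (fun z hz => ?_) i hr hS
  · obtain ⟨e'⟩ := comm_equiv e.symm
    exact (pa_om (X := Spc.mk (F := F) (ι → F) fun u _ => Q u) (two_ne hr h) hq Q (fun _ _ => rfl) hQ
      (h8 ▸ by omega)).congr e'
  · obtain ⟨w, -, h1, h2⟩ := LieClassical.OrthFinite.exists_sing_mem (Q := Q) ⊤ (by rw [finrank_top, h8]; omega)
    refine LieClassical.OmegaCenter.omega_ext ?_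
    show LieClassical.OmegaCenter.omegaMat z ^ 2 = 1
    rcases (LieClassical.OmegaCenter.mem_center_omega_iff Q ⟨fun x hx => hQ x hx, fun x hx => hQ x fun y =>
      (QuadraticMap.polar_comm _ _ _).trans (hx y)⟩ (by omega) ⟨w, h1, h2⟩ z).1 hz with h | h <;> rw [h]
    exacts [one_pow 2, neg_one_sq]

/-- **cross characteristic, symplectic and orthogonal groups** -/
theorem _root_.Cfsg.Agent.PQ.EA.cB_of (hB : SemB) (h8p : P823) : AllC ClB CvX := by
  intro r S _ _ _ _ hr hS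
  by_cases hb : P8 r S
  · obtain ⟨F, _, _, _, ⟨i⟩⟩ := id hb
    exact finO hB h8p _ (nondeg_plusForm 4 F) (by simp only [Fintype.card_sum, Fintype.card_fin]; omega)
      (coe_plusForm 4 F) (tri_four ext_even hr (isOE_plus 4)) i hr hS
  rcases id hS with h | h | h | h
  · obtain ⟨F, _, _, _, n, h1, -, ⟨i⟩⟩ := h
    obtain ⟨e⟩ := (isSp_std (F := F) n).equiv
    exact fin hB h8p ((tri_fam ext_sp hr (n := n) (ε := 1) ⟨isSp_std n, .inl rfl⟩ hb).congr e.symm)
      (fun h q hq => (pa_sp (two_ne hr h) hq n (isSp_std n)).congr e.symm) (sq_cen_sp (by omega)) i hr hS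
  · obtain ⟨F, _, _, _, n, h1, h2, ⟨i⟩⟩ := h
    have h5 : (2 : F) ≠ 0 := H377.OOdd.two_ne_zero_of_odd (by rwa [Nat.card_eq_fintype_card])
    exact finO hB h8p _ (nondeg_oddForm n F h5)
      (by simp only [Fintype.card_sum, Fintype.card_fin, Fintype.card_unit]; omega)
      (coe_oddForm n F) (tri_fam (ext_odd h2 h5) hr (n := n) (ε := 1) ⟨isOO_std h5 n, .inl rfl⟩ hb) i hr hS
  · obtain ⟨F, _, _, _, n, h1, ⟨i⟩⟩ := h
    exact finO hB h8p _ (nondeg_plusForm n F) (by simp only [Fintype.card_sum, Fintype.card_fin]; omega)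
      (coe_plusForm n F) (tri_fam ext_even hr (isOE_plus n) hb) i hr hS
  · obtain ⟨F, _, _, _, n, a, b, h1, h2, ⟨i⟩⟩ := h
    exact finO hB h8p _ (nondeg_minusForm (n - 1) F a b h2) (by simp only [Fintype.card_sum, Fintype.card_fin]; omega)
      (coe_minusForm (n - 1) F a b) (tri_fam ext_even hr (isOE_minus (n - 1) h2) hb) i hr hS

end Cfsg.Agent.PQ.EA.CB
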