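import Cfsg.Agent.PQ.EA.Defs
import Cfsg.Agent.H78.Inc.Uniq

/-!
# S4982: the Steinberg character is an invariant witness (helper18)
-/

set_option autoImplicit false

namespace Cfsg.Agent.PQ.EA

open Cfsg

attribute [local instance] H687.autAct

/-- **invariant witnesses in the defining characteristic** -/
theorem cd : AllC (fun r S _ => IsLieTypeChar r S) CvD := by
  intro r S _ _ hs _ hr hL q hq hqr A _
  have := Fact.mk hr
  have hd := H78.Inc.dvd_card_lie hr hL
  obtain ⟨α, -, h2⟩ := H66.Cod.ndeg_steinberg hr hL hd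
  have hS := H716.SplitAb.hasSplitAb_of_lie hr hL
  have h4 : ¬ r ∣ Nat.card S / charDegree (α : S → ℂ) :=
    H66.Cod.not_dvd_div hr Nat.card_pos.ne' (H674.Codegree.charDegree_dvd_card α.2) (by rw [h2])
  refine ⟨α, fun σ _ => (H687.smul_eq_iff σ α).1 (H330.GowOne.unique_of_hasSplitAb hS
    (H330.Gow.perfect_of_split (H330.Gow.hasSplit_of_ab hS)) _ _ (by rwa [H687.charDegree_smul]) h4), fun h => hqr ?_, ?_⟩
  · rw [dg, h2] at h
    exact (Nat.prime_dvd_prime_iff_eq hq hr).1 (hq.dvd_of_dvd_pow h)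
  · rw [dg, h2]
    exact dvd_pow_self r (hr.factorization_pos_of_dvd Nat.card_pos.ne' hd).ne'

end Cfsg.Agent.PQ.EA
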