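import Cfsg.Agent.PQ.EA.Defs3
import Cfsg.Agent.PQ.SS.SemiP
import Cfsg.Agent.PQ.Fa.Core

/-!
# S4982: invariant semisimple characters (helper74)

* `RW_aut` : an automorphism with the matrix `u • Wm v` raises the labels to the power `u`; `fix_of_dn`;
* `coreA` (with the hypothesis that `ss` is a generalized character), **`boxSemA`**;
* `semiA_of` (good primes), `semiA_gn`, `semiA_of_out`.
-/

set_option autoImplicit false
set_option linter.unusedSectionVars false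
set_option maxHeartbeats 400000

namespace Cfsg.Agent.PQ.EA

open Cfsg Cfsg.Agent.DL Cfsg.Agent.DL.PP Cfsg.Agent.DL.Uni Cfsg.Agent.DL.Asm Cfsg.Agent.KZ Cfsg.Agent.KZ.Lie
  Cfsg.Agent.LV.Blk Cfsg.Agent.KZ.ClD Cfsg.Agent.Characters.Core Matrix Cfsg.Agent.Nodes.Reps Cfsg.Agent.PQ.SS

namespace SemA

/-- a constituent of the same degree is the restriction -/
theorem res_of_deg {A : Type} [Group A] [Finite A] {N : Subgroup A} {χ : IrrCharacter A} {θ : IrrCharacter ↥N}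
    (h : KZ.Red.Over N χ θ) (e : charDegree (χ : A → ℂ) = charDegree (θ : ↥N → ℂ)) (n : ↥N) :
    (χ : A → ℂ) n = (θ : ↥N → ℂ) n := by
  classical
  have := Fintype.ofFinite A
  have := Fintype.ofFinite ↥N
  have := @Fintype.ofFinite _ (finite_irr (G := ↥N))
  obtain ⟨m, hm⟩ := exists_nat_comb (Characters.Clifford.isCharacter_restrict N (isIrr_isCharacter χ.2))
  have hm' : (fun n : ↥N => (χ : A → ℂ) n) = ∑ ψ : IrrCharacter ↥N, m ψ • (ψ : ↥N → ℂ) := hm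
  have h1 : m θ ≠ 0 := fun h0 => Res.over_iff.1 h (by rw [hm', classInner_sum_nsmul_irr, h0, Nat.cast_zero])
  have h2 : ∀ ψ : IrrCharacter ↥N, 0 < charDegree (ψ : ↥N → ℂ) := fun ψ => Nat.pos_of_ne_zero fun e =>
    isIrr_apply_one_ne_zero ψ.2 (by rw [Blocks.Basic.irr_one_eq_charDegree ψ.2, e, Nat.cast_zero])
  have h3 := congrFun hm' 1
  rw [OneMemClass.coe_one, Blocks.Basic.irr_one_eq_charDegree χ.2, Finset.sum_apply, e,
    Finset.sum_congr rfl fun ψ _ => show (m ψ • (ψ : ↥N → ℂ)) 1 = ((m ψ * charDegree (ψ : ↥N → ℂ) : ℕ) : ℂ) by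
      rw [Pi.smul_apply, Blocks.Basic.irr_one_eq_charDegree ψ.2, nsmul_eq_mul, Nat.cast_mul], ← Nat.cast_sum,
    Nat.cast_inj, ← Finset.add_sum_erase _ _ (Finset.mem_univ θ)] at h3
  have h4 := Nat.le_mul_of_pos_left (charDegree (θ : ↥N → ℂ)) (Nat.pos_of_ne_zero h1)
  have h5 : m θ = 1 := Nat.eq_of_mul_eq_mul_right (h2 θ) (by omega)
  have h6 := Finset.sum_eq_zero_iff.1
    (show ∑ ψ ∈ Finset.univ.erase θ, m ψ * charDegree (ψ : ↥N → ℂ) = 0 by omega)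
  refine (congrFun hm' n).trans ?_
  rw [Finset.sum_eq_single θ (fun ψ _ h7 => by
    rw [(mul_eq_zero.1 (h6 ψ (Finset.mem_erase.2 ⟨h7, Finset.mem_univ _⟩))).resolve_right (h2 ψ).ne', zero_smul])
    fun h => (h (Finset.mem_univ _)).elim, h5, one_smul]

variable {p : ℕ} [Fact p.Prime] {k : Type} [Field k] [CharP k p] {Y : Type} [Group Y] {N : Type} [Fintype N]
  [DecidableEq N] {ρ : Y →* GL N k} {F : MulAut Y} {G : Subgroup Y} [IsAlgClosed k] {D : Datum p ρ F G} {l j n : ℕ}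
  {v : D.R → ℤ} {B : Matrix D.R D.R ℤ} [Fintype ↥(GF F G)] (f : Fr D) {w : D.W} {c : Lbl D}

theorem fx_zpow (h : Fx D w c) (u : ℤ) : Fx D w (c ^ u) := fun z => by rw [map_zpow, map_zpow, h]

variable {f} in
/-- the automorphisms with a scalar matrix modulo the Weyl group -/
theorem RW_aut (hA : Api f) {α : MulAut Y} {u : ℤ} {a : D.W} (h : Au D α (u • D.Wm a)) (hc : Fx D w c)
    (g : ↥(GF F G)) : RW f w c (h.aut g) = RW f w (c ^ u) g := by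
  have h0 : u ≠ 0 ∨ IsEmpty D.R := by
    by_contra h1
    rw [not_or, not_not, not_isEmpty_iff] at h1
    have := h1.2
    exact h.det_ne (by rw [h1.1, zero_smul, det_zero])
  have h1 : D.Fw a = a := D.Wm_injective ((reg_of_det D.det_Mx_ne_zero).right (by
    rcases h0 with h0 | h0
    · have h2 := h.comm_Mx
      rw [smul_mul_assoc, mul_smul_comm] at h2
      exact (D.Mx_Wm a).symm.trans (smul_right_injective _ h0 h2).symm
    · exact Subsingleton.elim _ _))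
  have h2 := ((hA.aut α _ h).2 (a⁻¹ * w * a) w (mon (D.Wm a)ᵀ (c ^ u)) c (by
    rw [smul_mul_assoc, mul_smul_comm, ← D.Wm_mul, ← D.Wm_mul, mul_assoc a⁻¹, mul_inv_cancel_left])
    (fun z => by rw [chr_tr, smul_mulVec, chr_zsmul, map_zpow]) hc).2 g (h.aut g) rfl
  rw [h2, hA.conj a (a⁻¹ * w * a) w _ (c ^ u) (by rw [Tc, h1, mul_assoc a⁻¹, mul_inv_cancel_left])
    fun z => (chr_tr D _ z _).symm]

variable {Adm : Matrix D.R D.R ℤ → Prop} {S : Type} [Group S] (s : Sit D Adm S)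

/-- **the invariance** -/
theorem fix_of_dn (hl : l.Prime) (hn : ¬ l ∣ n) (hAdm : ∀ A, Adm A → ∃ (u : ℤ) (v : D.W), A ^ n = u • D.Wm v)
    (h : Fx D w c) (hc : c ^ l = 1) {χ : IrrCharacter ↥(GF F G)} {ε : ℂ} (e : (χ : GF F G → ℂ) = ε • ss f w c)
    {ψ : IrrCharacter S} (hd : s.Dn χ ψ) {A : Subgroup (MulAut S)} (hA : IsPGroup l A) : Fix A ψ := by
  intro σ hσ
  have : Fact l.Prime := ⟨hl⟩
  obtain ⟨i, hi⟩ := hA ⟨σ, hσ⟩
  replace hi : σ ^ l ^ i = 1 := congrArg Subtype.val hi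
  obtain ⟨g, hg, α, A', h1, h2, L⟩ := s.aut σ
  obtain ⟨u, a, hu⟩ := hAdm A' h2
  have key : ∀ (m : ℕ) (x : s.H0), (ψ : S → ℂ) ((σ ^ (n * m)) (s.π x)) =
      ε * avg f (Wc D c) (fun _ => 1) w (c ^ u ^ m) ⟨x, s.le x.2⟩ := fun m x => by
    obtain ⟨h3, g', h4, L'⟩ := Fa.lt_pow hg h1 L (n * m)
    obtain ⟨x', e1, e2⟩ := L' x
    have h5 : A' ^ (n * m) = u ^ m • D.Wm (a ^ m) := by
      rw [pow_mul, hu, smul_pow]
      exact congrArg _ (map_pow D.WmHom a m).symm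
    rw [h5] at h3
    rw [← e2, hd, show (⟨x', s.le x'.2⟩ : GF F G) = ⟨g', h4⟩ * h3.aut ⟨x, s.le x.2⟩ * (⟨g', h4⟩ : GF F G)⁻¹ from
      Subtype.ext e1, isIrr_isClassFunction χ.2, e, Pi.smul_apply, smul_eq_mul, ss, avg, avg]
    congr 2
    exact finsum_congr fun y => congrArg _ (RW_aut (Mts.boxApi f s.qs) h3 (h.mul y.2) _)
  have h6 : c ^ u ^ l ^ i = c ^ u ^ 1 := by
    obtain ⟨d, hd⟩ := (ZMod.intCast_zmod_eq_zero_iff_dvd (u ^ l ^ i - u) l).1 (by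
      rw [Int.cast_sub, Int.cast_pow, ZMod.pow_card_pow, sub_self])
    rw [sub_eq_iff_eq_add.1 hd, _root_.zpow_add, _root_.zpow_mul, zpow_natCast, hc, _root_.one_zpow, one_mul, pow_one]
  have h7 : ∀ x, (ψ : S → ℂ) ((σ ^ n) x) = (ψ : S → ℂ) x := fun x => by
    obtain ⟨x, rfl⟩ := s.surj x
    have h8 := key 1 x
    rwa [← h6, ← key, mul_one, mul_comm, pow_mul, hi, one_pow, MulAut.one_apply] at h8
  obtain ⟨m, hm⟩ := exists_pow_eq_self_of_coprime (x := σ) (n := n) (Nat.Coprime.coprime_dvd_right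
    (orderOf_dvd_of_pow_eq_one hi) ((hl.coprime_iff_not_dvd.2 hn).symm.pow_right i))
  rw [← hm]
  clear hm
  induction m with
  | zero => exact fun _ => rfl
  | succ m ih => exact fun x => by rw [pow_succ', MulAut.mul_apply, h7, ih]

/-- descent to the simple group -/
theorem down (hl : l.Prime) (h : Fx D w c) (hc : IsL l c) (hz : s.Z1 f c) {χ : IrrCharacter ↥(GF F G)} {ε : ℂ}
    (hε : ε = 1 ∨ ε = -1) (e : (χ : GF F G → ℂ) = ε • ss f w c) (hd : ¬ l ∣ dg χ) :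
    ∃ ψ : IrrCharacter S, s.Dn χ ψ := by
  have := s.normal
  have h0 : ε ≠ 0 := by rcases hε with rfl | rfl <;> simp
  have hne : classInner χ.1 (RW f w c) ≠ 0 := by
    rw [e, classInner_smul_left, ss_ip f h, mul_one]
    exact h0
  obtain ⟨θ, hθ⟩ := Res.exists_under s.H1 χ
  obtain ⟨i, h1, -⟩ := ratio_pow hl s.comm1 hθ fun μ h1 h2 => by
    obtain ⟨cl, -, -, h3, h4⟩ := (Mts.boxApi f s.qs).lin μ fun u hu => h1 u (s.uni u u.2 hu)
    have h5 : classInner χ.1 (RW f w (c * cl)) ≠ 0 := by rwa [ip_twist h4 fun g => (h2 g).symm]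
    obtain ⟨v, hv⟩ : ∃ v, Rel D v c (c * cl) := by
      by_contra h6
      rw [e, classInner_smul_left, TF.Mix.ip_ser_ne _ (not_exists.1 h6), mul_zero] at h5
      exact h5 rfl
    obtain ⟨j, hj⟩ := hc.inv.mul (isL_rel hv hc)
    exact ⟨j, (h3 _).2 (by rwa [inv_mul_cancel_left] at hj)⟩
  obtain rfl : i = 0 := by_contra fun h2 => hd (((dvd_pow_self l h2).mul_left _).trans h1.symm.dvd)
  have h2 := res_of_deg hθ (h1.trans (mul_one _))
  obtain ⟨ψ, rfl⟩ := DGen.exists_push s.π1 s.π1_surj (θ := θ) fun z h => by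
    rw [← h2, ← h2]
    exact s.ker_of_zw hne (fun z hz' => hz z hz' w) ⟨z.1, z.2⟩ h
  exact ⟨ψ, s.dn_iff.2 h2⟩

/-- the character of `G ^ F` -/
theorem chi (hq : D.QS) (hl : l.Prime) (hB : Dual D l B) (hZ : CZl D l) (x : ↥(GF F G)) {ζ : kˣ} {y : Y}
    (hζ : IsPrimitiveRoot ζ (l ^ j)) (hy : y ∈ G) (hN : y⁻¹ * F y ∈ D.NN)
    (hx : (x : Y) = y * D.τ (coch v ζ) * y⁻¹) (hg : ∀ (ξ : ℂˣ) w, IsPrimitiveRoot ξ (l ^ j) →
      Fx D w (coch (B *ᵥ v) ξ) → IsGeneralizedCharacter ↥(GF F G) (ss f w (coch (B *ᵥ v) ξ))) :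
    ∃ (ξ : ℂˣ) (w : D.W) (χ : IrrCharacter ↥(GF F G)) (ε : ℂ), IsPrimitiveRoot ξ (l ^ j) ∧ Fx D w (coch (B *ᵥ v) ξ) ∧
      (ε = 1 ∨ ε = -1) ∧ (χ : GF F G → ℂ) = ε • ss f w (coch (B *ᵥ v) ξ) ∧ ¬ p ∣ dg χ ∧ ∃ i : ℕ, dg χ * p ^ i = cls x := by
  have hw := D.rp_pr hN
  have hF : F (y * D.τ (coch v ζ) * y⁻¹) = y * D.τ (coch v ζ) * y⁻¹ := hx ▸ x.2.2
  obtain ⟨ξ, hξ⟩ : ∃ ξ : ℂˣ, IsPrimitiveRoot ξ (l ^ j) := by
    have h1 : l ^ j ≠ 0 := pow_ne_zero _ hl.ne_zero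
    have := Complex.isPrimitiveRoot_exp _ h1
    exact ⟨(this.isUnit h1).unit, this.isUnit_unit h1⟩
  obtain ⟨w, e⟩ : ∃ w, D.Fw (hB.dl w) = D.pr (y⁻¹ * F y) :=
    ⟨hB.dl.symm (D.Fw.symm _), by rw [Equiv.apply_symm_apply, MulEquiv.apply_symm_apply]⟩
  have h1 : Fx D w (coch (B *ᵥ v) ξ) := by
    refine (fix_iff hξ _).2 ?_
    have h2 := hF
    rw [F_cj_τ hw, mul_left_inj, mul_right_inj, mon_coch] at h2
    rw [← vecMul_vecMul, hB.vecMul_B, ← mulVec_transpose, mulVec_mulVec, hB.mx, ← mulVec_mulVec, mulVec_mulVec v,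
      D.Mx_Wm, e]
    exact ((coch_eq_iff hζ).1 (D.τ_inj h2)).mulVec B
  obtain ⟨χ, ε, h3, h4⟩ : ∃ (χ : IrrCharacter ↥(GF F G)) (ε : ℂ), (ε = 1 ∨ ε = -1) ∧
      (χ : GF F G → ℂ) = ε • ss f w (coch (B *ᵥ v) ξ) := by
    rcases isIrr_of_generalized (hg ξ w hξ h1) (ss_norm f h1) with h1 | h1
    exacts [⟨⟨_, h1⟩, 1, .inl rfl, (one_smul _ _).symm⟩, ⟨⟨_, h1⟩, -1, .inr rfl, (neg_one_smul _ _).symm⟩]
  have hS : SY (D.conj hy hN) ((l ^ j : ℕ) : ℤ) v = SY D ((l : ℤ) ^ j) v := Subgroup.ext fun u => by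
    show Cg _ ((D.conj hy hN).Wm u *ᵥ v) v ↔ Cg _ (D.Wm u *ᵥ v) v
    rw [conj_Wm, Nat.cast_pow]
  obtain ⟨C, h8, ε', h9, h10⟩ := cen_std (D := D.conj hy hN) (v := v) hζ hF fun H hH => by
    rw [hS]
    exact hB.steinberg' hl hZ fun a ha hd => hH a ha (by rwa [Nat.cast_pow])
  have h11 : (Nat.card (Wc D (coch (B *ᵥ v) ξ)) : ℂ)⁻¹ * (∑ᶠ u : Wc D (coch (B *ᵥ v) ξ), sg D (u * w) / ordT D (u * w)) *
      pc' p (GF F C) = sg D w * ε' := by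
    let q : Wc D (coch (B *ᵥ v) ξ) ≃ SY (D.conj hy hN) ((l ^ j : ℕ) : ℤ) v := hB.dl.subtypeEquiv fun u => by
      rw [hS, Wc_eq hξ, Nat.cast_pow]
      exact hB.stab hl j v u
    have := Fintype.ofFinite (Wc D (coch (B *ᵥ v) ξ))
    rw [← h10, ← finsum_comp_equiv q, ← Nat.card_congr q, finsum_eq_sum_of_fintype, finsum_eq_sum_of_fintype,
      ← mul_assoc, mul_left_comm, Finset.mul_sum _ _ (sg D w)]
    congr 2
    refine Finset.sum_congr rfl fun u _ => ?_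
    rw [conj_sg', hB.ordT_dl, e, sg_mul, ← hB.sg_dl u, mul_comm, mul_div_assoc, ordT, ordT, conj_Wm, D.conj_Mx, D.Wm_mul,
      mul_assoc]
    rfl
  have h12 : charDegree (χ : GF F G → ℂ) * pc' p (GF F C) = pc' p (GF F G) := by
    refine nat_of_sign (ε := ε * (sg D w * ε')) ?_ ?_
    · rcases h3 with rfl | rfl <;> rcases h9 with rfl | rfl <;> rcases sg_sign D w with h | h <;> simp [h]
    · rw [Nat.cast_mul, ← Blocks.Basic.irr_one_eq_charDegree χ.2, h4, Pi.smul_apply, ss_one f hq h1, smul_eq_mul, ← h11]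
      ring
  have h13 : GF F C ≤ GF F G := fun g hg => ⟨((h8 g).1 hg.1).1, hg.2⟩
  have h14 : Subgroup.centralizer {x} = (GF F C).subgroupOf (GF F G) := Subgroup.ext fun g => by
    rw [Subgroup.mem_subgroupOf, mem_GF, h8, Subgroup.mem_centralizer_singleton_iff,
      Subgroup.mem_centralizer_singleton_iff, Subtype.ext_iff, D.conj_tau, ← hx]
    exact ⟨fun h => ⟨⟨g.2.1, h⟩, g.2.2⟩, fun h => h.1.2⟩
  have h15 : cls x * Nat.card (GF F C) = Nat.card (GF F G) := by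
    rw [← Nat.card_congr (Subgroup.subgroupOfEquivOfLe h13).toEquiv, ← h14]
    exact Subgroup.index_mul_card _
  have h17 : Nat.card (GF F C) ≠ 0 := fun e => by
    rw [e, mul_zero] at h15
    exact Nat.card_pos.ne h15
  have h16 : (Nat.card (GF F C)).factorization p ≤ (Nat.card (GF F G)).factorization p :=
    Nat.factorization_le_factorization_of_dvd_right (Dvd.intro_left _ h15) h17 Nat.card_pos.ne'
  refine ⟨ξ, w, χ, ε, hξ, h1, h3, h4, fun hd => Nat.not_dvd_ordCompl (Fact.out : p.Prime)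
    (Nat.card_pos (α := GF F G)).ne' (hd.trans (Dvd.intro _ h12)),
    (Nat.card (GF F G)).factorization p - (Nat.card (GF F C)).factorization p, mul_right_cancel₀ h17 ?_⟩
  have h18 := pc_mul_pc' p (GF F C)
  have h19 := pc_mul_pc' p (GF F G)
  rw [pc] at h18 h19
  obtain ⟨d, hd⟩ := Nat.exists_eq_add_of_le h16
  rw [hd, pow_add, ← h12] at h19
  rw [h15, hd, Nat.add_sub_cancel_left, ← h19]
  generalize p ^ (Nat.card (GF F C)).factorization p = t at h18 ⊢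
  rw [← h18]
  ring

end SemA

variable {p : ℕ} [Fact p.Prime] {k : Type} [Field k] [CharP k p] {Y : Type} [Group Y] {N : Type} [Fintype N]
  [DecidableEq N] {ρ : Y →* GL N k} {F : MulAut Y} {G : Subgroup Y} [IsAlgClosed k] {D : Datum p ρ F G} {l j n : ℕ}
  {v : D.R → ℤ} {B : Matrix D.R D.R ℤ} [Fintype ↥(GF F G)] (f : Fr D)
  {Adm : Matrix D.R D.R ℤ → Prop} {S : Type} [Group S] (s : Sit D Adm S)

/-- the conclusion of `coreA` -/
def OutA (p l : ℕ) (S : Type) [Group S] (m : ℕ) : Prop := ∀ A : Subgroup (MulAut S), IsPGroup l A →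
  ∃ θ : IrrCharacter S, Fix A θ ∧ ¬ p ∣ dg θ ∧ ∃ j : ℕ, dg θ * p ^ j = m

/-- **The invariant character of an element of order `l`.** -/
theorem coreA (hl : l.Prime) (hB : Dual D l B) (hZ : CZl D l) (hK : Ker f s l B) (hn : ¬ l ∣ n)
    (hAdm : ∀ A, Adm A → ∃ (u : ℤ) (v : D.W), A ^ n = u • D.Wm v) (x : ↥(GF F G)) (h0 : (x : Y) ∈ s.H0) {ζ : kˣ} {y : Y}
    (hζ : IsPrimitiveRoot ζ (l ^ j)) (hy : y ∈ G) (hN : y⁻¹ * F y ∈ D.NN) (hx : (x : Y) = y * D.τ (coch v ζ) * y⁻¹)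
    (hg : ∀ (ξ : ℂˣ) w, IsPrimitiveRoot ξ (l ^ j) → Fx D w (coch (B *ᵥ v) ξ) →
      IsGeneralizedCharacter ↥(GF F G) (ss f w (coch (B *ᵥ v) ξ))) (h1 : x ^ l = 1) (h2 : ¬ l ∣ cls x) :
    OutA p l S (cls x) := fun A hA => by
  obtain ⟨ξ, w, χ, ε, hξ, h3, h4, h5, h6, i, h7⟩ := SemA.chi f s.qs hl hB hZ x hζ hy hN hx hg
  obtain ⟨ψ, h8⟩ := SemA.down f s hl h3 ⟨j, by rw [← map_pow, hξ.pow_eq_one, map_one]⟩
    (hK j ζ v y ξ hζ hξ.pow_eq_one hy (hx ▸ h0)) h4 h5 fun h => h2 (h7 ▸ h.mul_right _)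
  have h9 : coch v ζ ^ l = 1 := D.τ_inj (by
    have h10 : (x : Y) ^ l = 1 := congrArg Subtype.val h1
    rw [hx, conj_pow, mul_inv_eq_one, mul_eq_left] at h10
    rw [map_pow, h10, map_one])
  refine ⟨ψ, SemA.fix_of_dn f s hl hn hAdm h3 (funext fun r => ?_) h5 h8 hA, by rwa [dg, h8.deg], i, by rwa [dg, h8.deg]⟩
  rw [Pi.pow_apply, coch_apply, ← zpow_natCast, ← _root_.zpow_mul, Pi.one_apply, hξ.zpow_eq_one_iff_dvd, mulVec,
    dotProduct, Finset.sum_mul]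
  refine Finset.dvd_sum fun r' _ => ?_
  have h10 := congrFun h9 r'
  rw [Pi.pow_apply, coch_apply, ← zpow_natCast, ← _root_.zpow_mul, Pi.one_apply, hζ.zpow_eq_one_iff_dvd] at h10
  exact mul_assoc (B r r') _ _ ▸ h10.mul_left _

theorem outA_form (hl : l.Prime) (hB : Dual D l B) (hZ : CZl D l) (hK : Ker f s l B) (hn : ¬ l ∣ n)
    (hAdm : ∀ A, Adm A → ∃ (u : ℤ) (v : D.W), A ^ n = u • D.Wm v) (x : ↥(GF F G)) (h0 : (x : Y) ∈ s.H0)
    (h : Form D l x) (h1 : x ^ l = 1) (h2 : ¬ l ∣ cls x) : OutA p l S (cls x) :=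
  let ⟨_, _, _, _, hζ, hy, hN, hx, hv⟩ := h
  coreA f s hl hB hZ hK hn hAdm x h0 hζ hy hN hx (gen_of_lev f s.qs hl hB hZ hv) h1 h2

theorem outA_gn (hl : l.Prime) (hp : l ≠ p) (hB : Dual D l B) (hZ : CZl D l) (hK : Ker f s l B) (hn : ¬ l ∣ n)
    (hAdm : ∀ A, Adm A → ∃ (u : ℤ) (v : D.W), A ^ n = u • D.Wm v) (hG : Gn f l) (x : ↥(GF F G)) (h0 : (x : Y) ∈ s.H0)
    (h1 : x ^ l = 1) (h2 : ¬ l ∣ cls x) : OutA p l S (cls x) :=
  let ⟨j, _, _, _, hζ, hy, hN, hx⟩ := exists_tor (D := D) hl hp x.2 ⟨1, (pow_one l).symm ▸ congrArg Subtype.val h1⟩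
  coreA f s hl hB hZ hK hn hAdm x h0 hζ hy hN hx (fun ξ w hξ h3 =>
    hG w _ h3 ⟨j, by rw [← map_pow, hξ.pow_eq_one, map_one]⟩) h1 h2

/-- **[SemA]** -/
theorem boxSemA : BoxSemA := by
  intro p _ k _ _ Y _ N _ _ ρ F G _ D f _ Adm S _ s l n B hl _ hB hZ hK hn hAdm x h0 h h1 h2 A hA
  obtain ⟨θ, h3, -, h4⟩ := outA_form f s hl hB hZ hK hn hAdm x h0 h h1 h2 A hA
  exact ⟨θ, h3, h4⟩

/-- from the elements of `H1` to the simple group -/
theorem semiA_of_out (hl : l.Prime) (hk : ¬ l ∣ Nat.card s.π.ker) (hi : ¬ l ∣ s.H1.index)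
    (h : ∀ x : s.H1, (x : GF F G) ^ l = 1 → ¬ l ∣ cls (x : GF F G) → OutA p l S (cls (x : GF F G))) : SemiA p l S := by
  intro x h1 h2 A hA
  have := s.normal
  obtain ⟨y, rfl⟩ := s.π1_surj x
  obtain ⟨y, ⟨j, hj⟩, e⟩ := exists_isL hl s.π1 (a := y) ⟨1, (pow_one l).symm ▸ h1⟩
  rw [← e] at h1 h2 ⊢
  have h3 : y ^ l = 1 := congrArg Subtype.val ((pow_eq_one_iff_of_coprime (a := (⟨y ^ l, by
      rw [MonoidHom.mem_ker, map_pow, h1]⟩ : s.π1.ker)) ((hl.coprime_iff_not_dvd.2 (card_ker s ▸ hk)).pow_left j)).1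
    ⟨Subtype.ext (show (y ^ l) ^ l ^ j = 1 by rw [← pow_mul, mul_comm, pow_mul, hj, one_pow]), pow_card_eq_one'⟩)
  have h4 : ¬ l ∣ cls (y : GF F G) := fun h4 => (hl.dvd_mul.1 (h4.trans (cls_dvd_sub s.H1 y))).elim (fun h5 => h2 (by
    rwa [cls_map_eq hl s.π1 s.π1_surj (fun z hz g => Subtype.ext (s.π1_cen z hz g)) (card_ker s ▸ hk) ⟨j, hj⟩])) hi
  obtain ⟨θ, h5, -, i, h6⟩ := h y (congrArg Subtype.val h3) h4 A hA
  refine ⟨θ, h5, fun h7 => h4 (h6 ▸ h7.mul_right _), fun m hm _ hmp hd => ?_⟩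
  have h7 := hd.trans ((cls_map_dvd s.π1 s.π1_surj _).trans (cls_sub_dvd s.H1 _))
  rw [← h6] at h7
  exact (hm.dvd_mul.1 h7).resolve_right fun h8 =>
    hmp ((Nat.prime_dvd_prime_iff_eq hm Fact.out).1 (hm.dvd_of_dvd_pow h8))

/-- good primes, elements of `G ^ F` -/
theorem outA_good (hl : l.Prime) (hp : l ≠ p) (hB : Dual D l B) (hZ : CZl D l) (hG : Good D l) (hK : Ker f s l B)
    (hn : ¬ l ∣ n) (hAdm : ∀ A, Adm A → ∃ (u : ℤ) (v : D.W), A ^ n = u • D.Wm v) (x : ↥(GF F G)) (h0 : (x : Y) ∈ s.H0)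
    (h1 : x ^ l = 1) (h2 : ¬ l ∣ cls x) : OutA p l S (cls x) := by
  have h3 : IsL l x := ⟨1, (pow_one l).symm ▸ h1⟩
  obtain ⟨m, hm, hF⟩ := boxForm D hl hp hG _ x.2 ⟨1, (pow_one l).symm ▸ congrArg Subtype.val h1⟩
  rw [← cls_pow hl hm h3] at h2 ⊢
  exact outA_form f s hl hB hZ hK hn hAdm (x ^ m) (pow_mem h0 m) hF (by rw [← pow_mul, mul_comm, pow_mul, h1, one_pow]) h2

omit [Fintype ↥(GF F G)] in
/-- **SEMI with invariance, good primes** -/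
theorem semiA_of (hl : l.Prime) (hp : l ≠ p) (hB : Dual D l B) (hZ : CZl D l) (hG : Good D l)
    (hk : ¬ l ∣ Nat.card s.π.ker) (hi : ¬ l ∣ s.H1.index) (hn : ¬ l ∣ n)
    (hAdm : ∀ A, Adm A → ∃ (u : ℤ) (v : D.W), A ^ n = u • D.Wm v) : SemiA p l S := by
  have := finite_GF D
  have := Fintype.ofFinite ↥(GF F G)
  obtain ⟨f⟩ := nonempty_fr D
  exact semiA_of_out s hl hk hi fun x =>
    outA_good f s hl hp hB hZ hG (ker_of_coprime (Mts.boxApi f s.qs) s hl hk B) hn hAdm x x.2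

/-- **SEMI with invariance, without `Good`** -/
theorem semiA_gn (hl : l.Prime) (hp : l ≠ p) (hB : Dual D l B) (hZ : CZl D l) (hG : Gn f l)
    (hk : ¬ l ∣ Nat.card s.π.ker) (hi : ¬ l ∣ s.H1.index) (hn : ¬ l ∣ n)
    (hAdm : ∀ A, Adm A → ∃ (u : ℤ) (v : D.W), A ^ n = u • D.Wm v) : SemiA p l S :=
  semiA_of_out s hl hk hi fun x =>
    outA_gn f s hl hp hB hZ (ker_of_coprime (Mts.boxApi f s.qs) s hl hk B) hn hAdm hG x x.2

end Cfsg.Agent.PQ.EA
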