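import Cfsg.Agent.PQ.EA.CvI1
import Cfsg.Agent.PQ.EA.SemA
import Cfsg.Agent.PQ.SS.IsoE
import Cfsg.Agent.PQ.SS.CrsX6
import Cfsg.Agent.PQ.SS.CrsX7

/-!
# S4982, the bad pairs: `E₆`, `²E₆`, `E₇`, `E₈` (helper30)

**`cvI : CvI`**.
-/

set_option autoImplicit false
set_option linter.unusedSectionVars false
set_option maxHeartbeats 200000

namespace Cfsg.Agent.PQ.EA

open Cfsg Cfsg.Lie Cfsg.Agent.DL Cfsg.Agent.DL.PP Cfsg.Agent.DL.Uni Cfsg.Agent.DL.Asm Cfsg.Agent.KZ Cfsg.Agent.KZ.Lie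
  Cfsg.Agent.LV.Blk Cfsg.Agent.KZ.ClD Cfsg.Agent.KZ.DatX Matrix Cfsg.Agent.PQ.SS Cfsg.Agent.Tits.Roots Cfsg.Agent.Nodes
  Cfsg.Agent.Nodes.RGDChev Cfsg.Agent.ChevalleyStructure.CoxeterGeomTypes

namespace CvI2

theorem wa_of {p l m n : ℕ} {S : Type} [Group S] (h : OutA p l S n) (hp : p.Prime) (hm : m.Prime) (h1 : m ≠ p)
    (h2 : ¬ l ∣ n) (h3 : m ∣ n) : WA l m S := fun A hA => by
  obtain ⟨θ, h4, -, j, rfl⟩ := h A hA
  exact ⟨θ, h4, fun h5 => h2 (h5.mul_right _), (hm.dvd_mul.1 h3).resolve_right fun h5 =>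
    h1 ((Nat.prime_dvd_prime_iff_eq hm hp).1 (hm.dvd_of_dvd_pow h5))⟩

variable {C : ChevalleyDatum} {l : ℕ} {M : CoxeterMatrix (Fin l)} {hp : IsType C l M} {p : ℕ} [Fact p.Prime] {k : Type}
  [Field k] [CharP k p] [IsAlgClosed k] {Mx : Matrix (Fin l) (Fin l) ℤ} (X : XF hp p k Mx) in
theorem admF (A : Matrix (Fin l) (Fin l) ℤ) (h : AdmF p A) :
    ∃ (u : ℤ) (v : X.D.W), (A : Matrix X.D.R X.D.R ℤ) ^ 1 = u • X.D.Wm v :=
  let ⟨j, hj⟩ := h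
  ⟨(p : ℤ) ^ j, 1, (pow_one A).trans (by rw [X.D.Wm_one]; exact hj)⟩

variable {p : ℕ} [Fact p.Prime] {k : Type} [Field k] [CharP k p] [IsAlgClosed k] {Mx : Matrix (Fin 6) (Fin 6) ℤ}
  (X : XF hpE6 p k Mx) in
theorem wa6 {Adm : Matrix (Fin 6) (Fin 6) ℤ → Prop} {d : ℕ} {S : Type} [Group S] (s : XS X Adm d S) (h5 : 5 ≤ p)
    (hd : d ∣ 3) (hA : Bad.AllD 3 2 S) (hD : Dual X.D 2 bE6) {w : X.D.W} {c : ℤ} (hw : X.D.Wm w * X.D.Mx = c • 1)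
    (hc : (2 : ℤ) ∣ c - 1)
    (hAdm : ∀ A, Adm A → ∃ (u : ℤ) (v : X.D.W), (A : Matrix X.D.R X.D.R ℤ) ^ 1 = u • X.D.Wm v) : WA 2 3 S := by
  obtain ⟨z, h1, h2, h3⟩ := C6.exists_inv X (by omega) hw hc
  obtain ⟨f⟩ := nonempty_fr X.D
  have := X.finite
  have := Fintype.ofFinite ↥(GF X.F ⊤)
  have := s.sit.normal
  have h4 : (z : ↥(chevE6.group k)) ∈ s.sit.H0 := by
    obtain ⟨n, hn⟩ := exists_pow_eq_self_of_coprime (x := z) (n := d)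
      (h2 ▸ Nat.Coprime.coprime_dvd_left hd (by decide))
    rw [← hn]
    exact pow_mem (s.pow_mem z.2) n
  have h7 : orderOf (s.sit.π1 ⟨z, h4⟩) = 2 := by
    rw [orderOf_injective s.sit.π1 (s.sit_π_inj.comp (Subgroup.subgroupOfEquivOfLe s.sit.le).injective),
      ← Subgroup.orderOf_coe, h2]
  exact wa_of (outA_form f s.sit Nat.prime_two hD (czl X Nat.prime_two) (ker_xs s f 2 _) (by decide) hAdm z h4 h1
    (h2 ▸ pow_orderOf_eq_one z) h3) Fact.out Nat.prime_three (by omega) h3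
    (((hA _ h7).trans (cls_map_dvd s.sit.π1 s.sit.π1_surj _)).trans (cls_sub_dvd s.sit.H1 ⟨z, h4⟩))

theorem wa_E6 (r : ℕ) (S : Type) [Group S] [Finite S] (hr : r.Prime) (h5 : 5 ≤ r) (h : E6c r S) : WA 2 3 S := by
  obtain ⟨F, _, _, _, ⟨e⟩⟩ := h
  have : Fact r.Prime := ⟨hr⟩
  obtain ⟨n, hF⟩ := card_eq_pow F r
  obtain ⟨k, _, _, _, X, ⟨s⟩⟩ := (has_E6 hF).congr e
  refine wa6 X s h5 (Nat.gcd_dvd_left _ _) ((Bad.allD_E6 r F Nat.prime_two (by omega) (by decide)).congr e)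
    (dual_E6 Nat.prime_two (by decide) X) (w := 1) (by rw [X.D.Wm_one]; exact one_mul _) (C6.odd_pw hr h5 n) ?_
  rintro _ ⟨j, B, hB, rfl⟩
  rcases List.mem_cons.1 hB with rfl | hB
  · exact admF X _ ⟨j, rfl⟩
  · obtain ⟨w, hw⟩ := X.exists_neg_E6
    refine ⟨-(r : ℤ) ^ j, w, (pow_one _).trans ?_⟩
    rw [hw, List.mem_singleton.1 hB]
    exact (neg_smul_neg _ _).symm

theorem wa_T6 (r : ℕ) (S : Type) [Group S] [Finite S] (hr : r.Prime) (h5 : 5 ≤ r) (h : T6c r S) : WA 2 3 S := by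
  obtain ⟨K, _, _, _, q, hq, hK, ⟨e⟩⟩ := h
  have : Fact r.Prime := ⟨hr⟩
  obtain ⟨n, rfl⟩ := tw_pow r two_ne_zero hK
  obtain ⟨k, _, _, _, X, ⟨s⟩⟩ := (has_2E6 hK).congr e
  obtain ⟨w, hw⟩ := X.exists_neg_E6
  refine wa6 X s h5 (Nat.gcd_dvd_left _ _) ((Bad.allD_twE6 r K hq hK Nat.prime_two (by omega) (by decide)).congr e)
    (dual_2E6 Nat.prime_two (by decide) X) (w := w) (c := -(r : ℤ) ^ n) ?_ ?_ (admF X)
  · rw [hw]
    show -P6 * ((r : ℤ) ^ n • P6) = -(r : ℤ) ^ n • (1 : Matrix (Fin 6) (Fin 6) ℤ)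
    rw [neg_mul, mul_smul_comm, C6.P6_sq, neg_smul]
  · have := C6.odd_pw hr h5 n
    omega

open C7 Cfsg.Agent.TO.X in
theorem wa_E7 (r : ℕ) (S : Type) [Group S] [Finite S] (hr : r.Prime) (h5 : 5 ≤ r) (hE : E7c r S) : WA 3 2 S := by
  have : Fact r.Prime := ⟨hr⟩
  have : Fact (Nat.Prime 3) := ⟨Nat.prime_three⟩
  have h3 : 3 ≠ r := by omega
  have h3' : ¬ r ∣ 3 := fun h => absurd (Nat.le_of_dvd (by norm_num) h) (by omega)
  obtain ⟨F, _, _, _, ⟨e⟩⟩ := hE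
  obtain ⟨n, -, hF⟩ := FiniteField.card F r
  obtain ⟨k, _, _, _, X, ⟨s⟩⟩ := (has_E7 hF).congr e
  obtain ⟨f⟩ := nonempty_fr X.D
  have := X.finite
  have := Fintype.ofFinite ↥(GF X.F ⊤)
  obtain ⟨w0, hw0⟩ : ∃ w : CoxeterMatrix.E₇.Group, wm X w = -1 := X.exists_neg_E7
  obtain ⟨E, c, hE, hc⟩ : ∃ (E : Tor X) (c : ℤ), E.A = c • 1 ∧ (3 : ℤ) ∣ c - 1 := by
    have h1 : ¬ (3 : ℤ) ∣ (r : ℤ) ^ (n : ℕ) := fun h => h3 ((Nat.prime_dvd_prime_iff_eq Nat.prime_three hr).1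
      (Nat.prime_three.dvd_of_dvd_pow (by exact_mod_cast h)))
    by_cases h2 : (3 : ℤ) ∣ (r : ℤ) ^ (n : ℕ) - 1
    · obtain ⟨E, hE⟩ := exists_tor_w X 1
      exact ⟨E, _, by rw [hE, map_one, one_mul], h2⟩
    · obtain ⟨E, hE⟩ := exists_tor_w X w0
      exact ⟨E, -(r : ℤ) ^ (n : ℕ), by rw [hE, hw0, neg_one_mul, neg_smul], by omega⟩
  have hcm : ∀ B, E.A * B = B * E.A := fun B => by rw [hE, smul_mul_assoc, mul_smul_comm, one_mul, mul_one]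
  obtain ⟨ζ, hζ⟩ := exists_prim k h3'
  obtain ⟨u, x, u0, hu, hx, hx3⟩ := exists_central (j := 2) E hζ
    (fun v => by
      rw [hE, smul_mv, mv_one, show (c : ZMod 3) = ((1 : ℤ) : ZMod 3) from
        ((ZMod.intCast_eq_intCast_iff_dvd_sub _ _ _).2 hc).symm, Int.cast_one, one_smul])
    ⟨1, one_ne_zero⟩
    (fun a ⟨t, ht, h⟩ => by
      obtain ⟨i, hi⟩ := root_ne t ht
      exact ⟨Pi.single i 1, by rw [vl_single, ← h, Ne, ZMod.intCast_zmod_eq_zero_iff_dvd]; exact hi⟩)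
    (eq_one_of_mv X root_eq) (hcm _)
    (wm_inj X (by rw [← wordProd_pwL wd, wm_word, map_one]; exact wd_nine))
  rw [wm_word, wd_prod] at hu
  have hx0 : (x : ↥(chevE7.group k)) ^ 3 = 1 := hx ▸ E.e_pow hζ u
  have hd : ¬ 3 ∣ Nat.gcd 2 (r ^ (n : ℕ) - 1) := fun h => absurd (h.trans (Nat.gcd_dvd_left _ _)) (by norm_num)
  refine wa_of (outA_form f s.sit Nat.prime_three (dual_E7 Nat.prime_three (by norm_num) X) (czl X Nat.prime_three)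
    (ker_xs s f _ _) (by decide) (admF X) x (exists_ι s x.2.2 hx0 (Nat.prime_three.coprime_iff_not_dvd.2 hd).symm)
    ⟨1, ζ, fun i => ((u i).val : ℤ), E.y, by rwa [pow_one], Subgroup.mem_top _, E.hF, hx, fun a ha => ?_⟩
    (Subtype.ext hx0) hx3) hr Nat.prime_two (by omega) hx3 ?_
  · obtain ⟨t, ht, rfl⟩ := (X.rt_iff a).1 ha
    have h1 : (fun i => ((u i).val : ℤ)) = Pi.single 6 ((u 6).val : ℤ) := funext fun i => by
      rw [congrFun (fix_m9 hu) i, Pi.single_apply, Pi.single_apply]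
      split_ifs <;> rfl
    show (3 : ℤ) ^ 1 ∣ vec chevE7 7 t ⬝ᵥ (fun i : Fin 7 => ((u i).val : ℤ)) →
      vec chevE7 7 t ⬝ᵥ (fun i : Fin 7 => ((u i).val : ℤ)) = 0
    rw [h1, dotProduct_single, pow_one]
    exact coef_E7 t ht _ (ZMod.val_lt _)
  · obtain ⟨m, h6, h7⟩ := E.exists_rp_fix (hcm (wm X w0))
    refine H531.ClassIndex.two_dvd_of_inverts (t := ⟨m, Subgroup.mem_top m, h7⟩) (Subtype.ext ?_) fun h => u0 ?_
    · show m * x * m⁻¹ = (x : ↥(chevE7.group k))⁻¹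
      rw [hx, E.conj_e hζ h6, hw0, ← neg_one_smul ℤ, smul_mv, mv_one, ← E.e_neg hζ, Int.cast_neg, Int.cast_one,
        neg_one_smul]
    · have h8 : -u = u := E.e_inj hζ (by rw [E.e_neg hζ, ← hx]; exact congrArg Subtype.val h)
      funext i
      have h9 : (3 : ZMod 3) = 0 := rfl
      have h10 : -u i = u i := congrFun h8 i
      show u i = 0
      linear_combination h10 + u i * h9

open Iso Bad Cfsg.Agent.KZ.Exc in
theorem wa_E35 (r : ℕ) (S : Type) [Group S] [Finite S] (hr : r.Prime) (h3 : r ≠ 3) (h5 : r ≠ 5) (hE : E8c r S) :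
    WA 3 5 S := by
  intro A hP
  obtain ⟨M, hM⟩ := Blocks.ExistsModular.exists_isPModular Nat.prime_three
  have : Fact r.Prime := ⟨hr⟩
  have hA5 : AllD 5 3 S := allD_five hr Nat.prime_three h5.symm (by norm_num) hE
  obtain ⟨F, _, _, _, ⟨e⟩⟩ := hE
  obtain ⟨n, -, hF⟩ := FiniteField.card F r
  obtain ⟨k, _, _, _, X, ⟨s⟩⟩ := (has_E8 hF).congr e
  obtain ⟨f⟩ := nonempty_fr X.D
  have := X.finite
  have := Fintype.ofFinite ↥(GF X.F ⊤)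
  have : Finite W6 := Nat.finite_of_card_ne_zero (by rw [card_W_E6]; decide)
  have := Fintype.ofFinite W6
  have hA : Api f := Mts.boxApi f X.D_qs
  obtain ⟨w₀, Q, h⟩ : ∃ w Q, Lie.Sc X.D w Q := by
    by_cases h1 : (3 : ℤ) ∣ (r : ℤ) ^ (n : ℕ) - 1
    · exact ⟨1, _, by rw [X.D.Wm_one, one_mul]; rfl, h1⟩
    · obtain ⟨w, hw⟩ := X.exists_neg_E8
      have h2 := Gp.not_dvd_pow h3 n
      refine ⟨w, -(r : ℤ) ^ (n : ℕ), ?_, by omega⟩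
      rw [hw, neg_smul]
      exact neg_one_mul X.D.Mx
  have hs : Exc.Sca s.sit w₀ Q := ⟨h, h3, fun _ => Gp.adm_F h3, s.sit_π_inj⟩
  let I : In8 f w₀ := ⟨Cl.cx X.D (EFr.T8 2) om, EFr.Ψ8, EFr.fm_of X EFr.inj8 EFr.range8.1, EFr.cube_cx _,
    (congrArg Subgroup.index (EFr.Wc_cx X _)).trans EFr.range8.2, X.exists_neg_E8, EFr.all8 X gram6 h hA,
    fun b => EFr.three8 X gram6 h hA (0, b)⟩
  obtain ⟨χ, ⟨-, h2⟩, ε, h4⟩ := Lo78.exists_mem hs I.fm I.cube hM (Lo78.pn_class (0, false) 0)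
    (Lo78.gen8 cvpA gram6 I hs hA _ _) (by rw [Lo78.ip_pn gram6, if_pos rfl, Lo78.G6_zero, if_pos rfl, Int.cast_one])
    (z := 2240) (by rw [pn_zero, I.idx, one_mul]; rfl) (by decide)
  rw [pn_zero, cg_one f h I.fm] at h4
  have hε : ((ε : ℤ) : ℂ) = 1 ∨ ((ε : ℤ) : ℂ) = -1 := by rcases Int.units_eq_one_or ε with rfl | rfl <;> simp
  have hF₀ := Lo78.fx3 h I.cube
  obtain ⟨ψ, h6⟩ := SemA.down f s.sit Nat.prime_three hF₀ ⟨1, I.cube⟩ (s.z1 f _) hε h4 h2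
  refine ⟨ψ, SemA.fix_of_dn f s.sit Nat.prime_three (by decide) (admF X) hF₀ I.cube h4 h6 hP, ?_⟩
  rw [dg, h6.deg]
  refine ⟨h2, ?_⟩
  let v : Fin 8 → ℤ := Pi.single 6 1
  obtain ⟨x, ζ, y, hζ, hy, hN, hx, hx3, hx1⟩ := exists_elt (D := X.D) Nat.prime_three h3.symm (j := 1) (h.dvd_mulVec v)
  obtain ⟨w, h8, h9⟩ := deg_ss f X.D_qs Nat.prime_three (Bad.dual_E8 X Nat.prime_three) (czl_XF X Nat.prime_three) x
    hζ hy hN hx (ξ := om) om_prim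
  have hc : coch (invE8 *ᵥ v) om = I.c := congrArg (coch · om) (show invE8 *ᵥ v = EFr.T8 2 by decide +kernel)
  have h8' : Fx X.D w I.c := hc ▸ h8
  obtain ⟨a, h10⟩ := h9 (charDegree (χ : GF X.F ⊤ → ℂ)) _ hε (by
    rw [← Blocks.Basic.irr_one_eq_charDegree χ.2, h4, ← ss_eq f hF₀ h8', ← hc]
    rfl)
  have e' : S ≃* ↥(GF X.F ⊤) := (MonoidHom.ofInjective s.ov.inj).trans (MulEquiv.subgroupCongr s.ov.range_eq)
  have h11 : 5 ∣ cls x := hA5.congr e'.symm _ (orderOf_eq_prime hx3 fun e1 =>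
    absurd (show (3 : ℤ) ^ 1 ∣ 1 from hx1 e1 (6 : Fin 8)) (by norm_num))
  rw [← h10] at h11
  exact (Nat.prime_five.dvd_mul.1 h11).resolve_right fun h12 =>
    h5 ((Nat.prime_dvd_prime_iff_eq Nat.prime_five hr).1 (Nat.prime_five.dvd_of_dvd_pow h12)).symm

end CvI2

/-- **[CvI]** -/
theorem cvI : CvI :=
  ⟨CvI1.wa_G2, CvI1.wa_F4, CvI1.wa_E23, CvI1.wa_E25, CvI2.wa_E35, CvI2.wa_E6, CvI2.wa_T6, CvI2.wa_E7⟩

end Cfsg.Agent.PQ.EA
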