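import Cfsg.Agent.PQ.EA.CvID
import Cfsg.Agent.PQ.SS.PsC
import Cfsg.Agent.GAL.Ex.Sig
import Cfsg.Agent.ODD.QB.Rgd
import Cfsg.Agent.H69.OutGF
import Cfsg.Agent.Blocks.ExistsModular
import Cfsg.Agent.CpAut.RgdUntw

/-!
# S4982, the bad pairs: the prime `2` in `G₂`, `F₄`, `E₈` (helper30)

The character of an involution of the split torus is fixed by all automorphisms: `wa_G2`, `wa_F4`, `wa_E8`.
-/

set_option autoImplicit false
set_option linter.unusedSectionVars false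
set_option maxHeartbeats 200000

namespace Cfsg.Agent.PQ.EA.CvI1

open Cfsg Cfsg.Agent.PQ.SS Cfsg.Agent.PQ.SS.Ps

theorem pm {z : ℂˣ} (h : z * z = 1) : z = 1 ∨ z = -1 :=
  (mul_self_eq_one_iff.1 (congrArg Units.val h)).imp Units.ext Units.ext

section gen

open Matrix CoxeterSystem Cfsg.Agent.ChevalleyStructure.CoxeterGeom Cfsg.Agent.Tits.Roots Cfsg.Agent.Nodes.Reps
  Cfsg.Agent.Nodes.BNOf Cfsg.Agent.Nodes.Bruhat Cfsg.Agent.H684.OQ Cfsg.Agent.H381.OQ Cfsg.Agent.H310.OQ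
  Cfsg.Agent.ODD.Cv Cfsg.Agent.Nodes.RGDLib Cfsg.Agent.KFacts.RgdDiag Cfsg.Agent.ODD

variable {I W Y : Type} [Fintype I] [DecidableEq I] [Group W] [Finite W] [Group Y] [Finite Y]
  {M : CoxeterMatrix I} {cs : CoxeterSystem M W} {A : I → I → ℤ} {h : IsCartan M A} {p : ℕ} {T : Subgroup Y}
  {X : (I → ℤ) → Subgroup Y} {δ : MulAut Y}

theorem hat_one : hat cs 1 (fun _ _ => rfl) = MonoidHom.id W := cs.ext_simple fun i => hat_simple _ _ i

section rgd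

variable {n : I → Y} (R : RGD cs h p T n X) (D : Diag T X δ 1)

include R D

theorem rp_fix {w : W} {g : Y} (hg : Rp cs R.nsys w g) : Rp cs R.nsys w (δ g) := by
  have := D.rp' (R := R) (fun _ _ => rfl) hg
  rwa [hat_one] at this

theorem map_U (u : Y) (hu : u ∈ UU cs h X) : δ u ∈ UU cs h X := by
  have h1 : UU cs h X ≤ (UU cs h X).comap δ.toMonoidHom := RGD.Sup_le fun b hb x hx => RGD.le_Sup hb (by
    obtain ⟨w, i, rfl⟩ := hb.1
    have := (D.root R (fun _ _ => rfl) w i x).2 hx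
    rwa [hat_one] at this)
  exact h1 hu

theorem tx_map (hc : ∀ a ∈ T, ∀ b ∈ T, a * b = b * a) (i : I) :
    ∃ k, ∀ u ∈ X (sr i), u ≠ 1 → tx R i (δ u) = δ (tx R i u) * k := by
  have hni := rp_simple cs R.nsys i
  obtain ⟨t, ht, e⟩ : ∃ t ∈ T, δ (n i) = n i * t := ⟨_, hni.unique (rp_fix R D hni), by group⟩
  have hs := PS.conj_T R hni ht
  have hX : ∀ y ∈ X (sr i), (n i * t * (n i)⁻¹)⁻¹ * δ y * (n i * t * (n i)⁻¹)⁻¹⁻¹ ∈ X (sr i) := fun y hy => by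
    rw [← R.tor _ (isRoot_sr cs h i) _ (inv_mem hs)]
    exact conj_mem_cj.2 ((D.pos i y).2 hy)
  have hk := PS.conj_T R hni (mul_mem ht hs)
  refine ⟨(n i * t * (n i)⁻¹)⁻¹ * (n i * (t * (n i * t * (n i)⁻¹)) * (n i)⁻¹), fun u hu hu1 => ?_⟩
  obtain ⟨h0, a, ha, b, hb, e1⟩ := tx_spec R hu hu1
  have h1 := (D.tor _).2 h0
  refine (tx_unique R (i := i) ((D.pos i u).2 hu) (fun h2 => hu1 (δ.injective (h2.trans (map_one δ).symm)))
    (mul_mem h1 (mul_mem (inv_mem hs) hk)) (hX a ha) (hX b hb) ?_).1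
  have e2 := congrArg δ e1
  simp only [map_mul, map_inv, e] at e2
  rw [← mul_assoc (δ (tx R i u)), hc _ h1 _ (inv_mem hs), show n i * δ u * (n i)⁻¹ =
    (n i * t * (n i)⁻¹)⁻¹ * (n i * t * δ u * (n i * t)⁻¹) * (n i * t * (n i)⁻¹) by group, e2]
  group

end rgd

variable {K : Type} [Field K] {Φ : I → SpecialLinearGroup (Fin 2) K →* Y} {S : InS p cs h T X (k := fun _ => K) Φ}
  {γ : Kˣ} (hγ : ∀ c, c ∈ Subgroup.zpowers γ)

include hγ S in
theorem map_d (D : Diag T X δ 1) (i : I) : ∃ m : ℤ, δ (Φ i (dd γ)) = Φ i (dd γ) ^ m := by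
  obtain ⟨k, hk⟩ := tx_map S.inp.rgd D S.inp.comm i
  have key : ∀ c : Kˣ, ∃ m : ℤ, δ (Φ i (dd c)) * k = Φ i (dd γ) ^ m := fun c => by
    have h1 : Φ i (uu ((c⁻¹ : Kˣ) : K)) ≠ 1 := fun e => (c⁻¹).ne_zero (S.inj i _ e)
    obtain ⟨c', e⟩ := S.tx_mem' i ((D.pos i _).2 (S.uu_mem i _))
      fun e => h1 (δ.injective (e.trans (map_one δ).symm))
    obtain ⟨m, rfl⟩ := hγ c'
    exact ⟨m, by rw [← S.tx_eq i c, ← hk _ (S.uu_mem i _) h1, e, map_zpow, map_zpow]⟩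
  obtain ⟨m, h1⟩ := key γ
  obtain ⟨m', h2⟩ := key 1
  rw [map_one, map_one, map_one, one_mul] at h2
  exact ⟨m - m', by rw [_root_.zpow_sub, ← h1, ← h2, mul_inv_cancel_right]⟩

variable {C B : I → I → ℤ} {σ : Equiv.Perm I} (P : Pd S C σ B)

include hγ P in
theorem aut (D : Diag T X δ 1) {lam : ↥T →* ℂˣ} (hl : ∀ t, lam t * lam t = 1) :
    PS.Aut S.inp.rgd (RingEquiv.refl ℂ) δ lam := by
  have hT : ∀ t ∈ T, δ t ∈ T := fun t => (D.tor t).2
  refine ⟨map_U S.inp.rgd D, hT, fun t ht => congrArg Units.val (DFunLike.congr_fun (P.ext hγ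
    (ν := lam.comp ((δ.toMonoidHom.comp T.subtype).codRestrict T fun t => hT t t.2)) (ν' := lam) fun i => ?_) ⟨t, ht⟩),
    fun w g hg _ => hg.unique (rp_fix S.inp.rgd D hg)⟩
  obtain ⟨m, h1⟩ := map_d (S := S) hγ D i
  obtain ⟨m', h2⟩ := map_d (S := S) hγ (inv_one (G := Equiv.Perm I) ▸ D.inv) i
  have h3 : Φ i (dd γ) = δ (Φ i (dd γ)) ^ m' := by rw [← map_zpow, ← h2, MulAut.apply_inv_self]
  show lam ⟨_, hT _ (S.d i γ)⟩ = _
  have h4 : lam ⟨_, hT _ (S.d i γ)⟩ = lam ⟨_, S.d i γ⟩ ^ m := by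
    rw [← map_zpow]
    exact congrArg lam (Subtype.ext h1)
  have h5 : lam ⟨_, S.d i γ⟩ = lam ⟨_, hT _ (S.d i γ)⟩ ^ m' := by
    rw [← map_zpow]
    exact congrArg lam (Subtype.ext h3)
  rcases pm (hl ⟨_, S.d i γ⟩) with e | e
  · rw [h4, e, _root_.one_zpow]
  · rcases pm (hl ⟨_, hT _ (S.d i γ)⟩) with e' | e'
    · rw [h5, e', _root_.one_zpow]
    · rw [e, e']

include P in
/-- **the character of an involution is fixed by all automorphisms** -/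
theorem exists_fix [Nonempty I] (hp : p.Prime) (hp2 : p ≠ 2) {A' : I → I → ℤ} {h' : IsCartan M A'}
    (hC : ∀ γ : Kˣ, (∀ c, c ∈ Subgroup.zpowers γ) → PS.Cor S.inp.rgd h' 0 fun i => Φ i (dd γ))
    (hu : ∀ y : PS.St.Fm I, ∃ β, ((1 : ℕ) : ℤ) • y = PS.St.wt A' β) (hD : ∀ β τ, Diag T X β τ → τ = 1) :
    ∃ x : Y, orderOf x = 2 ∧ ∃ θ : IrrCharacter Y, (∀ (α : MulAut Y) g, (θ : Y → ℂ) (α g) = (θ : Y → ℂ) g) ∧ ¬ 2 ∣ dg θ ∧
      ∃ j, dg θ * p ^ j = (Subgroup.centralizer ({x} : Set Y)).index := by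
  have : Fact p.Prime := ⟨hp⟩
  have : Fact (Nat.Prime 2) := ⟨Nat.prime_two⟩
  obtain ⟨M2, hM⟩ := Blocks.ExistsModular.exists_isPModular Nat.prime_two
  obtain ⟨i⟩ := id ‹Nonempty I›
  have := S.finite i
  obtain ⟨γ, hγ⟩ := IsCyclic.exists_generator (α := Kˣ)
  obtain ⟨lam, h1, h2, h3⟩ := exists_lam S.inp.rgd S.inp.nofix S.inp.comm i
  have h4 : ∀ i, ∃ η, lam ⟨_, S.d i γ⟩ = sg ℂ η := fun i => by
    rcases pm (h2 ⟨_, S.d i γ⟩) with e | e
    exacts [⟨1, by rw [e, map_one]⟩, ⟨-1, by rw [e, sg_neg]⟩]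
  choose η hη using h4
  obtain ⟨x, hx⟩ := P.total (η ∘ σ.symm)
  have hr : ∃ ε, Ac T Φ x ε ∧ ∀ i, lam ⟨_, S.d i γ⟩ = sg ℂ (ε (σ i)) := ⟨_, hx, fun i => by simp [hη]⟩
  obtain ⟨χ, h5, h6, h7⟩ := (P.dl hγ).deg S.inp.comm S.inp.top hr
  obtain ⟨-, h9⟩ := mem_two S.inp hp hp2 h2 h3 h5 h6 hM
  obtain ⟨j, hj⟩ := card_inv S.inp.rgd hp2 hx.1 (P.sq hx hx)
  refine ⟨x, orderOf_eq_prime (by rw [pow_two, P.sq hx hx]) fun e => h1 ?_, ⟨χ, h5⟩, fun α g => ?_, h9, j, ?_⟩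
  · exact ((P.dl hγ).inj hr ⟨1, Ac.one, fun i => by simp⟩).2 e
  · obtain ⟨y, τ, D⟩ := QB.exists_diag_all S.inp.rgd hp S.inp.top α
    obtain rfl := hD _ τ D
    have hle : PS.Wst S.inp.rgd lam ≤ PS.Rg S.inp.rgd lam := fun w hw => by
      simpa using ((hC γ hγ).mono (dvd_zero 2)).pow_mem two_pos (fun t => (pow_two _).trans (h2 t)) hw hu
    have h8 := PS.fix_of_mB S.inp.rgd GAL.Ex.hMain S.inp.top S.inp.comm (PS.St.five cs h) (aut hγ P D h2)
      (fun _ hw => hle (mul_mem hw hw)) (.inl hle) h5 ⟨1, odd_one, by rw [h6, Nat.cast_one]⟩ g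
    rwa [MulAut.mul_apply, MulAut.conj_apply, Characters.Core.isIrr_isClassFunction h5] at h8
  · rw [hj, ← (Subgroup.centralizer {x}).card_mul_index] at h7
    exact Nat.eq_of_mul_eq_mul_left Nat.card_pos (by rw [← h7]; ring)

end gen

open Cfsg.Lie Cfsg.Agent.Nodes.RGDChev Cfsg.Agent.ChevalleyStructure Cfsg.Agent.PQ.SS.Bad Cfsg.Agent.ODD.PX
  Cfsg.Agent.ChevalleyStructure.CoxeterGeomTypes Cfsg.Agent.ChevalleyStructure.CoxeterGeom Cfsg.Agent.KFacts.RgdDiag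
  Cfsg.Agent.ODD

/-- transport -/
theorem wa_congr {l m : ℕ} {S H : Type} [Group S] [Group H] (e : S ≃* H) (θ : IrrCharacter H)
    (h1 : ∀ (α : MulAut H) g, (θ : H → ℂ) (α g) = (θ : H → ℂ) g) (h2 : ¬ l ∣ dg θ) (h3 : m ∣ dg θ) : WA l m S := fun _ _ => by
  refine ⟨H649.irrMap e.symm θ, fun α _ g => ?_, ?_⟩
  · simpa [H649.irrMap_apply] using h1 (MulAut.congr e α) (e g)
  · rw [dg, H649.charDegree_irrMap]
    exact ⟨h2, h3⟩

/-- the rows from the class sizes of the involutions -/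
theorem wa_chev {D : ChevalleyDatum} {l : ℕ} {M : CoxeterMatrix (Fin l)} (hp : IsType D l M) [NeZero l]
    (σ : Equiv.Perm (Fin l)) (B : Fin l → Fin l → ℤ) (h1 : ∀ i j, M (σ i) (σ j) = M i j)
    (h2 : ∀ i j, Even (cartanOf D l (σ i) (σ j) + cartanOf D l j i)) (h3 : ∀ j, ∃ i, ¬ Even (cartanOf D l i j))
    (h4 : ∀ i m, Even (∑ j, B i j * cartanOf D l j m + if m = i then 1 else 0))
    (hu : ∀ A, IsCartan M A → ∀ y : PS.St.Fm (Fin l), ∃ β, ((1 : ℕ) : ℤ) • y = PS.St.wt A β)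
    {K : Type} [Field K] [Fintype K] {r : ℕ} [CharP K r] (hr : r.Prime) (hr2 : r ≠ 2)
    (hD : ∀ β τ, Diag ((D.diagonalSubgroup K).subgroupOf (D.group K)) (fun x => (XV D l K x).subgroupOf (D.group K)) β τ →
      (∀ i j, M (τ i) (τ j) = M i j) → τ = 1)
    (hs : IsSimpleGroup ↥(D.group K) ∧ ¬ IsMulCommutative ↥(D.group K)) {s : ℕ} (hs' : s.Prime) (hsr : s ≠ r)
    (hA : AllD s 2 ↥(D.group K)) {S : Type} [Group S] [Finite S] (e : S ≃* D.group K) : WA 2 s S := by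
  have hW : Finite M.Group := finite_W hp M.toCoxeterSystem
  have : Finite ↥(D.group K) := Finite.of_equiv _ e.toEquiv
  have h0 : (2 : K) ≠ 0 := fun h => hr2 ((Nat.prime_dvd_prime_iff_eq hr Nat.prime_two).1
    ((CharP.cast_eq_zero_iff K r 2).1 (by exact_mod_cast h)))
  have := hs.1
  have S0 := inS_chev hp K r h0 h3 M.toCoxeterSystem
  have P : Ps.Pd S0 (cartanOf D l) σ B := ⟨h0, phi_act hp K, h1, h2, h3, h4, H307.Heads.center_eq_bot hs.2⟩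
  obtain ⟨x, h5, θ, h6, h7, j, h8⟩ := exists_fix P hr hr2 (fun _ => cor_group hp S0)
    (hu _ (Tits.C3Roots.cartan_transpose hp.isCartan)) fun β τ d => hD β τ d (d.matrix S0.inp.rgd)
  exact wa_congr e θ h6 h7 ((hs'.dvd_mul.1 (h8 ▸ hA x h5)).resolve_right fun h =>
    hsr ((Nat.prime_dvd_prime_iff_eq hs' hr).1 (hs'.dvd_of_dvd_pow h)))

open scoped Pointwise in
theorem realised {D : ChevalleyDatum} {M : CoxeterMatrix (Fin D.rank)} (hp : IsType D D.rank M) {K : Type} [Field K]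
    {β : MulAut ↥(D.group K)} {τ : Equiv.Perm (Fin D.rank)}
    (d : Diag ((D.diagonalSubgroup K).subgroupOf (D.group K)) (fun x => (XV D D.rank K x).subgroupOf (D.group K)) β τ) :
    τ ∈ H70.OutCount.realised hp.inList K := by
  refine ⟨β, fun i => Subgroup.ext fun x => ?_, fun i => Subgroup.ext fun x => ?_⟩
  · have := d.pos i (β⁻¹ x)
    rw [XV_sr hp, XV_sr hp, MulAut.apply_inv_self] at this
    exact Subgroup.mem_pointwise_smul_iff_inv_smul_mem.trans this.symm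
  · have := d.neg i (β⁻¹ x)
    rw [XV_neg_sr hp, XV_neg_sr hp, MulAut.apply_inv_self] at this
    exact Subgroup.mem_pointwise_smul_iff_inv_smul_mem.trans this.symm

theorem ne_zero {F : Type} [Field F] {r : ℕ} [CharP F r] {m : ℕ} (h0 : 0 < m) (h : m < r) : (m : F) ≠ 0 :=
  fun e => (Nat.le_of_dvd h0 ((CharP.cast_eq_zero_iff F r m).1 e)).not_gt h

theorem wa_G2 (r : ℕ) (S : Type) [Group S] [Finite S] (hr : r.Prime) (h5 : 5 ≤ r) (h : G2c r S) : WA 2 3 S := by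
  obtain ⟨F, _, _, _, ⟨e⟩⟩ := h
  have : Fact r.Prime := ⟨hr⟩
  have h2 : (2 : F) ≠ 0 := by exact_mod_cast ne_zero (F := F) (r := r) two_pos (by omega)
  have h3 : (3 : F) ≠ 0 := by exact_mod_cast ne_zero (F := F) (r := r) three_pos (by omega)
  have hp : IsType chevG2 2 CoxeterMatrix.G₂ := by simp [IsType, typeList]
  refine wa_chev hp 1 ![![0, 1], ![1, 0]] (fun _ _ => rfl) (by decide +kernel) (by decide +kernel) (by decide +kernel)
    GAL.Ex.uni_G2 hr (by omega) (fun β τ d _ => (H69.OutGF.perm2 τ).resolve_right fun e => ?_)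
    (S1055.result ⟨-1, neg_ne_zero.2 one_ne_zero, fun h => h2 (by linear_combination -h)⟩) Nat.prime_three (by omega)
    (allD_G2 r F Nat.prime_two (by omega) (by omega)) e
  subst e
  refine H69.OutGF.flip2_not_mem h3 ?_ (realised (D := chevG2) hp d)
  obtain ⟨n, -, hn⟩ := FiniteField.card F r
  rw [Nat.card_eq_fintype_card, hn]
  exact le_trans (by omega) (Nat.le_self_pow n.ne_zero r)

theorem wa_F4 (r : ℕ) (S : Type) [Group S] [Finite S] (hr : r.Prime) (h5 : 5 ≤ r) (h : F4c r S) : WA 2 3 S := by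
  obtain ⟨F, _, _, _, ⟨e⟩⟩ := h
  have : Fact r.Prime := ⟨hr⟩
  have h2 : (2 : F) ≠ 0 := by exact_mod_cast ne_zero (F := F) (r := r) two_pos (by omega)
  have hp : IsType chevF4 4 CoxeterMatrix.F₄ := by simp [IsType, typeList]
  refine wa_chev hp Fin.revPerm ![![0, 1, 0, 0], ![1, 0, 0, 0], ![0, 0, 0, 1], ![1, 0, 1, 0]]
    (fun i j => by fin_cases i <;> fin_cases j <;> rfl) (by decide +kernel) (by decide +kernel) (by decide +kernel)
    GAL.Ex.uni_F4 hr (by omega) (fun β τ d _ => ?_) (S1054.result _ (by simp)) Nat.prime_three (by omega)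
    (allD_F4 r F Nat.prime_two (by omega) (by omega)) e
  have h1 := realised (D := chevF4) hp d
  exact (H69.OutGF.realised_F4 h1).resolve_right fun e => H69.OutGF.flip4_not_mem h2 (e ▸ h1)

theorem perm_E8 (τ : Equiv.Perm (Fin 8)) (h : ∀ i j, CoxeterMatrix.E₈ (τ i) (τ j) = CoxeterMatrix.E₈ i j) : τ = 1 := by
  have h1 := CpAut.RgdUntw.inv_step h (g := fun _ => 1) (g' := ![1, 1, 2, 3, 2, 2, 2, 1]) (fun _ => rfl) (by decide)
  have h2 := CpAut.RgdUntw.inv_step h (g' := ![2, 3, 4, 5, 5, 4, 3, 2]) h1 (by decide)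
  have h3 := CpAut.RgdUntw.inv_step h (g' := ![4, 5, 7, 12, 9, 8, 6, 3]) h2 (by decide)
  exact Equiv.ext fun i => (by decide : Function.Injective (![4, 5, 7, 12, 9, 8, 6, 3] : Fin 8 → ℕ)) (h3 i)

theorem wa_E8 {r s : ℕ} {S : Type} [Group S] [Finite S] (hr : r.Prime) (h2 : r ≠ 2) (hs : s.Prime) (hsr : s ≠ r)
    (h : E8c r S) (hA : AllD s 2 S) : WA 2 s S := by
  obtain ⟨F, _, _, _, ⟨e⟩⟩ := h
  exact wa_chev (M := CoxeterMatrix.E₈) (by simp [IsType, typeList]) 1 invE8 (fun _ _ => rfl)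
    (by decide +kernel) (by decide +kernel) (by decide +kernel) GAL.Ex.uni_E8 hr h2 (fun _ τ _ => perm_E8 τ)
    (S1054.result _ (by simp)) hs hsr (hA.congr e.symm) e

theorem wa_E23 (r : ℕ) (S : Type) [Group S] [Finite S] (hr : r.Prime) (h5 : 5 ≤ r) (h : E8c r S) : WA 2 3 S :=
  wa_E8 hr (by omega) Nat.prime_three (by omega) h <| by
    have : Fact r.Prime := ⟨hr⟩
    obtain ⟨F, _, _, _, ⟨e⟩⟩ := h
    exact (allD_E8 r F Nat.prime_two (by omega) (by omega)).congr e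

theorem wa_E25 (r : ℕ) (S : Type) [Group S] [Finite S] (hr : r.Prime) (h2 : r ≠ 2) (h5 : r ≠ 5) (h : E8c r S) :
    WA 2 5 S :=
  wa_E8 hr h2 Nat.prime_five h5.symm h (allD_five hr Nat.prime_two h5.symm (by omega) h)

end Cfsg.Agent.PQ.EA.CvI1
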