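import Cfsg.Agent.PQ.EA.Defs3
import Cfsg.Agent.PQ.SS.CrsXD

/-!
# S4982: the rows without a Levi witness, invariant witnesses (helper30, task 1133): statements
-/

set_option autoImplicit false

namespace Cfsg.Agent.PQ.EA

open Cfsg Cfsg.Agent.PQ.SS

/-- the bad pairs of the exceptional groups -/
structure CvI : Prop where
  g2 : ∀ (r : ℕ) (S : Type) [Group S] [Finite S], r.Prime → 5 ≤ r → G2c r S → WA 2 3 S
  f4 : ∀ (r : ℕ) (S : Type) [Group S] [Finite S], r.Prime → 5 ≤ r → F4c r S → WA 2 3 S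
  e23 : ∀ (r : ℕ) (S : Type) [Group S] [Finite S], r.Prime → 5 ≤ r → E8c r S → WA 2 3 S
  e25 : ∀ (r : ℕ) (S : Type) [Group S] [Finite S], r.Prime → r ≠ 2 → r ≠ 5 → E8c r S → WA 2 5 S
  e35 : ∀ (r : ℕ) (S : Type) [Group S] [Finite S], r.Prime → r ≠ 3 → r ≠ 5 → E8c r S → WA 3 5 S
  e6 : ∀ (r : ℕ) (S : Type) [Group S] [Finite S], r.Prime → 5 ≤ r → E6c r S → WA 2 3 S
  t6 : ∀ (r : ℕ) (S : Type) [Group S] [Finite S], r.Prime → 5 ≤ r → T6c r S → WA 2 3 S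
  e7 : ∀ (r : ℕ) (S : Type) [Group S] [Finite S], r.Prime → 5 ≤ r → E7c r S → WA 3 2 S

end Cfsg.Agent.PQ.EA
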