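import Cfsg.Agent.PQ.EA.CvXA
import Cfsg.Agent.H345.NHSzRee
import Cfsg.Agent.H759.TwF.Main
import Cfsg.Agent.H631.Known

/-!
# S4982, cross characteristic: Suzuki and Ree groups; the prime `2` (helper97)

The rows of `H345/NHSzRee`, `H759/TwF`, `H631` for the elements of prime order only.
-/

set_option linter.style.haveILetI false
set_option linter.unusedSimpArgs false
set_option autoImplicit false
set_option linter.unusedSectionVars false
set_option linter.unusedVariables false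

namespace Cfsg.Agent.PQ.EA.CvX

universe u v

theorem Row.congr {X : Type u} {Y : Type v} [Group X] [Group Y] (e : X ≃* Y) (h : Row X) : Row Y := by
  intro π hπ hnt hc
  obtain ⟨T, hT, hi⟩ := h π (fun p hp => ⟨(hπ p hp).1, (hπ p hp).2.1, by
    rw [Nat.card_congr e.toEquiv]; exact (hπ p hp).2.2⟩) hnt ⟨hc.1, fun p hp q hq hpq x ⟨k, hk⟩ hd =>
      hc.2 p hp q hq hpq (e x) ⟨k, by rw [← hk, MulEquiv.orderOf_eq]⟩
        (by rwa [H630.NH.centralizer_map_equiv, Subgroup.index_map_equiv])⟩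
  refine ⟨T.map (e : X →* Y), ⟨⟨?_⟩⟩, fun p hp => ?_⟩
  · rintro ⟨_, a, ha, rfl⟩ ⟨_, b, hb, rfl⟩
    have h2 : a * b = b * a := congrArg Subtype.val (hT.is_comm.comm ⟨a, ha⟩ ⟨b, hb⟩)
    apply Subtype.ext
    show (e : X →* Y) a * (e : X →* Y) b = (e : X →* Y) b * (e : X →* Y) a
    rw [← map_mul, ← map_mul, h2]
  · rw [Subgroup.index_map_equiv]
    exact hi p hp

section

open Cfsg.Agent.H345 Cfsg.Agent.H345.NHSzRee
open Cfsg

open scoped Pointwise

open Cfsg.Agent.H630.NH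

/-- If the centralizers of the elements of odd prime order are nilpotent and the Sylow subgroups for odd
primes are cyclic, then `Row` holds. -/
theorem row_of_cn {X : Type u} [Group X] [Finite X]
    (hC : ∀ x : X, x ≠ 1 → Group.IsNilpotent (Subgroup.centralizer ({x} : Set X)))
    (hS : ∀ p : ℕ, p.Prime → p ≠ 2 → ∀ P : Sylow p X, IsCyclic P) : Row X := by
  intro π hπ hnt hc
  obtain ⟨p, hp, q, hq, hpq⟩ := hnt
  obtain ⟨hpp, hp2, hpd⟩ := hπ p hp
  obtain ⟨hqp, hq2, hqd⟩ := hπ q hq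
  have hpf : Fact p.Prime := ⟨hpp⟩
  have hqf : Fact q.Prime := ⟨hqp⟩
  obtain ⟨x, hx⟩ := exists_prime_orderOf_dvd_card' p hpd
  set C := Subgroup.centralizer ({x} : Set X) with hCdef
  have hxne : x ≠ 1 := by
    rintro rfl
    rw [orderOf_one] at hx
    exact hpp.one_lt.ne hx
  have hs : ∀ s ∈ π, s ≠ p → ¬ s ∣ C.index := fun s hs hsp =>
    hc.2 p hp s hs hsp.symm x ⟨1, by rw [hx, pow_one]⟩
  -- an element `y` of order `q` of `C`
  have hqC : q ∣ Nat.card C := by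
    have h1 : q ∣ C.index * Nat.card C := by rw [Subgroup.index_mul_card]; exact hqd
    exact (hqp.dvd_mul.mp h1).resolve_left (hs q hq hpq.symm)
  obtain ⟨y, hy⟩ := exists_prime_orderOf_dvd_card' q hqC
  have hyx : x ∈ Subgroup.centralizer ({(y : X)} : Set X) := by
    rw [Subgroup.mem_centralizer_singleton_iff]
    exact ((Subgroup.mem_centralizer_singleton_iff.mp y.2)).symm
  have hyp : ¬ p ∣ (Subgroup.centralizer ({(y : X)} : Set X)).index :=
    hc.2 q hq p hp hpq.symm (y : X) ⟨1, by rw [Subgroup.orderOf_coe, hy, pow_one]⟩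
  have hpC : ¬ p ∣ C.index := by
    have hxp : IsPGroup p (Subgroup.zpowers (⟨x, hyx⟩ : Subgroup.centralizer ({(y : X)} : Set X))) := by
      apply IsPGroup.of_card (n := 1)
      rw [Nat.card_zpowers, Subgroup.orderOf_mk, hx, pow_one]
    obtain ⟨P, hP⟩ := hxp.exists_le_sylow
    -- the image of `P` in `X`
    have hPp : IsPGroup p ((P : Subgroup _).map (Subgroup.centralizer ({(y : X)} : Set X)).subtype) :=
      P.isPGroup'.map _
    have hPi : ¬ p ∣ ((P : Subgroup _).map (Subgroup.centralizer ({(y : X)} : Set X)).subtype).index := by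
      rw [Subgroup.index_map_subtype]
      intro hd
      rcases hpp.dvd_mul.mp hd with h | h
      · exact P.not_dvd_index h
      · exact hyp h
    set P' : Sylow p X := IsPGroup.toSylow hPp hPi with hP'
    have hcyc : IsCyclic P' := hS p hpp hp2 P'
    have hxP : x ∈ (P' : Subgroup X) := by
      have h1 : (⟨x, hyx⟩ : Subgroup.centralizer ({(y : X)} : Set X)) ∈ (P : Subgroup _) :=
        hP (Subgroup.mem_zpowers _)
      exact ⟨_, h1, rfl⟩
    have hle : (P' : Subgroup X) ≤ C := by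
      intro z hz
      rw [hCdef, Subgroup.mem_centralizer_singleton_iff]
      have h1 : IsMulCommutative P' := inferInstance
      have := h1.is_comm.comm (⟨z, hz⟩ : P') ⟨x, hxP⟩
      exact congrArg Subtype.val this
    intro hd
    exact hPi (hd.trans (Subgroup.index_dvd_of_le hle))
  have hsC : ∀ s ∈ π, ¬ s ∣ C.index := by
    intro s hs'
    by_cases h : s = p
    · rw [h]; exact hpC
    · exact hs s hs' h
  -- the Hall `2'`-subgroup of `C`
  have hnil : Group.IsNilpotent C := hC x hxne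
  obtain ⟨S⟩ : Nonempty (Sylow 2 C) := inferInstance
  have hSn : (S : Subgroup C).Normal := inferInstance
  have hcop : Nat.Coprime (Nat.card S) (S : Subgroup C).index := S.card_coprime_index
  obtain ⟨T, hT⟩ := Subgroup.exists_right_complement'_of_coprime hcop
  have hTi : T.index = Nat.card S := hT.index_eq_card
  have hTc : Nat.card T = (S : Subgroup C).index := hT.symm.index_eq_card.symm
  have hTodd : ¬ 2 ∣ Nat.card T := by rw [hTc]; exact S.not_dvd_index
  have hTcyc : IsCyclic T := by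
    have : IsZGroup T := by
      constructor
      intro s hsp P
      have hsf : Fact s.Prime := ⟨hsp⟩
      by_cases hs2 : s = 2
      · subst hs2
        have h1 : Nat.card P = 1 := by
          obtain ⟨k, hk⟩ := P.isPGroup'.exists_card_eq
          rcases Nat.eq_zero_or_pos k with h0 | h0
          · rw [hk, h0, pow_zero]
          · exfalso
            apply hTodd
            exact ((dvd_pow_self 2 h0.ne').trans (by rw [← hk])).trans (Subgroup.card_subgroup_dvd_card (P : Subgroup T))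
        have : Subsingleton P := (Nat.card_eq_one_iff_unique.mp h1).1
        exact isCyclic_of_subsingleton
      · -- embed into a Sylow subgroup of `X`
        set f : T →* X := C.subtype.comp T.subtype with hf
        have hfi : Function.Injective f := Subtype.val_injective.comp Subtype.val_injective
        have hPp : IsPGroup s ((P : Subgroup T).map f) := P.isPGroup'.map _
        obtain ⟨R, hR⟩ := hPp.exists_le_sylow
        have hcyc : IsCyclic R := hS s hsp hs2 R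
        have h2 : IsCyclic ((P : Subgroup T).map f) :=
          isCyclic_of_injective (Subgroup.inclusion hR) (Subgroup.inclusion_injective hR)
        exact isCyclic_of_injective ((P : Subgroup T).equivMapOfInjective f hfi).toMonoidHom
          ((P : Subgroup T).equivMapOfInjective f hfi).injective
    have : Group.IsNilpotent T := inferInstance
    infer_instance
  refine ⟨T.map C.subtype, ?_, ?_⟩
  · have h1 : IsCyclic (T.map C.subtype) := isCyclic_of_surjective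
      ((T.equivMapOfInjective C.subtype Subtype.val_injective).toMonoidHom)
      (T.equivMapOfInjective C.subtype Subtype.val_injective).surjective
    infer_instance
  · intro s hs' hd
    rw [Subgroup.index_map_subtype] at hd
    have hsp := (hπ s hs').1
    rcases hsp.dvd_mul.mp hd with h | h
    · rw [hTi] at h
      obtain ⟨k, hk⟩ := S.isPGroup'.exists_card_eq
      rw [hk] at h
      exact (hπ s hs').2.1 ((Nat.prime_dvd_prime_iff_eq hsp Nat.prime_two).mp (hsp.dvd_of_dvd_pow h))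
    · exact hsC s hs' h

theorem row_suzuki {X : Type u} [Group X] (h : Cfsg.Lie.IsoSuzuki X) : Row X := by
  obtain ⟨F, _, _, m, hm, hF, ⟨e⟩⟩ := h
  obtain ⟨i⟩ := Cfsg.Agent.OddCyclic.ClaimC.SzIso.iso hm hF
  refine Row.congr (i.trans e.symm) ?_
  apply row_of_cn
  · intro x hx
    exact Cfsg.Agent.S0332.result hm hF x hx
  · intro p hp hp2 P
    have : Fact p.Prime := ⟨hp⟩
    exact Cfsg.Agent.S0331.result hm hF hp2 P

/-- The four cyclic Hall subgroups of the Ree groups: abstract version. -/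
theorem row_of_ti {X : Type u} [Group X] [Finite X] {ι : Type} (k n : ι → ℕ)
    (hX3 : 9 ∣ Nat.card X)
    (hA : ∀ i : ι, ∃ A : Subgroup X, IsCyclic A ∧ Nat.card A = k i ∧
      Nat.card (Subgroup.normalizer (A : Set X)) = n i ∧
      ∀ A₀ : Subgroup X, A₀ ≤ A → A₀ ≠ ⊥ → Subgroup.normalizer (A₀ : Set X) = Subgroup.normalizer (A : Set X))
    (hn9 : ∀ i, ¬ 9 ∣ n i)
    (hcov : ∀ p : ℕ, p.Prime → p ≠ 2 → p ≠ 3 → p ∣ Nat.card X → ∃ i, p ∣ k i)
    (hsep : ∀ p : ℕ, p.Prime → p ≠ 2 → p ≠ 3 → ∀ i, p ∣ n i → ∀ M, M * k i = Nat.card X → ¬ p ∣ M) : Row X := by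
  intro π hπ hnt hc
  -- a prime of `π` different from `3`
  obtain ⟨p, hp, hp3⟩ : ∃ p ∈ π, p ≠ 3 := by
    obtain ⟨p, hp, q, hq, hpq⟩ := hnt
    by_cases h : p = 3
    · exact ⟨q, hq, fun h' => hpq (h.trans h'.symm)⟩
    · exact ⟨p, hp, h⟩
  obtain ⟨hpp, hp2, hpd⟩ := hπ p hp
  have hpf : Fact p.Prime := ⟨hpp⟩
  obtain ⟨i, hi⟩ := hcov p hpp hp2 hp3 hpd
  obtain ⟨A, hAc, hAk, hAn, hAt⟩ := hA i
  rw [← hAk] at hi
  obtain ⟨x, hx⟩ := exists_prime_orderOf_dvd_card' p hi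
  set C := Subgroup.centralizer ({(x : X)} : Set X) with hCdef
  have hxo : orderOf (x : X) = p := by rw [Subgroup.orderOf_coe, hx]
  have hCA : C ≤ Subgroup.normalizer (A : Set X) := by
    rw [← hAt (Subgroup.zpowers (x : X)) (by rw [Subgroup.zpowers_le]; exact x.2) ?_]
    · intro c hc'
      rw [Subgroup.mem_centralizer_singleton_iff] at hc'
      have h1 : c ∈ Subgroup.centralizer ((Subgroup.zpowers (x : X) : Subgroup X) : Set X) := by
        rw [Subgroup.mem_centralizer_iff]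
        rintro _ ⟨j, rfl⟩
        have hcomm : Commute (x : X) c := hc'.symm
        exact (hcomm.zpow_left j)
      exact Subgroup.centralizer_le_normalizer _ h1
    · rw [Ne, Subgroup.zpowers_eq_bot]
      intro h
      rw [h, orderOf_one] at hxo
      exact hpp.one_lt.ne hxo
  have hCd : Nat.card C ∣ n i := by
    rw [← hAn]
    exact Subgroup.card_dvd_of_le hCA
  have hs : ∀ s ∈ π, s ≠ p → ¬ s ∣ C.index := fun s hs hsp =>
    hc.2 p hp s hs hsp.symm x ⟨1, by rw [hxo, pow_one]⟩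
  have h3 : 3 ∉ π := by
    intro h3
    have h1 := hs 3 h3 (Ne.symm hp3)
    apply hn9 i
    have h2 : 9 ∣ Nat.card C * C.index := by rw [Subgroup.card_mul_index]; exact hX3
    have h4 : Nat.Coprime 9 C.index := by
      have h5 : Nat.Coprime 3 C.index := (Nat.Prime.coprime_iff_not_dvd Nat.prime_three).mpr h1
      exact (h5.pow_left 2)
    exact (h4.dvd_of_dvd_mul_right h2).trans hCd
  refine ⟨A, inferInstance, ?_⟩
  intro s hs' hd
  obtain ⟨hsp, hs2, hsd⟩ := hπ s hs'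
  have hs3 : s ≠ 3 := fun h => h3 (h ▸ hs')
  have hsn : s ∣ n i := by
    by_cases h : s = p
    · rw [h, ← hAn]
      exact hi.trans (Subgroup.card_dvd_of_le Subgroup.le_normalizer)
    · have h1 : s ∣ C.index * Nat.card C := by rw [Subgroup.index_mul_card]; exact hsd
      exact ((hsp.dvd_mul.mp h1).resolve_left (hs s hs' h)).trans hCd
  exact hsep s hsp hs2 hs3 i hsn A.index (by rw [← hAk, Subgroup.index_mul_card]) hd

theorem row_ree_aux {K : Type} [Field K] [Fintype K] {m : ℕ} (hm : 1 ≤ m)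
    (hK : Fintype.card K = 3 ^ (2 * m + 1)) : Row ↥(Cfsg.Lie.twistedG2 K (3 ^ m)) := by
  obtain ⟨a, b, c, d, ha, hb, hc, hd, hcd⟩ := num hm
  have hcard := Cfsg.Agent.S1069.result hK
  have hA := Cfsg.Agent.S1158.result hm hK
  have h27 : 27 ∣ 3 ^ (2 * m + 1) := by
    have : (27 : ℕ) = 3 ^ 3 := by norm_num
    rw [this]
    exact pow_dvd_pow 3 (by omega)
  have h9r : 9 ∣ 3 ^ (m + 1) := by
    have : (9 : ℕ) = 3 ^ 2 := by norm_num
    rw [this]
    exact pow_dvd_pow 3 (by omega)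
  have hprQ : ∀ s : ℕ, s.Prime → s ∣ 3 ^ (2 * m + 1) → s = 3 := fun s hs h =>
    (Nat.prime_dvd_prime_iff_eq hs Nat.prime_three).mp (hs.dvd_of_dvd_pow h)
  have hprr : ∀ s : ℕ, s.Prime → s ∣ 3 ^ (m + 1) → s = 3 := fun s hs h =>
    (Nat.prime_dvd_prime_iff_eq hs Nat.prime_three).mp (hs.dvd_of_dvd_pow h)
  set Q := 3 ^ (2 * m + 1) with hQ
  set r := 3 ^ (m + 1) with hr
  have hcard2 : Nat.card ↥(Cfsg.Lie.twistedG2 K (3 ^ m)) = Q ^ 3 * (2 * a) * (4 * b * (c * d)) := by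
    rw [hcard]
    have h1 : Q - 1 = 2 * a := by omega
    rw [h1, hcd, ← hb, ha]
    ring
  have hQ0 : 0 < Q := by positivity
  have ha0 : 0 < a := by omega
  have hb0 : 0 < b := by omega
  have hcd0 : 0 < c * d := by rw [hcd]; omega
  have hc0 : 0 < c := Nat.pos_of_mul_pos_right hcd0 |> fun _ => by
    rcases Nat.eq_zero_or_pos c with h | h
    · rw [h, zero_mul] at hcd0; omega
    · exact h
  have hd0 : 0 < d := by rw [hd]; omega
  have hfin : Finite ↥(Cfsg.Lie.twistedG2 K (3 ^ m)) := by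
    apply Nat.finite_of_card_ne_zero
    rw [hcard2]
    positivity
  -- the basic separations
  have sab : ∀ s : ℕ, s.Prime → s ≠ 2 → s ∣ a → s ∣ b → False := by
    intro s hs hs2 h1 h2
    have h3 : s ∣ 4 * b := h2.mul_left 4
    have h4 : s ∣ 2 * a := h1.mul_left 2
    have h5 : 4 * b = 2 * a + 2 := by omega
    rw [h5] at h3
    have h6 : s ∣ 2 := (Nat.dvd_add_right h4).mp h3
    exact hs2 ((Nat.prime_dvd_prime_iff_eq hs Nat.prime_two).mp h6)
  have sacd : ∀ s : ℕ, s.Prime → s ∣ a → s ∣ c * d → False := by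
    intro s hs h1 h2
    rw [hcd] at h2
    have h4 : s ∣ 2 * a * Q := (h1.mul_left 2).mul_right Q
    exact hs.one_lt.ne' (Nat.dvd_one.mp ((Nat.dvd_add_right h4).mp h2))
  have sbcd : ∀ s : ℕ, s.Prime → s ≠ 3 → s ∣ b → s ∣ c * d → False := by
    intro s hs hs3 h1 h2
    have h3 : c * d + 2 * (4 * b) = Q * (4 * b) + 3 := by
      rw [hcd, ← hb, ha]; ring
    have h4 : s ∣ Q * (4 * b) + 3 := by
      rw [← h3]
      exact dvd_add h2 ((h1.mul_left 4).mul_left 2)
    have h5 : s ∣ 3 := (Nat.dvd_add_right ((h1.mul_left 4).mul_left Q)).mp h4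
    exact hs3 ((Nat.prime_dvd_prime_iff_eq hs Nat.prime_three).mp h5)
  have scd : ∀ s : ℕ, s.Prime → s ≠ 2 → s ≠ 3 → s ∣ c → s ∣ d → False := by
    intro s hs hs2 hs3 h1 h2
    have h3 : d = c + 2 * r := by omega
    rw [h3] at h2
    have h4 : s ∣ 2 * r := (Nat.dvd_add_right h1).mp h2
    rcases hs.dvd_mul.mp h4 with h | h
    · exact hs2 ((Nat.prime_dvd_prime_iff_eq hs Nat.prime_two).mp h)
    · exact hs3 (hprr s hs h)
  refine row_of_ti (ι := Fin 4) (k := ![a, b, c, d]) (n := ![2 * (2 * a), 6 * (4 * b), 6 * c, 6 * d]) ?_ ?_ ?_ ?_ ?_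
  · rw [hcard2]
    exact (((Dvd.intro_left 3 (by norm_num) : (9 : ℕ) ∣ 27).trans h27).trans (dvd_pow_self Q (by norm_num))).trans
      ((dvd_mul_right _ _).trans (dvd_mul_right _ _))
  · intro i
    have e1 : (Q - 1) / 2 = a := by omega
    have e2 : (Q + 1) / 4 = b := by omega
    have e3 : Q - r + 1 = c := by omega
    have e4 : Q + r + 1 = d := hd.symm
    have e5 : Q - 1 = 2 * a := by omega
    simp only [e3, e4, e5, hb] at hA
    fin_cases i
    · exact hA (a, 2 * (2 * a)) (by simp)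
    · exact hA (b, 6 * (4 * b)) (by simp)
    · exact hA (c, 6 * c) (by simp)
    · exact hA (d, 6 * d) (by simp)
  · intro i
    have hQ9 : 9 ∣ Q := (Dvd.intro_left 3 (by norm_num) : (9 : ℕ) ∣ 27).trans h27
    fin_cases i
    · show ¬ 9 ∣ 2 * (2 * a)
      omega
    · show ¬ 9 ∣ 6 * (4 * b)
      omega
    · show ¬ 9 ∣ 6 * c
      omega
    · show ¬ 9 ∣ 6 * d
      omega
  · intro p hp hp2 hp3 hpd
    rw [hcard2] at hpd
    rcases hp.dvd_mul.mp hpd with h | h
    · rcases hp.dvd_mul.mp h with h | h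
      · exact absurd (hprQ p hp (hp.dvd_of_dvd_pow h)) hp3
      · rcases hp.dvd_mul.mp h with h | h
        · exact absurd ((Nat.prime_dvd_prime_iff_eq hp Nat.prime_two).mp h) hp2
        · exact ⟨0, h⟩
    · rcases hp.dvd_mul.mp h with h | h
      · rcases hp.dvd_mul.mp h with h | h
        · have : p ∣ 2 ^ 2 := by simpa using h
          exact absurd ((Nat.prime_dvd_prime_iff_eq hp Nat.prime_two).mp (hp.dvd_of_dvd_pow this)) hp2
        · exact ⟨1, h⟩
      · rcases hp.dvd_mul.mp h with h | h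
        · exact ⟨2, h⟩
        · exact ⟨3, h⟩
  · intro s hs hs2 hs3 i hi M hM hsM
    rw [hcard2] at hM
    have h2' : ∀ j : ℕ, s ∣ 2 ^ j → False := fun j hj =>
      hs2 ((Nat.prime_dvd_prime_iff_eq hs Nat.prime_two).mp (hs.dvd_of_dvd_pow hj))
    have hQ' : ∀ j : ℕ, s ∣ Q ^ j → False := fun j hj => hs3 (hprQ s hs (hs.dvd_of_dvd_pow hj))
    have h6 : ∀ y : ℕ, s ∣ 6 * y → s ∣ y := by
      intro y hy
      rcases hs.dvd_mul.mp hy with h | h
      · have h7 : s ∣ 2 * 3 := h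
        rcases hs.dvd_mul.mp h7 with h | h
        · exact absurd ((Nat.prime_dvd_prime_iff_eq hs Nat.prime_two).mp h) hs2
        · exact absurd ((Nat.prime_dvd_prime_iff_eq hs Nat.prime_three).mp h) hs3
      · exact h
    have h2 : ∀ y : ℕ, s ∣ 2 * y → s ∣ y := fun y hy =>
      (hs.dvd_mul.mp hy).resolve_left (fun h => h2' 1 (by simpa using h))
    have h4 : ∀ y : ℕ, s ∣ 4 * y → s ∣ y := fun y hy =>
      (hs.dvd_mul.mp hy).resolve_left (fun h => h2' 2 (by simpa using h))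
    fin_cases i
    · have hi' : s ∣ a := h2 _ (h2 _ hi)
      have hM' : M * a = Q ^ 3 * (2 * a) * (4 * b * (c * d)) := hM
      have hMe : M = Q ^ 3 * (2 ^ 3 * (b * (c * d))) :=
        Nat.eq_of_mul_eq_mul_right ha0 (by rw [hM']; ring)
      rw [hMe] at hsM
      rcases hs.dvd_mul.mp hsM with h | h
      · exact hQ' _ h
      rcases hs.dvd_mul.mp h with h | h
      · exact h2' _ h
      rcases hs.dvd_mul.mp h with h | h
      · exact sab s hs hs2 hi' h
      · exact sacd s hs hi' h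
    · have hi' : s ∣ b := h4 _ (h6 _ hi)
      have hM' : M * b = Q ^ 3 * (2 * a) * (4 * b * (c * d)) := hM
      have hMe : M = Q ^ 3 * (2 ^ 3 * (a * (c * d))) :=
        Nat.eq_of_mul_eq_mul_right hb0 (by rw [hM']; ring)
      rw [hMe] at hsM
      rcases hs.dvd_mul.mp hsM with h | h
      · exact hQ' _ h
      rcases hs.dvd_mul.mp h with h | h
      · exact h2' _ h
      rcases hs.dvd_mul.mp h with h | h
      · exact sab s hs hs2 h hi'
      · exact sbcd s hs hs3 hi' h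
    · have hi' : s ∣ c := h6 _ hi
      have hM' : M * c = Q ^ 3 * (2 * a) * (4 * b * (c * d)) := hM
      have hMe : M = Q ^ 3 * (2 ^ 3 * (a * (b * d))) :=
        Nat.eq_of_mul_eq_mul_right hc0 (by rw [hM']; ring)
      rw [hMe] at hsM
      rcases hs.dvd_mul.mp hsM with h | h
      · exact hQ' _ h
      rcases hs.dvd_mul.mp h with h | h
      · exact h2' _ h
      rcases hs.dvd_mul.mp h with h | h
      · exact sacd s hs h (hi'.mul_right d)
      rcases hs.dvd_mul.mp h with h | h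
      · exact sbcd s hs hs3 h (hi'.mul_right d)
      · exact scd s hs hs2 hs3 hi' h
    · have hi' : s ∣ d := h6 _ hi
      have hM' : M * d = Q ^ 3 * (2 * a) * (4 * b * (c * d)) := hM
      have hMe : M = Q ^ 3 * (2 ^ 3 * (a * (b * c))) :=
        Nat.eq_of_mul_eq_mul_right hd0 (by rw [hM']; ring)
      rw [hMe] at hsM
      rcases hs.dvd_mul.mp hsM with h | h
      · exact hQ' _ h
      rcases hs.dvd_mul.mp h with h | h
      · exact h2' _ h
      rcases hs.dvd_mul.mp h with h | h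
      · exact sacd s hs h (hi'.mul_left c)
      rcases hs.dvd_mul.mp h with h | h
      · exact sbcd s hs hs3 h (hi'.mul_left c)
      · exact scd s hs hs2 hs3 h hi'

theorem row_ree {X : Type u} [Group X] (h : Cfsg.Lie.IsoRee X) : Row X := by
  obtain ⟨K, _, _, m, hm, hK, ⟨e⟩⟩ := h
  exact Row.congr e.symm (row_ree_aux hm hK)

end

section

open Cfsg.Agent.H759 Cfsg.Agent.H759.TwF
open CoxeterSystem Cfsg Cfsg.Lie Cfsg.Lie.ChevalleyDatum

open Cfsg.Agent.ChevalleyStructure Cfsg.Agent.ChevalleyStructure.Elts Cfsg.Agent.ChevalleyStructure.CoxeterGeom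
  Cfsg.Agent.ChevalleyStructure.CoxeterGeomTypes Cfsg.Agent.ChevalleyStructure.NPerm

open Cfsg.Agent.Tits.Roots Cfsg.Agent.Tits.Core Cfsg.Agent.Nodes Cfsg.Agent.Nodes.Reps Cfsg.Agent.Nodes.BNOf
  Cfsg.Agent.Nodes.RGDChev

open Cfsg.Agent.KFacts.RgdField Cfsg.Agent.KFacts.RgdChevCoord Cfsg.Agent.BpExc.TorCent Cfsg.Agent.BpExc.TorChev

open Cfsg.Agent.GpExc.Field Cfsg.Agent.BpExc.Tow Cfsg.Agent.BpExc.TowChev
  Cfsg.Agent.BpExc.LangFr Cfsg.Agent.BpExc Cfsg.Agent.H129.TorusChar Cfsg.Agent.H129.TorusUntw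

open Cfsg.Agent.H493.F4End Cfsg.Agent.H493.F4Tor

open Cfsg.Agent.H630.NH Cfsg.Agent.H630.Exc

section

variable {K : Type u} [Field K] [Fintype K] [CharP K 2] {m : ℕ} (hK : Fintype.card K = 2 ^ (2 * m + 1))
  {k : Type u} [Field k] [IsAlgClosed k] [CharP k 2] (f : K →+* k) (hk : LocFin k) {W : Type*} [Group W] [Finite W]
  (cs : CoxeterSystem CoxeterMatrix.F₄ W) {hN : NSys CoxeterMatrix.F₄ (TT chevF4 k) (nc hp k)} {w : W}
  {n z : ↥(chevF4.group k)} (hn : Rp cs hN w n) (hz : n = z⁻¹ * ste k m z)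

include hK hz

include hk hn

include f in
/-- **Theorem A.** -/
theorem not_cond_A {π : Set ℕ} {r s : ℕ} (hrp : r.Prime) (hsp : s.Prime) (hr : r ∈ π) (hs : s ∈ π) (hrs : r ≠ s)
    (hsX : s ∣ Nat.card ↥(twistedF4 K (2 ^ m)))
    (hroot : ∀ a, IsRoot cs hp.isCartan a → ∃ t ∈ TT chevF4 k, t ^ r = 1 ∧ H759.TwF.InT cs m w t ∧ cX hp t a ≠ 1)
    {N : ℕ} (hNt : ∀ t ∈ TT chevF4 k, H759.TwF.InT cs m w t → t ^ N = 1) (hsN : ¬ s ∣ N) :
    ¬ Cond π ↥(twistedF4 K (2 ^ m)) := by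
  have : Fact r.Prime := ⟨hrp⟩
  have : Fact s.Prime := ⟨hsp⟩
  refine not_cond_of_centralizer hr hs hrs hsX (tXr hp (eF_injective (m := m) f) z r) ?_ ?_
  · rintro ⟨x, hx⟩
    exact ⟨1, Subtype.ext (by rw [pow_one]; exact hx.2)⟩
  · intro y hy hyc
    have hcT := mem_torus hK f hk cs hn hz hrp hsp hrs hroot hy hyc
    have hcs : (z⁻¹ * eF m f y * z) ^ s = 1 := by
      have h1 : (z⁻¹ * eF m f y * z) ^ s = z⁻¹ * eF m f y ^ s * z := by
        have h2 := conj_pow (i := s) (a := z⁻¹) (b := eF m f y)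
        rwa [inv_inv] at h2
      rw [h1, ← map_pow, ← hy, pow_orderOf_eq_one, map_one, mul_one, inv_mul_cancel]
    have hcN := hNt _ hcT ((tau_iff cs hk hn hcT).1 (tau hK f hz y))
    have h1 : orderOf (z⁻¹ * eF m f y * z) ∣ 1 := by
      have h2 := Nat.dvd_gcd (orderOf_dvd_of_pow_eq_one hcs) (orderOf_dvd_of_pow_eq_one hcN)
      rwa [((Nat.Prime.coprime_iff_not_dvd hsp).2 hsN).gcd_eq_one] at h2
    have h3 : z⁻¹ * eF m f y * z = 1 := orderOf_eq_one_iff.1 (Nat.dvd_one.1 h1)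
    have h5 := eq_one_of_conj f h3
    rw [h5, orderOf_one] at hy
    exact hsp.one_lt.ne hy

end

end

section

open Cfsg.Agent.H759 Cfsg.Agent.H759.TwF
open CoxeterSystem Cfsg Cfsg.Lie Cfsg.Lie.ChevalleyDatum

open Cfsg.Agent.ChevalleyStructure Cfsg.Agent.ChevalleyStructure.Elts Cfsg.Agent.ChevalleyStructure.CoxeterGeom
  Cfsg.Agent.ChevalleyStructure.CoxeterGeomTypes Cfsg.Agent.ChevalleyStructure.NPerm
  Cfsg.Agent.ChevalleyStructure.RootVec

open Cfsg.Agent.Tits.Roots Cfsg.Agent.Tits.Core Cfsg.Agent.Nodes Cfsg.Agent.Nodes.Reps Cfsg.Agent.Nodes.BNOf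
  Cfsg.Agent.Nodes.RGDChev

open Cfsg.Agent.KFacts.RgdField Cfsg.Agent.KFacts.RgdChevCoord Cfsg.Agent.BpExc.TorCent Cfsg.Agent.BpExc.TorChev

open Cfsg.Agent.GpExc.Field Cfsg.Agent.BpExc.Tow Cfsg.Agent.BpExc.TowChev
  Cfsg.Agent.BpExc.LangFr Cfsg.Agent.BpExc Cfsg.Agent.H129.TorusChar Cfsg.Agent.H129.TorusUntw

open Cfsg.Agent.H493.F4End Cfsg.Agent.H493.F4Tor Cfsg.Agent.H129.WData

open Cfsg.Agent.H630.NH Cfsg.Agent.H630.Exc

section Fin

variable {K : Type u} [Field K] [Fintype K] {m : ℕ} (hK : Fintype.card K = 2 ^ (2 * m + 1))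

include hK

/-- **Theorem A** for a torus. -/
theorem factA {d : TD} (hd : OkT d) (hpos : 0 < pe (2 ^ m) d.N) {π : Set ℕ} {r s : ℕ} (hrp : r.Prime) (hsp : s.Prime)
    (hr : r ∈ π) (hs : s ∈ π) (hrs : r ≠ s) (hsX : s ∣ Nat.card ↥(twistedF4 K (2 ^ m))) (hr2 : r ≠ 2)
    (h3 : d.me = 0 ∨ r ≠ 3) (hrN : (r : ℤ) ∣ pe (2 ^ m) d.N) (hsN : ¬ (s : ℤ) ∣ pe (2 ^ m) d.N) :
    ¬ Cond π ↥(twistedF4 K (2 ^ m)) := by
  classical
  have : Fact (Nat.Prime 2) := ⟨Nat.prime_two⟩
  have hc2 : CharP K 2 := F4Fixed.charP_two hK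
  obtain ⟨p, e, hpF, hpc, hpk, he, hpe, hk⟩ := exists_closure hK
  have hp2 : p = 2 := CharP.eq K hpc hc2
  subst hp2
  let k := AlgebraicClosure K
  let f : K →+* k := algebraMap K k
  let cs := CoxeterMatrix.F₄.toCoxeterSystem
  have hW : Finite CoxeterMatrix.F₄.Group := H493.PGF4.finW
  have hN : NSys CoxeterMatrix.F₄ (TT chevF4 k) (nc hp k) := nsys_of_locFin hp cs hk 2
  obtain ⟨n, hn⟩ := exists_rp cs hN (TD.w cs d)
  obtain ⟨z, hz⟩ := H493.F4Lang.lang_ste m n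
  obtain ⟨N, hNe⟩ := Int.eq_ofNat_of_zero_le hpos.le
  exact not_cond_A hK f hk cs hn hz hrp hsp hr hs hrs hsX (hroot cs hd.1 hd.2.1 hd.2.2.2 hrp hr2 h3 hrN)
    (N := N) (expo cs hd.1 hd.2.2.1 hNe.symm) (fun h => hsN (by
      rw [hNe]; exact Int.natCast_dvd_natCast.2 h))

/-- **Theorem A.** -/
theorem fact (a : Fin 7) {π : Set ℕ} {r s : ℕ} (hrp : r.Prime) (hsp : s.Prime)
    (hr : r ∈ π) (hs : s ∈ π) (hrs : r ≠ s) (hsX : s ∣ Nat.card ↥(twistedF4 K (2 ^ m))) (hr2 : r ≠ 2)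
    (h3 : a ≠ 4 ∨ r ≠ 3) (hrN : (r : ℤ) ∣ pe (2 ^ m) (NN a)) (hsN : ¬ (s : ℤ) ∣ pe (2 ^ m) (NN a)) :
    ¬ Cond π ↥(twistedF4 K (2 ^ m)) := by
  have hpos := NN_pos m a
  fin_cases a
  · exact factA hK okT_A hpos hrp hsp hr hs hrs hsX hr2 (Or.inl rfl) hrN hsN
  · exact factA hK okT_B hpos hrp hsp hr hs hrs hsX hr2 (Or.inl rfl) hrN hsN
  · exact factA hK okT_Cp hpos hrp hsp hr hs hrs hsX hr2 (Or.inl rfl) hrN hsN
  · exact factA hK okT_Cm hpos hrp hsp hr hs hrs hsX hr2 (Or.inl rfl) hrN hsN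
  · refine factA hK okT_D hpos hrp hsp hr hs hrs hsX hr2 (Or.inr (h3.resolve_left ?_)) hrN hsN
    intro h
    exact h rfl
  · exact factA hK okT_Ep hpos hrp hsp hr hs hrs hsX hr2 (Or.inl rfl) hrN hsN
  · exact factA hK okT_Em hpos hrp hsp hr hs hrs hsX hr2 (Or.inl rfl) hrN hsN

/-- **The row `²F₄(q)`.** -/
theorem row : Row ↥(twistedF4 K (2 ^ m)) := by
  intro π hπ hnt hc
  obtain ⟨p, hp', q, hq, hpq⟩ := hnt
  have h3 : 3 ∉ π := hc.1
  obtain ⟨a, ha⟩ := exists_type hK (hπ p hp').1 (hπ p hp').2.1 (hπ p hp').2.2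
  have hp3 : p ≠ 3 := fun h => h3 (h ▸ hp')
  obtain ⟨T, hT, hTc⟩ := factT hK (m := m) a
  refine ⟨T, hT, fun r hr => ?_⟩
  obtain ⟨hrp, hr2, hrX⟩ := hπ r hr
  have hr3 : r ≠ 3 := fun h => h3 (h ▸ hr)
  have hra : (r : ℤ) ∣ pe (2 ^ m) (NN a) := by
    by_contra hcon
    have hpr : p ≠ r := fun h => hcon (h ▸ ha)
    exact fact hK a (hπ p hp').1 hrp hp' hr hpr hrX (hπ p hp').2.1 (Or.inr hp3) ha hcon hc
  exact not_dvd_index hK hrp hr2 hr3 hra T hTc

end Fin

/-- **The row `²F₄(q)`.** -/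
theorem row_2F4 {G : Type*} [Group G] (h : Iso2F4 G) : Row G := by
  obtain ⟨K, _, _, m, hm, hK, ⟨e⟩⟩ := h
  exact Row.congr e.symm (row hK)

end

section

open Cfsg.Agent.H631 Cfsg.Agent.H631.ExcChev Cfsg.Agent.H631.ExcFold
open Cfsg

open scoped Pointwise

open Cfsg.Agent.Lib

/-- Some element of order `q` has a conjugacy class of even size. -/
def Bad (q : ℕ) (X : Type u) [Group X] : Prop :=
  ∃ y : X, O1 y q ∧ 2 ∣ (Subgroup.centralizer ({y} : Set X)).index

theorem Bad.congr {q : ℕ} {X : Type u} {Y : Type v} [Group X] [Group Y] (e : X ≃* Y) (h : Bad q X) : Bad q Y :=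
  let ⟨y, ⟨k, hk⟩, hd⟩ := h
  ⟨e y, ⟨k, by rw [← hk, MulEquiv.orderOf_eq]⟩, by rwa [H630.NH.centralizer_map_equiv, Subgroup.index_map_equiv]⟩

/-- First criterion: a 2-subgroup `A` centralized by no nontrivial `q`-element. -/
theorem bad_of_centralizer {G : Type u} [Group G] [Finite G] (q : ℕ) [hq : Fact q.Prime] (hd : q ∣ Nat.card G)
    (A : Subgroup G) (hA : IsPGroup 2 A)
    (h : ∀ y : G, (∃ k : ℕ, orderOf y = q ^ k) → (∀ a ∈ A, a * y = y * a) → y = 1) : Bad q G := by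
  obtain ⟨y, hy⟩ := exists_prime_orderOf_dvd_card' q hd
  refine ⟨y, ⟨1, by rw [hy, pow_one]⟩, ?_⟩
  by_contra hodd
  obtain ⟨g, hg⟩ := exists_conj_le A hA _ hodd
  have h1 : g⁻¹ * y * g = 1 := by
    apply h
    · refine ⟨1, ?_⟩
      rw [pow_one, ← hy]
      have := orderOf_injective (MulAut.conj g⁻¹).toMonoidHom (MulAut.conj g⁻¹).injective y
      simpa using this
    · intro a ha
      have h2 := hg a ha
      rw [Subgroup.mem_centralizer_singleton_iff] at h2
      have h3 : a * (g⁻¹ * y * g) = g⁻¹ * (g * a * g⁻¹ * y) * g := by group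
      rw [h3, h2]
      group
  have h2 : y = 1 := by
    have : y = g * (g⁻¹ * y * g) * g⁻¹ := by group
    rw [this, h1]; group
  rw [h2, orderOf_one] at hy
  exact hq.out.one_lt.ne hy

/-- Second criterion: a nontrivial real `q`-element, `q` odd. -/
theorem bad_of_real {G : Type u} [Group G] [Finite G] (q : ℕ) [hq : Fact q.Prime] (hq2 : q ≠ 2) (y : G)
    (hy1 : y ≠ 1) (hy : O1 y q) (hr : IsConj y y⁻¹) : Bad q G := by
  haveI : Fact (Nat.Prime 2) := ⟨Nat.prime_two⟩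
  refine ⟨y, hy, ?_⟩
  by_contra hodd
  obtain ⟨g, hg⟩ := isConj_iff.mp hr
  -- replace `g` by a 2-element
  obtain ⟨g2, hg2, hinv⟩ : ∃ g2 : G, IsPGroup 2 (Subgroup.zpowers g2) ∧ g2 * y * g2⁻¹ = y⁻¹ := by
    have hn : orderOf g ≠ 0 := (orderOf_pos g).ne'
    obtain ⟨k, m, hm, hk⟩ := Nat.exists_eq_two_pow_mul_odd hn
    refine ⟨g ^ m, ?_, ?_⟩
    · apply IsPGroup.of_card (n := k)
      rw [Nat.card_zpowers, orderOf_pow_of_dvd hm.pos.ne' ⟨2 ^ k, by rw [hk]; ring⟩, hk,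
        Nat.mul_div_cancel _ hm.pos]
    · have key : ∀ j : ℕ, g ^ (2 * j) * y * (g ^ (2 * j))⁻¹ = y := by
        intro j
        induction j with
        | zero => simp
        | succ j ihj =>
          have h1 : g ^ (2 * (j + 1)) = g * g * g ^ (2 * j) := by
            rw [mul_add, mul_one, pow_add, pow_two]
            rw [← pow_two, ← pow_add, ← pow_add, add_comm]
          rw [h1]
          have h2 : g * g * g ^ (2 * j) * y * (g * g * g ^ (2 * j))⁻¹
              = g * (g * (g ^ (2 * j) * y * (g ^ (2 * j))⁻¹) * g⁻¹) * g⁻¹ := by group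
          rw [h2, ihj, hg]
          have h3 : g * y⁻¹ * g⁻¹ = (g * y * g⁻¹)⁻¹ := by group
          rw [h3, hg, inv_inv]
      obtain ⟨j, hj⟩ := hm
      rw [hj, pow_succ']
      have h2 : g * g ^ (2 * j) * y * (g * g ^ (2 * j))⁻¹ = g * (g ^ (2 * j) * y * (g ^ (2 * j))⁻¹) * g⁻¹ := by
        group
      rw [h2, key, hg]
  -- `C(y)` has odd index in `G`, hence in `C(y) ⟨g2⟩`; but `g2` normalizes `C(y)`
  let C := Subgroup.centralizer ({y} : Set G)
  let D := C ⊔ Subgroup.zpowers g2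
  have hgC : g2 ∈ Subgroup.normalizer (C : Set G) := by
    rw [Subgroup.mem_normalizer_iff]
    intro c
    have h1 : g2⁻¹ * y * g2 = y⁻¹ := by
      have h2 : y = (g2⁻¹ * y⁻¹ * g2) := by rw [← hinv]; group
      have h3 : y⁻¹ = (g2⁻¹ * y⁻¹ * g2)⁻¹ := by rw [← h2]
      rw [h3]; group
    change c ∈ C ↔ g2 * c * g2⁻¹ ∈ C
    simp only [C, Subgroup.mem_centralizer_singleton_iff]
    constructor
    · intro hc
      have h4 : c * y⁻¹ = y⁻¹ * c := by
        have h5 := (Commute.inv_right (show Commute c y from hc))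
        exact h5
      have h6 : g2 * c * g2⁻¹ * y = g2 * (c * (g2⁻¹ * y * g2)) * g2⁻¹ := by group
      rw [h6, h1, h4, ← h1]
      group
    · intro hc
      have h4 : (g2 * c * g2⁻¹) * y⁻¹ = y⁻¹ * (g2 * c * g2⁻¹) :=
        (Commute.inv_right (show Commute (g2 * c * g2⁻¹) y from hc))
      have h6 : c * y = g2⁻¹ * (g2 * c * g2⁻¹ * (g2 * y * g2⁻¹)) * g2 := by group
      rw [h6, hinv, h4, ← hinv]
      group
  obtain ⟨P, hP⟩ := exists_sylow_le 2 C hodd
  obtain ⟨T, hT⟩ := hg2.exists_le_sylow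
  -- the Sylow 2-subgroups of `D` lie in `C`, as `C` is normal in `D` of odd index
  have hCD : C ≤ D := le_sup_left
  have hgD : g2 ∈ D := Subgroup.mem_sup_right (Subgroup.mem_zpowers g2)
  have hDn : D ≤ Subgroup.normalizer (C : Set G) := sup_le Subgroup.le_normalizer (by
    rw [Subgroup.zpowers_le]; exact hgC)
  have hnorm : (C.subgroupOf D).Normal := by
    exact (Subgroup.normal_subgroupOf_iff_le_normalizer hCD).mpr hDn
  have hgC' : g2 ∈ C := by
    have h1 : ¬ 2 ∣ (C.subgroupOf D).index := by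
      intro hd2
      exact hodd (hd2.trans (Subgroup.relIndex_dvd_index_of_le hCD))
    have h2 : (⟨g2, hgD⟩ : D) ^ (C.subgroupOf D).index ∈ C.subgroupOf D := by
      exact Subgroup.pow_index_mem _ _
    rw [Subgroup.mem_subgroupOf] at h2
    have h3 : g2 ^ (C.subgroupOf D).index ∈ C := by simpa using h2
    obtain ⟨k, hk⟩ := (IsPGroup.iff_card).mp hg2
    rw [Nat.card_zpowers] at hk
    have hcop : (orderOf g2).Coprime (C.subgroupOf D).index := by
      rw [hk]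
      exact Nat.Coprime.pow_left k ((Nat.prime_two.coprime_iff_not_dvd).mpr h1)
    have h4 : g2 ∈ Subgroup.zpowers (g2 ^ (C.subgroupOf D).index) := by
      have h5 := Nat.Coprime.symm hcop
      rw [mem_zpowers_pow_iff]
      exact h5
    exact (Subgroup.zpowers_le.mpr h3) h4
  rw [Subgroup.mem_centralizer_singleton_iff] at hgC'
  have h1 : y = y⁻¹ := by
    rw [← hinv, hgC']
    group
  have h2 : y ^ 2 = 1 := by
    rw [pow_two]
    nth_rewrite 2 [h1]
    exact mul_inv_cancel y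
  obtain ⟨k, hk⟩ := hy
  have h3 : orderOf y ∣ 2 := orderOf_dvd_of_pow_eq_one h2
  rw [hk] at h3
  have h4 : q ∣ 2 := (dvd_pow_self q one_ne_zero).trans h3
  exact hq2 ((Nat.prime_dvd_prime_iff_eq hq.out Nat.prime_two).mp h4)

end

section

open Cfsg.Agent.H631 Cfsg.Agent.H631.ExcChev Cfsg.Agent.H631.ExcFold
open Cfsg

open CoxeterSystem Cfsg.Agent.ChevalleyStructure.CoxeterGeom Cfsg.Agent.Tits.Roots Cfsg.Agent.Tits.Core
  Cfsg.Agent.Tits.Exchange Cfsg.Agent.Nodes.Reps Cfsg.Agent.Nodes.BNOf Cfsg.Agent.Nodes.StabComb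
  Cfsg.Agent.Nodes.Bruhat Cfsg.Agent.Nodes.OppDec Cfsg.Agent.Nodes.RGDLib Cfsg.Agent.GenExc

variable {I W Y : Type*} [Fintype I] [DecidableEq I] [Group W] [Group Y] {M : CoxeterMatrix I}
  {cs : CoxeterSystem M W} {A : I → I → ℤ} {h : IsCartan M A} {p : ℕ} {T : Subgroup Y} {n : I → Y}
  {X : (I → ℤ) → Subgroup Y}

open Matrix in
/-- **Real elements from `SL₂(K)`.** -/
theorem bad_of_sl [Finite Y] {K : Type} [Field K] [Fintype K] {p : ℕ} [hp : Fact p.Prime] [CharP K p]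
    (hK : Odd (Fintype.card K)) (q : ℕ) [hq : Fact q.Prime] (hq2 : q ≠ 2) (hd : q ∣ Fintype.card K - 1)
    (φ : Matrix.SpecialLinearGroup (Fin 2) K →* Y) (hφ : ∀ t : K, φ (Cfsg.Agent.ChevalleyStructure.SL2Hom.up t) = 1 → t = 0) : Bad q Y := by
  classical
  have hc : q ∣ Fintype.card Kˣ := by rwa [Fintype.card_units]
  obtain ⟨a, ha⟩ := exists_prime_orderOf_dvd_card q hc
  have haq : (a : K) ^ q = 1 := by
    rw [← Units.val_pow_eq_pow_val, ← ha, pow_orderOf_eq_one, Units.val_one]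
  have hqp : q ≠ p := by
    rintro rfl
    have h1 : q ∣ Fintype.card K := by
      obtain ⟨n, -, hn⟩ := FiniteField.card K q
      rw [hn]; exact dvd_pow_self _ n.ne_zero
    have h2 : 0 < Fintype.card K := Fintype.card_pos
    have h3 : q ∣ 1 := by
      have := (Nat.dvd_sub h1 hd)
      rwa [Nat.sub_sub_self h2] at this
    exact hq.out.one_lt.ne' (Nat.dvd_one.1 h3)
  let g : Matrix.SpecialLinearGroup (Fin 2) K := ⟨Matrix.diagonal ![(a : K), ((a⁻¹ : Kˣ) : K)], by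
    rw [Matrix.det_diagonal, Fin.prod_univ_two]; simp⟩
  have hgm : ∀ m : ℕ, ((g ^ m : Matrix.SpecialLinearGroup (Fin 2) K) : Matrix (Fin 2) (Fin 2) K) =
      Matrix.diagonal (fun i => (![(a : K), ((a⁻¹ : Kˣ) : K)] i) ^ m) := by
    intro m
    refine (Matrix.SpecialLinearGroup.coe_pow g m).trans ?_
    change (Matrix.diagonal ![(a : K), ((a⁻¹ : Kˣ) : K)]) ^ m = _
    rw [Matrix.diagonal_pow]
    rfl
  have hgq : g ^ q = 1 := by
    apply sl_ext
    refine (hgm q).trans ?_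
    refine Eq.trans ?_ (Matrix.SpecialLinearGroup.coe_one (n := Fin 2) (R := K)).symm
    rw [← Matrix.diagonal_one]
    congr 1
    funext i
    fin_cases i
    · exact haq
    · change ((a⁻¹ : Kˣ) : K) ^ q = 1
      rw [← Units.val_pow_eq_pow_val, inv_pow, ← ha, pow_orderOf_eq_one, inv_one, Units.val_one]
  have hg1 : g ≠ 1 := by
    intro h1
    have h2 := congrFun (congrFun (hgm 1) 0) 0
    rw [pow_one, h1, Matrix.diagonal_apply_eq, pow_one] at h2
    have h3 : a = 1 := Units.ext h2.symm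
    rw [h3, orderOf_one] at ha
    exact hq.out.one_lt.ne ha
  have hgo : orderOf g = q := orderOf_eq_prime hgq hg1
  have hreal := real_of_coprime hK q hq2 hqp g ⟨1, by rw [hgo, pow_one]⟩
  have hy1 : φ g ≠ 1 := by
    intro h1
    -- `g up(1) = up(a²) g`
    have h2 : g * Cfsg.Agent.ChevalleyStructure.SL2Hom.up (1 : K) = Cfsg.Agent.ChevalleyStructure.SL2Hom.up ((a : K) ^ 2) * g := by
      apply sl_ext
      refine (Matrix.SpecialLinearGroup.coe_mul _ _).trans ?_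
      refine Eq.trans ?_ (Matrix.SpecialLinearGroup.coe_mul _ _).symm
      change (Matrix.diagonal ![(a : K), ((a⁻¹ : Kˣ) : K)]) * !![1, 1; 0, 1] =
        !![1, (a : K) ^ 2; 0, 1] * (Matrix.diagonal ![(a : K), ((a⁻¹ : Kˣ) : K)])
      ext i j
      fin_cases i <;> fin_cases j <;> simp [Matrix.mul_apply, Fin.sum_univ_two, Matrix.diagonal, pow_two]
    have h3 : φ (Cfsg.Agent.ChevalleyStructure.SL2Hom.up (1 : K)) = φ (Cfsg.Agent.ChevalleyStructure.SL2Hom.up ((a : K) ^ 2)) := by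
      have := congrArg φ h2
      rwa [map_mul, map_mul, h1, one_mul, mul_one] at this
    have h4 : Cfsg.Agent.ChevalleyStructure.SL2Hom.up ((a : K) ^ 2 - 1) * Cfsg.Agent.ChevalleyStructure.SL2Hom.up (1 : K) = Cfsg.Agent.ChevalleyStructure.SL2Hom.up ((a : K) ^ 2) := by
      apply sl_ext
      refine (Matrix.SpecialLinearGroup.coe_mul _ _).trans ?_
      change (!![1, (a : K) ^ 2 - 1; 0, 1] : Matrix (Fin 2) (Fin 2) K) * !![1, 1; 0, 1] = !![1, (a : K) ^ 2; 0, 1]
      ext i j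
      fin_cases i <;> fin_cases j <;> simp [Matrix.mul_apply, Fin.sum_univ_two]
    have h5 : φ (Cfsg.Agent.ChevalleyStructure.SL2Hom.up ((a : K) ^ 2 - 1)) = 1 := by
      have := congrArg φ h4
      rw [map_mul, ← h3] at this
      exact mul_eq_right.1 this
    have h6 : (a : K) ^ 2 = 1 := sub_eq_zero.1 (hφ _ h5)
    have h7 : a ^ 2 = 1 := Units.ext (by rw [Units.val_pow_eq_pow_val, h6, Units.val_one])
    have h8 : orderOf a ∣ 2 := orderOf_dvd_of_pow_eq_one h7
    rw [ha] at h8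
    rcases (Nat.dvd_prime Nat.prime_two).1 h8 with h9 | h9
    · exact hq.out.one_lt.ne' h9
    · exact hq2 h9
  have hyq : orderOf (φ g) = q := orderOf_eq_prime (by rw [← map_pow, hgq, map_one]) hy1
  refine bad_of_real q hq2 (φ g) hy1 ⟨1, by rw [hyq, pow_one]⟩ ?_
  rw [← map_inv]
  exact φ.map_isConj hreal

/-- **Groups with a root group datum.** -/
theorem bad_of_rgd [Finite Y] [Finite W] (R : RGD cs h p T n X) (hG : GG cs h T X = ⊤) {z : I → Y}
    (hz : Invols cs h T X z) (hsq : ∀ i, z i * z i = 1) (hcomm : ∀ i j, z i * z j = z j * z i)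
    {K : Type} [Field K] [Fintype K] {p : ℕ} [hp : Fact p.Prime] [CharP K p] (hK : Odd (Fintype.card K))
    (hT : ∀ t ∈ T, t ^ (Fintype.card K - 1) = 1)
    (φ : Matrix.SpecialLinearGroup (Fin 2) K →* Y) (hφ : ∀ t : K, φ (Cfsg.Agent.ChevalleyStructure.SL2Hom.up t) = 1 → t = 0)
    (q : ℕ) [hq : Fact q.Prime] (hq2 : q ≠ 2) (hd : q ∣ Nat.card Y) : Bad q Y := by
  by_cases hqK : q ∣ Fintype.card K - 1
  · exact bad_of_sl hK q hq2 hqK φ hφ
  · refine bad_of_centralizer q hd _ (isPGroup_closure z hsq hcomm) ?_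
    rintro y ⟨k, hk⟩ hy
    have h1 : y ∈ T := by
      refine mem_T_of_commute R hG hz (fun i => hy (z i) (Subgroup.subset_closure ⟨i, rfl⟩))
        (N := q ^ k) (hq.out.odd_of_ne_two hq2).pow ?_
      rw [← hk]; exact pow_orderOf_eq_one y
    have h2 : orderOf y ∣ Fintype.card K - 1 := orderOf_dvd_of_pow_eq_one (hT y h1)
    rw [hk] at h2
    have h3 : Nat.Coprime (q ^ k) (Fintype.card K - 1) :=
      Nat.Coprime.pow_left k ((Nat.Prime.coprime_iff_not_dvd hq.out).2 hqK)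
    have h4 : q ^ k = 1 := Nat.Coprime.eq_one_of_dvd h3 h2
    rw [h4] at hk
    exact orderOf_eq_one_iff.1 hk

end

section

open Cfsg.Agent.H631 Cfsg.Agent.H631.ExcChev Cfsg.Agent.H631.ExcFold
open CoxeterSystem Subgroup

open Cfsg Cfsg.Lie Cfsg.Lie.ChevalleyDatum

open Cfsg.Agent.ChevalleyStructure Cfsg.Agent.ChevalleyStructure.Elts Cfsg.Agent.ChevalleyStructure.CoxeterGeom
  Cfsg.Agent.ChevalleyStructure.RootVec Cfsg.Agent.ChevalleyStructure.RootVecTab
  Cfsg.Agent.ChevalleyStructure.CoxeterGeomTypes Cfsg.Agent.ChevalleyStructure.NPerm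

open Cfsg.Agent.Tits.Roots Cfsg.Agent.Nodes.Reps Cfsg.Agent.Nodes.BNOf Cfsg.Agent.Nodes.RGDChev
  Cfsg.Agent.Nodes.Bruhat

open Cfsg.Agent.OddHalf.LongSL Cfsg.Agent.OddHalf.LongSL.Chev

open Cfsg.Agent.KFacts.RgdChevCoord (TT XX nc)

open Cfsg.Agent.GenExc Cfsg.Agent.GenExc.Chev

variable {D : ChevalleyDatum} {l : ℕ} {M : CoxeterMatrix (Fin l)} (hp : IsType D l M)

variable (K : Type) [Field K]

variable {K}

include hp in
theorem bad_chev [Fintype K] (hc : ExcChev.chkOdd D l = true) (i0 : Fin l) (hK : Odd (Fintype.card K)) {X : Type u} [Group X]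
    (hX : Nonempty (X ≃* ↥(D.group K))) (q : ℕ) [hq : Fact q.Prime] (hq2 : q ≠ 2) (hd : q ∣ Nat.card X) : Bad q X := by
  classical
  obtain ⟨e⟩ := hX
  obtain ⟨p, hpr, hcp⟩ : ∃ p : ℕ, p.Prime ∧ CharP K p := by
    obtain ⟨p, hcp⟩ := CharP.exists K
    exact ⟨p, CharP.char_is_prime K p, hcp⟩
  haveI : Fact p.Prime := ⟨hpr⟩
  let cs : CoxeterSystem M M.Group := M.toCoxeterSystem
  haveI : Finite M.Group := finite_W hp cs
  have hfin : Finite ↥(D.group K) := inferInstance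
  rw [Nat.card_congr e.toEquiv] at hd
  have R := Cfsg.Agent.Nodes.RGDChev.rgd hp (K := K) (cs := cs) p
  have hGG := Cfsg.Agent.KFacts.RgdRigid.GG_eq_top (cs := cs) (h := hp.isCartan) (T := TT D K) (X := XX D l K)
    (G1_eq_top hp (cs := cs))
  refine (bad_of_rgd R hGG (invols hp K (two_ne_zero_of_odd hK) hc cs) (fun i => zS_sq hp K [i])
    (fun i j => diag_comm hp K _ (zS_mem_T hp K [i]) _ (zS_mem_T hp K [j])) (p := p) hK
    (fun t ht => pow_card_sub_one hp K ht) (phi hp K i0) (phi_up_inj hp i0) q hq2 hd).congr e.symm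

theorem isoE6 {X : Type u} [Group X] {F : Type} [Field F] [Fintype F] (hF : Odd (Fintype.card F))
    (hX : Nonempty (X ≃* ↥(chevE6.group F))) (q : ℕ) [hq : Fact q.Prime] (hq2 : q ≠ 2) (hd : q ∣ Nat.card X) :
    Bad q X := bad_chev isType_E6 ExcChev.chkOdd_E6 0 hF hX q hq2 hd

end

section

open Cfsg.Agent.H631 Cfsg.Agent.H631.ExcChev Cfsg.Agent.H631.ExcFold
open CoxeterSystem Cfsg.Agent.ChevalleyStructure.CoxeterGeom Cfsg.Agent.Tits.Roots Cfsg.Agent.Tits.Core
  Cfsg.Agent.Nodes.Reps Cfsg.Agent.Nodes.BNOf Cfsg.Agent.Nodes.RGDTwGen Cfsg.Agent.Nodes.RGDChev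
  Cfsg.Agent.Nodes.RGDFold Cfsg.Agent.Nodes.RGDFoldSL Cfsg.Agent.Nodes.RGDTwCoord

open Cfsg.Lie Cfsg.Agent.ChevalleyStructure Cfsg.Agent.ChevalleyStructure.Elts
  Cfsg.Agent.ChevalleyStructure.TwistedU

open Cfsg.Agent.OddHalf.NI

open Cfsg.Agent.ChevalleyStructure.SL2Hom (up lo)

section Main

variable {D : ChevalleyDatum} {l : ℕ} {M' : CoxeterMatrix (Fin l)} {hp : IsType D l M'} {K : Type} [Field K]
  {m : ℕ} {M : CoxeterMatrix (Fin m)} {A : Fin m → Fin m → ℤ}
  {J : Fin m → List (Fin l)} {L : List (List ℕ)} {σ : GL D.Idx K →* GL D.Idx K} {ρ ρ' : ℕ → ℕ}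
    {f : ℕ → K → K} {G : Subgroup (GL D.Idx K)} {rep' : Fin m → ℕ} {rest : Fin m → List ℕ} {φ : K →+* K}
  (FG : FoldGrp hp K J L σ ρ ρ' f G)
  (N : ∀ i, NodeOK D J L ρ i (rep' i) (rest i)) (hf : ∀ i, ∀ s ∈ rep' i :: rest i, ∀ t, f s t = φ t)
  (h : IsCartan M A) (FD : FoldData D M A J L)

include h FD FG N hf in
theorem bad_fold [Fintype K] (C : Chk D J A) (hK : Odd (Fintype.card K)) (i0 : Fin m)
    (hφ : ∀ x, φ^[(rest i0).length + 1] x = x) {X : Type u} [Group X] (hX : Nonempty (X ≃* ↥G))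
    (q : ℕ) [hq : Fact q.Prime] (hq2 : q ≠ 2) (hd : q ∣ Nat.card X) : Bad q X := by
  classical
  obtain ⟨e⟩ := hX
  obtain ⟨p, hpr, hcp⟩ : ∃ p : ℕ, p.Prime ∧ CharP K p := by
    obtain ⟨p, hcp⟩ := CharP.exists K
    exact ⟨p, CharP.char_is_prime K p, hcp⟩
  haveI : Fact p.Prime := ⟨hpr⟩
  let cs : CoxeterSystem M M.Group := M.toCoxeterSystem
  have hW : Finite M.Group := Cfsg.Agent.Nodes.RGDFold.finite_W (hp := hp) cs h FD
  have R := Cfsg.Agent.Nodes.RGDFold.rgd cs h FD FG p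
  have hGG := Cfsg.Agent.KFacts.RgdRigid.GG_eq_top (cs := cs) (h := h) (T := (D.diagonalSubgroup K ⊓ G).subgroupOf G)
    (X := fun z => (Cfsg.Agent.Nodes.RGDFold.R D hp K J σ z).subgroupOf G) (Cfsg.Agent.Nodes.RGDFold.G1_eq_top cs h FD FG p)
  rw [Nat.card_congr e.toEquiv] at hd
  have hp2 : p ≠ 2 := charP_ne_two (F := K) hK
  -- the fixed field is everything
  have htop : ∀ x : K, x ∈ Fx φ ((rest i0).length + 1) := fun x => mem_Fx.2 (hφ x)
  let E := Fx φ ((rest i0).length + 1)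
  haveI : Fintype E := Fintype.ofFinite _
  have hcard : Fintype.card E = Fintype.card K :=
    Fintype.card_congr (Equiv.subtypeUnivEquiv htop)
  haveI : CharP E p := (algebraMap E K).charP (algebraMap E K).injective p
  have hcomm : ∀ i j, zF FG N hf i * zF FG N hf j = zF FG N hf j * zF FG N hf i := fun i j =>
    congrArg Subtype.val (ModelTw.comm_TG (hp := hp) (⟨_, zF_mem FG N hf i⟩ : ↥(ModelTw.TG D G)) ⟨_, zF_mem FG N hf j⟩)
  refine (bad_of_rgd R hGG (invols FG N hf FD C p hp2 (by rw [map_neg, map_one])) (zF_sq FG N hf) hcomm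
    (K := E) (p := p) (by rw [hcard]; exact hK) ?_ (Phi FG (N i0) (hf i0)) ?_ q hq2 hd).congr e.symm
  · intro t ht
    rw [hcard]
    apply Subtype.ext
    rw [Subgroup.coe_pow]
    exact diag_pow hp.inList (Subgroup.mem_subgroupOf.1 ht).1
  · intro t ht
    apply Phi_up_injective FG (N i0) (hf i0)
    show Phi FG (N i0) (hf i0) (up t) = Phi FG (N i0) (hf i0) (up 0)
    rw [ht]
    have : (up (0 : E) : Matrix.SpecialLinearGroup (Fin 2) E) = 1 := by
      apply sl_ext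
      ext i j
      fin_cases i <;> fin_cases j <;> rfl
    rw [this, map_one]

end Main

/-- **`²E₆(q)`, `q` odd.** -/
theorem iso2E6 {X : Type u} [Group X] {K : Type} [Field K] [Fintype K] {r : ℕ} (hr : IsPrimePow r)
    (hK : Fintype.card K = r ^ 2) (hodd : Odd (Fintype.card K)) (hX : Nonempty (X ≃* ↥(twistedE6 K r)))
    (q : ℕ) [hq : Fact q.Prime] (hq2 : q ≠ 2) (hd : q ∣ Nat.card X) : Bad q X := by
  obtain ⟨φ, hφ, hqq⟩ := TwE6Basic.exists_frob hr hK
  have hf : ∀ i, ∀ s ∈ Cfsg.Agent.Nodes.RGDTwNode.E6.rep i :: Cfsg.Agent.Nodes.RGDTwNode.E6.rest i, ∀ t : K,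
      ((TwistedE6Sigma.eps s : ℤ) : K) * φ t = φ t := fun i s hs t => by
    rw [Cfsg.Agent.Nodes.RGDTwNode.E6.eps_one i s hs, Int.cast_one, one_mul]
  refine bad_fold (Cfsg.Agent.Nodes.RGDTwE6.foldGrp hφ hqq)
    Cfsg.Agent.Nodes.RGDTwNode.E6.nodeOK hf Cfsg.Agent.Nodes.RGDTwE6.isCartan
    Cfsg.Agent.Nodes.RGDTwE6.foldData chk_E6 hodd 2 ?_ hX q hq2 hd
  intro t
  show φ (φ t) = t
  rw [hφ, hφ]
  exact hqq t

end

section

open Cfsg.Agent.H631 Cfsg.Agent.H631.ExcChev Cfsg.Agent.H631.ExcFold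
open Subgroup Cfsg

open Cfsg.Agent.Walter Cfsg.Agent.Walter.Types

open Cfsg.Agent.CpAutRee.Ree (exists_conj cent_conj pow_mod_eight)

/-- A Sylow `2`-subgroup whose centralizer is a `2`-group. -/
theorem bad_of_sylow {X : Type u} [Group X] [Finite X] (S : Sylow 2 X)
    (h : IsPGroup 2 ↥(centralizer ((S : Subgroup X) : Set X))) (q : ℕ) [hq : Fact q.Prime] (hq2 : q ≠ 2)
    (hd : q ∣ Nat.card X) : Bad q X := by
  refine bad_of_centralizer q hd (S : Subgroup X) S.isPGroup' ?_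
  rintro y ⟨k, hk⟩ hy
  have h1 : y ∈ centralizer ((S : Subgroup X) : Set X) := mem_centralizer_iff.2 hy
  obtain ⟨j, hj⟩ := h ⟨y, h1⟩
  have h2 : y ^ (2 ^ j) = 1 := congrArg Subtype.val hj
  have h3 : orderOf y ∣ 2 ^ j := orderOf_dvd_of_pow_eq_one h2
  rw [hk] at h3
  have h4 : Nat.Coprime (q ^ k) (2 ^ j) :=
    Nat.Coprime.pow _ _ ((Nat.coprime_primes hq.out Nat.prime_two).2 hq2)
  rw [Nat.Coprime.eq_one_of_dvd h4 h3] at hk
  exact orderOf_eq_one_iff.1 hk

/-- Groups of Janko–Ree type. -/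
theorem bad_of_isJR {X : Type u} [Group X] [Finite X] (hJ : IsJR X) (q : ℕ) [hq : Fact q.Prime] (hq2 : q ≠ 2)
    (hd : q ∣ Nat.card X) : Bad q X := by
  haveI : Fact (Nat.Prime 2) := ⟨Nat.prime_two⟩
  obtain ⟨S⟩ : Nonempty (Sylow 2 X) := inferInstance
  obtain ⟨-, -, f3⟩ := PSLFacts.IsJR.facts hJ S
  exact bad_of_sylow S (S.isPGroup'.to_le f3) q hq2 hd

/-- **The Ree groups.** -/
theorem isoRee {X : Type u} [Group X] (h : Cfsg.Lie.IsoRee X) (q : ℕ) [hq : Fact q.Prime] (hq2 : q ≠ 2)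
    (hd : q ∣ Nat.card X) : Bad q X := by
  obtain ⟨K, i1, i2, m, hm, hK, ⟨e⟩⟩ := h
  rw [Nat.card_congr e.toEquiv] at hd
  exact (bad_of_isJR (isJR_ree hm hK) q hq2 hd).congr e.symm

end

end Cfsg.Agent.PQ.EA.CvX
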