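import Cfsg.Agent.PQ.EA.SemA
import Cfsg.Agent.PQ.SS.B
import Cfsg.Agent.PQ.SS.XRow
import Cfsg.Agent.PQ.Fa.Main

/-!
# S4982: SEMI with invariance, the rows (helper74)

* `semiA_B` : symplectic and orthogonal groups, `l` odd (exception: `l = 3` in `O8+`); `semiA_has`;
* `semiA_X` : exceptional groups, as in `RowX`; `ex_has2` lists the data with `Sc2`.
-/

set_option autoImplicit false
set_option linter.unusedSectionVars false

namespace Cfsg.Agent.PQ.EA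

open Cfsg Cfsg.Agent.DL Cfsg.Agent.DL.PP Cfsg.Agent.KZ.Lie Cfsg.Agent.KZ.Dat Cfsg.Agent.KZ.Dat.Om Cfsg.Agent.KZ.DatX
  Cfsg.Agent.LV.Blk Matrix Cfsg.Agent.Tits.Roots Cfsg.Agent.Nodes Cfsg.Lie
  Cfsg.Agent.ChevalleyStructure.CoxeterGeomTypes Cfsg.Agent.PQ.SS Cfsg.Agent.PQ.SS.RB Cfsg.Agent.PQ.Fa

/-- `O8+` in characteristic `r` -/
def O8c (r : ℕ) (S : Type) [Group S] : Prop :=
  ∃ (F : Type) (_ : Field F) (_ : Fintype F) (_ : CharP F r), Nonempty (S ≃* POmega F (quadFormPlus 4 F))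

/-- the `n`-th power is a scalar matrix -/
def Scn {R : Type} [Fintype R] [DecidableEq R] (n : ℕ) (A : Matrix R R ℤ) : Prop := ∃ u : ℤ, A ^ n = u • 1

namespace SemB

section

variable {p : ℕ} [Fact p.Prime] {k : Type} [Field k] [CharP k p] {Y : Type} [Group Y] {N : Type} [Fintype N]
  [DecidableEq N] {ρ : Y →* GL N k} {F : MulAut Y} {G : Subgroup Y} [IsAlgClosed k] {D : Datum p ρ F G}
  {Adm : Matrix D.R D.R ℤ → Prop} {S T : Type} [Group S] [Group T] {l n : ℕ}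

theorem adm_of (h : ∀ A, Adm A → Scn n A) (A : Matrix D.R D.R ℤ) (hA : Adm A) :
    ∃ (u : ℤ) (v : D.W), A ^ n = u • D.Wm v :=
  let ⟨u, hu⟩ := h A hA
  ⟨u, 1, by rw [hu, D.Wm_one]⟩

theorem semi (hl : l.Prime) (h2 : l ≠ 2) (hp : l ≠ p) (s : Sit D Adm S) (e : T ≃* S) {B : Matrix D.R D.R ℤ}
    (d : Dual D l B) (c : CZl D l) (g : Good D l) (h1 : ∀ g ∈ GF F G, g ^ 2 ∈ s.H0) (h3 : ∀ z, s.π z = 1 → z ^ 2 = 1)
    (h4 : ∀ A, Adm A → Scn 2 A) : SemiA p l T := by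
  have := Asm.finite_GF D
  have := Fintype.ofFinite ↥(GF F G)
  have : Finite (tr s e.symm).H0 := Finite.of_injective _ (Subgroup.inclusion_injective s.le)
  have := (tr s e.symm).normal
  refine semiA_of (tr s e.symm) hl hp d c g
    (not_dvd_sq hl h2 fun z => Subtype.ext (h3 z.1 (e.symm.map_eq_one_iff.1 z.2))) (not_dvd_sq hl h2 fun x => ?_)
    (fun h => h2 ((Nat.prime_dvd_prime_iff_eq hl Nat.prime_two).1 h)) (adm_of h4)
  obtain ⟨x, rfl⟩ := QuotientGroup.mk_surjective x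
  rw [← QuotientGroup.mk_pow, QuotientGroup.eq_one_iff]
  exact h1 x x.2

end

section Cl

variable {p : ℕ} [Fact p.Prime] {k : Type} [Field k] [CharP k p] [IsAlgClosed k]
  (hk : ∀ a : k, ∃ j, 0 < j ∧ a ^ p ^ j = a) {e : ℕ} (he : 0 < e) {l : ℕ} (hl : l.Prime) (h2 : l ≠ 2)
  {S T : Type} [Group S] [Group T] (hp : l ≠ p) (i : T ≃* S)
include hl h2 hp i

theorem semiC {n : ℕ} {Adm : _ → Prop} (s : Sit (datC n hk he) Adm S) (h1 : ∀ g ∈ GF (FC n k p e) (GC n k), g ^ 2 ∈ s.H0)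
    (h3 : ∀ z, s.π z = 1 → z ^ 2 = 1) (h4 : ∀ A, Adm A → Scn 2 A) : SemiA p l T := by
  refine semi hl h2 hp s i (dual_two hl h2 ?_ fun i => ?_) (czl_two hl h2 fun i => ?_)
    (good_two hl h2 fun a ha => ?_) h1 h3 h4
  · exact sym_smul transpose_one _
  · exact smC i
  · exact ⟨_, fun j => (congrArg (· ⬝ᵥ _) (TypeC.ee_sr j)).trans (czC i j)⟩
  · obtain ⟨x, y, -, h⟩ := (rtC_iff hk he).1 ha
    rw [h]
    exact wt_two x y

theorem semiB {n : ℕ} (h0 : (2 : k) ≠ 0) {Adm : _ → Prop} (s : Sit (datB n h0 hk he) Adm S)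
    (h1 : ∀ g ∈ GF ((osB n).sy_id.F k p e) ((osB n).G k), g ^ 2 ∈ s.H0)
    (h3 : ∀ z, s.π z = 1 → z ^ 2 = 1) (h4 : ∀ A, Adm A → Scn 2 A) : SemiA p l T := by
  refine semi hl h2 hp s i (dual_two hl h2 ?_ fun i => ?_) (czl_two hl h2 fun i => ?_)
    (good_two hl h2 fun a ha => ?_) h1 h3 h4
  · exact sym_smul transpose_one _
  · exact (smB i).imp fun j h => (congrArg ((2 : ℤ) • ·) (datB_cw h0 hk he i)).trans h
  · exact ⟨_, fun j => (congrArg (· ⬝ᵥ _) (eeB_sr j)).trans (czB 2 i j)⟩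
  · rcases (rtB_iff h0 hk he).1 ha with ⟨x, y, -, h⟩ | ⟨x, h⟩
    · rw [h]
      exact wt_two x y
    · rw [h]
      exact wt_one x

theorem semiD {n : ℕ} {s : Fin (n + 2) × Bool → Fin (n + 2) × Bool} {γ : (Fin (n + 2) → ℤ) → Fin (n + 2) → ℤ}
    {B : Matrix (Fin (n + 2)) (Fin (n + 2)) ℤ} (Sy : (osD n).Sy s γ B) (hs : Bᵀ = B) {Adm : _ → Prop}
    (t : Sit (datD Sy hk he) Adm S) (h1 : ∀ g ∈ GF (Sy.F k p e) ((osD n).G k), g ^ 2 ∈ t.H0)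
    (h3 : ∀ z, t.π z = 1 → z ^ 2 = 1) (h4 : ∀ A, Adm A → Scn 2 A) : SemiA p l T := by
  refine semi hl h2 hp t i (dual_two hl h2 ?_ fun i => ?_) (czl_two hl h2 fun i => ?_)
    (good_two hl h2 fun a ha => ?_) h1 h3 h4
  · exact sym_smul hs _
  · exact ⟨1, congrArg₂ (· • ·) (pow_one (2 : ℤ)).symm ((datD_cw Sy hk he i).trans (TypeD.ee_sr i).symm)⟩
  · exact ⟨_, fun j => (congrArg (· ⬝ᵥ _) (TypeD.ee_sr j)).trans (czD i j)⟩
  · obtain ⟨x, y, -, h⟩ := (rtD_iff Sy hk he).1 ha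
    rw [h]
    exact wt_two x y

end Cl

theorem nd {l : ℕ} (hl : l.Prime) (h2 : l ≠ 2) {a : ℕ} (h : a ∣ 4) : ¬ l ∣ a := fun h1 =>
  h2 ((Nat.prime_dvd_prime_iff_eq hl Nat.prime_two).1 (hl.dvd_of_dvd_pow (n := 2) (h1.trans h)))

theorem sc_L4 {p : ℕ} (A : Matrix (Fin 4) (Fin 4) ℤ) (h : AdmL p L4 A) : Scn 6 A :=
  sc_L (fun B hB => ⟨1, by
    rw [one_smul, ← pow_L4 B hB]
    simp only [pow_succ, pow_zero, one_mul, mul_assoc]⟩) A h

end SemB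

open SemB

/-- SEMI with invariance from the data of `KZ.DatX` -/
theorem semiA_has {C : ChevalleyDatum} {m : ℕ} {M : CoxeterMatrix (Fin m)} {hp : RGDChev.IsType C m M}
    {p : ℕ} [Fact p.Prime] {Mx B : Matrix (Fin m) (Fin m) ℤ} {π : Fin m → Fin m} {a c l d n : ℕ}
    {Adm : Matrix (Fin m) (Fin m) ℤ → Prop} {S : Type} [Group S] (T : Ty C m B π a c) (h : Has hp p Mx Adm d S)
    (hM : Mxᵀ * B = B * Mx) (hl : l.Prime) (hlp : l ≠ p) (ha : ¬ l ∣ a) (hc : ¬ l ∣ c) (hd : ¬ l ∣ d) (hn : ¬ l ∣ n)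
    (h4 : ∀ A, Adm A → Scn n A) : SemiA p l S := by
  obtain ⟨k, _, _, _, X, ⟨s⟩⟩ := h
  exact semiA_of s.sit hl hlp (T.dual X hM hl ha) (czl X hl) (boxHi X.D hl (czl X hl) (T.hi X hc)) (not_dvd_ker s hl)
    (SS.not_dvd_index s hl hd) hn (adm_of (D := X.D) h4)

variable {r l : ℕ} {S : Type} [Group S]

/-- `O8+` -/
theorem semiA_O8 (hr : r.Prime) (hl : l.Prime) (hp : l ≠ r) (h : O8c r S) (h2 : l ≠ 2) (h3 : l ≠ 3) : SemiA r l S := by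
  have : Fact r.Prime := ⟨hr⟩
  obtain ⟨F, _, _, _, ⟨i⟩⟩ := h
  obtain ⟨e, hF⟩ := card_eq_pow F r
  exact semiA_has tyXD4 ((has_plus8 hF).congr i) (mx_one _) hl hp (nd hl h2 (by decide)) (nd hl h2 (by decide))
    (nd hl h2 ((Nat.gcd_dvd_left _ _).trans (by decide))) (fun h => (hl.dvd_mul.1 (show l ∣ 2 * 3 from h)).elim
      (nd hl h2 (by decide)) fun h => h3 ((Nat.prime_dvd_prime_iff_eq hl Nat.prime_three).1 h)) sc_L4

/-- **symplectic and orthogonal groups** -/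
theorem semiA_B (hr : r.Prime) (hl : l.Prime) (hp : l ≠ r) (h : ClB r S) (h2 : l ≠ 2) :
    SemiA r l S ∨ (l = 3 ∧ O8c r S) := by
  have : Fact r.Prime := ⟨hr⟩
  rcases h with h | h | h | h
  · obtain ⟨F, _, _, _, n, h1, -, ⟨i⟩⟩ := h
    obtain ⟨k, _, _, _, hk, e, he, f, hF⟩ := hasC r F
    by_cases h3 : n = 2 ∧ r = 2
    · obtain ⟨rfl, rfl⟩ := h3
      exact .inl (semiA_has tyXB2 ((has_PSp4 hF).congr i) (mx_one _) hl hp (nd hl h2 (by decide)) (nd hl h2 (by decide))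
        hl.not_dvd_one (nd hl h2 (by decide)) (sc_L2 sq_GamB))
    · exact .inl (semiC hk he hl h2 hp i (sitC_of f hk he hF (S2693.result (F := F) h1 fun a b => h3 ⟨a, b⟩))
        (fun g hg => (sitC_H0 f hk he hF _).ge (pow_mem hg 2)) (sitC_ker f hk he hF _) sc_Q)
  · obtain ⟨F, _, _, _, n, h1, h3, ⟨i⟩⟩ := h
    obtain ⟨k, _, _, _, hk, e, he, f, hF⟩ := hasC r F
    obtain ⟨t, h4, h5⟩ := sitB f hF hk he (two_ne hF h3 he) h3 h1
    exact .inl (semiB hk he hl h2 hp i _ t h4 h5 sc_Q)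
  · obtain ⟨F, _, _, _, n, h1, ⟨i⟩⟩ := h
    rcases h1.eq_or_lt with rfl | h1
    · have h3 : O8c r S := ⟨F, _, inferInstance, inferInstance, ⟨i⟩⟩
      by_cases h4 : l = 3
      exacts [.inr ⟨h4, h3⟩, .inl (semiA_O8 hr hl hp h3 h2 h4)]
    · obtain ⟨k, _, _, _, hk, e, he, f, hF⟩ := hasC r F
      obtain ⟨n, rfl⟩ : ∃ m, n = m + 2 := ⟨n - 2, by omega⟩
      obtain ⟨t, h4, h5⟩ := sitP f hF hk he (n := n) (by omega)
      exact .inl (semiD hk he hl h2 hp i _ transpose_one t h4 h5 sc_D)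
  · obtain ⟨F, _, _, _, n, a, b, h1, h3, ⟨i⟩⟩ := h
    obtain ⟨k, _, _, _, hk, e, he, f, hF⟩ := hasC r F
    obtain ⟨n, rfl⟩ : ∃ m, n = m + 2 := ⟨n - 2, by omega⟩
    obtain ⟨t, h4, h5⟩ := sitM f hF hk he (n := n) (by omega) h3
    exact .inl (semiD hk he hl h2 hp i _ (diagonal_transpose _) t h4 h5 sc_D)

/-- the data of the exceptional groups; the squares of the admissible matrices are scalar -/
theorem ex_has2 [Fact r.Prime] (h : Ex r S) : ∃ e : ℕ,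
    Has hpG2 r ((r : ℤ) ^ e • 1) (Scn 2) 1 S ∨ Has hpF4 r ((r : ℤ) ^ e • 1) (Scn 2) 1 S ∨
    Has hpE6 r ((r : ℤ) ^ e • 1) (Scn 2) (Nat.gcd 3 (r ^ e - 1)) S ∨
    Has hpE7 r ((r : ℤ) ^ e • 1) (Scn 2) (Nat.gcd 2 (r ^ e - 1)) S ∨ E8c r S ∨
    Has hpE6 r ((r : ℤ) ^ e • P6) (Scn 2) (Nat.gcd 3 (r ^ e + 1)) S ∨ D4c r S ∨
    (r = 2 ∧ Has hpB2 r ((r : ℤ) ^ e • GamB) (Scn 2) 1 S) ∨
    (r = 2 ∧ Has hpF4 r ((r : ℤ) ^ e • GamF) (Scn 2) 1 S) ∨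
    (r = 3 ∧ Has hpG2 r ((r : ℤ) ^ e • GamG) (Scn 2) 1 S) := by
  rcases h with ⟨F, _, _, _, h⟩ | ⟨K, _, _, _, q, hq, ⟨hK, ⟨i⟩⟩ | h⟩ | ⟨rfl, h⟩ | ⟨rfl, h⟩ | ⟨rfl, h⟩
  · obtain ⟨e, he⟩ := card_eq_pow F r
    refine ⟨e, ?_⟩
    rcases h with ⟨h3, ⟨i⟩⟩ | ⟨⟨i⟩⟩ | ⟨⟨i⟩⟩ | ⟨⟨i⟩⟩ | h
    · by_cases h : r = 3
      · subst h
        exact .inl (((has_G2three he).congr i).mono (sc_L2 sq_GamG))
      · exact .inl (((has_G2 he h h3).congr i).mono (sc_Q (p := r)))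
    · by_cases h : r = 2
      · subst h
        exact .inr (.inl (((has_F4two he).congr i).mono (sc_L2 sq_GamF)))
      · exact .inr (.inl (((has_F4 he h).congr i).mono (sc_Q (p := r))))
    · exact .inr (.inr (.inl (((has_E6 he).congr i).mono (sc_L2 sq_P6))))
    · exact .inr (.inr (.inr (.inl (((has_E7 he).congr i).mono (sc_Q (p := r))))))
    · exact .inr (.inr (.inr (.inr (.inl ⟨F, _, inferInstance, inferInstance, h⟩))))
  · obtain ⟨e, rfl⟩ := tw_pow r two_ne_zero hK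
    exact ⟨e, .inr (.inr (.inr (.inr (.inr (.inl (((has_2E6 hK).congr i).mono (sc_Q (p := r))))))))⟩
  · exact ⟨0, .inr (.inr (.inr (.inr (.inr (.inr (.inl ⟨K, _, _, inferInstance, q, hq, h⟩))))))⟩
  · obtain ⟨m, -, h⟩ := row_2B2 h
    exact ⟨m, .inr (.inr (.inr (.inr (.inr (.inr (.inr (.inl ⟨rfl, h.mono (sc_Q (p := 2))⟩)))))))⟩
  · obtain ⟨m, -, h⟩ := row_2F4 h
    exact ⟨m, .inr (.inr (.inr (.inr (.inr (.inr (.inr (.inr (.inl ⟨rfl, h.mono (sc_Q (p := 2))⟩))))))))⟩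
  · obtain ⟨m, -, h⟩ := row_2G2 h
    exact ⟨m, .inr (.inr (.inr (.inr (.inr (.inr (.inr (.inr (.inr ⟨rfl, h.mono (sc_Q (p := 3))⟩))))))))⟩

/-- **exceptional groups** -/
theorem semiA_X (hr : r.Prime) (hl : l.Prime) (hlr : l ≠ r)
    (h : (Ex r S ∧ 5 ≤ l ∧ (E8c r S → 7 ≤ l)) ∨ (D4c r S ∧ l = 3)) : SemiA r l S := by
  have : Fact r.Prime := ⟨hr⟩
  have d4 : D4c r S → l ≠ 2 → SemiA r l S := fun h h2 => by
    obtain ⟨e, h⟩ := d4_has h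
    exact semiA_has tyXD4 h (mx_smul mx_4 _) hl hlr (nd hl h2 (by decide)) (nd hl h2 (by decide)) hl.not_dvd_one
      hl.not_dvd_one (sc_Q (p := r))
  rcases h with ⟨h, h5, h7⟩ | ⟨h, rfl⟩
  swap
  · exact d4 h (by decide)
  have nd : ∀ {a : ℕ}, a ∣ 12 → ¬ l ∣ a := not_dvd_of_le hl h5
  have n2 : ¬ l ∣ 2 := nd (by decide)
  obtain ⟨e, h | h | h | h | h | h | h | ⟨-, h⟩ | ⟨-, h⟩ | ⟨-, h⟩⟩ := ex_has2 h
  · exact semiA_has tyXG2 h (mx_one _) hl hlr (nd (by decide)) (nd (by decide)) (nd (by decide)) n2 fun _ => id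
  · exact semiA_has tyXF4 h (mx_one _) hl hlr (nd (by decide)) (nd (by decide)) (nd (by decide)) n2 fun _ => id
  · exact semiA_has tyXE6 h (mx_one _) hl hlr (nd (by decide)) (nd (by decide))
      (nd ((Nat.gcd_dvd_left _ _).trans (by decide))) n2 fun _ => id
  · exact semiA_has tyXE7 h (mx_one _) hl hlr (nd (by decide)) (nd (by decide))
      (nd ((Nat.gcd_dvd_left _ _).trans (by decide))) n2 fun _ => id
  · obtain ⟨e, h1⟩ := e8_has h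
    refine semiA_has tyXE8 h1 (mx_one _) hl hlr (nd (by decide)) (fun h2 => ?_) (nd (by decide)) n2 (sc_Q (p := r))
    rcases (Nat.Prime.dvd_mul hl).1 (show l ∣ 12 * 5 from h2) with h3 | h3
    · exact nd dvd_rfl h3
    · have := Nat.le_of_dvd (by decide) h3
      have := h7 h
      omega
  · exact semiA_has tyXE6 h (mx_smul mx_6 _) hl hlr (nd (by decide)) (nd (by decide))
      (nd ((Nat.gcd_dvd_left _ _).trans (by decide))) n2 fun _ => id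
  · exact d4 h (by omega)
  · exact semiA_has tyXB2 h (mx_smul mx_B _) hl hlr (nd (by decide)) (nd (by decide)) (nd (by decide)) n2 fun _ => id
  · exact semiA_has tyXF4 h (mx_smul mx_F _) hl hlr (nd (by decide)) (nd (by decide)) (nd (by decide)) n2 fun _ => id
  · exact semiA_has tyXG2 h (mx_smul mx_G _) hl hlr (nd (by decide)) (nd (by decide)) (nd (by decide)) n2 fun _ => id

end Cfsg.Agent.PQ.EA
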