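import Cfsg.Agent.PQ.EA.CvXB
import Cfsg.Agent.PQ.EA.CvXC
import Cfsg.Agent.PQ.EA.CvXD
import Cfsg.Agent.PQ.EA.CvID
import Cfsg.Agent.PQ.EA.SemB
import Cfsg.Agent.PQ.SS.CrsX

/-!
# S4982: invariant witnesses in cross characteristic, the exceptional groups (helper97)

`cX_of : CvI → AllC Ex CvX`.
-/

set_option autoImplicit false

namespace Cfsg.Agent.PQ.EA

namespace CvX

open Cfsg Cfsg.Lie Cfsg.Agent.PQ.SS Cfsg.Agent.PQ.SS.Bad Cfsg.Agent.PQ.SS.CX Cfsg.Agent.H545.LT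

variable {r p q : ℕ} {S : Type} [Group S]

theorem CrossRow.congr {M : Type} [Group M] (e : S ≃* M) (h : CrossRow r M) : CrossRow r S := by
  intro π hπ hnt hc
  obtain ⟨T, hT, hi⟩ := h π (fun p hp => ⟨(hπ p hp).1, (hπ p hp).2.1, (hπ p hp).2.2.1,
    Nat.card_congr e.toEquiv ▸ (hπ p hp).2.2.2⟩) hnt ⟨hc.1, fun p hp q hq hpq x ⟨k, hk⟩ hd =>
      hc.2 p hp q hq hpq (e.symm x) ⟨k, by rw [← hk, MulEquiv.orderOf_eq]⟩ (by rwa [index_congr])⟩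
  refine ⟨T.comap e.toMonoidHom, ⟨⟨fun a b => Subtype.ext (e.injective ?_)⟩⟩, fun p hp => ?_⟩
  · rw [Subgroup.coe_mul, Subgroup.coe_mul, map_mul, map_mul]
    exact congrArg Subtype.val (hT.is_comm.comm (⟨e a, a.2⟩ : T) ⟨e b, b.2⟩)
  · rw [Subgroup.index_comap_of_surjective _ e.surjective]
    exact hi p hp

theorem Row.cross (h : Row S) : CrossRow r S := fun π hπ =>
  h π fun p hp => ⟨(hπ p hp).1, (hπ p hp).2.1, (hπ p hp).2.2.2⟩

theorem crossRow_ex (hr : r.Prime) (h : Ex r S) : CrossRow r S := by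
  have : Fact r.Prime := ⟨hr⟩
  rcases h with ⟨F, _, _, _, ⟨-, ⟨e⟩⟩ | ⟨⟨e⟩⟩ | ⟨⟨e⟩⟩ | ⟨⟨e⟩⟩ | ⟨⟨e⟩⟩⟩ | ⟨K, _, _, _, q, hq, ⟨hK, ⟨e⟩⟩ | ⟨hK, ⟨e⟩⟩⟩ |
    ⟨-, h⟩ | ⟨-, h⟩ | ⟨-, h⟩
  exacts [(crossRow_G2 r F).congr e, (crossRow_F4 r F).congr e, (crossRow_E6 r F).congr e, (crossRow_E7 r F).congr e,
    (crossRow_E8 r F).congr e, (crossRow_twE6 r K hq hK).congr e, (crossRow_twD4 r K hq hK).congr e,
    (row_suzuki h).cross, (row_2F4 h).cross, (row_ree h).cross]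

variable [Finite S]

/-- **the Sylow subgroups do not commute** -/
theorem px_of_not_com (hr : r.Prime) (hE : Ex r S) (hp : p.Prime) (hq : q.Prime) (hpq : p ≠ q) (h1 : 5 ≤ p) (h2 : 5 ≤ q)
    (hpr : p ≠ r) (hqr : q ≠ r) (dp : p ∣ Nat.card S) (dq : q ∣ Nat.card S) (h : ¬ Com p q S) :
    PX p q S ∨ PX q p S := by
  have := Fact.mk hp
  have := Fact.mk hq
  by_contra h3
  rw [not_or] at h3
  obtain ⟨T, h4, h5⟩ := crossRow_ex hr hE {p, q} (by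
      rintro s (rfl | rfl)
      exacts [⟨hp, by omega, hpr, dp⟩, ⟨hq, by omega, hqr, dq⟩]) ⟨p, by simp, q, by simp, hpq⟩ ⟨by
      rintro (h6 | h6)
      · omega
      · rw [Set.mem_singleton_iff] at h6
        omega, by
      rintro s (rfl | rfl) t (rfl | rfl) h6 x ⟨k, hk⟩ h7
      · exact h6 rfl
      · exact h3.1 ⟨x, by rw [← pow_one s, ← hk, pow_orderOf_eq_one], h7⟩
      · exact h3.2 ⟨x, by rw [← pow_one s, ← hk, pow_orderOf_eq_one], h7⟩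
      · exact h6 rfl⟩
  obtain ⟨P, hP⟩ := H630.CLib.exists_sylow_le p T (h5 p (by simp))
  obtain ⟨Q, hQ⟩ := H630.CLib.exists_sylow_le q T (h5 q (by simp))
  exact h ⟨P, Q, fun x hx y hy => congrArg Subtype.val (h4.is_comm.comm (⟨x, hP hx⟩ : T) ⟨y, hQ hy⟩)⟩

omit [Finite S] in
theorem Bad.px (h : Bad q S) : PX q 2 S :=
  let ⟨y, ⟨_, h1⟩, h2⟩ := h
  ⟨y, by rw [← pow_one q, ← h1, pow_orderOf_eq_one], h2⟩

/-- the prime `2` -/
theorem px_two (hr : r.Prime) (h2 : r ≠ 2) (hE : Ex r S) (hq : q.Prime) (hq2 : q ≠ 2) (dq : q ∣ Nat.card S) :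
    PX q 2 S := by
  have := Fact.mk hq
  have sc : ∀ {M : Type} [Group M], S ≃* M → H408.Pron.SC M → PX q 2 S := fun e h =>
    px_some ((allD_sc e h hq hq2).someD hq dq)
  rcases hE with ⟨F, _, _, _, h⟩ | ⟨K, _, _, _, q0, h0, h⟩ | ⟨h, -⟩ | ⟨h, -⟩ | ⟨-, h⟩
  · have hF := H631.odd_card_of_charP (F := F) hr h2
    rcases h with ⟨-, ⟨e⟩⟩ | ⟨⟨e⟩⟩ | h | ⟨⟨e⟩⟩ | ⟨⟨e⟩⟩
    exacts [sc e (H621.Sc.sc_G2 hF), sc e (H621.Sc.sc_F4 hF), (isoE6 hF h q hq2 dq).px, sc e (H621.Sc.sc_E7 hF),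
      sc e (H621.Sc.sc_E8 hF)]
  · have hF := H631.odd_card_of_charP (F := K) hr h2
    rcases h with ⟨hK, h⟩ | ⟨hK, ⟨e⟩⟩
    exacts [(iso2E6 h0 hK hF h q hq2 dq).px, sc e (H621.Sc.sc_3d4 hK ((Nat.odd_pow_iff three_ne_zero).1 (hK ▸ hF)))]
  · exact absurd h h2
  · exact absurd h h2
  · exact (isoRee h q hq2 dq).px

/-- the prime `3` -/
theorem px_three (hr : r.Prime) (hq : q.Prime) (h3 : 3 ≠ r) (hqr : q ≠ r) (h5 : 5 ≤ q) (hE : Ex r S) (hD : ¬ D4c r S)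
    (d3 : 3 ∣ Nat.card S) (dq : q ∣ Nat.card S) : PX q 3 S := by
  have : Fact r.Prime := ⟨hr⟩
  have hm3 : 3 ≠ q := by omega
  rcases hE with ⟨F, _, _, _, ⟨-, ⟨e⟩⟩ | ⟨⟨e⟩⟩ | ⟨⟨e⟩⟩ | ⟨⟨e⟩⟩ | ⟨⟨e⟩⟩⟩ | ⟨K, _, _, _, q0, h0, ⟨hK, ⟨e⟩⟩ | h⟩ | ⟨-, h⟩ |
    ⟨-, K, _, _, n, -, hK, ⟨e⟩⟩ | ⟨h, -⟩
  · exact px_some (((allD_G2 r F hq h3 hm3).congr e).someD hq dq)
  · exact px_some (((allD_F4 r F hq h3 hm3).congr e).someD hq dq)
  · exact px_some (((allD_E6 r F hq h3 hm3).congr e).someD hq dq)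
  · exact px_some ((someD_E7 r F hq h3 hqr (by omega) (Nat.card_congr e.toEquiv ▸ dq)).congr e)
  · exact px_some (((allD_E8 r F hq h3 hm3).congr e).someD hq dq)
  · exact px_some (((allD_twE6 r K h0 hK hq h3 hm3).congr e).someD hq dq)
  · exact absurd ⟨K, _, _, ‹_›, q0, h0, h⟩ hD
  · exact absurd d3 (not_three_dvd_sz h)
  · exact px_some (((allD_2F4 hK hq hm3.symm).congr e).someD hq dq)
  · exact absurd h.symm h3

theorem main (I : CvI) : AllC Ex CvX := by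
  intro r S _ _ hs hn hr hE p q hp hq hlt hpr hqr dp dq hc
  have : Fact r.Prime := ⟨hr⟩
  have sp := small hp
  have sq := small hq
  have sr := small hr
  have A : SemiA r q S → WZ q p S → WA p q S ∨ WA q p S := fun h1 h2 => .inr (h1.of_wz1 hp hlt.ne hpr h2)
  have B : SemiA r p S → WZ p q S → WA p q S ∨ WA q p S := fun h1 h2 => .inl (h1.of_wz1 hq hlt.ne' hqr h2)
  have C : 5 ≤ p → SemiA r p S → SemiA r q S → AbT p S → AbT q S → WA p q S ∨ WA q p S := fun h0 h1 h2 h3 h4 =>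
    (px_of_not_com hr hE hp hq hlt.ne h0 (by omega) hpr hqr dp dq hc).elim (fun h => B h1 (wz_of_px hp h3 h))
      fun h => A h2 (wz_of_px hq h4 h)
  by_cases h8 : E8c r S
  · have Z : ∀ l, l.Prime → l ≠ r → 7 ≤ l → SemiA r l S := fun l h1 h2 h3 =>
      semiA_X hr h1 h2 (.inl ⟨hE, by omega, fun _ => h3⟩)
    by_cases h7 : q < 7
    · have h1 : (p = 2 ∧ q = 3) ∨ (p = 2 ∧ q = 5) ∨ (p = 3 ∧ q = 5) := by omega
      rcases h1 with ⟨rfl, rfl⟩ | ⟨rfl, rfl⟩ | ⟨rfl, rfl⟩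
      exacts [.inl (I.e23 r S hr (by omega) h8), .inl (I.e25 r S hr hpr.symm hqr.symm h8),
        .inl (I.e35 r S hr hpr.symm hqr.symm h8)]
    have zq := Z q hq hqr (by omega)
    have a5 := fun h5 => allD_five hr hq h5 (by omega) h8
    obtain ⟨F, _, _, _, ⟨e⟩⟩ := h8
    have ab : ∀ l, l.Prime → l ≠ r → 11 ≤ l → AbT l S := fun l h1 h2 h3 =>
      abT_syl e (ab_e8 (r := r)) h1 (by simp only [Set.mem_ofPred_eq]; omega)
    rcases sp with rfl | rfl | rfl | rfl | h1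
    · exact A zq (wz_of_allD hq dq (allD_sc e (H621.Sc.sc_E8 (H631.odd_card_of_charP hr hpr.symm)) hq hlt.ne'))
    · exact A zq (wz_of_allD hq dq ((allD_E8 r F hq hpr hlt.ne).congr e))
    · exact A zq (wz_of_allD hq dq (a5 hpr))
    · exact (e8_seven r F hpr).elim
        (fun h => C (by omega) (Z 7 hp hpr le_rfl) zq (h.congr e) (ab q hq hqr (by omega))) fun h =>
        A zq (wz_of_px hq (ab q hq hqr (by omega))
          (px_congr e (h q hq (by omega) hqr (Nat.card_congr e.toEquiv ▸ dq))))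
    · exact C (by omega) (Z p hp hpr (by omega)) zq (ab p hp hpr h1) (ab q hq hqr (by omega))
  have Z : ∀ l, l.Prime → l ≠ r → 5 ≤ l → SemiA r l S := fun l h1 h2 h3 =>
    semiA_X hr h1 h2 (.inl ⟨hE, h3, fun h => absurd h h8⟩)
  have P2 : p = 2 → PX q p S := by
    rintro rfl
    exact px_two hr hpr.symm hE hq hlt.ne' dq
  have G : (p = 3 → 5 ≤ q → PX q p S) → (p = 2 → q = 3 → WA 2 3 S ∨ WA 3 2 S) →
      (∀ l, l.Prime → l ≠ r → 5 ≤ l → AbT l S) → WA p q S ∨ WA q p S := fun h1 h2 h3 => by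
    by_cases h4 : q < 5
    · obtain ⟨rfl, rfl⟩ : p = 2 ∧ q = 3 := by omega
      exact h2 rfl rfl
    have h5 := h3 q hq hqr (by omega)
    have h6 := Z q hq hqr (by omega)
    by_cases h7 : p = 2
    · exact A h6 (wz_of_px hq h5 (P2 h7))
    by_cases h9 : p = 3
    · exact A h6 (wz_of_px hq h5 (h1 h9 (by omega)))
    · exact C (by omega) (Z p hp hpr (by omega)) h6 (h3 p hp hpr (by omega)) h5
  by_cases h4 : D4c r S
  · have z3 := fun h3 => semiA_X hr Nat.prime_three h3 (.inr ⟨h4, rfl⟩)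
    obtain ⟨K, _, _, _, q0, h0, hK, ⟨e⟩⟩ := h4
    refine G ?_ ?_ fun l h1 h2 h3 => abT_syl e (ab_3d4 (r := r) q0) h1 (by simp only [Set.mem_ofPred_eq]; omega)
    · rintro rfl h5
      exact px_congr e (d4_three r K h0 hK hpr hq h5 hqr (Nat.card_congr e.toEquiv ▸ dq))
    · rintro rfl rfl
      refine A (z3 hqr) (wz_of_allD hq dq (allD_sc e (H621.Sc.sc_3d4 hK ?_) hq hlt.ne'))
      exact (Nat.odd_pow_iff three_ne_zero).1 (hK ▸ H631.odd_card_of_charP hr hpr.symm)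
  have P3 : p = 3 → 5 ≤ q → PX q p S := by
    rintro rfl h5
    exact px_three hr hq hpr hqr h5 hE h4 dp dq
  have G6 : Five6 r S → (3 ≠ r → 5 ≤ q → AllD 3 q S) → (p = 2 → q = 3 → WA 2 3 S ∨ WA 3 2 S) →
      (∀ l, l.Prime → l ≠ r → 7 ≤ l → AbT l S) → WA p q S ∨ WA q p S := fun h1 h2 h3 h5 => by
    by_cases h6 : 5 = r
    · exact G P3 h3 fun l a b c => h5 l a b (by have := small a; omega)
    rcases h1 h6 with h7 | ⟨h7, h9⟩
    · exact G P3 h3 fun l a b c => if h : l = 5 then h ▸ h7 else h5 l a b (by have := small a; omega)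
    by_cases h10 : q < 5
    · obtain ⟨rfl, rfl⟩ : p = 2 ∧ q = 3 := by omega
      exact h3 rfl rfl
    have zq := Z q hq hqr (by omega)
    rcases sp with rfl | rfl | rfl | h11
    · by_cases h11 : q = 5
      · subst h11
        exact A zq (h7 hpr)
      · exact A zq (wz_of_px hq (h5 q hq hqr (by omega)) (P2 rfl))
    · exact A zq (wz_of_allD hq dq (h2 hpr (by omega)))
    · exact A zq (wz_of_px hq (h5 q hq hqr (by omega)) (h9 q hq (by omega) hqr dq))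
    · exact C (by omega) (Z p hp hpr (by omega)) zq (h5 p hp hpr (by omega)) (h5 q hq hqr (by omega))
  rcases id hE with ⟨F, _, _, _, ⟨-, ⟨e⟩⟩ | ⟨⟨e⟩⟩ | ⟨⟨e⟩⟩ | ⟨⟨e⟩⟩ | h⟩ | ⟨K, _, _, _, q0, h0, ⟨hK, ⟨e⟩⟩ | h⟩ |
    ⟨rfl, K, _, _, m, -, hK, ⟨e⟩⟩ | ⟨rfl, K, _, _, m, -, hK, ⟨e⟩⟩ | ⟨rfl, K, _, _, m, -, hK, ⟨e⟩⟩
  · exact G P3 (fun h1 h2 => .inl (I.g2 r S hr (by omega) ⟨F, _, ‹_›, ‹_›, ⟨e⟩⟩)) fun l h1 h2 h3 =>
      abT_syl e (ab_g2 (r := r)) h1 (by simp only [Set.mem_ofPred_eq]; omega)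
  · exact G P3 (fun h1 h2 => .inl (I.f4 r S hr (by omega) ⟨F, _, ‹_›, ‹_›, ⟨e⟩⟩)) fun l h1 h2 h3 =>
      abT_syl e (ab_f4 (r := r)) h1 (by simp only [Set.mem_ofPred_eq]; omega)
  · exact G6 ((e6_five r F).congr e) (fun h1 h2 => (allD_E6 r F hq h1 (by omega)).congr e)
      (fun h1 h2 => .inl (I.e6 r S hr (by omega) ⟨F, _, ‹_›, ‹_›, ⟨e⟩⟩)) fun l h1 h2 h3 =>
      abT_syl e (ab_e6 (r := r)) h1 (by simp only [Set.mem_ofPred_eq]; omega)
  · have R := (e7_rows r F).congr e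
    have ab : ∀ l, l.Prime → l ≠ r → 11 ≤ l → AbT l S := fun l h1 h2 h3 =>
      abT_syl e (ab_e7 (r := r)) h1 (by simp only [Set.mem_ofPred_eq]; omega)
    by_cases h10 : q < 5
    · obtain ⟨rfl, rfl⟩ : p = 2 ∧ q = 3 := by omega
      exact .inr (I.e7 r S hr (by omega) ⟨F, _, ‹_›, ‹_›, ⟨e⟩⟩)
    have zq := Z q hq hqr (by omega)
    by_cases h2 : p = 2
    · subst h2
      exact A zq (wz_of_allD hq dq (allD_sc e (H621.Sc.sc_E7 (H631.odd_card_of_charP hr hpr.symm)) hq hlt.ne'))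
    by_cases h11 : q < 11
    · by_cases h3 : p = 3
      · subst h3
        exact A zq (R.three q (by omega) hpr hqr dq)
      obtain ⟨rfl, rfl⟩ : p = 5 ∧ q = 7 := by omega
      have zp := Z 5 hp hpr le_rfl
      rcases R.both hpr hqr dp dq with h | h | h
      exacts [B zp h, A zq h, C le_rfl zp zq h.1 h.2]
    have aq := ab q hq hqr (by omega)
    by_cases h3 : p = 3
    · exact A zq (wz_of_px hq aq (P3 h3 (by omega)))
    have zp := Z p hp hpr (by omega)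
    by_cases h12 : p < 11
    · exact (R.big p (by omega) hpr).elim (fun h => C (by omega) zp zq h aq) fun h =>
        A zq (wz_of_px hq aq (h q hq (by omega) hqr dq))
    · exact C (by omega) zp zq (ab p hp hpr (by omega)) aq
  · exact absurd ⟨F, _, ‹_›, ‹_›, h⟩ h8
  · exact G6 ((t6_five r K h0 hK).congr e) (fun h1 h2 => (allD_twE6 r K h0 hK hq h1 (by omega)).congr e)
      (fun h1 h2 => .inl (I.t6 r S hr (by omega) ⟨K, _, ‹_›, ‹_›, q0, h0, hK, ⟨e⟩⟩)) fun l h1 h2 h3 =>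
      abT_syl e (ab_2e6 (r := r) q0) h1 (by simp only [Set.mem_ofPred_eq]; omega)
  · exact absurd ⟨K, _, ‹_›, ‹_›, q0, h0, h⟩ h4
  · exact G P3 (fun h1 => absurd h1 hpr) fun l h1 h2 h3 => abT_syl e (ab_sz hK _) h1 h2
  · have := ChevalleyStructure.F4Fixed.charP_two hK
    exact G P3 (fun h1 => absurd h1 hpr) fun l h1 h2 h3 =>
      abT_syl e (ab_2f4 _) h1 (by simp only [Set.mem_ofPred_eq]; omega)
  · have : CharP K 3 := charP_of_card_eq_prime_pow hK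
    exact G P3 (fun _ h1 => absurd h1 hqr) fun l h1 h2 h3 =>
      abT_syl e (ab_ree _) h1 (by simp only [Set.mem_ofPred_eq]; omega)

end CvX

/-- **The exceptional groups in cross characteristic**, from the bad pairs. -/
theorem cX_of (I : CvI) : AllC SS.Ex CvX := CvX.main I

end Cfsg.Agent.PQ.EA
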