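import Cfsg.Agent.H630.ExcH
import Cfsg.Agent.H630.ExcK
import Cfsg.Agent.H234.NotCondMult

/-!
# S4982, cross characteristic, exceptional groups: class sizes of elements of prime order (helper97)

The lemmas of `H630/Exc*` and `H234/NotCondMult` for the condition on the elements of prime order only.
-/

set_option autoImplicit false
set_option linter.unusedSectionVars false
set_option linter.unusedVariables false

namespace Cfsg.Agent.PQ.EA.CvX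

universe u v

/-- an element of order `p` -/
inductive O1 {G : Type u} [Group G] (x : G) (p : ℕ) : Prop
  | mk (k : ℕ) (h : orderOf x = p ^ 1) : O1 x p

/-- no element of order `p` has a class size divisible by `q` -/
def Cond (π : Set ℕ) (G : Type u) [Group G] : Prop :=
  3 ∉ π ∧ ∀ p ∈ π, ∀ q ∈ π, p ≠ q → ∀ x : G, O1 x p → ¬ q ∣ (Subgroup.centralizer ({x} : Set G)).index

/-- the statement for a group -/
def Row (X : Type u) [Group X] : Prop :=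
  ∀ π : Set ℕ, (∀ p ∈ π, p.Prime ∧ p ≠ 2 ∧ p ∣ Nat.card X) → π.Nontrivial → Cond π X →
    ∃ T : Subgroup X, IsMulCommutative T ∧ ∀ p ∈ π, ¬ p ∣ T.index

/-- the statement for primes different from `r` -/
def CrossRow (r : ℕ) (X : Type u) [Group X] : Prop :=
  ∀ π : Set ℕ, (∀ p ∈ π, p.Prime ∧ p ≠ 2 ∧ p ≠ r ∧ p ∣ Nat.card X) → π.Nontrivial → Cond π X →
    ∃ T : Subgroup X, IsMulCommutative T ∧ ∀ p ∈ π, ¬ p ∣ T.index

theorem no3 {π : Set ℕ} {G : Type u} [Group G] (h : 3 ∈ π) : ¬ Cond π G := fun hc => hc.1 h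

theorem not_cond_of_centralizer {G : Type u} [Group G] [Finite G] {π : Set ℕ} {p q : ℕ} [Fact p.Prime]
    [hq' : Fact q.Prime] (hp : p ∈ π) (hq : q ∈ π) (hpq : p ≠ q) (hd : q ∣ Nat.card G) (A : Subgroup G)
    (hA : IsPGroup p A) (h : ∀ y : G, orderOf y = q → (∀ a ∈ A, a * y = y * a) → False) : ¬ Cond π G := by
  intro hc
  obtain ⟨y, hy⟩ := exists_prime_orderOf_dvd_card' q hd
  obtain ⟨g, hg⟩ := H630.NH.exists_conj_le p A hA _ (hc.2 q hq p hp hpq.symm y ⟨1, by rw [hy, pow_one]⟩)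
  refine h (g⁻¹ * y * g) ?_ ?_
  · rw [← hy]
    have := orderOf_injective (MulAut.conj g⁻¹).toMonoidHom (MulAut.conj g⁻¹).injective y
    simpa using this
  · intro a ha
    have h2 := hg a ha
    rw [Subgroup.mem_centralizer_singleton_iff] at h2
    have h3 : a * (g⁻¹ * y * g) = g⁻¹ * (g * a * g⁻¹ * y) * g := by group
    rw [h3, h2]
    group

section

open Cfsg.Agent.H630 Cfsg.Agent.H630.Exc
open CoxeterSystem Cfsg Cfsg.Lie Cfsg.Lie.ChevalleyDatum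

open Cfsg.Agent.ChevalleyStructure Cfsg.Agent.ChevalleyStructure.Elts Cfsg.Agent.ChevalleyStructure.CoxeterGeom
  Cfsg.Agent.ChevalleyStructure.CoxeterGeomTypes Cfsg.Agent.ChevalleyStructure.NPerm

open Cfsg.Agent.Tits.Roots Cfsg.Agent.Tits.Core Cfsg.Agent.Nodes Cfsg.Agent.Nodes.Reps Cfsg.Agent.Nodes.BNOf
  Cfsg.Agent.Nodes.RGDChev Cfsg.Agent.Nodes.Bruhat Cfsg.Agent.Nodes.SubComb Cfsg.Agent.Nodes.Coroot

open Cfsg.Agent.KFacts.RgdField Cfsg.Agent.KFacts.RgdChevCoord Cfsg.Agent.BpExc.TorCent Cfsg.Agent.BpExc.TorChev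

open Cfsg.Agent.GpExc.Field Cfsg.Agent.BpExc.Tow Cfsg.Agent.BpExc.TowChev Cfsg.Agent.BpExc.Fr
  Cfsg.Agent.BpExc.LangFr Cfsg.Agent.LangThm Cfsg.Agent.BpExc Cfsg.Agent.H129.TorusChar Cfsg.Agent.H129.TorusMain

open Cfsg.Agent.H129.TorAct (cX_tau tau_mem exists_theta)

open Cfsg.Agent.H630.NH

variable {D : ChevalleyDatum} {l : ℕ} {M : CoxeterMatrix (Fin l)} (hp : IsType D l M) {k : Type u} [Field k]
  {W : Type*} [Group W] (cs : CoxeterSystem M W)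

variable {p e : ℕ} [Fact p.Prime] [CharP k p] {σ : MulAut ↥(D.group k)} {g : (Fin l → ℤ) ≃+ (Fin l → ℤ)}
  {X : Type v} [Group X] {e0 : X →* ↥(D.group k)} {d : ℕ} (S : Setup hp cs p e σ g e0 d)

include S

/-- **Theorem B, first version**: a product of an elementary abelian group and an `r`-element acting fixed point freely. -/
theorem not_cond_B [IsAlgClosed k] [Finite W] [Finite X] {π : Set ℕ} {r s' : ℕ} (hrp : r.Prime) (hsp : s'.Prime)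
    (hr : r ∈ π) (hs' : s' ∈ π) (hrs : r ≠ s') (hrc : r ≠ p) (hrd : ¬ r ∣ d) (hsX : s' ∣ Nat.card X) (w : W) {n : ℕ}
    (hn0 : 0 < n) (hθ : ∀ x, (theta hp cs w g)^[n] x = x) (hq : (r : ℤ) ∣ ((p ^ e : ℕ) : ℤ) ^ n - 1)
    (hroot : ∀ a, IsRoot cs hp.isCartan a → ∃ L : (Fin l → ℤ) →+ ℤ, ¬ (r : ℤ) ∣ Lq L (theta hp cs w g) (p ^ e) n a)
    {s : W} (hs : ∀ x, rep cs hp.isCartan s (theta hp cs w g x) = theta hp cs w g (rep cs hp.isCartan s x))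
    {j : ℕ} (hsr : s ^ r ^ j = 1)
    (hfree : ∀ t ∈ TT D k, (∀ x, cX hp t (theta hp cs w g x) = cX hp t x ^ p ^ e) → t ^ s' = 1 →
      (∀ x, cX hp t (rep cs hp.isCartan s x) = cX hp t x) → t = 1) : ¬ Cond π X := by
  have : Fact r.Prime := ⟨hrp⟩
  have : Fact s'.Prime := ⟨hsp⟩
  have hNs := S.nsys hp cs
  obtain ⟨n', hn'⟩ := exists_rp cs hNs w
  obtain ⟨z, hz⟩ := lang_all hp cs S.pos S.frob S.fr 1 n'
  rw [map_one, one_mul] at hz
  obtain ⟨x, hx, hxs⟩ := S.exists_rep hp cs hn0 hθ hn' hz hs hrp hrd hsr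
  refine not_cond_of_centralizer hr hs' hrs hsX _ (isPGroup_E hp cs S.inj hx hxs) ?_
  intro y hy hyc
  have hyT := S.mem_torus hp cs hrp hsp hrs hrc hrd hn' hz hθ hq hroot hy
    (fun a ha => hyc a (Subgroup.mem_sup_right ha))
  have h1 : z⁻¹ * e0 y * z = 1 := by
    refine hfree _ hyT ((tau_iff hp cs S.lf S.frob S.fr hn' hyT).1 (S.tau hp cs hz y)) ?_ ?_
    · have h1 : (z⁻¹ * e0 y * z) ^ s' = z⁻¹ * e0 y ^ s' * z := by
        have h2 := conj_pow (i := s') (a := z⁻¹) (b := e0 y)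
        rwa [inv_inv] at h2
      rw [h1, ← map_pow, ← hy, pow_orderOf_eq_one, map_one, mul_one, inv_mul_cancel]
    · refine fix_of_rp hp cs S.lf p hxs hyT ?_
      have h2 := hyc x (Subgroup.mem_sup_left (Subgroup.mem_zpowers x))
      calc z⁻¹ * e0 x * z * (z⁻¹ * e0 y * z) = z⁻¹ * (e0 (x * y)) * z := by rw [map_mul]; group
        _ = z⁻¹ * (e0 (y * x)) * z := by rw [h2]
        _ = _ := by rw [map_mul]; group
  have h4 : e0 y = 1 := by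
    have : e0 y = z * (z⁻¹ * e0 y * z) * z⁻¹ := by group
    rw [this, h1]; group
  have h5 : y = 1 := S.inj (by rw [h4, map_one])
  rw [h5, orderOf_one] at hy
  exact hsp.one_lt.ne hy

/-- **Theorem B, second version.** -/
theorem ncard_le_of_cond [IsAlgClosed k] [Finite W] [Finite X] {π : Set ℕ} {r s' : ℕ} (hrp : r.Prime)
    (hsp : s'.Prime) (hr : r ∈ π) (hs' : s' ∈ π) (hrs : r ≠ s') (hrc : r ≠ p) (hsc : s' ≠ p) (hrd : ¬ r ∣ d)
    (hsd : ¬ s' ∣ d) (w : W) {n : ℕ}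
    (hn0 : 0 < n) (hθ : ∀ x, (theta hp cs w g)^[n] x = x) (hq : (r : ℤ) ∣ ((p ^ e : ℕ) : ℤ) ^ n - 1)
    (hq' : (s' : ℤ) ∣ ((p ^ e : ℕ) : ℤ) ^ n - 1)
    (hroot : ∀ a, IsRoot cs hp.isCartan a → ∃ L : (Fin l → ℤ) →+ ℤ, ¬ (r : ℤ) ∣ Lq L (theta hp cs w g) (p ^ e) n a)
    {s : W} (hs : ∀ x, rep cs hp.isCartan s (theta hp cs w g x) = theta hp cs w g (rep cs hp.isCartan s x))
    {j : ℕ} (hsr : s ^ r ^ j = 1) (L : (Fin l → ℤ) →+ ℤ) (hL : ∃ a, ¬ (s' : ℤ) ∣ Lq L (theta hp cs w g) (p ^ e) n a)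
    (hc : Cond π X) :
    {a | IsRoot cs hp.isCartan a ∧ ∑ i ∈ Finset.range (r ^ j), rep cs hp.isCartan (s ^ i) a = 0}.ncard ≤
      {a | IsRoot cs hp.isCartan a ∧ (s' : ℤ) ∣ Lq L (theta hp cs w g) (p ^ e) n a}.ncard := by
  have : Fact r.Prime := ⟨hrp⟩
  have : Fact s'.Prime := ⟨hsp⟩
  have hNs := S.nsys hp cs
  obtain ⟨n', hn'⟩ := exists_rp cs hNs w
  obtain ⟨z, hz⟩ := lang_all hp cs S.pos S.frob S.fr 1 n'
  rw [map_one, one_mul] at hz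
  have hsk : (s' : k) ≠ 0 := by
    rw [Ne, CharP.cast_eq_zero_iff k p]
    intro h
    exact hsc ((Nat.prime_dvd_prime_iff_eq (Fact.out : p.Prime) hsp).1 h).symm
  obtain ⟨B, d', hd', hB⟩ := S.inv
  obtain ⟨t0, ht0, ht0θ, ht0s, ht0c⟩ := exists_torsion' hp hB hd' hθ hsk hq' L
  obtain ⟨y0, hy0⟩ := S.exists_of_tau hp cs hz ((tau_iff hp cs S.lf S.frob S.fr hn' ht0).2 ht0θ) hsp hsd ⟨1, by
    rw [pow_one]; exact ht0s⟩
  have hy0e : e0 y0 = z * t0 * z⁻¹ := by rw [← hy0]; group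
  have hy0s : y0 ^ s' = 1 := by
    apply S.inj
    rw [map_pow, map_one, hy0e, conj_pow, ht0s]; group
  have hy01 : orderOf y0 = s' := by
    refine orderOf_eq_prime hy0s ?_
    rintro rfl
    obtain ⟨a, ha⟩ := hL
    apply ha
    rw [← ht0c, ← hy0, map_one, mul_one, inv_mul_cancel, cX_one]
  obtain ⟨x, hx, hxs⟩ := S.exists_rep hp cs hn0 hθ hn' hz hs hrp hrd hsr
  obtain ⟨h, hh⟩ := exists_conj_le r _ (isPGroup_E hp cs S.inj hx hxs) _
    (hc.2 s' hs' r hr (Ne.symm hrs) y0 ⟨1, by rw [hy01, pow_one]⟩)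
  obtain ⟨y, hy⟩ : ∃ y, y = h⁻¹ * y0 * h := ⟨_, rfl⟩
  have hys : orderOf y = s' := by
    rw [← hy01, hy]
    have := orderOf_injective (MulAut.conj h⁻¹).toMonoidHom (MulAut.conj h⁻¹).injective y0
    simpa using this
  have hyc : ∀ a ∈ (Subgroup.zpowers x ⊔ tXr hp S.inj z r : Subgroup X), a * y = y * a := by
    intro a ha
    have h2 := hh a ha
    rw [Subgroup.mem_centralizer_singleton_iff] at h2
    have h3 : a * (h⁻¹ * y0 * h) = h⁻¹ * (h * a * h⁻¹ * y0) * h := by group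
    rw [hy, h3, h2]
    group
  have hyT := S.mem_torus hp cs hrp hsp hrs hrc hrd hn' hz hθ hq hroot hys
    (fun a ha => hyc a (Subgroup.mem_sup_right ha))
  have hyx : ∀ a, cX hp (z⁻¹ * e0 y * z) (rep cs hp.isCartan s a) = cX hp (z⁻¹ * e0 y * z) a := by
    refine fix_of_rp hp cs S.lf p hxs hyT ?_
    have h2 := hyc x (Subgroup.mem_sup_left (Subgroup.mem_zpowers x))
    calc z⁻¹ * e0 x * z * (z⁻¹ * e0 y * z) = z⁻¹ * (e0 (x * y)) * z := by rw [map_mul]; group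
      _ = z⁻¹ * (e0 (y * x)) * z := by rw [h2]
      _ = _ := by rw [map_mul]; group
  have hys1 : (z⁻¹ * e0 y * z) ^ s' = 1 := by
    have h1 : (z⁻¹ * e0 y * z) ^ s' = z⁻¹ * e0 y ^ s' * z := by
      have h2 := conj_pow (i := s') (a := z⁻¹) (b := e0 y)
      rwa [inv_inv] at h2
    rw [h1, ← map_pow, ← hys, pow_orderOf_eq_one, map_one, mul_one, inv_mul_cancel]
  -- conjugacy
  obtain ⟨v, hv⟩ := exists_weyl_of_conj hp cs S.lf p (s := z⁻¹ * e0 y * z) (t := t0) (c := z⁻¹ * e0 h * z) hyT ht0 (by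
    have h7 : e0 y = (e0 h)⁻¹ * (z * t0 * z⁻¹) * e0 h := by rw [← hy0e, hy, map_mul, map_mul, map_inv]
    rw [h7]; group)
  have hfinr := finite_roots hp cs
  have hmc := isMC_cX hp hyT
  refine le_trans (Set.ncard_le_ncard (t := Kill hp cs (z⁻¹ * e0 y * z)) ?_ (hfinr.subset fun a ha => ha.1)) ?_
  · rintro a ⟨ha, hsum⟩
    refine ⟨ha, ?_⟩
    have h1 : ∀ i, cX hp (z⁻¹ * e0 y * z) (rep cs hp.isCartan (s ^ i) a) = cX hp (z⁻¹ * e0 y * z) a := by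
      intro i
      induction i with
      | zero => rw [pow_zero, map_one, Module.End.one_apply]
      | succ i ih => rw [pow_succ', rep_mul_apply, hyx, ih]
    have h2 : cX hp (z⁻¹ * e0 y * z) a ^ (r ^ j) = 1 := by
      have h3 := hmc.sum (Finset.range (r ^ j)) (fun i => rep cs hp.isCartan (s ^ i) a)
      rw [hsum, hmc.zero, Finset.prod_congr rfl (fun i _ => h1 i), Finset.prod_const, Finset.card_range] at h3
      exact h3.symm
    have h3 : cX hp (z⁻¹ * e0 y * z) a ^ s' = 1 := by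
      rw [← cX_pow hp hyT, hys1, cX_one]
    have h4 : orderOf (cX hp (z⁻¹ * e0 y * z) a) ∣ 1 := by
      have hco : Nat.Coprime (r ^ j) s' := Nat.Coprime.pow_left _ ((Nat.coprime_primes hrp hsp).2 hrs)
      have := Nat.dvd_gcd (orderOf_dvd_of_pow_eq_one h2) (orderOf_dvd_of_pow_eq_one h3)
      rwa [hco.gcd_eq_one] at this
    exact orderOf_eq_one_iff.1 (Nat.dvd_one.1 h4)
  · refine Set.ncard_le_ncard_of_injOn (fun a => rep cs hp.isCartan v a) ?_ ?_ (hfinr.subset fun a ha => ha.1)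
    · rintro a ⟨ha, h1⟩
      refine ⟨ha.act v, ?_⟩
      rw [← ht0c, hv, h1]
    · intro a _ b _ hab
      have h1 := congrArg (rep cs hp.isCartan v⁻¹) hab
      simpa only [rep_inv_apply] using h1

end

section

open Cfsg.Agent.H630 Cfsg.Agent.H630.Exc
open CoxeterSystem Cfsg Cfsg.Lie Cfsg.Lie.ChevalleyDatum

open Cfsg.Agent.ChevalleyStructure Cfsg.Agent.ChevalleyStructure.Elts Cfsg.Agent.ChevalleyStructure.CoxeterGeom
  Cfsg.Agent.ChevalleyStructure.CoxeterGeomTypes Cfsg.Agent.ChevalleyStructure.NPerm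

open Cfsg.Agent.Tits.Roots Cfsg.Agent.Tits.Core Cfsg.Agent.Nodes Cfsg.Agent.Nodes.Reps Cfsg.Agent.Nodes.BNOf
  Cfsg.Agent.Nodes.RGDChev Cfsg.Agent.Nodes.Bruhat Cfsg.Agent.Nodes.SubComb Cfsg.Agent.Nodes.Coroot

open Cfsg.Agent.KFacts.RgdField Cfsg.Agent.KFacts.RgdChevCoord Cfsg.Agent.BpExc.TorCent Cfsg.Agent.BpExc.TorChev

open Cfsg.Agent.GpExc.Field Cfsg.Agent.BpExc.Tow Cfsg.Agent.BpExc.TowChev Cfsg.Agent.BpExc.Fr
  Cfsg.Agent.BpExc.LangFr Cfsg.Agent.LangThm Cfsg.Agent.BpExc Cfsg.Agent.H129.TorusChar Cfsg.Agent.H129.TorusMain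

open Cfsg.Agent.H129.TorAct (cX_tau tau_mem exists_theta)

open Cfsg.Agent.H630.NH

variable {D : ChevalleyDatum} {l : ℕ} {M : CoxeterMatrix (Fin l)} (hp : IsType D l M) {k : Type u} [Field k]
  {W : Type*} [Group W] (cs : CoxeterSystem M W)

variable {p e : ℕ} [Fact p.Prime] [CharP k p] {σ : MulAut ↥(D.group k)} {g : (Fin l → ℤ) ≃+ (Fin l → ℤ)}
  {X : Type v} [Group X] {e0 : X →* ↥(D.group k)} {d : ℕ} (S : Setup hp cs p e σ g e0 d)

include S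

/-- **An `s`-element is conjugate into the torus.** -/
theorem exists_conj_tX [Finite W] [Finite X] {π : Set ℕ} {r s : ℕ} (hrp : r.Prime) (hsp : s.Prime)
    (hr : r ∈ π) (hs : s ∈ π) (hrs : r ≠ s) {z : ↥(D.group k)} (A : Subgroup X) (hA : IsPGroup r A)
    (hAT : A ≤ tX D k e0 z) (hroot : ∀ a, IsRoot cs hp.isCartan a → ∃ x ∈ A, cX hp (z⁻¹ * e0 x * z) a ≠ 1)
    (hc : Cond π X) {y : X} (hy : O1 y s) : ∃ h : X, h⁻¹ * y * h ∈ tX D k e0 z := by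
  have : Fact r.Prime := ⟨hrp⟩
  have : Fact s.Prime := ⟨hsp⟩
  have hNs := S.nsys hp cs
  obtain ⟨h, hh⟩ := exists_conj_le r A hA _ (hc.2 s hs r hr (Ne.symm hrs) y hy)
  obtain ⟨y', hy'⟩ : ∃ y', y' = h⁻¹ * y * h := ⟨_, rfl⟩
  have hyc : ∀ a ∈ A, a * y' = y' * a := by
    intro a ha
    have h2 := hh a ha
    rw [Subgroup.mem_centralizer_singleton_iff] at h2
    have h3 : a * (h⁻¹ * y * h) = h⁻¹ * (h * a * h⁻¹ * y) * h := by group
    rw [hy', h3, h2]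
    group
  have hys : orderOf y' = orderOf y := by
    have := orderOf_injective (MulAut.conj h⁻¹).toMonoidHom (MulAut.conj h⁻¹).injective y
    rw [hy']
    simpa using this
  obtain ⟨-, hm⟩ := hy
  obtain ⟨j, hj⟩ := IsPGroup.iff_card.1 hA
  refine ⟨h, ?_⟩
  rw [← hy', mem_tX]
  refine mem_TT_of_pow hp cs S.lf p hNs (A := (fun x : X => z⁻¹ * e0 x * z) '' (A : Set X))
    ((Set.toFinite _).image _) ?_ ?_ (r := r ^ j) ?_ (m := s ^ 1) (pow_pos hsp.pos 1)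
    (Nat.Coprime.pow _ _ ((Nat.coprime_primes hsp hrp).2 (Ne.symm hrs))) ?_ ?_
  · rintro _ ⟨x, hx, rfl⟩
    exact hAT hx
  · intro a ha
    obtain ⟨x, hx, h1⟩ := hroot a ha
    exact ⟨_, ⟨x, hx, rfl⟩, h1⟩
  · rintro _ ⟨x, hx, rfl⟩
    have h1 : x ^ r ^ j = 1 := by
      have := pow_card_eq_one' (x := (⟨x, hx⟩ : A))
      rw [hj] at this
      exact congrArg Subtype.val this
    rw [S.conj_pow_eq hp cs, h1, map_one]; group
  · rintro _ ⟨x, hx, rfl⟩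
    have h2 := hyc x hx
    calc z⁻¹ * e0 y' * z * (z⁻¹ * e0 x * z) = z⁻¹ * (e0 (y' * x)) * z := by rw [map_mul]; group
      _ = z⁻¹ * (e0 (x * y')) * z := by rw [h2]
      _ = _ := by rw [map_mul]; group
  · rw [S.conj_pow_eq hp cs, ← hm, ← hys, pow_orderOf_eq_one, map_one]; group

/-- Then it is killed by the exponent of the torus. -/
theorem pow_eq_one_of [IsAlgClosed k] [Finite W] [Finite X] {π : Set ℕ} {r s : ℕ} (hrp : r.Prime) (hsp : s.Prime)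
    (hr : r ∈ π) (hs : s ∈ π) (hrs : r ≠ s) {hN : NSys M (TT D k) (nc hp k)} {w : W} {n z : ↥(D.group k)}
    (hn : Rp cs hN w n) (hz : n = z⁻¹ * σ z) (A : Subgroup X) (hA : IsPGroup r A)
    (hAT : A ≤ tX D k e0 z) (hroot : ∀ a, IsRoot cs hp.isCartan a → ∃ x ∈ A, cX hp (z⁻¹ * e0 x * z) a ≠ 1)
    {N : ℕ} (hN' : ∀ t ∈ TT D k, (∀ x, cX hp t (theta hp cs w g x) = cX hp t x ^ p ^ e) → t ^ N = 1)
    (hc : Cond π X) {y : X} (hy : O1 y s) : y ^ N = 1 := by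
  obtain ⟨h, hh⟩ := exists_conj_tX hp cs S hrp hsp hr hs hrs A hA hAT hroot hc hy
  have h1 := hN' _ hh ((tau_iff hp cs S.lf S.frob S.fr hn hh).1 (S.tau hp cs hz _))
  rw [S.conj_pow_eq hp cs] at h1
  have h2 : e0 ((h⁻¹ * y * h) ^ N) = 1 := by
    have h3 : e0 ((h⁻¹ * y * h) ^ N) = z * (z⁻¹ * e0 ((h⁻¹ * y * h) ^ N) * z) * z⁻¹ := by group
    rw [h3, h1]; group
  have h3 : (h⁻¹ * y * h) ^ N = 1 := S.inj (by rw [h2, map_one])
  have h4 := conj_pow (i := N) (a := h⁻¹) (b := y)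
  rw [inv_inv] at h4
  rw [h4] at h3
  calc y ^ N = h * (h⁻¹ * y ^ N * h) * h⁻¹ := by group
    _ = 1 := by rw [h3]; group

/-- **Theorem A, second version**: every `s`-element is killed by the exponent of the torus. -/
theorem pow_eq_one [IsAlgClosed k] [Finite W] [Finite X] {π : Set ℕ} {r s : ℕ} (hrp : r.Prime) (hsp : s.Prime)
    (hr : r ∈ π) (hs : s ∈ π) (hrs : r ≠ s) (hrc : r ≠ p) (hrd : ¬ r ∣ d) (w : W) {n : ℕ}
    (hθ : ∀ x, (theta hp cs w g)^[n] x = x) (hq : (r : ℤ) ∣ ((p ^ e : ℕ) : ℤ) ^ n - 1)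
    (hroot : ∀ a, IsRoot cs hp.isCartan a → ∃ L : (Fin l → ℤ) →+ ℤ, ¬ (r : ℤ) ∣ Lq L (theta hp cs w g) (p ^ e) n a)
    {N : ℕ} (hN : ∀ t ∈ TT D k, (∀ x, cX hp t (theta hp cs w g x) = cX hp t x ^ p ^ e) → t ^ N = 1)
    (hc : Cond π X) {y : X} (hy : O1 y s) : y ^ N = 1 := by
  have : Fact r.Prime := ⟨hrp⟩
  have hNs := S.nsys hp cs
  obtain ⟨n', hn'⟩ := exists_rp cs hNs w
  obtain ⟨z, hz⟩ := lang_all hp cs S.pos S.frob S.fr 1 n'
  rw [map_one, one_mul] at hz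
  have hrk : (r : k) ≠ 0 := by
    rw [Ne, CharP.cast_eq_zero_iff k p]
    intro h
    exact hrc ((Nat.prime_dvd_prime_iff_eq (Fact.out : p.Prime) hrp).1 h).symm
  obtain ⟨B, d', hd', hB⟩ := S.inv
  refine pow_eq_one_of hp cs S hrp hsp hr hs hrs hn' hz (tXr hp S.inj z r) ?_ (fun x hx => hx.1) ?_ hN hc hy
  · rintro ⟨x, hx⟩
    exact ⟨1, Subtype.ext (by rw [pow_one]; exact hx.2)⟩
  · intro a ha
    obtain ⟨L, hL⟩ := hroot a ha
    obtain ⟨t, ht, h1, h2, h3⟩ := exists_torsion hp hB hd' hθ hrk hq L hL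
    obtain ⟨x, hx⟩ := S.exists_of_tau hp cs hz ((tau_iff hp cs S.lf S.frob S.fr hn' ht).2 h1) hrp hrd ⟨1, by
      rw [pow_one]; exact h2⟩
    refine ⟨x, ⟨by rw [mem_tX, hx]; exact ht, ?_⟩, by rw [hx]; exact h3⟩
    apply S.inj
    rw [map_pow, map_one]
    have h1 : e0 x = z * t * z⁻¹ := by rw [← hx]; group
    rw [h1, conj_pow, h2]; group

/-- **Theorem A for a regular element.** -/
theorem pow_eq_one_reg [IsAlgClosed k] [Finite W] [Finite X] {π : Set ℕ} {r s : ℕ} (hrp : r.Prime)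
    (hsp : s.Prime) (hr : r ∈ π) (hs : s ∈ π) (hrs : r ≠ s) (hrc : r ≠ p) (hrd : ¬ r ∣ d) (hr2 : r ≠ 2) {ε : ℤ}
    (hε : ε = 1 ∨ ε = -1) {w1 : W} (hT : HasTor hp cs g ε w1) {n : ℕ} (hw : rep cs hp.isCartan w1 ^ n = 1) {Q : ℤ}
    (hQ : Q = ε * (p ^ e : ℕ)) (hrQ : (r : ℤ) ∣ Q ^ n - 1) (hreg : RegAt cs hp.isCartan w1 n r Q)
    (hc : Cond π X) {y : X} (hy : O1 y s) : y ^ (Q ^ n - 1).natAbs = 1 := by
  obtain ⟨w, hw'⟩ := hT
  have hrZ := Nat.prime_iff_prime_int.1 hrp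
  refine pow_eq_one hp cs S hrp hsp hr hs hrs hrc hrd w (n := 2 * n) (fun x => ?_) ?_ (fun a ha => ?_)
    (fun t ht hθ => S.torus_exp hp cs hε hw' hw hQ ht hθ) hc hy
  · rw [theta_iter hp cs hw', eps_pow_two hε, one_smul, mul_comm, pow_mul, hw, one_pow,
      Module.End.one_apply]
  · have h1 : ((p ^ e : ℕ) : ℤ) ^ (2 * n) = Q ^ (2 * n) := by rw [hQ, mul_pow, eps_pow_two hε, one_mul]
    rw [h1]
    refine hrQ.trans ⟨Q ^ n + 1, ?_⟩
    ring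
  · obtain ⟨L, hL⟩ := hreg a ha
    refine ⟨L, fun h1 => ?_⟩
    rw [Lq_eq hp cs hε hw' hw _ hQ] at h1
    rcases hrZ.dvd_mul.1 h1 with h2 | h2
    · have h3 : (r : ℤ) ∣ 2 := by
        have h4 := dvd_sub h2 hrQ
        have h5 : Q ^ n + 1 - (Q ^ n - 1) = 2 := by ring
        rwa [h5] at h4
      have h4 : r ∣ 2 := by exact_mod_cast h3
      exact hr2 ((Nat.prime_dvd_prime_iff_eq hrp Nat.prime_two).1 h4)
    · exact hL h2

/-- **Theorem A for a regular element**, contradiction. -/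
theorem not_cond_reg [IsAlgClosed k] [Finite W] [Finite X] {π : Set ℕ} {r s : ℕ} (hrp : r.Prime)
    (hsp : s.Prime) (hr : r ∈ π) (hs : s ∈ π) (hrs : r ≠ s) (hrc : r ≠ p) (hrd : ¬ r ∣ d) (hr2 : r ≠ 2)
    (hsX : s ∣ Nat.card X) {ε : ℤ}
    (hε : ε = 1 ∨ ε = -1) {w1 : W} (hT : HasTor hp cs g ε w1) {n : ℕ} (hw : rep cs hp.isCartan w1 ^ n = 1) {Q : ℤ}
    (hQ : Q = ε * (p ^ e : ℕ)) (hrQ : (r : ℤ) ∣ Q ^ n - 1) (hreg : RegAt cs hp.isCartan w1 n r Q)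
    (hsQ : ¬ (s : ℤ) ∣ Q ^ n - 1) : ¬ Cond π X := by
  intro hc
  have : Fact s.Prime := ⟨hsp⟩
  obtain ⟨y, hy⟩ := exists_prime_orderOf_dvd_card' s hsX
  have h1 := pow_eq_one_reg hp cs S hrp hsp hr hs hrs hrc hrd hr2 hε hT hw hQ hrQ hreg hc (y := y) ⟨1, by
    rw [hy, pow_one]⟩
  have h2 := orderOf_dvd_of_pow_eq_one h1
  rw [hy] at h2
  exact hsQ (Int.natCast_dvd.2 h2)

omit S in
/-- `Cond {r, s}` gives an element of order `r s`. -/
theorem exists_mul_order [Finite X] {π : Set ℕ} {r s : ℕ} (hrp : r.Prime) (hsp : s.Prime) (hr : r ∈ π) (hs : s ∈ π)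
    (hrs : r ≠ s) (hrX : r ∣ Nat.card X) (hsX : s ∣ Nat.card X) (hc : Cond π X) : ∃ x : X, orderOf x = r * s := by
  have : Fact r.Prime := ⟨hrp⟩
  have : Fact s.Prime := ⟨hsp⟩
  obtain ⟨y, hy⟩ := exists_prime_orderOf_dvd_card' s hsX
  have h1 := hc.2 s hs r hr (Ne.symm hrs) y ⟨1, by rw [hy, pow_one]⟩
  have h2 : r ∣ Nat.card (Subgroup.centralizer ({y} : Set X)) := by
    have h3 := Subgroup.card_mul_index (Subgroup.centralizer ({y} : Set X))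
    rw [← h3] at hrX
    exact (hrp.dvd_mul.1 hrX).resolve_right h1
  obtain ⟨x, hx⟩ := exists_prime_orderOf_dvd_card' r h2
  have hxo : orderOf (x : X) = r := by rw [Subgroup.orderOf_coe]; exact hx
  have hcomm : Commute (x : X) y := Subgroup.mem_centralizer_singleton_iff.1 x.2
  refine ⟨x * y, ?_⟩
  rw [hcomm.orderOf_mul_eq_mul_orderOf_of_coprime (by rw [hxo, hy]; exact (Nat.coprime_primes hrp hsp).2 hrs), hxo, hy]

end

section

open Cfsg.Agent.H630 Cfsg.Agent.H630.Exc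
open CoxeterSystem Cfsg Cfsg.Lie Cfsg.Lie.ChevalleyDatum

open Cfsg.Agent.ChevalleyStructure Cfsg.Agent.ChevalleyStructure.Elts Cfsg.Agent.ChevalleyStructure.CoxeterGeom
  Cfsg.Agent.ChevalleyStructure.CoxeterGeomTypes Cfsg.Agent.ChevalleyStructure.NPerm

open Cfsg.Agent.Tits.Roots Cfsg.Agent.Tits.Core Cfsg.Agent.Nodes Cfsg.Agent.Nodes.Reps Cfsg.Agent.Nodes.BNOf
  Cfsg.Agent.Nodes.RGDChev Cfsg.Agent.Nodes.Bruhat Cfsg.Agent.Nodes.SubComb Cfsg.Agent.Nodes.Coroot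

open Cfsg.Agent.KFacts.RgdField Cfsg.Agent.KFacts.RgdChevCoord Cfsg.Agent.BpExc.TorCent Cfsg.Agent.BpExc.TorChev

open Cfsg.Agent.GpExc.Field Cfsg.Agent.BpExc.Tow Cfsg.Agent.BpExc.TowChev Cfsg.Agent.BpExc.Fr
  Cfsg.Agent.BpExc.LangFr Cfsg.Agent.LangThm Cfsg.Agent.BpExc Cfsg.Agent.H129.TorusChar Cfsg.Agent.H129.TorusMain

open Cfsg.Agent.H630.NH Cfsg.Agent.H130.WeylCk Cfsg.Agent.H130.PolyL

section Reg

variable {D : ChevalleyDatum} {l : ℕ} {M : CoxeterMatrix (Fin l)} (hp : IsType D l M) {k' : Type u} [Field k']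
  {W : Type*} [Group W] (cs : CoxeterSystem M W)
  {p e : ℕ} [Fact p.Prime] [CharP k' p] {σ : MulAut ↥(D.group k')}
  {g : (Fin l → ℤ) ≃+ (Fin l → ℤ)} {X : Type v} [Group X] {e0 : X →* ↥(D.group k')} {d : ℕ}
  (S : Setup hp cs p e σ g e0 d)

/-- primes `r` with `Q` of order `n` modulo `r` exclude the primes `s` with `s ∤ Q^n - 1` -/
def RegE (X : Type v) [Group X] (p d : ℕ) (Q : ℤ) (n : ℕ) : Prop :=
  ∀ (π : Set ℕ) (r s : ℕ), r.Prime → s.Prime → r ∈ π → s ∈ π → r ≠ s → r ≠ 2 → r ≠ p → ¬ r ∣ d → s ∣ Nat.card X →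
    orderOf (Q : ZMod r) = n → ¬ orderOf (Q : ZMod s) ∣ n → ¬ Cond π X

include S

theorem regE_same [IsAlgClosed k'] [Finite W] [Finite X] {ε Q : ℤ} (hε : ε = 1 ∨ ε = -1)
    (hQ : Q = ε * (p ^ e : ℕ)) {w1 : W} (hT : HasTor hp cs g ε w1) {n : ℕ} (hw : rep cs hp.isCartan w1 ^ n = 1)
    (hreg : ∀ r : ℕ, r.Prime → r ≠ 2 → ¬ (r : ℤ) ∣ Q → orderOf (Q : ZMod r) = n → RegAt cs hp.isCartan w1 n r Q) :
    RegE X p d Q n := by
  intro π r s hrp hsp hr hs hrs hr2 hrc hrd hsX hrn hsn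
  exact not_cond_reg hp cs S hrp hsp hr hs hrs hrc hrd hr2 hsX hε hT hw hQ ((dvd_pow_sub_one_iff n).2 (by rw [hrn]))
    (hreg r hrp hr2 (not_dvd_Q Fact.out hrp hrc hε hQ) hrn) fun h => hsn ((dvd_pow_sub_one_iff n).1 h)

theorem regE_neg [IsAlgClosed k'] [Finite W] [Finite X] {ε Q : ℤ} (hε : ε = 1 ∨ ε = -1)
    (hQ : Q = ε * (p ^ e : ℕ)) {w1 : W} (hT : HasTor hp cs g (-ε) w1) {n : ℕ} (hn0 : 0 < n) (hodd : ¬ 2 ∣ n)
    (hw : rep cs hp.isCartan w1 ^ n = 1)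
    (hreg : ∀ r : ℕ, r.Prime → r ≠ 2 → ¬ (r : ℤ) ∣ -Q → orderOf ((-Q : ℤ) : ZMod r) = n →
      RegAt cs hp.isCartan w1 n r (-Q)) :
    RegE X p d Q (2 * n) := by
  intro π r s hrp hsp hr hs hrs hr2 hrc hrd hsX hrn hsn
  have h1 := order_neg hrp hrn hodd hn0
  have hε' : -ε = 1 ∨ -ε = -1 := by rcases hε with rfl | rfl <;> simp
  have hQ' : -Q = -ε * (p ^ e : ℕ) := by rw [hQ]; ring
  refine not_cond_reg hp cs S hrp hsp hr hs hrs hrc hrd hr2 hsX hε' hT hw hQ'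
    ((dvd_pow_sub_one_iff n).2 (by rw [h1])) (hreg r hrp hr2 (not_dvd_Q Fact.out hrp hrc hε' hQ') h1) fun h => hsn ?_
  rw [← dvd_pow_sub_one_iff]
  have h2 : (-Q) ^ (2 * n) = Q ^ (2 * n) := (even_two_mul n).neg_pow Q
  have h3 : (-Q) ^ n - 1 ∣ (-Q) ^ (2 * n) - 1 := ⟨(-Q) ^ n + 1, by ring⟩
  rw [h2] at h3
  exact h.trans h3

end Reg

section Main

variable {D : ChevalleyDatum} {l : ℕ} {M : CoxeterMatrix (Fin l)} (hp : IsType D l M) {k' : Type u} [Field k']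
  {W : Type*} [Group W] (cs : CoxeterSystem M W)
  {p e : ℕ} [hpF : Fact p.Prime] [CharP k' p] {σ : MulAut ↥(D.group k')}
  {g : (Fin l → ℤ) ≃+ (Fin l → ℤ)} {X : Type v} [Group X] {e0 : X →* ↥(D.group k')} {d : ℕ}
  (S : Setup hp cs p e σ g e0 d)

include S

/-- **The row in cross characteristic.** -/
theorem crossRow_of [IsAlgClosed k'] [Finite W] [Finite X] (hka : BpExc.TorAll.HAlg p k') {ε Q : ℤ}
    (hε : ε = 1 ∨ ε = -1) (hQ : Q = ε * (p ^ e : ℕ)) {degs es : List ℕ}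
    (hes : ∀ i ∈ degs, i ≠ 0 ∧ ∀ n < i + 1, n ∣ i → n ∈ es) {N g' : ℕ}
    (hcard : g' * Nat.card X = (p ^ e) ^ N * ((degs.map (fun i => Q ^ i - 1)).prod).natAbs)
    {H : List ℕ} (hReg : ∀ n ∈ H, RegE X p d Q n) {Sp : ℕ → ℕ → Prop}
    (hpair : ∀ n ∈ es, ∀ m ∈ es, n ≠ m → (n ∈ H ∧ ¬ m ∣ n) ∨ (m ∈ H ∧ ¬ n ∣ m) ∨
      (l < n.totient + m.totient ∧ Big l n ∧ Big l m) ∨ Sp n m ∨ Sp m n)
    (hSp : ∀ (π : Set ℕ) (r s : ℕ), r.Prime → s.Prime → r ∈ π → s ∈ π → r ≠ s → r ≠ 2 → s ≠ 2 → r ≠ p → s ≠ p →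
      ¬ r ∣ d → ¬ s ∣ d → r ∣ Nat.card X → s ∣ Nat.card X → Sp (orderOf (Q : ZMod r)) (orderOf (Q : ZMod s)) →
      ¬ Cond π X)
    (hd : ∀ (π : Set ℕ) (r s : ℕ), r.Prime → s.Prime → r ∈ π → s ∈ π → r ≠ s → r ≠ 2 → s ≠ 2 → r ≠ p → s ≠ p →
      r ∣ d → r ∣ Nat.card X → s ∣ Nat.card X → ¬ Cond π X)
    (hBad : ∀ (π : Set ℕ) (r s : ℕ), r.Prime → s.Prime → r ∈ π → s ∈ π → r ≠ s → r ≠ 2 → s ≠ 2 → r ≠ p → s ≠ p →
      ¬ r ∣ d → ¬ s ∣ d → r ∣ Nat.card X → s ∣ Nat.card X → orderOf (Q : ZMod r) = orderOf (Q : ZMod s) →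
      (∃ i ∈ degs, orderOf (Q : ZMod r) ∣ i ∧ r ∣ i) → ¬ Cond π X)
    (hPos : ∀ n ∈ es, ∀ (π : Set ℕ), (∀ r ∈ π, r.Prime ∧ r ≠ 2 ∧ r ≠ p ∧ ¬ r ∣ d ∧ orderOf (Q : ZMod r) = n ∧
      (∀ i ∈ degs, n ∣ i → ¬ r ∣ i) ∧ ∃ R, (degs.map (fun i => Q ^ i - 1)).prod = (Polynomial.cyclotomic n ℤ).eval Q ^
        (degs.filter (fun i => n ∣ i)).length * R ∧ ¬ (r : ℤ) ∣ R) → π.Nontrivial →
      ∃ T : Subgroup X, IsMulCommutative T ∧ ∀ r ∈ π, ¬ r ∣ T.index) : CrossRow p X := by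
  have hpp : p.Prime := Fact.out
  intro π hπ hnt hc
  have hQr : ∀ r ∈ π, ¬ (r : ℤ) ∣ Q := fun r hr => not_dvd_Q hpp (hπ r hr).1 (hπ r hr).2.2.1 hε hQ
  -- no prime of `π` divides `d`
  have hdπ : ∀ r ∈ π, ¬ r ∣ d := by
    intro r hr hrd
    obtain ⟨s, hs, hsr⟩ := hnt.exists_ne r
    exact hd π r s (hπ r hr).1 (hπ s hs).1 hr hs hsr.symm (hπ r hr).2.1 (hπ s hs).2.1 (hπ r hr).2.2.1
      (hπ s hs).2.2.1 hrd (hπ r hr).2.2.2 (hπ s hs).2.2.2 hc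
  -- the orders are in `es`
  have hord : ∀ r ∈ π, orderOf (Q : ZMod r) ∈ es := by
    intro r hr
    obtain ⟨h1, h2, h3, h4⟩ := hπ r hr
    have hrZ := Nat.prime_iff_prime_int.1 h1
    have h5 : r ∣ (p ^ e) ^ N * ((degs.map (fun i => Q ^ i - 1)).prod).natAbs := by
      rw [← hcard]; exact h4.mul_left _
    rcases h1.dvd_mul.1 h5 with h6 | h6
    · exact absurd ((Nat.prime_dvd_prime_iff_eq h1 hpp).1 (h1.dvd_of_dvd_pow (h1.dvd_of_dvd_pow h6))) h3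
    · have h7 : (r : ℤ) ∣ (degs.map (fun i => Q ^ i - 1)).prod := Int.natCast_dvd.2 h6
      obtain ⟨x, hx, hrx⟩ := (Prime.dvd_prod_iff hrZ).1 h7
      obtain ⟨i, hi, rfl⟩ := List.mem_map.1 hx
      have h8 := (dvd_pow_sub_one_iff i).1 hrx
      exact (hes i hi).2 _ (Nat.lt_succ_of_le (Nat.le_of_dvd (Nat.pos_of_ne_zero (hes i hi).1) h8)) h8
  have hbig : ∀ r ∈ π, Big l (orderOf (Q : ZMod r)) → l + 1 < r := by
    intro r hr hb
    by_contra hcon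
    exact hb r (by omega) (hπ r hr).1 (ord_dvd (hπ r hr).1 (hQr r hr))
  -- different orders
  have hne : ∀ r ∈ π, ∀ s ∈ π, orderOf (Q : ZMod r) = orderOf (Q : ZMod s) := by
    intro r hr s hs
    by_contra hne
    have hrs : r ≠ s := by rintro rfl; exact hne rfl
    obtain ⟨h1, h2, h3, h4⟩ := hπ r hr
    obtain ⟨g1, g2, g3, g4⟩ := hπ s hs
    rcases hpair _ (hord r hr) _ (hord s hs) hne with ⟨h5, h6⟩ | ⟨h5, h6⟩ | ⟨h5, h6, h7⟩ | h5 | h5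
    · exact hReg _ h5 π r s h1 g1 hr hs hrs h2 h3 (hdπ r hr) g4 rfl h6 hc
    · exact hReg _ h5 π s r g1 h1 hs hr hrs.symm g2 g3 (hdπ s hs) h4 rfl h6 hc
    · obtain ⟨x, hx⟩ := exists_mul_order h1 g1 hr hs hrs h4 g4 hc
      have := S.totient_le hp cs hka h1 g1 h3 g3 (hbig r hr h6) (hbig s hs h7) hx hε hQ hne
      omega
    · exact hSp π r s h1 g1 hr hs hrs h2 g2 h3 g3 (hdπ r hr) (hdπ s hs) h4 g4 h5 hc
    · exact hSp π s r g1 h1 hs hr hrs.symm g2 h2 g3 h3 (hdπ s hs) (hdπ r hr) g4 h4 h5 hc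
  obtain ⟨r0, hr0⟩ := hnt.nonempty
  refine hPos _ (hord r0 hr0) π (fun r hr => ?_) hnt
  obtain ⟨h1, h2, h3, h4⟩ := hπ r hr
  have hb : ∀ i ∈ degs, orderOf (Q : ZMod r) ∣ i → ¬ r ∣ i := by
    intro i hi h5 h6
    obtain ⟨s, hs, hsr⟩ := hnt.exists_ne r
    obtain ⟨g1, g2, g3, g4⟩ := hπ s hs
    exact hBad π r s h1 g1 hr hs hsr.symm h2 g2 h3 g3 (hdπ r hr) (hdπ s hs) h4 g4 (hne r hr s hs) ⟨i, hi, h5, h6⟩ hc
  refine ⟨h1, h2, h3, hdπ r hr, hne r hr r0 hr0, ?_, ?_⟩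
  · rw [hne r0 hr0 r hr]; exact hb
  · have h5 := exists_prod h1 (hQr r hr) degs hb
    rwa [hne r hr r0 hr0] at h5

end Main

end

section

open Cfsg.Agent.H630 Cfsg.Agent.H630.Exc
open CoxeterSystem Cfsg Cfsg.Lie Cfsg.Lie.ChevalleyDatum

open Cfsg.Agent.ChevalleyStructure Cfsg.Agent.ChevalleyStructure.Elts Cfsg.Agent.ChevalleyStructure.CoxeterGeom
  Cfsg.Agent.ChevalleyStructure.CoxeterGeomTypes Cfsg.Agent.ChevalleyStructure.NPerm

open Cfsg.Agent.Tits.Roots Cfsg.Agent.Tits.Core Cfsg.Agent.Nodes Cfsg.Agent.Nodes.Reps Cfsg.Agent.Nodes.BNOf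
  Cfsg.Agent.Nodes.RGDChev Cfsg.Agent.Nodes.Bruhat Cfsg.Agent.Nodes.SubComb Cfsg.Agent.Nodes.Coroot

open Cfsg.Agent.KFacts.RgdField Cfsg.Agent.KFacts.RgdChevCoord Cfsg.Agent.BpExc.TorCent Cfsg.Agent.BpExc.TorChev

open Cfsg.Agent.GpExc.Field Cfsg.Agent.BpExc.Tow Cfsg.Agent.BpExc.TowChev Cfsg.Agent.BpExc.Fr
  Cfsg.Agent.BpExc.LangFr Cfsg.Agent.LangThm Cfsg.Agent.BpExc Cfsg.Agent.H129.TorusChar Cfsg.Agent.H129.TorusMain

open Cfsg.Agent.H630.NH Cfsg.Agent.H130.WeylCk Cfsg.Agent.H130.PolyL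

variable {D : ChevalleyDatum} {l : ℕ} {M : CoxeterMatrix (Fin l)} (hp : IsType D l M) {k' : Type u} [Field k']
  {W : Type*} [Group W] (cs : CoxeterSystem M W)
  {p e : ℕ} [Fact p.Prime] [CharP k' p] {σ : MulAut ↥(D.group k')}
  {g : (Fin l → ℤ) ≃+ (Fin l → ℤ)} {X : Type v} [Group X] {e0 : X →* ↥(D.group k')} {d : ℕ}
  (S : Setup hp cs p e σ g e0 d)

include S

/-- **Bad primes, first version.** -/
theorem not_cond_sum [IsAlgClosed k'] [Finite W] [Finite X] {π : Set ℕ} {r s' : ℕ} (hrp : r.Prime)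
    (hsp : s'.Prime) (hr : r ∈ π) (hs' : s' ∈ π) (hrs : r ≠ s') (hrc : r ≠ p) (hrd : ¬ r ∣ d) (hr2 : r ≠ 2)
    (hsX : s' ∣ Nat.card X) {ε Q : ℤ} (hε : ε = 1 ∨ ε = -1) (hQ : Q = ε * (p ^ e : ℕ)) {w1 : W}
    (hT : HasTor hp cs g ε w1) {n : ℕ} (hn0 : 0 < n) (hw : rep cs hp.isCartan w1 ^ n = 1) (hrQ : (r : ℤ) ∣ Q ^ n - 1)
    (hreg : RegAt cs hp.isCartan w1 n r Q) {sW : W}
    (hcomm : ∀ x, rep cs hp.isCartan sW (rep cs hp.isCartan w1 x) = rep cs hp.isCartan w1 (rep cs hp.isCartan sW x))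
    {j : ℕ} (hsj : rep cs hp.isCartan sW ^ r ^ j = 1) {m : ℕ} (c : Fin m → ℤ)
    (hsum : ∀ x, ∑ i ∈ Finset.range (r ^ j), (rep cs hp.isCartan sW ^ i)
      (∑ t : Fin m, c t • (rep cs hp.isCartan w1 ^ (t : ℕ)) x) = 0)
    (hcs : ¬ (s' : ℤ) ∣ ∑ t : Fin m, c t * Q ^ (t : ℕ)) : ¬ Cond π X := by
  obtain ⟨w, hw'⟩ := hT
  have hrZ := Nat.prime_iff_prime_int.1 hrp
  have hsZ := Nat.prime_iff_prime_int.1 hsp
  have hsj' : sW ^ r ^ j = 1 := rep_injective cs hp.isCartan (by rw [map_pow, hsj, map_one])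
  refine not_cond_B hp cs S hrp hsp hr hs' hrs hrc hrd hsX w (n := 2 * n) (by omega) (fun x => ?_) ?_ (fun a ha => ?_)
    (s := sW) (fun x => ?_) hsj' ?_
  · rw [theta_iter hp cs hw', eps_pow_two hε, one_smul, mul_comm, pow_mul, hw, one_pow, Module.End.one_apply]
  · have h1 : ((p ^ e : ℕ) : ℤ) ^ (2 * n) = Q ^ (2 * n) := by rw [hQ, mul_pow, eps_pow_two hε, one_mul]
    rw [h1]
    refine hrQ.trans ⟨Q ^ n + 1, ?_⟩
    ring
  · obtain ⟨L, hL⟩ := hreg a ha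
    refine ⟨L, fun h1 => ?_⟩
    rw [Lq_eq hp cs hε hw' hw _ hQ] at h1
    rcases hrZ.dvd_mul.1 h1 with h2 | h2
    · have h3 : (r : ℤ) ∣ 2 := by
        have h4 := dvd_sub h2 hrQ
        have h5 : Q ^ n + 1 - (Q ^ n - 1) = 2 := by ring
        rwa [h5] at h4
      have h4 : r ∣ 2 := by exact_mod_cast h3
      exact hr2 ((Nat.prime_dvd_prime_iff_eq hrp Nat.prime_two).1 h4)
    · exact hL h2
  · rw [hw', hw', map_zsmul, hcomm]
  · intro t ht hθ hts hfix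
    have hmc := isMC_cX hp ht
    refine cX_inj hp ht (one_mem _) fun i => ?_
    rw [cX_one]
    obtain ⟨x, hx⟩ : ∃ x : Fin l → ℤ, x = sr i := ⟨_, rfl⟩
    rw [← hx]
    obtain ⟨y, hy⟩ : ∃ y, y = ∑ t : Fin m, c t • (rep cs hp.isCartan w1 ^ (t : ℕ)) x := ⟨_, rfl⟩
    have h0 := hmc.ne_zero x
    have h1 : cX hp t y = cX hp t x ^ (∑ t : Fin m, c t * Q ^ (t : ℕ)) := by
      rw [hy, hmc.sum]
      have h2 : ∀ s : Finset (Fin m), cX hp t x ^ (∑ t ∈ s, c t * Q ^ (t : ℕ)) =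
          ∏ t' ∈ s, cX hp t (c t' • (rep cs hp.isCartan w1 ^ (t' : ℕ)) x) := by
        intro s
        classical
        induction s using Finset.induction_on with
        | empty => simp
        | insert a s ha ih =>
          rw [Finset.sum_insert ha, Finset.prod_insert ha, zpow_add₀ h0, ih, hmc.zsmul,
            cX_w1 hp cs hε hw' hQ ht hθ, ← zpow_mul, mul_comm (Q ^ _)]
      exact (h2 Finset.univ).symm
    have h2 : ∀ i, cX hp t ((rep cs hp.isCartan sW ^ i) y) = cX hp t y := by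
      intro i
      induction i with
      | zero => rw [pow_zero, Module.End.one_apply]
      | succ i ih => rw [pow_succ', Module.End.mul_apply, hfix, ih]
    have h3 : cX hp t y ^ r ^ j = 1 := by
      have h4 := hmc.sum (Finset.range (r ^ j)) (fun i => (rep cs hp.isCartan sW ^ i) y)
      rw [hy, hsum, ← hy, hmc.zero, Finset.prod_congr rfl (fun i _ => h2 i), Finset.prod_const,
        Finset.card_range] at h4
      exact h4.symm
    have h4 : cX hp t x ^ ((∑ t : Fin m, c t * Q ^ (t : ℕ)) * (r ^ j : ℕ)) = 1 := by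
      rw [zpow_mul, ← h1, zpow_natCast, h3]
    have h5 : cX hp t x ^ (s' : ℤ) = 1 := by
      rw [zpow_natCast, ← cX_pow hp ht, hts, cX_one]
    have hco : IsCoprime ((∑ t : Fin m, c t * Q ^ (t : ℕ)) * (r ^ j : ℕ)) (s' : ℤ) := by
      rw [isCoprime_comm, hsZ.irreducible.coprime_iff_not_dvd]
      intro h
      rcases hsZ.dvd_mul.1 h with h | h
      · exact hcs h
      · rw [Nat.cast_pow] at h
        have h6 := hsZ.dvd_of_dvd_pow h
        exact hrs ((Nat.prime_dvd_prime_iff_eq hsp hrp).1 (Int.natCast_dvd_natCast.1 h6)).symm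
    obtain ⟨a, b, hab⟩ := hco
    calc cX hp t x = cX hp t x ^ (1 : ℤ) := (zpow_one _).symm
      _ = 1 := by
        rw [← hab, zpow_add₀ h0, mul_comm a, mul_comm b, zpow_mul, h4, zpow_mul, h5, one_zpow, one_zpow, one_mul]

/-- **Bad primes, second version.** -/
theorem not_cond_count [IsAlgClosed k'] [Finite W] [Finite X] {π : Set ℕ} {r s' : ℕ} (hrp : r.Prime)
    (hsp : s'.Prime) (hr : r ∈ π) (hs' : s' ∈ π) (hrs : r ≠ s') (hrc : r ≠ p) (hsc : s' ≠ p) (hrd : ¬ r ∣ d)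
    (hsd : ¬ s' ∣ d) (hr2 : r ≠ 2) (hs2 : s' ≠ 2)
    {ε Q : ℤ} (hε : ε = 1 ∨ ε = -1) (hQ : Q = ε * (p ^ e : ℕ))
    (hT : HasTor hp cs g ε (1 : W)) (hrQ : (r : ℤ) ∣ Q - 1) (hsQ : (s' : ℤ) ∣ Q - 1) {sW : W}
    {j : ℕ} (hsj : rep cs hp.isCartan sW ^ r ^ j = 1) (L : (Fin l → ℤ) →+ ℤ)
    (hL : ∃ a, ¬ (s' : ℤ) ∣ L a)
    (hcard : {a | IsRoot cs hp.isCartan a ∧ (s' : ℤ) ∣ L a}.ncard <
      {a | IsRoot cs hp.isCartan a ∧ ∑ i ∈ Finset.range (r ^ j), (rep cs hp.isCartan sW ^ i) a = 0}.ncard) :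
    ¬ Cond π X := by
  intro hc
  obtain ⟨w, hw'⟩ := hT
  have hpp : p.Prime := Fact.out
  have hsZ := Nat.prime_iff_prime_int.1 hsp
  have hQr := not_dvd_Q hpp hrp hrc hε hQ
  have hQs := not_dvd_Q hpp hsp hsc hε hQ
  have hw : rep cs hp.isCartan (1 : W) ^ 1 = 1 := by rw [map_one, one_pow]
  have hsj' : sW ^ r ^ j = 1 := rep_injective cs hp.isCartan (by rw [map_pow, hsj, map_one])
  have hrZ := Nat.prime_iff_prime_int.1 hrp
  have hpow : ∀ {r : ℕ}, (r : ℤ) ∣ Q - 1 → (r : ℤ) ∣ ((p ^ e : ℕ) : ℤ) ^ (2 * 1) - 1 := by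
    intro r h
    have h1 : ((p ^ e : ℕ) : ℤ) ^ (2 * 1) = Q ^ (2 * 1) := by rw [hQ, mul_pow, eps_pow_two hε, one_mul]
    rw [h1]
    exact h.trans ⟨Q + 1, by ring⟩
  have hLq : ∀ (L : (Fin l → ℤ) →+ ℤ) (a : Fin l → ℤ), Lq L (theta hp cs w g) (p ^ e) (2 * 1) a = (Q + 1) * (Q * L a) := by
    intro L a
    rw [Lq_eq hp cs hε hw' hw _ hQ, Finset.sum_range_one, pow_zero, Module.End.one_apply, Nat.sub_zero, pow_one]
  have hiff : ∀ {r : ℕ}, r.Prime → r ≠ 2 → ¬ (r : ℤ) ∣ Q → (r : ℤ) ∣ Q - 1 → ∀ (L : (Fin l → ℤ) →+ ℤ) (a : Fin l → ℤ),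
      (r : ℤ) ∣ Lq L (theta hp cs w g) (p ^ e) (2 * 1) a → (r : ℤ) ∣ L a := by
    intro r hr hr2 hrQ0 hrQ L a h
    have hrZ := Nat.prime_iff_prime_int.1 hr
    rw [hLq] at h
    rcases hrZ.dvd_mul.1 h with h2 | h2
    · exfalso
      have h3 : (r : ℤ) ∣ 2 := by
        have h4 := dvd_sub h2 hrQ
        have h5 : Q + 1 - (Q - 1) = 2 := by ring
        rwa [h5] at h4
      have h4 : r ∣ 2 := by exact_mod_cast h3
      exact hr2 ((Nat.prime_dvd_prime_iff_eq hr Nat.prime_two).1 h4)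
    · exact (hrZ.dvd_mul.1 h2).resolve_left hrQ0
  have key := ncard_le_of_cond hp cs S hrp hsp hr hs' hrs hrc hsc hrd hsd w (n := 2 * 1) (by omega) (fun x => by
      rw [theta_iter hp cs hw', eps_pow_two hε, one_smul, mul_comm, pow_mul, hw, one_pow, Module.End.one_apply])
    (hpow hrQ) (hpow hsQ) (fun a ha => by
      obtain ⟨i, hi⟩ := exists_coord hp cs ha hrp
      exact ⟨coordF l i, fun h => hi (hiff hrp hr2 hQr hrQ _ _ h)⟩) (s := sW) (fun x => by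
      rw [hw', hw', map_zsmul, map_one, Module.End.one_apply, Module.End.one_apply]) hsj' L (by
      obtain ⟨a, ha⟩ := hL
      exact ⟨a, fun h => ha (hiff hsp hs2 hQs hsQ _ _ h)⟩) hc
  have h1 : {a | IsRoot cs hp.isCartan a ∧ (s' : ℤ) ∣ Lq L (theta hp cs w g) (p ^ e) (2 * 1) a} ⊆
      {a | IsRoot cs hp.isCartan a ∧ (s' : ℤ) ∣ L a} := fun a ha => ⟨ha.1, hiff hsp hs2 hQs hsQ _ _ ha.2⟩
  have h2 := Set.ncard_le_ncard h1 ((finite_roots hp cs).subset fun a ha => ha.1)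
  have h3 : {a | IsRoot cs hp.isCartan a ∧ ∑ i ∈ Finset.range (r ^ j), rep cs hp.isCartan (sW ^ i) a = 0} =
      {a | IsRoot cs hp.isCartan a ∧ ∑ i ∈ Finset.range (r ^ j), (rep cs hp.isCartan sW ^ i) a = 0} := by
    ext a
    simp only [map_pow]
  rw [h3] at key
  omega

end

section

open Cfsg.Agent.H630 Cfsg.Agent.H630.Exc
open CoxeterSystem Cfsg Cfsg.Lie Cfsg.Lie.ChevalleyDatum

open Cfsg.Agent.ChevalleyStructure Cfsg.Agent.ChevalleyStructure.Elts Cfsg.Agent.ChevalleyStructure.CoxeterGeom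
  Cfsg.Agent.ChevalleyStructure.CoxeterGeomTypes Cfsg.Agent.ChevalleyStructure.NPerm

open Cfsg.Agent.Tits.Roots Cfsg.Agent.Tits.Core Cfsg.Agent.Nodes Cfsg.Agent.Nodes.Reps Cfsg.Agent.Nodes.BNOf
  Cfsg.Agent.Nodes.RGDChev Cfsg.Agent.Nodes.Bruhat Cfsg.Agent.Nodes.SubComb Cfsg.Agent.Nodes.Coroot

open Cfsg.Agent.KFacts.RgdField Cfsg.Agent.KFacts.RgdChevCoord Cfsg.Agent.BpExc.TorCent Cfsg.Agent.BpExc.TorChev

open Cfsg.Agent.GpExc.Field Cfsg.Agent.BpExc.Tow Cfsg.Agent.BpExc.TowChev Cfsg.Agent.BpExc.Fr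
  Cfsg.Agent.BpExc.LangFr Cfsg.Agent.LangThm Cfsg.Agent.BpExc Cfsg.Agent.H129.TorusChar Cfsg.Agent.H129.TorusMain

open Cfsg.Agent.H129.TorusUntw (phi phi_emb coe_phi isFrob_phi fr_phi)

open Cfsg.Agent.H630.NH Cfsg.Agent.H130.WeylCk Cfsg.Agent.H130.PolyL

variable {D : ChevalleyDatum} {l : ℕ} {M : CoxeterMatrix (Fin l)} (hp : IsType D l M)
  {W : Type*} [Group W] (cs : CoxeterSystem M W)

section Tab

variable {k' : Type u} [Field k'] {p e : ℕ} [hpF : Fact p.Prime] [CharP k' p] {σ : MulAut ↥(D.group k')}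
  {g : (Fin l → ℤ) ≃+ (Fin l → ℤ)} {X : Type v} [Group X] {e0 : X →* ↥(D.group k')} {d : ℕ}
  (S : Setup hp cs p e σ g e0 d)

include S

theorem regE_ck [IsAlgClosed k'] [Finite W] [Finite X] {ε Q : ℤ} (hε : ε = 1 ∨ ε = -1)
    (hQ : Q = ε * (p ^ e : ℕ)) (hT : ∀ w1, HasTor hp cs g ε w1) {Al Bl : List (List ℤ)}
    (hA : MatList (cartanOf D l) Al) {word : List (Fin l)} {k n : ℕ}
    {m : List (List ℤ)} {K : List (List ℤ × List ℤ × List ℤ × ℤ)} {N0 : ℤ} (H : RegCk D l Al Bl word k n m K N0)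
    (hn : n ∈ H130.PolyL.idx) (hN0 : N0 ≠ 0) (hs : Small N0 n) : RegE X p d Q n :=
  regE_same hp cs S hε hQ (hT (cs.wordProd word ^ k)) (rep_pow_eq_one hp cs hA word k n H.2.2.1)
    fun _ h1 h2 h3 h4 => regAt_of_ck' hp cs hA H hn hN0 hs h1 h2 h3 h4

theorem regE_ck_neg [IsAlgClosed k'] [Finite W] [Finite X] {ε Q : ℤ} (hε : ε = 1 ∨ ε = -1)
    (hQ : Q = ε * (p ^ e : ℕ)) (hT : ∀ w1, HasTor hp cs g (-ε) w1) {Al Bl : List (List ℤ)}
    (hA : MatList (cartanOf D l) Al) {word : List (Fin l)} {k n : ℕ}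
    {m : List (List ℤ)} {K : List (List ℤ × List ℤ × List ℤ × ℤ)} {N0 : ℤ} (H : RegCk D l Al Bl word k n m K N0)
    (hn0 : 0 < n) (hodd : ¬ 2 ∣ n) (hn : n ∈ H130.PolyL.idx) (hN0 : N0 ≠ 0) (hs : Small N0 n) :
    RegE X p d Q (2 * n) :=
  regE_neg hp cs S hε hQ (hT (cs.wordProd word ^ k)) hn0 hodd (rep_pow_eq_one hp cs hA word k n H.2.2.1)
    fun _ h1 h2 h3 h4 => regAt_of_ck' hp cs hA H hn hN0 hs h1 h2 h3 h4

theorem regE_one [IsAlgClosed k'] [Finite W] [Finite X] {ε Q : ℤ} (hε : ε = 1 ∨ ε = -1)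
    (hQ : Q = ε * (p ^ e : ℕ)) (hT : ∀ w1, HasTor hp cs g ε w1) : RegE X p d Q 1 :=
  regE_same hp cs S hε hQ (hT 1) (by rw [map_one, one_pow]) fun _ h1 _ h3 _ => regAt_one hp cs h1 h3

theorem regE_two [IsAlgClosed k'] [Finite W] [Finite X] {ε Q : ℤ} (hε : ε = 1 ∨ ε = -1)
    (hQ : Q = ε * (p ^ e : ℕ)) (hT : ∀ w1, HasTor hp cs g (-ε) w1) : RegE X p d Q 2 :=
  regE_neg hp cs S hε hQ (n := 1) (hT 1) one_pos (by norm_num) (by rw [map_one, one_pow])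
    fun _ h1 _ h3 _ => regAt_one hp cs h1 h3

end Tab

section Bad

variable {k' : Type u} [Field k'] {p e : ℕ} [hpF : Fact p.Prime] [CharP k' p] {σ : MulAut ↥(D.group k')}
  {g : (Fin l → ℤ) ≃+ (Fin l → ℤ)} {X : Type v} [Group X] {e0 : X →* ↥(D.group k')} {d : ℕ}
  (S : Setup hp cs p e σ g e0 d)

include S

/-- **Bad primes, first version**, from a table. -/
theorem not_cond_sum_ck [IsAlgClosed k'] [Finite W] [Finite X] {π : Set ℕ} {r s' : ℕ} (hrp : r.Prime)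
    (hsp : s'.Prime) (hr : r ∈ π) (hs' : s' ∈ π) (hrs : r ≠ s') (hrc : r ≠ p) (hrd : ¬ r ∣ d) (hr2 : r ≠ 2)
    (hsX : s' ∣ Nat.card X) {ε Q : ℤ} (hε : ε = 1 ∨ ε = -1) (hQ : Q = ε * (p ^ e : ℕ)) {word : List (Fin l)}
    {k1 k2 : ℕ} (hT : HasTor hp cs g ε (cs.wordProd word ^ k1)) {n : ℕ} (hn0 : 0 < n)
    (hw : rep cs hp.isCartan (cs.wordProd word ^ k1) ^ n = 1) (hrQ : (r : ℤ) ∣ Q ^ n - 1)
    (hreg : RegAt cs hp.isCartan (cs.wordProd word ^ k1) n r Q) {Al : List (List ℤ)}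
    (hA : MatList (cartanOf D l) Al) {m : List (List ℤ)} {j : ℕ} (H : SumCk l Al word k2 (r ^ j) m) :
    ¬ Cond π X := by
  refine not_cond_sum hp cs S hrp hsp hr hs' hrs hrc hrd hr2 hsX hε hQ hT hn0 hw hrQ hreg
    (sW := cs.wordProd word ^ k2) (fun x => ?_) (rep_pow_eq_one hp cs hA word k2 (r ^ j) H.2.2.1) ![1] (fun x => ?_) ?_
  · rw [← Module.End.mul_apply, ← Module.End.mul_apply, ← map_mul, ← map_mul, ← pow_add, ← pow_add, add_comm]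
  · rw [Fin.sum_univ_one]
    show ∑ i ∈ Finset.range (r ^ j), (rep cs hp.isCartan (cs.wordProd word ^ k2) ^ i)
      ((1 : ℤ) • (rep cs hp.isCartan (cs.wordProd word ^ k1) ^ 0) x) = 0
    rw [one_smul, pow_zero, Module.End.one_apply]
    exact sum_of_ck hp cs hA H x
  · rw [Fin.sum_univ_one]
    show ¬ (s' : ℤ) ∣ 1 * Q ^ 0
    rw [pow_zero, mul_one]
    intro h
    have h1 : s' ∣ 1 := by exact_mod_cast h
    exact hsp.one_lt.ne' (Nat.dvd_one.1 h1)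

/-- **Bad primes, second version**, from a table. -/
theorem not_cond_count_ck [IsAlgClosed k'] [Finite W] [Finite X] {π : Set ℕ} {r s' : ℕ} (hrp : r.Prime)
    (hsp : s'.Prime) (hr : r ∈ π) (hs' : s' ∈ π) (hrs : r ≠ s') (hrc : r ≠ p) (hsc : s' ≠ p) (hrd : ¬ r ∣ d)
    (hsd : ¬ s' ∣ d) (hr2 : r ≠ 2) (hs2 : s' ≠ 2)
    {ε Q : ℤ} (hε : ε = 1 ∨ ε = -1) (hQ : Q = ε * (p ^ e : ℕ))
    (hT : HasTor hp cs g ε (1 : W)) (hrQ : (r : ℤ) ∣ Q - 1) (hsQ : (s' : ℤ) ∣ Q - 1)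
    {Al : List (List ℤ)} (hA : MatList (cartanOf D l) Al) {word : List (Fin l)} {k : ℕ} {m : List (List ℤ)} {j : ℕ}
    {b : List ℤ} {C : ℕ} (H : CountCk D l Al word k (r ^ j) m b C) (hsC : C ≤ s') : ¬ Cond π X := by
  obtain ⟨⟨h1, h2⟩, h3, h4, h5, ⟨v0, hv0, hv0'⟩, h6, h7⟩ := H
  have hlen : ∀ v ∈ rootL D l, v.length = l := by
    intro v hv
    obtain ⟨r, -, rfl⟩ := List.mem_map.1 hv
    rw [List.length_map, List.length_finRange]
  have hL : ∀ v ∈ rootL D l, (fn l b).toAddMonoidHom (toFn l v) = dot b v := fun v hv =>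
    (dot_eq b v h5 (hlen v hv)).symm
  refine not_cond_count hp cs S hrp hsp hr hs' hrs hrc hsc hrd hsd hr2 hs2 hε hQ hT hrQ hsQ
    (sW := cs.wordProd word ^ k) (j := j) (rep_pow_eq_one hp cs hA word k (r ^ j) h4) (fn l b).toAddMonoidHom ?_ ?_
  · refine ⟨toFn l v0, ?_⟩
    rw [hL v0 hv0, hv0']
    intro h
    have h1 : s' ∣ 1 := by exact_mod_cast h
    exact hsp.one_lt.ne' (Nat.dvd_one.1 h1)
  · rw [ncard_root hp cs (fun a => (s' : ℤ) ∣ (fn l b).toAddMonoidHom a) (fun v => dot b v = 0) (fun v hv => ?_),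
      ncard_root hp cs (fun a => ∑ i ∈ Finset.range (r ^ j), (rep cs hp.isCartan (cs.wordProd word ^ k) ^ i) a = 0)
        (fun v => sumIt l m (r ^ j) v = List.replicate l 0) (fun v hv => ?_)]
    · exact h7
    · rw [← toFn_sumIt h1 h2 (rep_single hp cs hA word k h3) _ _ (hlen v hv), decide_eq_true_iff]
      constructor
      · intro h
        rw [h, toFn_replicate]
      · intro h
        have hl := length_sumIt h2 (r ^ j) v (hlen v hv)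
        refine List.ext_getElem (by rw [hl, List.length_replicate]) fun i hi hi' => ?_
        rw [hl] at hi
        have h8 := congrFun h ⟨i, hi⟩
        rw [List.getElem_replicate]
        have h9 : toFn l (sumIt l m (r ^ j) v) ⟨i, hi⟩ = (sumIt l m (r ^ j) v).getD i 0 := rfl
        rw [h9, List.getD_eq_getElem _ _ (by rw [hl]; exact hi)] at h8
        exact h8
    · rw [hL v hv, decide_eq_true_iff]
      constructor
      · intro h
        rw [h]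
        exact dvd_zero _
      · intro h
        have h8 := h6 v hv
        have h9 : s' ∣ (dot b v).natAbs := Int.natCast_dvd.1 h
        have h10 := Nat.eq_zero_of_dvd_of_lt h9 (by omega)
        exact Int.natAbs_eq_zero.1 h10

end Bad

end

section

open Cfsg.Agent.H630 Cfsg.Agent.H630.Exc
open CoxeterSystem Cfsg Cfsg.Lie Cfsg.Lie.ChevalleyDatum

open Cfsg.Agent.ChevalleyStructure Cfsg.Agent.ChevalleyStructure.Elts Cfsg.Agent.ChevalleyStructure.CoxeterGeom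
  Cfsg.Agent.ChevalleyStructure.CoxeterGeomTypes Cfsg.Agent.ChevalleyStructure.NPerm

open Cfsg.Agent.Tits.Roots Cfsg.Agent.Tits.Core Cfsg.Agent.Nodes Cfsg.Agent.Nodes.Reps Cfsg.Agent.Nodes.BNOf
  Cfsg.Agent.Nodes.RGDChev Cfsg.Agent.Nodes.Bruhat Cfsg.Agent.Nodes.SubComb Cfsg.Agent.Nodes.Coroot

open Cfsg.Agent.KFacts.RgdField Cfsg.Agent.KFacts.RgdChevCoord Cfsg.Agent.BpExc.TorCent Cfsg.Agent.BpExc.TorChev

open Cfsg.Agent.GpExc.Field Cfsg.Agent.BpExc.Tow Cfsg.Agent.BpExc.TowChev Cfsg.Agent.BpExc.Fr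
  Cfsg.Agent.BpExc.LangFr Cfsg.Agent.LangThm Cfsg.Agent.BpExc Cfsg.Agent.H129.TorusChar Cfsg.Agent.H129.TorusMain

open Cfsg.Agent.H129.TorAct (cX_tau tau_mem exists_theta)

open Cfsg.Agent.H630.NH

open Polynomial (cyclotomic aeval natDegree_cyclotomic)

variable {D : ChevalleyDatum} {l : ℕ} {M : CoxeterMatrix (Fin l)} (hp : IsType D l M) {k : Type u} [Field k]
  {W : Type*} [Group W] (cs : CoxeterSystem M W)

variable {p e : ℕ} [Fact p.Prime] [CharP k p] {σ : MulAut ↥(D.group k)} {g : (Fin l → ℤ) ≃+ (Fin l → ℤ)}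
  {X : Type v} [Group X] {e0 : X →* ↥(D.group k)} {d : ℕ} (S : Setup hp cs p e σ g e0 d)

section R

variable {w : W} {R : Module.End ℤ (Fin l → ℤ)} {ε : ℤ}

include S

/-- **Theorem A.** -/
theorem pow_eq_oneR [IsAlgClosed k] [Finite W] [Finite X] {π : Set ℕ} {r s : ℕ} (hrp : r.Prime)
    (hsp : s.Prime) (hr : r ∈ π) (hs : s ∈ π) (hrs : r ≠ s) (hrc : r ≠ p) (hrd : ¬ r ∣ d) (hr2 : r ≠ 2)
    (hε : ε = 1 ∨ ε = -1) (h : ∀ x, theta hp cs w g x = ε • R x) {N : ℕ} (hR : R ^ N = 1) {Q : ℤ}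
    (hQ : Q = ε * (p ^ e : ℕ)) (hrQ : (r : ℤ) ∣ Q ^ N - 1)
    (hreg : ∀ a, IsRoot cs hp.isCartan a → ∃ L : (Fin l → ℤ) →+ ℤ,
      ¬ (r : ℤ) ∣ ∑ j ∈ Finset.range N, Q ^ (N - j) * L ((R ^ j) a))
    {m : ℕ} {c : Fin m → ℤ} (hc' : ∀ x, ∑ j : Fin m, c j • (R ^ (j : ℕ)) x = 0)
    (hc : Cond π X) {y : X} (hy : O1 y s) : y ^ (∑ j : Fin m, c j * Q ^ (j : ℕ)).natAbs = 1 := by
  have hrZ := Nat.prime_iff_prime_int.1 hrp
  refine pow_eq_one hp cs S hrp hsp hr hs hrs hrc hrd w (n := 2 * N) (theta_powR hp cs hε h hR) ?_ (fun a ha => ?_)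
    (fun t ht hθ => torus_annih hp cs hε h hQ ht hθ hc') hc hy
  · have h1 : ((p ^ e : ℕ) : ℤ) ^ (2 * N) = Q ^ (2 * N) := by rw [hQ, mul_pow, eps_pow_two hε, one_mul]
    rw [h1]
    refine hrQ.trans ⟨Q ^ N + 1, ?_⟩
    ring
  · obtain ⟨L, hL⟩ := hreg a ha
    refine ⟨L, fun h1 => ?_⟩
    rw [Lq_eqR hp cs hε h hR _ hQ] at h1
    rcases hrZ.dvd_mul.1 h1 with h2 | h2
    · have h3 : (r : ℤ) ∣ 2 := by
        have h4 := dvd_sub h2 hrQ
        have h5 : Q ^ N + 1 - (Q ^ N - 1) = 2 := by ring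
        rwa [h5] at h4
      have h4 : r ∣ 2 := by exact_mod_cast h3
      exact hr2 ((Nat.prime_dvd_prime_iff_eq hrp Nat.prime_two).1 h4)
    · exact hL h2

end R

end

section

open Cfsg.Agent.H630 Cfsg.Agent.H630.Exc
open CoxeterSystem Cfsg Cfsg.Lie Cfsg.Lie.ChevalleyDatum

open Cfsg.Agent.ChevalleyStructure Cfsg.Agent.ChevalleyStructure.Elts Cfsg.Agent.ChevalleyStructure.CoxeterGeom
  Cfsg.Agent.ChevalleyStructure.CoxeterGeomTypes Cfsg.Agent.ChevalleyStructure.NPerm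

open Cfsg.Agent.Tits.Roots Cfsg.Agent.Tits.Core Cfsg.Agent.Nodes Cfsg.Agent.Nodes.Reps Cfsg.Agent.Nodes.BNOf
  Cfsg.Agent.Nodes.RGDChev Cfsg.Agent.Nodes.Bruhat Cfsg.Agent.Nodes.SubComb Cfsg.Agent.Nodes.Coroot

open Cfsg.Agent.KFacts.RgdField Cfsg.Agent.KFacts.RgdChevCoord Cfsg.Agent.BpExc.TorCent Cfsg.Agent.BpExc.TorChev

open Cfsg.Agent.GpExc.Field Cfsg.Agent.BpExc.Tow Cfsg.Agent.BpExc.TowChev Cfsg.Agent.BpExc.Fr
  Cfsg.Agent.BpExc.LangFr Cfsg.Agent.LangThm Cfsg.Agent.BpExc Cfsg.Agent.H129.TorusChar Cfsg.Agent.H129.TorusMain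

open Cfsg.Agent.H129.TorAct (cX_tau tau_mem exists_theta)

open Cfsg.Agent.H630.NH Cfsg.Agent.H130.WeylCk Cfsg.Agent.H130.PolyL

section T

variable {D : ChevalleyDatum} {l : ℕ} {M : CoxeterMatrix (Fin l)} (hp : IsType D l M) {k : Type u} [Field k]
  {W : Type*} [Group W] (cs : CoxeterSystem M W)

variable {p e : ℕ} [Fact p.Prime] [CharP k p] {σ : MulAut ↥(D.group k)} {g : (Fin l → ℤ) ≃+ (Fin l → ℤ)}
  {X : Type v} [Group X] {e0 : X →* ↥(D.group k)} {d : ℕ} (S : Setup hp cs p e σ g e0 d)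

include S

/-- **Theorem A.** -/
theorem pow_eq_oneT [IsAlgClosed k] [Finite W] [Finite X] {π : Set ℕ} {r s : ℕ} (hrp : r.Prime) (hsp : s.Prime)
    (hr : r ∈ π) (hs : s ∈ π) (hrs : r ≠ s) (hrd : ¬ r ∣ d) (w : W) (hreg : RegT k hp cs w g (p ^ e) r)
    {N : ℕ} (hN : ∀ t ∈ TT D k, (∀ x, cX hp t (theta hp cs w g x) = cX hp t x ^ p ^ e) → t ^ N = 1)
    (hc : Cond π X) {y : X} (hy : O1 y s) : y ^ N = 1 := by
  have : Fact r.Prime := ⟨hrp⟩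
  have hNs := S.nsys hp cs
  obtain ⟨n', hn'⟩ := exists_rp cs hNs w
  obtain ⟨z, hz⟩ := lang_all hp cs S.pos S.frob S.fr 1 n'
  rw [map_one, one_mul] at hz
  refine pow_eq_one_of hp cs S hrp hsp hr hs hrs hn' hz (tXr hp S.inj z r) ?_ (fun x hx => hx.1) ?_ hN hc hy
  · rintro ⟨x, hx⟩
    exact ⟨1, Subtype.ext (by rw [pow_one]; exact hx.2)⟩
  · intro a ha
    obtain ⟨t, ht, h1, h2, h3⟩ := hreg a ha
    obtain ⟨x, hx, hx1⟩ := S.exists_of_torsion hp cs hn' hz hrp hrd ht h1 (j := 1) (by rw [pow_one]; exact h2)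
    rw [pow_one] at hx1
    exact ⟨x, ⟨by rw [mem_tX, hx]; exact ht, hx1⟩, by rw [hx]; exact h3⟩

end T

end

section

open Cfsg.Agent.H234 Cfsg.Agent.H234.NotCond
open CoxeterSystem Cfsg Cfsg.Lie Cfsg.Lie.ChevalleyDatum

open Cfsg.Agent.ChevalleyStructure Cfsg.Agent.ChevalleyStructure.Elts Cfsg.Agent.ChevalleyStructure.CoxeterGeom
  Cfsg.Agent.ChevalleyStructure.CoxeterGeomTypes Cfsg.Agent.ChevalleyStructure.NPerm

open Cfsg.Agent.Tits.Roots Cfsg.Agent.Tits.Core Cfsg.Agent.Nodes Cfsg.Agent.Nodes.Reps Cfsg.Agent.Nodes.BNOf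
  Cfsg.Agent.Nodes.RGDChev Cfsg.Agent.Nodes.Bruhat Cfsg.Agent.Nodes.SubComb Cfsg.Agent.Nodes.Coroot

open Cfsg.Agent.KFacts.RgdField Cfsg.Agent.KFacts.RgdChevCoord Cfsg.Agent.BpExc.TorCent Cfsg.Agent.BpExc.TorChev

open Cfsg.Agent.GpExc.Field Cfsg.Agent.BpExc.Tow Cfsg.Agent.BpExc.TowChev Cfsg.Agent.BpExc.Fr
  Cfsg.Agent.BpExc.LangFr Cfsg.Agent.LangThm Cfsg.Agent.BpExc Cfsg.Agent.H129.TorusChar Cfsg.Agent.H129.TorusMain

open Cfsg.Agent.H129.TorAct (cX_tau tau_mem exists_theta)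

open Cfsg.Agent.H630.NH Cfsg.Agent.H630.Exc

variable {D : ChevalleyDatum} {l : ℕ} {M : CoxeterMatrix (Fin l)} (hp : IsType D l M) {k : Type u} [Field k]
  {W : Type*} [Group W] (cs : CoxeterSystem M W)

variable {p e : ℕ} [Fact p.Prime] [CharP k p] {σ : MulAut ↥(D.group k)} {g : (Fin l → ℤ) ≃+ (Fin l → ℤ)}
  {X : Type v} [Group X] {e0 : X →* ↥(D.group k)} {d : ℕ} (S : Setup hp cs p e σ g e0 d)

include S

open Polynomial in
/-- **`Cond` fails if `a φ(n) + φ(m) > l`.** -/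
theorem not_cond_mult [IsAlgClosed k] [Finite W] [Finite X] (hka : BpExc.TorAll.HAlg p k) {π : Set ℕ} {r s : ℕ}
    (hrp : r.Prime) (hsp : s.Prime) (hr : r ∈ π) (hs : s ∈ π) (hrs : r ≠ s) (hrc : r ≠ p) (hsc : s ≠ p)
    (hrd : ¬ r ∣ d) (hr2 : r ≠ 2) (hsX : s ∣ Nat.card X) {ε : ℤ} (hε : ε = 1 ∨ ε = -1) {w1 : W}
    (hT : HasTor hp cs g ε w1) {Q : ℤ} (hQ : Q = ε * (p ^ e : ℕ)) {n : ℕ} (hn : orderOf (Q : ZMod r) = n)
    (hw : rep cs hp.isCartan w1 ^ n = 1) {a : ℕ} (x : Fin a → Fin l → ℤ) (y : Fin a → ((Fin l → ℤ) →ₗ[ℤ] ℤ)) (c : ℤ)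
    (hc : ¬ (r : ℤ) ∣ c) (hx : ∀ i, aeval (rep cs hp.isCartan w1) (cyclotomic n ℤ) (x i) = 0)
    (hy : ∀ i i', ∀ j < (cyclotomic n ℤ).natDegree, y i ((rep cs hp.isCartan w1 ^ j) (x i')) =
      if i = i' ∧ j + 1 = (cyclotomic n ℤ).natDegree then c else 0)
    (hls : l + 1 < s) (hlr : l < n.totient * (r - 1)) (hne : n ≠ orderOf (Q : ZMod s))
    (hbig : l < a * n.totient + (orderOf (Q : ZMod s)).totient) : ¬ Cond π X := by
  intro hcond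
  have : Fact r.Prime := ⟨hrp⟩
  have : Fact s.Prime := ⟨hsp⟩
  have hpp : p.Prime := Fact.out
  have hQr : ∀ {r : ℕ}, r.Prime → r ≠ p → ¬ (r : ℤ) ∣ Q := by
    intro r hr h1 h2
    apply h1
    have h3 : r ∣ Q.natAbs := Int.natCast_dvd.1 h2
    have h4 : Q.natAbs = p ^ e := by
      rw [hQ, Int.natAbs_mul]
      rcases hε with rfl | rfl <;> simp
    rw [h4] at h3
    exact (Nat.prime_dvd_prime_iff_eq hr hpp).1 (hr.dvd_of_dvd_pow h3)
  have hn0 : 0 < n := by rw [← hn]; exact ord_pos hrp (hQr hrp hrc)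
  have hQ1 : 1 < Q.natAbs := by
    have h4 : Q.natAbs = p ^ e := by
      rw [hQ, Int.natAbs_mul]
      rcases hε with rfl | rfl <;> simp
    rw [h4]
    exact Nat.one_lt_pow S.pos.ne' hpp.one_lt
  -- the torus
  obtain ⟨w, hw'⟩ := hT
  have hNs := S.nsys hp cs
  obtain ⟨n', hn'⟩ := exists_rp cs hNs w
  obtain ⟨z, hz⟩ := lang_all hp cs S.pos S.frob S.fr 1 n'
  rw [map_one, one_mul] at hz
  obtain ⟨v, b, hv, hb⟩ := exists_part hrp (cyclotomic_eval_ne_zero hn0 hQ1)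
  have hv0 : 0 < v := by
    rcases Nat.eq_zero_or_pos v with h0 | h0
    · exfalso
      have h1 := dvd_cyclotomic hrp (hQr hrp hrc)
      rw [hn, hv, h0, pow_zero, Nat.cast_one, one_mul] at h1
      exact hb h1
    · exact h0
  have hdiv := S.pow_dvd_card_tX hp cs hε hw' hn' hz hrp hrc hrd hr2 hQ hn hw x y c hc hx hy (v := v) ⟨b, hv⟩
  -- the Sylow subgroup of the torus
  obtain ⟨P⟩ : Nonempty (Sylow r (tX D k e0 z)) := inferInstance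
  obtain ⟨A, hA⟩ : ∃ A, A = ((P : Subgroup (tX D k e0 z)).map (tX D k e0 z).subtype : Subgroup X) := ⟨_, rfl⟩
  have hAP : IsPGroup r A := by rw [hA]; exact P.isPGroup'.map _
  have hAT : A ≤ tX D k e0 z := by
    rw [hA]
    rintro _ ⟨a, -, rfl⟩
    exact a.2
  have hAc : (r ^ v) ^ a ∣ Nat.card A := by
    have h1 : Nat.card A = Nat.card P := by
      rw [hA]
      exact (Nat.card_congr ((P : Subgroup (tX D k e0 z)).equivMapOfInjective _ (Subtype.val_injective)).toEquiv).symm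
    rw [h1, ← pow_mul]
    rw [← pow_mul] at hdiv
    exact P.pow_dvd_card_of_pow_dvd_card hdiv
  -- the element of order `s`
  obtain ⟨y0, hy0⟩ := exists_prime_orderOf_dvd_card' s hsX
  obtain ⟨h, hh⟩ := exists_conj_le r A hAP _ (hcond.2 s hs r hr (Ne.symm hrs) y0 ⟨1, by rw [hy0, pow_one]⟩)
  obtain ⟨y', hy'⟩ : ∃ y', y' = h⁻¹ * y0 * h := ⟨_, rfl⟩
  have hyc : ∀ a ∈ A, a * y' = y' * a := by
    intro a ha
    have h2 := hh a ha
    rw [Subgroup.mem_centralizer_singleton_iff] at h2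
    have h3 : a * (h⁻¹ * y0 * h) = h⁻¹ * (h * a * h⁻¹ * y0) * h := by group
    rw [hy', h3, h2]
    group
  have hys : orderOf y' = s := by
    rw [← hy0]
    have := orderOf_injective (MulAut.conj h⁻¹).toMonoidHom (MulAut.conj h⁻¹).injective y0
    rw [hy']
    simpa using this
  -- simultaneous torality
  let f : X →* ↥(D.group k) := ((MulAut.conj z⁻¹).toMonoidHom).comp e0
  have hf : ∀ x, f x = z⁻¹ * e0 x * z := fun x => by
    show z⁻¹ * e0 x * z⁻¹⁻¹ = _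
    rw [inv_inv]
  have hWs : ¬ s ∣ Nat.card M.Group := by
    have hWfin := finite_W hp (M.toCoxeterSystem)
    intro h
    have := H378.LatCodim.le_of_dvd_card M.toCoxeterSystem hp.isCartan hsp h
    omega
  have hfin : Finite ↥(A.map f) := ((Set.toFinite (A : Set X)).image f).to_subtype
  obtain ⟨g0, hg1, hg2⟩ := TorFam.exists_conj_TT_fam hp p hka hsp hsc hWs (Q := A.map f) (by
      rintro _ ⟨a, ha, rfl⟩
      rw [hf]
      exact hAT ha) (y := f y') (by rw [← map_pow, ← hys, pow_orderOf_eq_one, map_one]) (by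
      rintro _ ⟨a, ha, rfl⟩
      rw [← map_mul, ← map_mul, hyc a ha])
  obtain ⟨z2, hz2⟩ : ∃ z2, z2 = z * g0⁻¹ := ⟨_, rfl⟩
  have hconj : ∀ x : X, z2⁻¹ * e0 x * z2 = g0 * f x * g0⁻¹ := by
    intro x
    rw [hf, hz2]; group
  have hB : A ⊔ Subgroup.zpowers y' ≤ tX D k e0 z2 := by
    refine sup_le (fun a ha => ?_) (Subgroup.zpowers_le.2 ?_)
    · rw [mem_tX, hconj]
      exact hg1 _ ⟨a, ha, rfl⟩
    · rw [mem_tX, hconj]
      exact hg2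
  have hcA : (r ^ v) ^ a ∣ Nat.card (tX D k e0 z2) := hAc.trans (Subgroup.card_dvd_of_le (le_sup_left.trans hB))
  have hcs : s ∣ Nat.card (tX D k e0 z2) := by
    have h1 : Nat.card (Subgroup.zpowers y') = s := by rw [Nat.card_zpowers, hys]
    rw [← h1]
    exact Subgroup.card_dvd_of_le (le_sup_right.trans hB)
  obtain ⟨w2, hw2⟩ := card_dvd_charpoly hp cs S z2 hε hQ
  obtain ⟨N, hN0, hN⟩ := S.exists_thE_pow hp cs w2
  have hN2 : (ε • thE hp cs w2 g) ^ (2 * N) = 1 := by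
    rw [_root_.smul_pow, eps_pow_two hε, one_smul, mul_comm, pow_mul, hN, one_pow]
  have hfr : Module.finrank ℤ (Fin l → ℤ) = l := Module.finrank_fin_fun ℤ
  have key := CycMult.mul_totient_add_le (ε • thE hp cs w2 g) (N := 2 * N) (by omega) hN2 (r := r) (s := s) hrp hsp
    (q := Q) (by rw [hfr, hn]; exact hlr) (by
      rw [hfr]
      have h1 := Nat.totient_pos.2 (ord_pos hsp (hQr hsp hsc))
      calc l < 1 * (s - 1) := by omega
        _ ≤ _ := Nat.mul_le_mul_right _ h1) hv0 (b := b) (a := a) (by rw [hn]; exact hv) hb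
    ((Int.natCast_dvd_natCast.2 hcA).trans hw2) ((Int.natCast_dvd_natCast.2 hcs).trans hw2) (by rw [hn]; exact hne)
  rw [hn, hfr] at key
  omega

end

end Cfsg.Agent.PQ.EA.CvX
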