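import Cfsg.Agent.PQ.EA.CvXA
import Cfsg.Agent.H630.ExcRowsC
import Cfsg.Agent.H630.ExcRowsD
import Cfsg.Agent.H630.ExcRowsE

/-!
# S4982, cross characteristic, exceptional groups: the rows for the elements of prime order (helper97)

The rows of `H630/ExcRows*` for the condition on the elements of prime order only.
-/

set_option autoImplicit false
set_option linter.unusedSectionVars false
set_option linter.unusedVariables false

namespace Cfsg.Agent.PQ.EA.CvX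

universe u v

section

open Cfsg.Agent.H630 Cfsg.Agent.H630.Exc
open CoxeterSystem Cfsg Cfsg.Lie Cfsg.Lie.ChevalleyDatum

open Cfsg.Agent.ChevalleyStructure Cfsg.Agent.ChevalleyStructure.Elts Cfsg.Agent.ChevalleyStructure.CoxeterGeom
  Cfsg.Agent.ChevalleyStructure.CoxeterGeomTypes Cfsg.Agent.ChevalleyStructure.NPerm

open Cfsg.Agent.Tits.Roots Cfsg.Agent.Tits.Core Cfsg.Agent.Nodes Cfsg.Agent.Nodes.Reps Cfsg.Agent.Nodes.BNOf
  Cfsg.Agent.Nodes.RGDChev Cfsg.Agent.Nodes.Bruhat Cfsg.Agent.Nodes.SubComb Cfsg.Agent.Nodes.Coroot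

open Cfsg.Agent.KFacts.RgdField Cfsg.Agent.KFacts.RgdChevCoord Cfsg.Agent.BpExc.TorCent Cfsg.Agent.BpExc.TorChev

open Cfsg.Agent.GpExc.Field Cfsg.Agent.BpExc.Tow Cfsg.Agent.BpExc.TowChev Cfsg.Agent.BpExc.Fr
  Cfsg.Agent.BpExc.LangFr Cfsg.Agent.LangThm Cfsg.Agent.BpExc Cfsg.Agent.H129.TorusChar Cfsg.Agent.H129.TorusMain

open Cfsg.Agent.H630.NH Cfsg.Agent.H130.WeylCk Cfsg.Agent.H130.PolyL Cfsg.Agent.H130.WeylTab

section Bad

variable {D : ChevalleyDatum} {l : ℕ} {M : CoxeterMatrix (Fin l)} (hp : IsType D l M)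
  {W : Type*} [Group W] (cs : CoxeterSystem M W)

variable {k' : Type u} [Field k'] {p e : ℕ} [hpF : Fact p.Prime] [CharP k' p] {σ : MulAut ↥(D.group k')}
  {g : (Fin l → ℤ) ≃+ (Fin l → ℤ)} {X : Type v} [Group X] {e0 : X →* ↥(D.group k')} {d : ℕ}
  (S : Setup hp cs p e σ g e0 d)

include S

/-- **Bad primes, order at most two, first version.** -/
theorem bad_sum12 [IsAlgClosed k'] [Finite W] [Finite X]
    (hT : ∀ ε : ℤ, ε = 1 ∨ ε = -1 → ∀ w1, HasTor hp cs g ε w1) {π : Set ℕ} {r s' : ℕ} (hrp : r.Prime)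
    (hsp : s'.Prime) (hr : r ∈ π) (hs' : s' ∈ π) (hrs : r ≠ s') (hrc : r ≠ p) (hrd : ¬ r ∣ d) (hr2 : r ≠ 2)
    (hsX : s' ∣ Nat.card X) {ε Q : ℤ} (hε : ε = 1 ∨ ε = -1) (hQ : Q = ε * (p ^ e : ℕ))
    (h12 : orderOf (Q : ZMod r) = 1 ∨ orderOf (Q : ZMod r) = 2) {word : List (Fin l)} {k2 : ℕ} {Al : List (List ℤ)}
    (hA : MatList (cartanOf D l) Al) {m : List (List ℤ)} {j : ℕ} (H : SumCk l Al word k2 (r ^ j) m) :
    ¬ Cond π X := by
  obtain ⟨ε', Q', hε', hQ', hrQ, -⟩ := exists_eps hε hQ hrp rfl h12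
  refine not_cond_sum_ck hp cs S hrp hsp hr hs' hrs hrc hrd hr2 hsX hε' hQ' (k1 := 0) (hT ε' hε' _) one_pos ?_
    (by rw [pow_one]; exact hrQ) ?_ hA H
  · rw [pow_zero, map_one, one_pow]
  · rw [pow_zero]
    exact regAt_one hp cs hrp (not_dvd_Q Fact.out hrp hrc hε' hQ')

/-- **Bad primes, order at most two, second version.** -/
theorem bad_count12 [IsAlgClosed k'] [Finite W] [Finite X]
    (hT : ∀ ε : ℤ, ε = 1 ∨ ε = -1 → ∀ w1, HasTor hp cs g ε w1) {π : Set ℕ} {r s' : ℕ} (hrp : r.Prime)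
    (hsp : s'.Prime) (hr : r ∈ π) (hs' : s' ∈ π) (hrs : r ≠ s') (hrc : r ≠ p) (hsc : s' ≠ p) (hrd : ¬ r ∣ d)
    (hsd : ¬ s' ∣ d) (hr2 : r ≠ 2) (hs2 : s' ≠ 2) {ε Q : ℤ} (hε : ε = 1 ∨ ε = -1) (hQ : Q = ε * (p ^ e : ℕ))
    (h12 : orderOf (Q : ZMod r) = 1 ∨ orderOf (Q : ZMod r) = 2) (hsame : orderOf (Q : ZMod r) = orderOf (Q : ZMod s'))
    {Al : List (List ℤ)} (hA : MatList (cartanOf D l) Al) {word : List (Fin l)} {k : ℕ} {m : List (List ℤ)} {j : ℕ}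
    {b : List ℤ} {C : ℕ} (H : CountCk D l Al word k (r ^ j) m b C) (hsC : C ≤ s') : ¬ Cond π X := by
  obtain ⟨ε', Q', hε', hQ', hrQ, hQs⟩ := exists_eps hε hQ hrp rfl h12
  exact not_cond_count_ck hp cs S hrp hsp hr hs' hrs hrc hsc hrd hsd hr2 hs2 hε' hQ' (hT ε' hε' _) hrQ
    (hQs s' hsp hsame.symm) hA H hsC

end Bad

section E8

variable {W : Type*} [Group W] (cs : CoxeterSystem CoxeterMatrix.E₈ W)

variable {k' : Type u} [Field k'] {p e : ℕ} [hpF : Fact p.Prime] [CharP k' p] {σ : MulAut ↥(chevE8.group k')}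
  {X : Type v} [Group X] {e0 : X →* ↥(chevE8.group k')}

variable (S : Setup e8T cs p e σ (AddEquiv.refl (Fin 8 → ℤ)) e0 1)

include S

theorem reg_E8 [IsAlgClosed k'] [Finite W] [Finite X] {Q : ℤ} (hQ : Q = 1 * (p ^ e : ℕ)) :
    ∀ n ∈ [1, 2, 3, 6, 4, 5, 10, 8], RegE X p 1 Q n := by
  have h1 : (1 : ℤ) = 1 ∨ (1 : ℤ) = -1 := Or.inl rfl
  have h2 : (-1 : ℤ) = 1 ∨ (-1 : ℤ) = -1 := Or.inr rfl
  have hT1 := hasTor_E8 cs 1 h1
  have hT2 := hasTor_E8 cs (-1) h2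
  intro n hn
  simp only [List.mem_cons, List.not_mem_nil, or_false] at hn
  rcases hn with rfl | rfl | rfl | rfl | rfl | rfl | rfl | rfl
  · exact regE_one e8T cs S h1 hQ hT1
  · exact regE_two e8T cs S h1 hQ hT2
  · exact regE_ck e8T cs S h1 hQ hT1 lists_E8 reg_E8_3 (by decide) (by decide) (by decide +kernel)
  · exact regE_ck_neg e8T cs S h1 hQ hT2 lists_E8 reg_E8_3 (by decide) (by decide) (by decide) (by decide)
      (by decide +kernel)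
  · exact regE_ck e8T cs S h1 hQ hT1 lists_E8 reg_E8_4 (by decide) (by decide) (by decide +kernel)
  · exact regE_ck e8T cs S h1 hQ hT1 lists_E8 reg_E8_5 (by decide) (by decide) (by decide +kernel)
  · exact regE_ck_neg e8T cs S h1 hQ hT2 lists_E8 reg_E8_5 (by decide) (by decide) (by decide) (by decide)
      (by decide +kernel)
  · exact regE_ck e8T cs S h1 hQ hT1 lists_E8 reg_E8_8 (by decide) (by decide) (by decide +kernel)

theorem bad_E8_four [IsAlgClosed k'] [Finite W] [Finite X] {Q : ℤ} (hQ : Q = 1 * (p ^ e : ℕ)) {π : Set ℕ} {s : ℕ}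
    (hr : (5 : ℕ).Prime) (hs : s.Prime) (hrπ : 5 ∈ π) (hsπ : s ∈ π) (hrs : 5 ≠ s) (hrp : 5 ≠ p)
    (hrd : ¬ 5 ∣ 1) (hsX : s ∣ Nat.card X) (hn : orderOf (Q : ZMod 5) = 4) : ¬ Cond π X := by
  have h1 : (1 : ℤ) = 1 ∨ (1 : ℤ) = -1 := Or.inl rfl
  have hQr := not_dvd_Q (p := p) (e := e) Fact.out hr hrp h1 hQ
  have hreg := regAt_of_ck' e8T cs lists_E8 reg_E8_4 (by decide) (by decide) (by decide +kernel) hr (by norm_num) hQr hn
  have hw := rep_pow_eq_one e8T cs lists_E8 _ 5 4 reg_E8_4.2.2.1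
  exact not_cond_sum_ck e8T cs S hr hs hrπ hsπ hrs hrp hrd (by norm_num) hsX h1 hQ (hasTor_E8 cs 1 h1 _)
    (by norm_num) hw ((dvd_pow_sub_one_iff 4).2 (by rw [hn])) hreg lists_E8 (j := 1) sum_E8_five4

theorem bad_E8 [IsAlgClosed k'] [Finite W] [Finite X] {Q : ℤ} (hQ : Q = 1 * (p ^ e : ℕ)) (π : Set ℕ) (r s : ℕ)
    (hr : r.Prime) (hs : s.Prime) (hrπ : r ∈ π) (hsπ : s ∈ π) (hrs : r ≠ s) (hr2 : r ≠ 2) (hs2 : s ≠ 2)
    (hrp : r ≠ p) (hsp : s ≠ p) (hrd : ¬ r ∣ 1) (hsd : ¬ s ∣ 1) (hrX : r ∣ Nat.card X) (hsX : s ∣ Nat.card X)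
    (hsame : orderOf (Q : ZMod r) = orderOf (Q : ZMod s))
    (hbad : ∃ i ∈ [2, 8, 12, 14, 18, 20, 24, 30], orderOf (Q : ZMod r) ∣ i ∧ r ∣ i) : ¬ Cond π X := by
  have h1 : (1 : ℤ) = 1 ∨ (1 : ℤ) = -1 := Or.inl rfl
  have hT := hasTor_E8 cs
  obtain ⟨i, hi, hni, hri⟩ := hbad
  have hQr := not_dvd_Q (p := p) (e := e) Fact.out hr hrp h1 hQ
  have hn1 := ord_dvd hr hQr
  have hi30 := lt_E8 i hi
  have hr31 := lt_of_le_of_lt (Nat.le_of_dvd hi30.1 hri) hi30.2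
  have hn31 := lt_of_le_of_lt (Nat.le_of_dvd hi30.1 hni) hi30.2
  rcases key_E8 i hi r hr31 _ hn31 ⟨hri, hr, hr2, hni, hn1⟩ with ⟨h12, hr'⟩ | ⟨hr', hn4⟩
  · have h12s := h12
    rw [hsame] at h12s
    by_cases hr3 : r = 3
    · subst hr3
      exact bad_sum12 e8T cs S hT hr hs hrπ hsπ hrs hrp hrd hr2 hsX h1 hQ h12 lists_E8 (j := 1) sum_E8_three
    by_cases hs3 : s = 3
    · subst hs3
      exact bad_sum12 e8T cs S hT hs hr hsπ hrπ hrs.symm hsp hsd hs2 hrX h1 hQ h12s lists_E8 (j := 1) sum_E8_three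
    by_cases hr5 : r = 5
    · subst hr5
      exact bad_sum12 e8T cs S hT hr hs hrπ hsπ hrs hrp hrd hr2 hsX h1 hQ h12 lists_E8 (j := 1) sum_E8_five
    by_cases hs5 : s = 5
    · subst hs5
      exact bad_sum12 e8T cs S hT hs hr hsπ hrπ hrs.symm hsp hsd hs2 hrX h1 hQ h12s lists_E8 (j := 1) sum_E8_five
    obtain rfl : r = 7 := by tauto
    refine bad_count12 e8T cs S hT hr hs hrπ hsπ hrs hrp hsp hrd hsd hr2 hs2 h1 hQ h12 hsame lists_E8 (j := 1)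
      count_E8_seven ?_
    by_contra hcon
    have := small_prime s (by omega) hs
    tauto
  · subst hr'
    exact bad_E8_four cs S hQ hr hs hrπ hsπ hrs hrp hrd hsX hn4

end E8

/-- **Type `E₈`.** -/
theorem crossRow_E8 (r : ℕ) [Fact r.Prime] (F : Type u) [Field F] [Fintype F] [CharP F r] :
    CrossRow r ↥(chevE8.group F) := by
  obtain ⟨k, _, _, f, p, hpp, hkp, e, hk, hka, he0, hcF⟩ := H378.TorFin.exists_closure F
  have hkr : CharP k r := charP_of_injective_ringHom f.injective r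
  obtain rfl : r = p := CharP.eq k hkr hkp
  have cs := CoxeterMatrix.E₈.toCoxeterSystem
  have hW := finite_W e8T cs
  have hcF' : Fintype.card F = r ^ e := by rw [← Nat.card_eq_fintype_card, hcF]
  have hd1 : Nat.gcd 1 (Nat.card F - 1) = 1 := Nat.gcd_one_left _
  have S := setup_untw e8T cs hk f he0 hcF' invC_E8 one_ne_zero
  rw [hd1] at S
  have h1 : (1 : ℤ) = 1 ∨ (1 : ℤ) = -1 := Or.inl rfl
  have hQ : ((r ^ e : ℕ) : ℤ) = 1 * (r ^ e : ℕ) := (one_mul _).symm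
  have hcard : 1 * Nat.card ↥(chevE8.group F) = (r ^ e) ^ 120 *
      (([2, 8, 12, 14, 18, 20, 24, 30].map (fun i => ((r ^ e : ℕ) : ℤ) ^ i - 1)).prod).natAbs := by
    rw [natAbs_prod _ (pow_pos hpp.out.pos _), one_mul, S1065.result hcF']
    simp only [List.map_cons, List.map_nil, List.prod_cons, List.prod_nil, mul_one]
    ring
  refine crossRow_of e8T cs S hka h1 hQ (degs := [2, 8, 12, 14, 18, 20, 24, 30])
    (es := [1, 2, 3, 4, 5, 6, 7, 8, 9, 10, 12, 14, 15, 18, 20, 24, 30]) (by decide +kernel) hcard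
    (H := [1, 2, 3, 6, 4, 5, 10, 8]) (reg_E8 cs S hQ) (Sp := fun _ _ => False) (by decide +kernel) ?_ ?_
    (bad_E8 cs S hQ) ?_
  · rintro π r s - - - - - - - - - - - - - h
    exact h.elim
  · intro π r s hr _ _ _ _ _ _ _ _ hd
    exact absurd (Nat.dvd_one.1 hd) hr.one_lt.ne'
  · intro n hn π hπ _
    exact S.pos_of_hasF e8T cs h1 lists_E8 (hasTor_E8 cs 1 h1) hQ (idx_E8 n hn).1 (idx_E8 n hn).2 (hasF_E8 n hn)
      hcard hπ

section F4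

variable {W : Type*} [Group W] (cs : CoxeterSystem CoxeterMatrix.F₄ W)

variable {k' : Type u} [Field k'] {p e : ℕ} [hpF : Fact p.Prime] [CharP k' p] {σ : MulAut ↥(chevF4.group k')}
  {X : Type v} [Group X] {e0 : X →* ↥(chevF4.group k')}

variable (S : Setup f4T cs p e σ (AddEquiv.refl (Fin 4 → ℤ)) e0 1)

include S

theorem reg_F4 [IsAlgClosed k'] [Finite W] [Finite X] {Q : ℤ} (hQ : Q = 1 * (p ^ e : ℕ)) :
    ∀ n ∈ [1, 2, 3, 6, 4], RegE X p 1 Q n := by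
  have h1 : (1 : ℤ) = 1 ∨ (1 : ℤ) = -1 := Or.inl rfl
  have h2 : (-1 : ℤ) = 1 ∨ (-1 : ℤ) = -1 := Or.inr rfl
  have hT1 := hasTor_F4 cs 1 h1
  have hT2 := hasTor_F4 cs (-1) h2
  intro n hn
  simp only [List.mem_cons, List.not_mem_nil, or_false] at hn
  rcases hn with rfl | rfl | rfl | rfl | rfl
  · exact regE_one f4T cs S h1 hQ hT1
  · exact regE_two f4T cs S h1 hQ hT2
  · exact regE_ck f4T cs S h1 hQ hT1 lists_F4 reg_F4_3 (by decide) (by decide) (by decide +kernel)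
  · exact regE_ck_neg f4T cs S h1 hQ hT2 lists_F4 reg_F4_3 (by decide) (by decide) (by decide) (by decide)
      (by decide +kernel)
  · exact regE_ck f4T cs S h1 hQ hT1 lists_F4 reg_F4_4 (by decide) (by decide) (by decide +kernel)

theorem bad_F4 [IsAlgClosed k'] [Finite W] [Finite X] {Q : ℤ} (hQ : Q = 1 * (p ^ e : ℕ)) (π : Set ℕ) (r s : ℕ)
    (hr : r.Prime) (hs : s.Prime) (hrπ : r ∈ π) (hsπ : s ∈ π) (hrs : r ≠ s) (hr2 : r ≠ 2) (hs2 : s ≠ 2)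
    (hrp : r ≠ p) (hsp : s ≠ p) (hrd : ¬ r ∣ 1) (hsd : ¬ s ∣ 1) (hrX : r ∣ Nat.card X) (hsX : s ∣ Nat.card X)
    (hsame : orderOf (Q : ZMod r) = orderOf (Q : ZMod s))
    (hbad : ∃ i ∈ [2, 6, 8, 12], orderOf (Q : ZMod r) ∣ i ∧ r ∣ i) : ¬ Cond π X := by
  have h1 : (1 : ℤ) = 1 ∨ (1 : ℤ) = -1 := Or.inl rfl
  have hT := hasTor_F4 cs
  obtain ⟨i, hi, hni, hri⟩ := hbad
  have hQr := not_dvd_Q (p := p) (e := e) Fact.out hr hrp h1 hQ
  have hn1 := ord_dvd hr hQr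
  have hi30 := lt_F4 i hi
  have hr31 := lt_of_le_of_lt (Nat.le_of_dvd hi30.1 hri) hi30.2
  have hn31 := lt_of_le_of_lt (Nat.le_of_dvd hi30.1 hni) hi30.2
  obtain ⟨h12, hr'⟩ := key_F4 i hi r hr31 _ hn31 ⟨hri, hr, hr2, hni, hn1⟩
  subst hr'
  exact bad_sum12 f4T cs S hT hr hs hrπ hsπ hrs hrp hrd hr2 hsX h1 hQ h12 lists_F4 (j := 1) sum_F4_three

end F4

/-- **Type `F₄`.** -/
theorem crossRow_F4 (r : ℕ) [Fact r.Prime] (F : Type u) [Field F] [Fintype F] [CharP F r] :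
    CrossRow r ↥(chevF4.group F) := by
  obtain ⟨k, _, _, f, p, hpp, hkp, e, hk, hka, he0, hcF⟩ := H378.TorFin.exists_closure F
  have hkr : CharP k r := charP_of_injective_ringHom f.injective r
  obtain rfl : r = p := CharP.eq k hkr hkp
  have cs := CoxeterMatrix.F₄.toCoxeterSystem
  have hW := finite_W f4T cs
  have hcF' : Fintype.card F = r ^ e := by rw [← Nat.card_eq_fintype_card, hcF]
  have hd1 : Nat.gcd 1 (Nat.card F - 1) = 1 := Nat.gcd_one_left _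
  have S := setup_untw f4T cs hk f he0 hcF' invC_F4 one_ne_zero
  rw [hd1] at S
  have h1 : (1 : ℤ) = 1 ∨ (1 : ℤ) = -1 := Or.inl rfl
  have hQ : ((r ^ e : ℕ) : ℤ) = 1 * (r ^ e : ℕ) := (one_mul _).symm
  have hcard : 1 * Nat.card ↥(chevF4.group F) = (r ^ e) ^ 24 *
      (([2, 6, 8, 12].map (fun i => ((r ^ e : ℕ) : ℤ) ^ i - 1)).prod).natAbs := by
    rw [natAbs_prod _ (pow_pos hpp.out.pos _), one_mul, S1062.result hcF']
    simp only [List.map_cons, List.map_nil, List.prod_cons, List.prod_nil, mul_one]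
    ring
  refine crossRow_of f4T cs S hka h1 hQ (degs := [2, 6, 8, 12])
    (es := [1, 2, 3, 4, 6, 8, 12]) (by decide +kernel) hcard
    (H := [1, 2, 3, 6, 4]) (reg_F4 cs S hQ) (Sp := fun _ _ => False) (by decide +kernel) ?_ ?_
    (bad_F4 cs S hQ) ?_
  · rintro π r s - - - - - - - - - - - - - h
    exact h.elim
  · intro π r s hr _ _ _ _ _ _ _ _ hd
    exact absurd (Nat.dvd_one.1 hd) hr.one_lt.ne'
  · intro n hn π hπ _
    exact S.pos_of_hasF f4T cs h1 lists_F4 (hasTor_F4 cs 1 h1) hQ (idx_F4 n hn).1 (idx_F4 n hn).2 (hasF_F4 n hn)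
      hcard hπ

section G2

variable {W : Type*} [Group W] (cs : CoxeterSystem CoxeterMatrix.G₂ W)

variable {k' : Type u} [Field k'] {p e : ℕ} [hpF : Fact p.Prime] [CharP k' p] {σ : MulAut ↥(chevG2.group k')}
  {X : Type v} [Group X] {e0 : X →* ↥(chevG2.group k')}

variable (S : Setup g2T cs p e σ (AddEquiv.refl (Fin 2 → ℤ)) e0 1)

include S

theorem reg_G2 [IsAlgClosed k'] [Finite W] [Finite X] {Q : ℤ} (hQ : Q = 1 * (p ^ e : ℕ)) :
    ∀ n ∈ [1, 2], RegE X p 1 Q n := by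
  have h1 : (1 : ℤ) = 1 ∨ (1 : ℤ) = -1 := Or.inl rfl
  have h2 : (-1 : ℤ) = 1 ∨ (-1 : ℤ) = -1 := Or.inr rfl
  have hT1 := hasTor_G2 cs 1 h1
  have hT2 := hasTor_G2 cs (-1) h2
  intro n hn
  simp only [List.mem_cons, List.not_mem_nil, or_false] at hn
  rcases hn with rfl | rfl
  · exact regE_one g2T cs S h1 hQ hT1
  · exact regE_two g2T cs S h1 hQ hT2

theorem bad_G2 [IsAlgClosed k'] [Finite W] [Finite X] {Q : ℤ} (hQ : Q = 1 * (p ^ e : ℕ)) (π : Set ℕ) (r s : ℕ)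
    (hr : r.Prime) (hs : s.Prime) (hrπ : r ∈ π) (hsπ : s ∈ π) (hrs : r ≠ s) (hr2 : r ≠ 2) (hs2 : s ≠ 2)
    (hrp : r ≠ p) (hsp : s ≠ p) (hrd : ¬ r ∣ 1) (hsd : ¬ s ∣ 1) (hrX : r ∣ Nat.card X) (hsX : s ∣ Nat.card X)
    (hsame : orderOf (Q : ZMod r) = orderOf (Q : ZMod s))
    (hbad : ∃ i ∈ [2, 6], orderOf (Q : ZMod r) ∣ i ∧ r ∣ i) : ¬ Cond π X := by
  have h1 : (1 : ℤ) = 1 ∨ (1 : ℤ) = -1 := Or.inl rfl
  have hT := hasTor_G2 cs
  obtain ⟨i, hi, hni, hri⟩ := hbad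
  have hQr := not_dvd_Q (p := p) (e := e) Fact.out hr hrp h1 hQ
  have hn1 := ord_dvd hr hQr
  have hi30 := lt_G2 i hi
  have hr31 := lt_of_le_of_lt (Nat.le_of_dvd hi30.1 hri) hi30.2
  have hn31 := lt_of_le_of_lt (Nat.le_of_dvd hi30.1 hni) hi30.2
  obtain ⟨h12, hr'⟩ := key_G2 i hi r hr31 _ hn31 ⟨hri, hr, hr2, hni, hn1⟩
  subst hr'
  exact bad_sum12 g2T cs S hT hr hs hrπ hsπ hrs hrp hrd hr2 hsX h1 hQ h12 lists_G2 (j := 1) sum_G2_three

end G2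

/-- **Type `G₂`.** -/
theorem crossRow_G2 (r : ℕ) [Fact r.Prime] (F : Type u) [Field F] [Fintype F] [CharP F r] :
    CrossRow r ↥(chevG2.group F) := by
  obtain ⟨k, _, _, f, p, hpp, hkp, e, hk, hka, he0, hcF⟩ := H378.TorFin.exists_closure F
  have hkr : CharP k r := charP_of_injective_ringHom f.injective r
  obtain rfl : r = p := CharP.eq k hkr hkp
  have cs := CoxeterMatrix.G₂.toCoxeterSystem
  have hW := finite_W g2T cs
  have hcF' : Fintype.card F = r ^ e := by rw [← Nat.card_eq_fintype_card, hcF]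
  have hd1 : Nat.gcd 1 (Nat.card F - 1) = 1 := Nat.gcd_one_left _
  have S := setup_untw g2T cs hk f he0 hcF' invC_G2 one_ne_zero
  rw [hd1] at S
  have h1 : (1 : ℤ) = 1 ∨ (1 : ℤ) = -1 := Or.inl rfl
  have hQ : ((r ^ e : ℕ) : ℤ) = 1 * (r ^ e : ℕ) := (one_mul _).symm
  have hcard : 1 * Nat.card ↥(chevG2.group F) = (r ^ e) ^ 6 *
      (([2, 6].map (fun i => ((r ^ e : ℕ) : ℤ) ^ i - 1)).prod).natAbs := by
    rw [natAbs_prod _ (pow_pos hpp.out.pos _), one_mul, S1059.result hcF']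
    simp only [List.map_cons, List.map_nil, List.prod_cons, List.prod_nil, mul_one]
    ring
  refine crossRow_of g2T cs S hka h1 hQ (degs := [2, 6])
    (es := [1, 2, 3, 6]) (by decide +kernel) hcard
    (H := [1, 2]) (reg_G2 cs S hQ) (Sp := fun _ _ => False) (by decide +kernel) ?_ ?_
    (bad_G2 cs S hQ) ?_
  · rintro π r s - - - - - - - - - - - - - h
    exact h.elim
  · intro π r s hr _ _ _ _ _ _ _ _ hd
    exact absurd (Nat.dvd_one.1 hd) hr.one_lt.ne'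
  · intro n hn π hπ _
    exact S.pos_of_hasF g2T cs h1 lists_G2 (hasTor_G2 cs 1 h1) hQ (idx_G2 n hn).1 (idx_G2 n hn).2 (hasF_G2 n hn)
      hcard hπ

end

section

open Cfsg.Agent.H234 Cfsg.Agent.H234.NotCond
open CoxeterSystem Cfsg Cfsg.Lie Cfsg.Lie.ChevalleyDatum

open Cfsg.Agent.ChevalleyStructure Cfsg.Agent.ChevalleyStructure.Elts Cfsg.Agent.ChevalleyStructure.CoxeterGeom
  Cfsg.Agent.ChevalleyStructure.CoxeterGeomTypes Cfsg.Agent.ChevalleyStructure.NPerm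

open Cfsg.Agent.Tits.Roots Cfsg.Agent.Tits.Core Cfsg.Agent.Nodes Cfsg.Agent.Nodes.Reps Cfsg.Agent.Nodes.BNOf
  Cfsg.Agent.Nodes.RGDChev Cfsg.Agent.Nodes.Bruhat Cfsg.Agent.Nodes.SubComb Cfsg.Agent.Nodes.Coroot

open Cfsg.Agent.KFacts.RgdField Cfsg.Agent.KFacts.RgdChevCoord Cfsg.Agent.BpExc.TorCent Cfsg.Agent.BpExc.TorChev

open Cfsg.Agent.GpExc.Field Cfsg.Agent.BpExc.Tow Cfsg.Agent.BpExc.TowChev Cfsg.Agent.BpExc.Fr
  Cfsg.Agent.BpExc.LangFr Cfsg.Agent.LangThm Cfsg.Agent.BpExc Cfsg.Agent.H129.TorusChar Cfsg.Agent.H129.TorusMain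

open Cfsg.Agent.H630.NH Cfsg.Agent.H630.Exc

open Cfsg.Agent.H130.WeylCk Cfsg.Agent.H130.PolyL Cfsg.Agent.H130.WeylTab


section Cert

variable {D : ChevalleyDatum} {l : ℕ} {M : CoxeterMatrix (Fin l)} (hp : IsType D l M) {k' : Type u} [Field k']
  {W : Type*} [Group W] (cs : CoxeterSystem M W)
  {p e : ℕ} [Fact p.Prime] [CharP k' p] {σ : MulAut ↥(D.group k')} {g : (Fin l → ℤ) ≃+ (Fin l → ℤ)}
  {X : Type v} [Group X] {e0 : X →* ↥(D.group k')} {d : ℕ} (S : Setup hp cs p e σ g e0 d)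

include S

/-- **`Cond` fails if `a φ(n) + φ(m) > l`**, from a certificate. -/
theorem not_cond_mult_cert [IsAlgClosed k'] [Finite W] [Finite X] (hka : BpExc.TorAll.HAlg p k') {π : Set ℕ}
    {r s : ℕ} (hrp : r.Prime) (hsp : s.Prime) (hr : r ∈ π) (hs : s ∈ π) (hrs : r ≠ s) (hrc : r ≠ p) (hsc : s ≠ p)
    (hrd : ¬ r ∣ d) (hr2 : r ≠ 2) (hsX : s ∣ Nat.card X) {ε : ℤ} (hε : ε = 1 ∨ ε = -1)
    {Al : List (List ℤ)} (hA : MatList (cartanOf D l) Al) {word : List (Fin l)} {k : ℕ}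
    (hT : HasTor hp cs g ε (cs.wordProd word ^ k)) {Q : ℤ} (hQ : Q = ε * (p ^ e : ℕ)) {n : ℕ}
    (hn : orderOf (Q : ZMod r) = n) (hni : n ∈ H130.PolyL.idx) {a : ℕ} {c : ℤ} {xs ys : List (List ℤ)}
    (H : Cert Al l n a word k c xs ys) (hc : ¬ (r : ℤ) ∣ c)
    (hls : l + 1 < s) (hlr : l < n.totient * (r - 1)) (hne : n ≠ orderOf (Q : ZMod s))
    (hbig : l < a * n.totient + (orderOf (Q : ZMod s)).totient) : ¬ Cond π X := by
  obtain ⟨h1, h2, h3, h4⟩ := H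
  refine not_cond_mult hp cs S hka hrp hsp hr hs hrs hrc hsc hrd hr2 hsX hε hT hQ hn
    (rep_pow_one' hp cs hA word k n h1)
    (fun i => toFn l (xs.getD i [])) (fun i => fn l (ys.getD i [])) c hc ?_ ?_ hls hlr hne hbig
  · intro i
    rw [cyclotomic_eq _ hni, ← toFn_horner cs hp.isCartan hA word k _ (h2 i).1, h3 i, toFn_replicate]
  · intro i i' j hj
    have hdeg := natDegree_cyclotomic_eq hni
    have h5 := h4 i i' ⟨j, by omega⟩
    have h6 : (fn l (ys.getD i [])) ((rep cs hp.isCartan (cs.wordProd word ^ k) ^ j) (toFn l (xs.getD i' []))) =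
        dot (ys.getD i []) (acn Al word (k * j) (xs.getD i' [])) := by
      rw [dot_eq _ _ (h2 i).2 (by rw [length_acn, (h2 i').1]), toFn_acn cs hp.isCartan hA word _ _ (h2 i').1, map_pow,
        ← pow_mul]
      rfl
    rw [h6, h5]
    congr 1
    apply propext
    constructor
    · rintro ⟨h7, h8⟩
      exact ⟨h7, by simp only at h8; omega⟩
    · rintro ⟨h7, h8⟩
      exact ⟨h7, by simp only; omega⟩

end Cert

section E7

variable {k' : Type u} [Field k'] {W : Type*} [Group W] (cs : CoxeterSystem CoxeterMatrix.E₇ W)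
  {p e : ℕ} [Fact p.Prime] [CharP k' p] {σ : MulAut ↥(chevE7.group k')}
  {X : Type v} [Group X] {e0 : X →* ↥(chevE7.group k')} {d : ℕ}

/-- **`E₇(q)`**: primes `r`, `s` with `q` of order `4` modulo `r` and of order `m`, `φ(m) ≥ 4`, modulo `s`. -/
theorem not_cond_E7_four' [IsAlgClosed k'] [Finite W] [Finite X] (hka : BpExc.TorAll.HAlg p k')
    (S : Setup e7T cs p e σ (AddEquiv.refl _) e0 d) {π : Set ℕ} {r s : ℕ} (hrp : r.Prime) (hsp : s.Prime) (hr : r ∈ π)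
    (hs : s ∈ π) (hrs : r ≠ s) (hrc : r ≠ p) (hsc : s ≠ p) (hrd : ¬ r ∣ d) (hsX : s ∣ Nat.card X) {Q : ℤ}
    (hQ : Q = 1 * (p ^ e : ℕ)) (h8 : 8 < s) (hn : orderOf (Q : ZMod r) = 4) (hne : orderOf (Q : ZMod s) ≠ 4)
    (hm : 4 ≤ (orderOf (Q : ZMod s)).totient) : ¬ Cond π X := by
  have hpp : p.Prime := Fact.out
  have hQr : ¬ (r : ℤ) ∣ Q := by
    intro h2
    rw [hQ, one_mul] at h2
    exact hrc ((Nat.prime_dvd_prime_iff_eq hrp hpp).1 (hrp.dvd_of_dvd_pow (Int.natCast_dvd_natCast.1 h2)))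
  have h4 : 4 ∣ r - 1 := by
    have := ord_dvd hrp hQr
    rwa [hn] at this
  have hr4 : 5 ≤ r := by
    have h2 := hrp.two_le
    have := Nat.le_of_dvd (by omega) h4
    omega
  have ht4 : Nat.totient 4 = 2 := by decide
  refine not_cond_mult_cert e7T cs S hka hrp hsp hr hs hrs hrc hsc hrd (by omega) hsX (Or.inl rfl) lists_E7
    (word := [4, 1, 6, 5, 6, 2, 6, 6, 3]) (k := 2) ⟨cs.wordProd [4, 1, 6, 5, 6, 2, 6, 6, 3] ^ 2, fun x => ?_⟩ hQ hn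
    (by decide) cert_E7_4 ?_ (by omega) (by rw [ht4]; omega) (fun h => hne h.symm)
    (by rw [ht4]; omega)
  · rw [one_smul]
    rfl
  · intro h
    have h5 := Nat.le_of_dvd (by norm_num) (Int.natCast_dvd_natCast.1 (by exact_mod_cast h : (r : ℤ) ∣ ((2 : ℕ) : ℤ)))
    omega

theorem not_cond_E7_four [IsAlgClosed k'] [Finite W] [Finite X] (hka : BpExc.TorAll.HAlg p k')
    (S : Setup e7T cs p e σ (AddEquiv.refl _) e0 d) {π : Set ℕ} {r s : ℕ} (hrp : r.Prime) (hsp : s.Prime) (hr : r ∈ π)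
    (hs : s ∈ π) (hrs : r ≠ s) (hrc : r ≠ p) (hsc : s ≠ p) (hrd : ¬ r ∣ d) (hsX : s ∣ Nat.card X)
    (h8 : 8 < s) (hn : orderOf ((p ^ e : ℕ) : ZMod r) = 4) (hne : orderOf ((p ^ e : ℕ) : ZMod s) ≠ 4)
    (hm : 4 ≤ (orderOf ((p ^ e : ℕ) : ZMod s)).totient) : ¬ Cond π X := by
  have h1 : ∀ t : ℕ, (((1 * ((p ^ e : ℕ) : ℤ) : ℤ)) : ZMod t) = ((p ^ e : ℕ) : ZMod t) := by
    intro t
    rw [one_mul, Int.cast_natCast]
  exact not_cond_E7_four' cs hka S hrp hsp hr hs hrs hrc hsc hrd hsX rfl h8 (by rw [h1]; exact hn)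
    (by rw [h1]; exact hne) (by rw [h1]; exact hm)

end E7

end

section

open Cfsg.Agent.H630 Cfsg.Agent.H630.Exc
open CoxeterSystem Cfsg Cfsg.Lie Cfsg.Lie.ChevalleyDatum

open Cfsg.Agent.ChevalleyStructure Cfsg.Agent.ChevalleyStructure.Elts Cfsg.Agent.ChevalleyStructure.CoxeterGeom
  Cfsg.Agent.ChevalleyStructure.CoxeterGeomTypes Cfsg.Agent.ChevalleyStructure.NPerm

open Cfsg.Agent.Tits.Roots Cfsg.Agent.Tits.Core Cfsg.Agent.Nodes Cfsg.Agent.Nodes.Reps Cfsg.Agent.Nodes.BNOf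
  Cfsg.Agent.Nodes.RGDChev Cfsg.Agent.Nodes.Bruhat Cfsg.Agent.Nodes.SubComb Cfsg.Agent.Nodes.Coroot

open Cfsg.Agent.KFacts.RgdField Cfsg.Agent.KFacts.RgdChevCoord Cfsg.Agent.BpExc.TorCent Cfsg.Agent.BpExc.TorChev

open Cfsg.Agent.GpExc.Field Cfsg.Agent.BpExc.Tow Cfsg.Agent.BpExc.TowChev Cfsg.Agent.BpExc.Fr
  Cfsg.Agent.BpExc.LangFr Cfsg.Agent.LangThm Cfsg.Agent.BpExc Cfsg.Agent.H129.TorusChar Cfsg.Agent.H129.TorusMain

open Cfsg.Agent.H630.NH Cfsg.Agent.H130.WeylCk Cfsg.Agent.H130.PolyL Cfsg.Agent.H130.WeylTab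

section E7

variable {W : Type*} [Group W] (cs : CoxeterSystem CoxeterMatrix.E₇ W)

variable {k' : Type u} [Field k'] {p e : ℕ} [hpF : Fact p.Prime] [CharP k' p] {σ : MulAut ↥(chevE7.group k')}
  {X : Type v} [Group X] {e0 : X →* ↥(chevE7.group k')} {d : ℕ}

variable (S : Setup e7T cs p e σ (AddEquiv.refl (Fin 7 → ℤ)) e0 d)

include S

theorem reg_E7 [IsAlgClosed k'] [Finite W] [Finite X] {Q : ℤ} (hQ : Q = 1 * (p ^ e : ℕ)) :
    ∀ n ∈ [1, 2, 3, 6], RegE X p d Q n := by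
  have h1 : (1 : ℤ) = 1 ∨ (1 : ℤ) = -1 := Or.inl rfl
  have h2 : (-1 : ℤ) = 1 ∨ (-1 : ℤ) = -1 := Or.inr rfl
  have hT1 := hasTor_E7 cs 1 h1
  have hT2 := hasTor_E7 cs (-1) h2
  intro n hn
  simp only [List.mem_cons, List.not_mem_nil, or_false] at hn
  rcases hn with rfl | rfl | rfl | rfl
  · exact regE_one e7T cs S h1 hQ hT1
  · exact regE_two e7T cs S h1 hQ hT2
  · exact regE_ck e7T cs S h1 hQ hT1 lists_E7 reg_E7_3 (by decide) (by decide) (by decide +kernel)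
  · exact regE_ck_neg e7T cs S h1 hQ hT2 lists_E7 reg_E7_3 (by decide) (by decide) (by decide) (by decide)
      (by decide +kernel)

theorem bad_E7 [IsAlgClosed k'] [Finite W] [Finite X] {Q : ℤ} (hQ : Q = 1 * (p ^ e : ℕ)) (π : Set ℕ) (r s : ℕ)
    (hr : r.Prime) (hs : s.Prime) (hrπ : r ∈ π) (hsπ : s ∈ π) (hrs : r ≠ s) (hr2 : r ≠ 2) (hs2 : s ≠ 2)
    (hrp : r ≠ p) (hsp : s ≠ p) (hrd : ¬ r ∣ d) (hsd : ¬ s ∣ d) (hrX : r ∣ Nat.card X) (hsX : s ∣ Nat.card X)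
    (hsame : orderOf (Q : ZMod r) = orderOf (Q : ZMod s))
    (hbad : ∃ i ∈ [2, 6, 8, 10, 12, 14, 18], orderOf (Q : ZMod r) ∣ i ∧ r ∣ i) : ¬ Cond π X := by
  have h1 : (1 : ℤ) = 1 ∨ (1 : ℤ) = -1 := Or.inl rfl
  have hT := hasTor_E7 cs
  obtain ⟨i, hi, hni, hri⟩ := hbad
  have hQr := not_dvd_Q (p := p) (e := e) Fact.out hr hrp h1 hQ
  have hn1 := ord_dvd hr hQr
  have hi30 := lt_E7 i hi
  have hr31 := lt_of_le_of_lt (Nat.le_of_dvd hi30.1 hri) hi30.2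
  have hn31 := lt_of_le_of_lt (Nat.le_of_dvd hi30.1 hni) hi30.2
  obtain ⟨h12, hr'⟩ := key_E7 i hi r hr31 _ hn31 ⟨hri, hr, hr2, hni, hn1⟩
  have h12s := h12
  rw [hsame] at h12s
  have hr0 := hr.two_le
  have hs0 := hs.two_le
  by_cases hr3 : r = 3
  · subst hr3
    exact bad_count12 e7T cs S hT hr hs hrπ hsπ hrs hrp hsp hrd hsd hr2 hs2 h1 hQ h12 hsame lists_E7 (j := 1)
      count_E7_three (by omega)
  by_cases hs3 : s = 3
  · subst hs3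
    exact bad_count12 e7T cs S hT hs hr hsπ hrπ hrs.symm hsp hrp hsd hrd hs2 hr2 h1 hQ h12s hsame.symm lists_E7
      (j := 1) count_E7_three (by omega)
  by_cases hr5 : r = 5
  · subst hr5
    refine bad_count12 e7T cs S hT hr hs hrπ hsπ hrs hrp hsp hrd hsd hr2 hs2 h1 hQ h12 hsame lists_E7 (j := 1)
      count_E7_five ?_
    by_contra hcon
    have := small_prime s (by omega) hs
    tauto
  obtain rfl : r = 7 := by tauto
  refine bad_count12 e7T cs S hT hr hs hrπ hsπ hrs hrp hsp hrd hsd hr2 hs2 h1 hQ h12 hsame lists_E7 (j := 1)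
    count_E7_seven ?_
  by_contra hcon
  have := small_prime s (by omega) hs
  omega

end E7

/-- **Type `E₇`.** -/
theorem crossRow_E7_of (r : ℕ) [Fact r.Prime] (F : Type u) [Field F] [Fintype F] [CharP F r]
    (hSp : ∀ (k : Type u) [Field k] [IsAlgClosed k] [CharP k r] (e : ℕ) (cs : CoxeterSystem CoxeterMatrix.E₇
      CoxeterMatrix.E₇.Group) (σ : MulAut ↥(chevE7.group k)) (e0 : ↥(chevE7.group F) →* ↥(chevE7.group k)) (d : ℕ),
      BpExc.TorAll.HAlg r k → Setup e7T cs r e σ (AddEquiv.refl (Fin 7 → ℤ)) e0 d → ∀ (π : Set ℕ) (s t : ℕ),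
      s.Prime → t.Prime → s ∈ π → t ∈ π → s ≠ t → s ≠ r → t ≠ r → ¬ s ∣ d → ¬ t ∣ d → 8 < t →
      s ∣ Nat.card ↥(chevE7.group F) → t ∣ Nat.card ↥(chevE7.group F) → orderOf ((r ^ e : ℕ) : ZMod s) = 4 →
      orderOf ((r ^ e : ℕ) : ZMod t) ≠ 4 → 4 ≤ (orderOf ((r ^ e : ℕ) : ZMod t)).totient →
      ¬ Cond π ↥(chevE7.group F)) :
    CrossRow r ↥(chevE7.group F) := by
  obtain ⟨k, _, _, f, p, hpp, hkp, e, hk, hka, he0, hcF⟩ := H378.TorFin.exists_closure F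
  have hkr : CharP k r := charP_of_injective_ringHom f.injective r
  obtain rfl : r = p := CharP.eq k hkr hkp
  have cs := CoxeterMatrix.E₇.toCoxeterSystem
  have hW := finite_W e7T cs
  have hcF' : Fintype.card F = r ^ e := by rw [← Nat.card_eq_fintype_card, hcF]
  obtain ⟨d, hd⟩ : ∃ d, d = Nat.gcd 2 (Nat.card F - 1) := ⟨_, rfl⟩
  have S := setup_untw e7T cs hk f he0 hcF' invC_E7 two_ne_zero
  rw [← hd] at S
  have hd2 : d ∣ 2 := by rw [hd]; exact Nat.gcd_dvd_left _ _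
  have h1 : (1 : ℤ) = 1 ∨ (1 : ℤ) = -1 := Or.inl rfl
  have hQ : ((r ^ e : ℕ) : ℤ) = 1 * (r ^ e : ℕ) := (one_mul _).symm
  have hcard : Nat.gcd 2 (r ^ e - 1) * Nat.card ↥(chevE7.group F) = (r ^ e) ^ 63 *
      (([2, 6, 8, 10, 12, 14, 18].map (fun i => ((r ^ e : ℕ) : ℤ) ^ i - 1)).prod).natAbs := by
    rw [natAbs_prod _ (pow_pos hpp.out.pos _), S1064.result hcF']
    simp only [List.map_cons, List.map_nil, List.prod_cons, List.prod_nil, mul_one]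
    ring
  refine crossRow_of e7T cs S hka h1 hQ (degs := [2, 6, 8, 10, 12, 14, 18])
    (es := [1, 2, 3, 4, 5, 6, 7, 8, 9, 10, 12, 14, 18]) (by decide +kernel) hcard
    (H := [1, 2, 3, 6]) (reg_E7 cs S hQ) (Sp := SpE7) (by decide +kernel) ?_ ?_
    (bad_E7 cs S hQ) ?_
  · intro π s t hs ht hsπ htπ hst hs2 ht2 hsr htr hsd htd hsX htX hsp
    obtain ⟨h4, hm⟩ := hsp
    have hb : ∀ m ∈ [5, 7, 8, 9, 10, 12, 14, 18], Big 7 m ∧ m ≠ 4 ∧ 4 ≤ m.totient := by decide +kernel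
    obtain ⟨hb1, hb2, hb3⟩ := hb _ hm
    have hc : ∀ s : ℕ, ((((r ^ e : ℕ) : ℤ)) : ZMod s) = ((r ^ e : ℕ) : ZMod s) := fun s => by push_cast; rfl
    have h8 : 8 < t := by
      by_contra hcon
      exact hb1 t (by omega) ht (ord_dvd ht (not_dvd_Q hpp.out ht htr h1 hQ))
    rw [hc] at h4 hb2 hb3
    exact hSp k e cs _ _ d hka S π s t hs ht hsπ htπ hst hsr htr hsd htd h8 hsX htX h4 hb2 hb3
  · intro π s t hs ht _ _ _ hs2 _ _ _ hsd
    exact absurd ((Nat.prime_dvd_prime_iff_eq hs Nat.prime_two).1 (hsd.trans hd2)) hs2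
  · intro n hn π hπ _
    exact S.pos_of_hasF e7T cs h1 lists_E7 (hasTor_E7 cs 1 h1) hQ (idx_E7 n hn).1 (idx_E7 n hn).2 (hasF_E7 n hn)
      hcard hπ

end

section

open Cfsg.Agent.H630 Cfsg.Agent.H630.Exc
open CoxeterSystem Cfsg Cfsg.Lie Cfsg.Lie.ChevalleyDatum

open Cfsg.Agent.H630.NH

/-- **Type `E₇`.** -/
theorem crossRow_E7 (r : ℕ) [Fact r.Prime] (F : Type u) [Field F] [Fintype F] [CharP F r] :
    CrossRow r ↥(chevE7.group F) := by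
  refine crossRow_E7_of r F ?_
  intro k _ _ _ e cs σ e0 d hka S π s t hs ht hsπ htπ hst hsr htr hsd htd h8 hsX htX h4 hne hm
  have hW : Finite CoxeterMatrix.E₇.Group := Nodes.RGDChev.finite_W e7T cs
  exact not_cond_E7_four cs hka S hs ht hsπ htπ hst hsr htr hsd htX h8 h4 hne hm

end

section

open Cfsg.Agent.H630 Cfsg.Agent.H630.Exc
open CoxeterSystem Cfsg Cfsg.Lie Cfsg.Lie.ChevalleyDatum

open Cfsg.Agent.ChevalleyStructure Cfsg.Agent.ChevalleyStructure.Elts Cfsg.Agent.ChevalleyStructure.CoxeterGeom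
  Cfsg.Agent.ChevalleyStructure.CoxeterGeomTypes Cfsg.Agent.ChevalleyStructure.NPerm

open Cfsg.Agent.Tits.Roots Cfsg.Agent.Tits.Core Cfsg.Agent.Nodes Cfsg.Agent.Nodes.Reps Cfsg.Agent.Nodes.BNOf
  Cfsg.Agent.Nodes.RGDChev Cfsg.Agent.Nodes.Bruhat Cfsg.Agent.Nodes.SubComb Cfsg.Agent.Nodes.Coroot

open Cfsg.Agent.KFacts.RgdField Cfsg.Agent.KFacts.RgdChevCoord Cfsg.Agent.BpExc.TorCent Cfsg.Agent.BpExc.TorChev

open Cfsg.Agent.GpExc.Field Cfsg.Agent.BpExc.Tow Cfsg.Agent.BpExc.TowChev Cfsg.Agent.BpExc.Fr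
  Cfsg.Agent.BpExc.LangFr Cfsg.Agent.LangThm Cfsg.Agent.BpExc Cfsg.Agent.H129.TorusChar Cfsg.Agent.H129.TorusMain

open Cfsg.Agent.H129.TwE6Fr (tau isFrob_tau fr_tau embT embT_injective tau_embT tau_split tau_normal tau_pow flip6
  flip6_apply flip_sr')

open Cfsg.Agent.H630.NH Cfsg.Agent.H130.WeylCk Cfsg.Agent.H130.PolyL Cfsg.Agent.H130.WeylTab

section Gen

variable {W : Type*} [Group W] (cs : CoxeterSystem CoxeterMatrix.E₆ W)

variable {k' : Type u} [Field k'] {p e : ℕ} [hpF : Fact p.Prime] [CharP k' p] {σ : MulAut ↥(chevE6.group k')}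
  {g : (Fin 6 → ℤ) ≃+ (Fin 6 → ℤ)} {X : Type v} [Group X] {e0 : X →* ↥(chevE6.group k')} {d : ℕ}
  (S : Setup e6T cs p e σ g e0 d)

include S

theorem reg_E6 [IsAlgClosed k'] [Finite W] [Finite X] {ε Q : ℤ} (hε : ε = 1 ∨ ε = -1) (hQ : Q = ε * (p ^ e : ℕ))
    (hT : ∀ w1, HasTor e6T cs g ε w1) : ∀ n ∈ [1, 2, 3, 4, 6], RegE X p d Q n := by
  intro n hn
  simp only [List.mem_cons, List.not_mem_nil, or_false] at hn
  rcases hn with rfl | rfl | rfl | rfl | rfl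
  · exact regE_one e6T cs S hε hQ hT
  · exact regE_ck e6T cs S hε hQ hT lists_E6 reg_E6_2 (by decide) (by decide) (by decide +kernel)
  · exact regE_ck e6T cs S hε hQ hT lists_E6 reg_E6_3 (by decide) (by decide) (by decide +kernel)
  · exact regE_ck e6T cs S hε hQ hT lists_E6 reg_E6_4 (by decide) (by decide) (by decide +kernel)
  · exact regE_ck e6T cs S hε hQ hT lists_E6 reg_E6_6 (by decide) (by decide) (by decide +kernel)

theorem bad_E6_five [IsAlgClosed k'] [Finite W] [Finite X] {ε Q : ℤ} (hε : ε = 1 ∨ ε = -1)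
    (hQ : Q = ε * (p ^ e : ℕ)) (hT : ∀ w1, HasTor e6T cs g ε w1) {π : Set ℕ} {s : ℕ}
    (hr : (5 : ℕ).Prime) (hs : s.Prime) (hrπ : 5 ∈ π) (hsπ : s ∈ π) (hrs : 5 ≠ s) (hrp : 5 ≠ p) (hsp : s ≠ p)
    (hrd : ¬ 5 ∣ d) (hsd : ¬ s ∣ d) (hs2 : s ≠ 2) (hs3 : s ≠ 3) (hsX : s ∣ Nat.card X)
    (hn : orderOf (Q : ZMod 5) = 1) (hns : orderOf (Q : ZMod s) = 1) : ¬ Cond π X := by
  have h5 := (dvd_pow_sub_one_iff (r := 5) (Q := Q) 1).2 (by rw [hn])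
  have h6 := (dvd_pow_sub_one_iff (r := s) (Q := Q) 1).2 (by rw [hns])
  rw [pow_one] at h5 h6
  refine not_cond_count_ck e6T cs S hr hs hrπ hsπ hrs hrp hsp hrd hsd (by norm_num) hs2 hε hQ (hT _) h5 h6 lists_E6
    (j := 1) count_E6_five ?_
  by_contra hcon
  have h7 := hs.two_le
  omega

theorem bad_E6 [IsAlgClosed k'] [Finite W] [Finite X] {ε Q : ℤ} (hε : ε = 1 ∨ ε = -1)
    (hQ : Q = ε * (p ^ e : ℕ)) (hT : ∀ w1, HasTor e6T cs g ε w1) (h3d : (3 : ℤ) ∣ Q - 1 → 3 ∣ d) (π : Set ℕ) (r s : ℕ)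
    (hr : r.Prime) (hs : s.Prime) (hrπ : r ∈ π) (hsπ : s ∈ π) (hrs : r ≠ s) (hr2 : r ≠ 2) (hs2 : s ≠ 2)
    (hrp : r ≠ p) (hsp : s ≠ p) (hrd : ¬ r ∣ d) (hsd : ¬ s ∣ d) (hrX : r ∣ Nat.card X) (hsX : s ∣ Nat.card X)
    (hsame : orderOf (Q : ZMod r) = orderOf (Q : ZMod s))
    (hbad : ∃ i ∈ [2, 5, 6, 8, 9, 12], orderOf (Q : ZMod r) ∣ i ∧ r ∣ i) : ¬ Cond π X := by
  obtain ⟨i, hi, hni, hri⟩ := hbad
  have hQr := not_dvd_Q (p := p) (e := e) Fact.out hr hrp hε hQ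
  have hn1 := ord_dvd hr hQr
  have hi30 := lt_E6 i hi
  have hr31 := lt_of_le_of_lt (Nat.le_of_dvd hi30.1 hri) hi30.2
  have hn31 := lt_of_le_of_lt (Nat.le_of_dvd hi30.1 hni) hi30.2
  have h3 : ∀ s : ℕ, ¬ s ∣ d → orderOf (Q : ZMod s) = 1 → s ≠ 3 := by
    rintro s hsd hs1 rfl
    have h6 := (dvd_pow_sub_one_iff (r := 3) (Q := Q) 1).2 (by rw [hs1])
    rw [pow_one] at h6
    exact hsd (h3d h6)
  rcases key_E6 i hi r hr31 _ hn31 ⟨hri, hr, hr2, hni, hn1⟩ with ⟨hr', hn⟩ | ⟨hr', hn⟩ | ⟨hr', hn⟩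
  · exact absurd hr' (h3 r hrd hn)
  · subst hr'
    exact no3 hrπ
  · subst hr'
    exact bad_E6_five cs S hε hQ hT hr hs hrπ hsπ hrs hrp hsp hrd hsd hs2 (h3 s hsd (by rw [← hsame, hn])) hsX hn
      (by rw [← hsame, hn])

/-- **Types `E₆`, `²E₆`.** -/
theorem crossRow_E6_gen [IsAlgClosed k'] [Finite W] [Finite X] (hka : BpExc.TorAll.HAlg p k') (hcm : CommIn σ e0)
    {ε Q : ℤ} (hε : ε = 1 ∨ ε = -1) (hQ : Q = ε * (p ^ e : ℕ)) (hT : ∀ w1, HasTor e6T cs g ε w1)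
    (h3d : (3 : ℤ) ∣ Q - 1 ↔ 3 ∣ d) (hd3 : d ∣ 3) {g' : ℕ}
    (hcard : g' * Nat.card X = (p ^ e) ^ 36 * (([2, 5, 6, 8, 9, 12].map (fun i => Q ^ i - 1)).prod).natAbs) :
    CrossRow p X := by
  refine crossRow_of e6T cs S hka hε hQ (degs := [2, 5, 6, 8, 9, 12])
    (es := [1, 2, 3, 4, 5, 6, 8, 9, 12]) (by decide +kernel) hcard
    (H := [1, 2, 3, 4, 6]) (reg_E6 cs S hε hQ hT) (Sp := fun _ _ => False) (by decide +kernel) ?_ ?_
    (bad_E6 cs S hε hQ hT h3d.1) ?_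
  · rintro π r s - - - - - - - - - - - - - h
    exact h.elim
  · intro π r s hr hs hrπ hsπ hrs _ _ hrp _ hd hrX hsX
    have h1 : r ∣ 3 := hd.trans hd3
    obtain rfl := (Nat.prime_dvd_prime_iff_eq hr Nat.prime_three).1 h1
    exact no3 hrπ
  · intro n hn π hπ _
    exact S.pos_of_hasF e6T cs hε lists_E6 hT hQ (idx_E6 n hn).1 (idx_E6 n hn).2 (hasF_E6 n hn)
      hcard hπ

end Gen

/-- **Type `E₆`.** -/
theorem crossRow_E6 (r : ℕ) [Fact r.Prime] (F : Type u) [Field F] [Fintype F] [CharP F r] :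
    CrossRow r ↥(chevE6.group F) := by
  obtain ⟨k, _, _, f, p, hpp, hkp, e, hk, hka, he0, hcF⟩ := H378.TorFin.exists_closure F
  have hkr : CharP k r := charP_of_injective_ringHom f.injective r
  obtain rfl : r = p := CharP.eq k hkr hkp
  have cs := CoxeterMatrix.E₆.toCoxeterSystem
  have hW := finite_W e6T cs
  have hcF' : Fintype.card F = r ^ e := by rw [← Nat.card_eq_fintype_card, hcF]
  have S := setup_untw e6T cs hk f he0 hcF' invC_E6 three_ne_zero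
  have h1 : (1 : ℤ) = 1 ∨ (1 : ℤ) = -1 := Or.inl rfl
  have hQ : ((r ^ e : ℕ) : ℤ) = 1 * (r ^ e : ℕ) := (one_mul _).symm
  have hpos : 0 < r ^ e := pow_pos hpp.out.pos _
  have hcard : Nat.gcd 3 (r ^ e - 1) * Nat.card ↥(chevE6.group F) = (r ^ e) ^ 36 *
      (([2, 5, 6, 8, 9, 12].map (fun i => ((r ^ e : ℕ) : ℤ) ^ i - 1)).prod).natAbs := by
    rw [natAbs_prod _ hpos, S1063.result hcF']
    simp only [List.map_cons, List.map_nil, List.prod_cons, List.prod_nil, mul_one]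
    ring
  refine crossRow_E6_gen cs S hka ?_ h1 hQ (hasTor_one e6T cs) ?_ (Nat.gcd_dvd_left _ _) hcard
  · refine commIn_of (TT chevE6 k) (TT_comm e6T) S.fix (fun y hy => ?_) (fun y hy a ha => ?_)
    · obtain ⟨x, t, ht, e1⟩ := H129.TorusUntw.fix_split e6T f hcF' hy
      exact ⟨x, t, ht, e1⟩
    · exact H378.TorFin.conj_range e6T f r hcF (by rw [phi_eq_phi, hy]) ha
  · rw [hcF]
    have e1 : ((r ^ e : ℕ) : ℤ) - 1 = ((r ^ e - 1 : ℕ) : ℤ) := by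
      rw [Nat.cast_sub hpos]; rfl
    rw [e1]
    constructor
    · intro h
      exact Nat.dvd_gcd dvd_rfl (by exact_mod_cast h)
    · intro h
      exact_mod_cast h.trans (Nat.gcd_dvd_right _ _)

/-- **Type `²E₆`.** -/
theorem crossRow_twE6 (r : ℕ) [Fact r.Prime] (F : Type u) [Field F] [Fintype F] [CharP F r] {q : ℕ}
    (hq : IsPrimePow q) (hF : Fintype.card F = q ^ 2) : CrossRow r ↥(twistedE6 F q) := by
  obtain ⟨k, _, _, f, p, hpp, hkp, e', hk, hka, he0', hcF⟩ := H378.TorFin.exists_closure F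
  have hkr : CharP k r := charP_of_injective_ringHom f.injective r
  obtain rfl : r = p := CharP.eq k hkr hkp
  obtain ⟨e, he0, hqe⟩ : ∃ e, 0 < e ∧ q = r ^ e := by
    obtain ⟨r', e, hr', he, rfl⟩ := hq
    have h1 : r' ∣ r ^ e' := by
      rw [← hcF, Nat.card_eq_fintype_card, hF]
      exact (dvd_pow_self r' he.ne').trans (dvd_pow_self _ two_ne_zero)
    have h2 : r' = r := (Nat.prime_dvd_prime_iff_eq hr'.nat_prime hpp.out).1 (hr'.nat_prime.dvd_of_dvd_pow h1)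
    exact ⟨e, he, by rw [h2]⟩
  have cs := CoxeterMatrix.E₆.toCoxeterSystem
  have hW := finite_W e6T cs
  have S := setup_twE6 cs hk f he0 hqe hq hF
  have h1 : (-1 : ℤ) = 1 ∨ (-1 : ℤ) = -1 := Or.inr rfl
  have hQ : (-(q : ℤ)) = -1 * (r ^ e : ℕ) := by rw [hqe]; ring
  have hpos : 0 < q := hq.pos
  have hcard : Nat.gcd 3 (q + 1) * Nat.card ↥(twistedE6 F q) = (r ^ e) ^ 36 *
      (([2, 5, 6, 8, 9, 12].map (fun i => (-(q : ℤ)) ^ i - 1)).prod).natAbs := by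
    rw [S1066.result hq hF, ← hqe]
    have ev : ∀ i : ℕ, Even i → ((-(q : ℤ)) ^ i - 1).natAbs = q ^ i - 1 := by
      intro i hi
      rw [hi.neg_pow]
      have h1 : 1 ≤ q ^ i := Nat.one_le_pow _ _ hpos
      have h2 : ((q : ℕ) : ℤ) ^ i - 1 = ((q ^ i - 1 : ℕ) : ℤ) := by push_cast [Nat.cast_sub h1]; ring
      rw [h2, Int.natAbs_natCast]
    have od : ∀ i : ℕ, Odd i → ((-(q : ℤ)) ^ i - 1).natAbs = q ^ i + 1 := by
      intro i hi
      rw [hi.neg_pow]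
      have h2 : -((q : ℕ) : ℤ) ^ i - 1 = -((q ^ i + 1 : ℕ) : ℤ) := by push_cast; ring
      rw [h2, Int.natAbs_neg, Int.natAbs_natCast]
    simp only [List.map_cons, List.map_nil, List.prod_cons, List.prod_nil, mul_one, Int.natAbs_mul]
    rw [ev 2 (by decide), od 5 (by decide), ev 6 (by decide), ev 8 (by decide), od 9 (by decide), ev 12 (by decide)]
    ring
  refine crossRow_E6_gen cs S hka ?_ h1 hQ (hasTor_tw cs) ?_ (Nat.gcd_dvd_left _ _) hcard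
  · refine commIn_of (TT chevE6 k) (TT_comm e6T) S.fix (fun y hy => ?_) (fun y hy a ha => ?_)
    · obtain ⟨x, t, ht, -, e1⟩ := tau_split f hqe hq hF hy
      exact ⟨x, t, ht, e1⟩
    · exact tau_normal f hqe hq hF hy ha
  · have e1 : (-(q : ℤ)) - 1 = -((q + 1 : ℕ) : ℤ) := by push_cast; ring
    rw [e1, dvd_neg]
    constructor
    · intro h
      exact Nat.dvd_gcd dvd_rfl (by exact_mod_cast h)
    · intro h
      exact_mod_cast h.trans (Nat.gcd_dvd_right _ _)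

end

section

open Cfsg.Agent.H630 Cfsg.Agent.H630.Exc
open CoxeterSystem Cfsg Cfsg.Lie Cfsg.Lie.ChevalleyDatum

open Cfsg.Agent.ChevalleyStructure Cfsg.Agent.ChevalleyStructure.Elts Cfsg.Agent.ChevalleyStructure.CoxeterGeom
  Cfsg.Agent.ChevalleyStructure.CoxeterGeomTypes Cfsg.Agent.ChevalleyStructure.NPerm

open Cfsg.Agent.Tits.Roots Cfsg.Agent.Tits.Core Cfsg.Agent.Nodes Cfsg.Agent.Nodes.Reps Cfsg.Agent.Nodes.BNOf
  Cfsg.Agent.Nodes.RGDChev Cfsg.Agent.Nodes.Bruhat Cfsg.Agent.Nodes.SubComb Cfsg.Agent.Nodes.Coroot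

open Cfsg.Agent.KFacts.RgdField Cfsg.Agent.KFacts.RgdChevCoord Cfsg.Agent.BpExc.TorCent Cfsg.Agent.BpExc.TorChev

open Cfsg.Agent.GpExc.Field Cfsg.Agent.BpExc.Tow Cfsg.Agent.BpExc.TowChev Cfsg.Agent.BpExc.Fr
  Cfsg.Agent.BpExc.LangFr Cfsg.Agent.LangThm Cfsg.Agent.BpExc Cfsg.Agent.H129.TorusChar Cfsg.Agent.H129.TorusMain

open Cfsg.Agent.H129.TriD4 (tau isFrob_tau fr_tau embT embT_injective tau_embT tau_range tri tri_apply tri_sr
  tri_three)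

open Cfsg.Agent.H630.NH Cfsg.Agent.H130.WeylCk Cfsg.Agent.H130.PolyL Cfsg.Agent.H130.WeylTab

section D4

variable {W : Type*} [Group W] (cs : CoxeterSystem coxeterD4 W)

variable {k : Type u} [Field k] {p e : ℕ} [hpF : Fact p.Prime] [CharP k p] {σ : MulAut ↥(chevD4.group k)}
  {X : Type v} [Group X] {e0 : X →* ↥(chevD4.group k)} (S : Setup RGDTwD4.hp cs p e σ tri e0 1)

include S

/-- order 3 -/
theorem D4_three [IsAlgClosed k] [Finite W] [Finite X] {π : Set ℕ} {r s : ℕ} (hrp : r.Prime) (hsp : s.Prime)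
    (hr : r ∈ π) (hs : s ∈ π) (hrs : r ≠ s) (hrc : r ≠ p) (hr2 : r ≠ 2) {ε Q : ℤ} (hε : ε = 1 ∨ ε = -1)
    (hQ : Q = ε * (p ^ e : ℕ)) (hrn : orderOf (Q : ZMod r) = 3) (hc : Cond π X) {y : X}
    (hy : O1 y s) : y ^ (Q ^ 2 + Q + 1).natAbs = 1 := by
  have hrd : ¬ r ∣ 1 := fun h => hrp.one_lt.ne' (Nat.dvd_one.1 h)
  have hQr := not_dvd_Q (p := p) (e := e) Fact.out hrp hrc hε hQ
  obtain ⟨w, hw⟩ := has_R cs (cs.wordProd [0, 1, 0, 2, 1, 3, 1, 0]) hε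
  have h1 := pow_eq_oneR RGDTwD4.hp cs S hrp hsp hr hs hrs hrc hrd hr2 hε hw (N := 3)
    (pow_one_of len3 (RR3 cs) it3) hQ ((dvd_pow_sub_one_iff 3).2 (by rw [hrn]))
    (regR_of_ck RGDTwD4.hp cs (RR3 cs) ck3 (by decide) hrp hQr hrn (by
      intro h
      have h2 : r ∣ 3 := by exact_mod_cast h
      obtain rfl := (Nat.prime_dvd_prime_iff_eq hrp Nat.prime_three).1 h2
      have := ord_dvd hrp hQr
      rw [hrn] at this
      revert this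
      decide)) (c := fun j => (cycL 3).get j) (fun x => by
      rw [sum_ofL, aeval_zero_of len3 (RR3 cs) cy3, LinearMap.zero_apply]) hc hy
  have h2 := sum_evalL Q (cycL 3)
  rw [← cyclotomic_eq 3 (by decide), eval_cyc3] at h2
  rwa [h2] at h1

/-- order 12 -/
theorem D4_twelve [IsAlgClosed k] [Finite W] [Finite X] {π : Set ℕ} {r s : ℕ} (hrp : r.Prime) (hsp : s.Prime)
    (hr : r ∈ π) (hs : s ∈ π) (hrs : r ≠ s) (hrc : r ≠ p) (hr2 : r ≠ 2) {ε Q : ℤ} (hε : ε = 1 ∨ ε = -1)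
    (hQ : Q = ε * (p ^ e : ℕ)) (hrn : orderOf (Q : ZMod r) = 12) (hc : Cond π X) {y : X}
    (hy : O1 y s) : y ^ (Q ^ 4 - Q ^ 2 + 1).natAbs = 1 := by
  have hrd : ¬ r ∣ 1 := fun h => hrp.one_lt.ne' (Nat.dvd_one.1 h)
  have hQr := not_dvd_Q (p := p) (e := e) Fact.out hrp hrc hε hQ
  obtain ⟨w, hw⟩ := has_R cs (cs.wordProd [0, 1]) hε
  have h1 := pow_eq_oneR RGDTwD4.hp cs S hrp hsp hr hs hrs hrc hrd hr2 hε hw (N := 12)
    (pow_one_of len12 (RR12 cs) it12) hQ ((dvd_pow_sub_one_iff 12).2 (by rw [hrn]))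
    (regR_of_ck RGDTwD4.hp cs (RR12 cs) ck12 (by decide) hrp hQr hrn (by
      intro h
      have h2 : r ∣ 12 := by exact_mod_cast h
      have h3 := ord_dvd hrp hQr
      rw [hrn] at h3
      have h4 := Nat.le_of_dvd (by norm_num) h2
      have h5 := Nat.le_of_dvd (by have := hrp.two_le; omega) h3
      omega)) (c := fun j => (cycL 12).get j) (fun x => by
      rw [sum_ofL, aeval_zero_of len12 (RR12 cs) cy12, LinearMap.zero_apply]) hc hy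
  have h2 := sum_evalL Q (cycL 12)
  rw [← cyclotomic_eq 12 (by decide), eval_cyc12] at h2
  rwa [h2] at h1

/-- order 1 -/
theorem D4_one [IsAlgClosed k] [Finite W] [Finite X] {π : Set ℕ} {r s : ℕ} (hrp : r.Prime) (hsp : s.Prime)
    (hr : r ∈ π) (hs : s ∈ π) (hrs : r ≠ s) (hrc : r ≠ p) (hr2 : r ≠ 2) {ε Q : ℤ} (hε : ε = 1 ∨ ε = -1)
    (hQ : Q = ε * (p ^ e : ℕ)) (hrQ : (r : ℤ) ∣ Q - 1) (hc : Cond π X) {y : X}
    (hy : O1 y s) : y ^ (Q ^ 3 - 1).natAbs = 1 := by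
  have hrd : ¬ r ∣ 1 := fun h => hrp.one_lt.ne' (Nat.dvd_one.1 h)
  obtain ⟨w, hw⟩ := has_R cs 1 hε
  rw [RR1] at hw
  refine pow_eq_oneT RGDTwD4.hp cs S hrp hsp hr hs hrs hrd w (regT_one cs hrp hrc hr2 hε hQ hrQ hw) ?_ hc hy
  intro t ht hθ
  have h1 := torus_annih RGDTwD4.hp cs hε hw hQ ht hθ (m := 4) (c := ![-1, 0, 0, 1]) (fun x => by
    rw [Fin.sum_univ_four]
    show (-1 : ℤ) • (triE ^ 0) x + (0 : ℤ) • (triE ^ 1) x + (0 : ℤ) • (triE ^ 2) x + (1 : ℤ) • (triE ^ 3) x = 0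
    rw [triE_pow, pow_zero]
    simp)
  rw [Fin.sum_univ_four] at h1
  have h2 : (![-1, 0, 0, 1] : Fin 4 → ℤ) 0 * Q ^ ((0 : Fin 4) : ℕ) + (![-1, 0, 0, 1] : Fin 4 → ℤ) 1 * Q ^ ((1 : Fin 4) : ℕ) +
      (![-1, 0, 0, 1] : Fin 4 → ℤ) 2 * Q ^ ((2 : Fin 4) : ℕ) + (![-1, 0, 0, 1] : Fin 4 → ℤ) 3 * Q ^ ((3 : Fin 4) : ℕ) =
      Q ^ 3 - 1 := by
    show -1 * Q ^ 0 + 0 * Q ^ 1 + 0 * Q ^ 2 + 1 * Q ^ 3 = Q ^ 3 - 1
    ring
  rwa [h2] at h1

/-- all orders are 3 if one is -/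
theorem D4_all3 [IsAlgClosed k] [Finite W] [Finite X] {π : Set ℕ}
    (hπ : ∀ r ∈ π, r.Prime ∧ r ≠ 2 ∧ r ≠ p ∧ r ∣ Nat.card X) (hc : Cond π X) {ε Q : ℤ} (hε : ε = 1 ∨ ε = -1)
    (hQ : Q = ε * (p ^ e : ℕ)) {r s : ℕ} (hr : r ∈ π) (hs : s ∈ π) (hrn : orderOf (Q : ZMod r) = 3) :
    orderOf (Q : ZMod s) = 3 := by
  by_cases hrs : r = s
  · rw [← hrs]; exact hrn
  obtain ⟨h1, h2, h3, h4⟩ := hπ r hr
  obtain ⟨g1, g2, g3, g4⟩ := hπ s hs
  have : Fact s.Prime := ⟨g1⟩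
  have key : ∀ y : X, O1 y s → ((orderOf y : ℕ) : ℤ) ∣ Q ^ 2 + Q + 1 := fun y hy =>
    Int.natCast_dvd.2 (orderOf_dvd_of_pow_eq_one (D4_three cs S h1 g1 hr hs hrs h3 h2 hε hQ hrn hc hy))
  by_cases hs3 : s = 3
  · exact absurd (hs3 ▸ hs) hc.1
  · obtain ⟨y, hy⟩ := exists_prime_orderOf_dvd_card' s g4
    have h5 := key y ⟨1, by rw [hy, pow_one]⟩
    rw [hy] at h5
    have h6 := (dvd_pow_sub_one_iff 3).1 (h5.trans (show Q ^ 2 + Q + 1 ∣ Q ^ 3 - 1 from ⟨Q - 1, by ring⟩))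
    rcases (Nat.dvd_prime Nat.prime_three).1 h6 with h7 | h7
    · exfalso
      have h8 := (dvd_pow_sub_one_iff (r := s) (Q := Q) 1).2 (by rw [h7])
      rw [pow_one] at h8
      have h9 := dvd_sub h5 (h8.mul_right (Q + 2))
      rw [show Q ^ 2 + Q + 1 - (Q - 1) * (Q + 2) = 3 by ring] at h9
      exact hs3 ((Nat.prime_dvd_prime_iff_eq g1 Nat.prime_three).1 (by exact_mod_cast h9))
    · exact h7

/-- all orders are 12 if one is -/
theorem D4_all12 [IsAlgClosed k] [Finite W] [Finite X] {π : Set ℕ}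
    (hπ : ∀ r ∈ π, r.Prime ∧ r ≠ 2 ∧ r ≠ p ∧ r ∣ Nat.card X) (hc : Cond π X) {ε Q : ℤ} (hε : ε = 1 ∨ ε = -1)
    (hQ : Q = ε * (p ^ e : ℕ)) {r s : ℕ} (hr : r ∈ π) (hs : s ∈ π) (hrn : orderOf (Q : ZMod r) = 12) :
    orderOf (Q : ZMod s) = 12 := by
  by_cases hrs : r = s
  · rw [← hrs]; exact hrn
  obtain ⟨h1, h2, h3, h4⟩ := hπ r hr
  obtain ⟨g1, g2, g3, g4⟩ := hπ s hs
  have : Fact s.Prime := ⟨g1⟩
  have key : ∀ y : X, O1 y s → ((orderOf y : ℕ) : ℤ) ∣ Q ^ 4 - Q ^ 2 + 1 := fun y hy =>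
    Int.natCast_dvd.2 (orderOf_dvd_of_pow_eq_one (D4_twelve cs S h1 g1 hr hs hrs h3 h2 hε hQ hrn hc hy))
  by_cases hs3 : s = 3
  · exact absurd (hs3 ▸ hs) hc.1
  · obtain ⟨y, hy⟩ := exists_prime_orderOf_dvd_card' s g4
    have h5 := key y ⟨1, by rw [hy, pow_one]⟩
    rw [hy] at h5
    have h6 := (dvd_pow_sub_one_iff 12).1 (h5.trans (show Q ^ 4 - Q ^ 2 + 1 ∣ Q ^ 12 - 1 from
      ⟨Q ^ 8 + Q ^ 6 - Q ^ 2 - 1, by ring⟩))
    have h7 : ∀ n < 13, n ∣ 12 → n ∣ 6 ∨ n ∣ 4 ∨ n = 12 := by decide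
    rcases h7 _ (Nat.lt_succ_of_le (Nat.le_of_dvd (by norm_num) h6)) h6 with h8 | h8 | h8
    · exfalso
      have h9 := (dvd_pow_sub_one_iff (r := s) (Q := Q) 6).2 h8
      have h10 := dvd_sub (h5.trans (show Q ^ 4 - Q ^ 2 + 1 ∣ Q ^ 6 + 1 from ⟨Q ^ 2 + 1, by ring⟩)) h9
      rw [show Q ^ 6 + 1 - (Q ^ 6 - 1) = 2 by ring] at h10
      exact g2 ((Nat.prime_dvd_prime_iff_eq g1 Nat.prime_two).1 (by exact_mod_cast h10))
    · exfalso
      have h9 := (dvd_pow_sub_one_iff (r := s) (Q := Q) 4).2 h8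
      -- `Q^2 ≡ 2`, `Q^4 ≡ 4`
      have h10 : (s : ℤ) ∣ 3 := by
        have e1 := (h5.mul_right (Q ^ 2 + 2))
        have e2 := (h9.mul_right (Q ^ 2 + 1))
        have e3 := dvd_sub e1 e2
        have e4 : (Q ^ 4 - Q ^ 2 + 1) * (Q ^ 2 + 2) - (Q ^ 4 - 1) * (Q ^ 2 + 1) = 3 := by ring
        rwa [e4] at e3
      exact hs3 ((Nat.prime_dvd_prime_iff_eq g1 Nat.prime_three).1 (by exact_mod_cast h10))
    · exact h8

/-- **The row of `³D₄`.** -/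
theorem crossRow_D4_gen [IsAlgClosed k] [Finite W] [Finite X]
    {g' N' : ℕ} (hcard : g' * Nat.card X = (p ^ e) ^ N' * (fsD4 (p ^ e : ℕ)).natAbs) : CrossRow p X := by
  have hpp : p.Prime := Fact.out
  intro π hπ hnt hc
  obtain ⟨q, hq⟩ : ∃ q : ℤ, q = ((p ^ e : ℕ) : ℤ) := ⟨_, rfl⟩
  rw [← hq] at hcard
  have h1 : (1 : ℤ) = 1 ∨ (1 : ℤ) = -1 := Or.inl rfl
  have hQ1 : q = 1 * (p ^ e : ℕ) := by rw [hq, one_mul]
  have hev : ∀ {ε : ℤ}, (ε = 1 ∨ ε = -1) → fsD4 (ε * q) = fsD4 q := by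
    rintro ε (rfl | rfl) <;> unfold fsD4 <;> ring
  have hcardε : ∀ {ε : ℤ}, (ε = 1 ∨ ε = -1) → g' * Nat.card X = (p ^ e) ^ N' * (fsD4 (ε * q)).natAbs := by
    intro ε hε
    rw [hev hε]; exact hcard
  -- the orders
  have hord : ∀ r ∈ π, orderOf (q : ZMod r) ∈ [1, 2, 3, 6, 12] := by
    intro r hr
    obtain ⟨g1, g2, g3, g4⟩ := hπ r hr
    have hrZ := Nat.prime_iff_prime_int.1 g1
    have hQr := not_dvd_Q (p := p) (e := e) Fact.out g1 g3 h1 hQ1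
    have h5 : r ∣ (p ^ e) ^ N' * (fsD4 q).natAbs := by
      rw [← hcard]; exact g4.mul_left _
    rcases g1.dvd_mul.1 h5 with h6 | h6
    · exact absurd ((Nat.prime_dvd_prime_iff_eq g1 hpp).1 (g1.dvd_of_dvd_pow (g1.dvd_of_dvd_pow h6))) g3
    · have h7 : (r : ℤ) ∣ fsD4 q := Int.natCast_dvd.2 h6
      have h12 : orderOf (q : ZMod r) ∣ 12 ∧ orderOf (q : ZMod r) ≠ 4 := by
        rcases hrZ.dvd_mul.1 h7 with h8 | h8
        · rcases hrZ.dvd_mul.1 h8 with h9 | h9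
          · have h10 := (dvd_pow_sub_one_iff 2).1 h9
            exact ⟨h10.trans (by norm_num), fun h11 => by rw [h11] at h10; revert h10; decide⟩
          · have h10 := (dvd_pow_sub_one_iff 6).1 h9
            exact ⟨h10.trans (by norm_num), fun h11 => by rw [h11] at h10; revert h10; decide⟩
        · refine ⟨(dvd_pow_sub_one_iff 12).1 (h8.trans ⟨q ^ 4 - 1, by ring⟩), fun h11 => ?_⟩
          have h9 := (dvd_pow_sub_one_iff (r := r) (Q := q) 4).2 (by rw [h11])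
          have h10 := dvd_sub h8 (h9.mul_right (q ^ 4 + 2))
          rw [show q ^ 8 + q ^ 4 + 1 - (q ^ 4 - 1) * (q ^ 4 + 2) = 3 by ring] at h10
          obtain rfl := (Nat.prime_dvd_prime_iff_eq g1 Nat.prime_three).1 (by exact_mod_cast h10)
          have h12 := ord_dvd g1 hQr
          rw [h11] at h12
          revert h12
          decide
      have h13 : ∀ n < 13, n ∣ 12 ∧ n ≠ 4 → n ∈ [1, 2, 3, 6, 12] := by decide
      exact h13 _ (Nat.lt_succ_of_le (Nat.le_of_dvd (by norm_num) h12.1)) h12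
  have hp3 : ∀ r ∈ π, r.Prime ∧ r ≠ 2 ∧ r ≠ p := fun r hr => ⟨(hπ r hr).1, (hπ r hr).2.1, (hπ r hr).2.2.1⟩
  by_cases h12 : ∃ r ∈ π, orderOf (q : ZMod r) = 12
  · obtain ⟨r, hr, hrn⟩ := h12
    exact D4_pos12 cs S h1 hQ1 hcard fun s hs => ⟨(hp3 s hs).1, (hp3 s hs).2.1, (hp3 s hs).2.2,
      D4_all12 cs S hπ hc h1 hQ1 hr hs hrn⟩
  by_cases h3 : ∃ ε : ℤ, (ε = 1 ∨ ε = -1) ∧ ∃ r ∈ π, orderOf ((ε * q : ℤ) : ZMod r) = 3
  · obtain ⟨ε, hε, r, hr, hrn⟩ := h3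
    have hQε : ε * q = ε * (p ^ e : ℕ) := by rw [hq]
    exact D4_pos3 cs S hε hQε (hcardε hε) fun s hs => ⟨(hp3 s hs).1, (hp3 s hs).2.1, (hp3 s hs).2.2,
      D4_all3 cs S hπ hc hε hQε hr hs hrn⟩
  -- orders at most two
  obtain ⟨r0, hr0⟩ := hnt.nonempty
  have hε0 : ∃ ε : ℤ, (ε = 1 ∨ ε = -1) ∧ orderOf ((ε * q : ℤ) : ZMod r0) = 1 := by
    have h4 := hord r0 hr0
    simp only [List.mem_cons, List.not_mem_nil, or_false] at h4
    rcases h4 with h4 | h4 | h4 | h4 | h4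
    · exact ⟨1, h1, by rw [one_mul]; exact h4⟩
    · refine ⟨-1, Or.inr rfl, ?_⟩
      rw [neg_one_mul]
      exact order_neg (hπ r0 hr0).1 (n := 1) h4 (by norm_num) one_pos
    · exact absurd ⟨1, h1, r0, hr0, by rw [one_mul]; exact h4⟩ h3
    · refine absurd ⟨-1, Or.inr rfl, r0, hr0, ?_⟩ h3
      rw [neg_one_mul]
      exact order_neg (hπ r0 hr0).1 (n := 3) h4 (by norm_num) (by norm_num)
    · exact absurd ⟨r0, hr0, h4⟩ h12
  obtain ⟨ε, hε, h5⟩ := hε0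
  have hQε : ε * q = ε * (p ^ e : ℕ) := by rw [hq]
  have hd0 : (r0 : ℤ) ∣ ε * q - 1 := by
    have := (dvd_pow_sub_one_iff (r := r0) (Q := ε * q) 1).2 (by rw [h5])
    rwa [pow_one] at this
  have hall : ∀ s ∈ π, orderOf ((ε * q : ℤ) : ZMod s) = 1 := by
    intro s hs
    by_cases hrs : r0 = s
    · rw [← hrs]; exact h5
    obtain ⟨g1, g2, g3, g4⟩ := hπ s hs
    have : Fact s.Prime := ⟨g1⟩
    obtain ⟨y, hy⟩ := exists_prime_orderOf_dvd_card' s g4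
    have h6 := D4_one cs S (hπ r0 hr0).1 g1 hr0 hs hrs (hπ r0 hr0).2.2.1 (hπ r0 hr0).2.1 hε hQε hd0 hc (y := y)
      ⟨1, by rw [hy, pow_one]⟩
    have h7 := orderOf_dvd_of_pow_eq_one h6
    rw [hy] at h7
    have h8 := (dvd_pow_sub_one_iff 3).1 (Int.natCast_dvd.2 h7)
    rcases (Nat.dvd_prime Nat.prime_three).1 h8 with h9 | h9
    · exact h9
    · exact absurd ⟨ε, hε, s, hs, h9⟩ h3
  by_cases h3π : 3 ∈ π
  · exact absurd h3π hc.1
  · exact D4_pos1 cs S hε hQε (hcardε hε) fun s hs => ⟨(hp3 s hs).1, (hp3 s hs).2.1,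
      fun h => h3π (by rw [← h]; exact hs), (hp3 s hs).2.2, hall s hs⟩

end D4

/-- **Type `³D₄`.** -/
theorem crossRow_twD4 (r : ℕ) [Fact r.Prime] (F : Type u) [Field F] [Fintype F] [CharP F r] {q : ℕ}
    (hq : IsPrimePow q) (hF : Fintype.card F = q ^ 3) : CrossRow r ↥(twistedD4 F q) := by
  obtain ⟨k, _, _, f, p, hpp, hkp, e', hk, hka, he0', hcF⟩ := H378.TorFin.exists_closure F
  have hkr : CharP k r := charP_of_injective_ringHom f.injective r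
  obtain rfl : r = p := CharP.eq k hkr hkp
  obtain ⟨e, he0, hqe⟩ : ∃ e, 0 < e ∧ q = r ^ e := by
    obtain ⟨r', e, hr', he, rfl⟩ := hq
    have h1 : r' ∣ r ^ e' := by
      rw [← hcF, Nat.card_eq_fintype_card, hF]
      exact (dvd_pow_self r' he.ne').trans (dvd_pow_self _ three_ne_zero)
    have h2 : r' = r := (Nat.prime_dvd_prime_iff_eq hr'.nat_prime hpp.out).1 (hr'.nat_prime.dvd_of_dvd_pow h1)
    exact ⟨e, he, by rw [h2]⟩
  have cs := coxeterD4.toCoxeterSystem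
  have hW := finite_W RGDTwD4.hp cs
  have S := setup_twD4 cs hk f he0 hqe hq hF
  refine crossRow_D4_gen cs S (g' := 1) (N' := 12) ?_
  rw [S1067.result hq hF, ← hqe, one_mul, fsD4, Int.natAbs_mul, Int.natAbs_mul]
  have ev : ∀ i : ℕ, ((q : ℤ) ^ i - 1).natAbs = q ^ i - 1 := by
    intro i
    have h1 : 1 ≤ q ^ i := Nat.one_le_pow _ _ hq.pos
    have h2 : ((q : ℕ) : ℤ) ^ i - 1 = ((q ^ i - 1 : ℕ) : ℤ) := by push_cast [Nat.cast_sub h1]; ring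
    rw [h2, Int.natAbs_natCast]
  have e8 : ((q : ℤ) ^ 8 + (q : ℤ) ^ 4 + 1).natAbs = q ^ 8 + q ^ 4 + 1 := by
    have : (q : ℤ) ^ 8 + (q : ℤ) ^ 4 + 1 = ((q ^ 8 + q ^ 4 + 1 : ℕ) : ℤ) := by push_cast; ring
    rw [this, Int.natAbs_natCast]
  rw [ev, ev, e8]
  ring

end

end Cfsg.Agent.PQ.EA.CvX
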