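import Cfsg.Agent.PQ.EA.CvX
import Cfsg.Agent.PQ.EA.CvI

/-!
# S4982: invariant witnesses in cross characteristic, the exceptional groups (helper97)
-/

set_option autoImplicit false

namespace Cfsg.Agent.PQ.EA

/-- **The exceptional groups in cross characteristic.** -/
theorem cX : AllC SS.Ex CvX := cX_of cvI

end Cfsg.Agent.PQ.EA
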