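import Cfsg.Agent.PQ.EA.Defs
import Cfsg.Agent.PQ.EL.Hy0
import Cfsg.Agent.H672.Over
import Cfsg.Agent.H597.RelThompson
import Cfsg.Agent.H893.Sd.Lift
import Cfsg.Agent.OddOrderLocal.HallPi
import Cfsg.Agent.S0867
import Cfsg.Agent.S5758

/-!
# S4982: the almost simple case (helper81)
-/

set_option autoImplicit false
set_option linter.unusedSectionVars false

namespace Cfsg.Agent.PQ.EA

open Cfsg Subgroup Cfsg.Agent.LV Cfsg.Agent.PQ.LE Cfsg.Agent.PQ.EL Cfsg.Agent.H672 Cfsg.Agent.Characters.Core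

namespace D

variable {p q : ℕ} [hp : Fact p.Prime] [hq : Fact q.Prime] {G : Type} [Group G] [Finite G]

theorem par_symm (hpq : p ≠ q) {P : Sylow p G} {Q : Sylow q G} (h : Par P Q) : Par Q P :=
  par_of hpq.symm ⟨⟨fun a b => Subtype.ext (h.abQ a a.2 b b.2)⟩⟩ ⟨⟨fun a b => Subtype.ext (h.abP a a.2 b b.2)⟩⟩ h.nor.symm

/-- `EE` passes to normal subgroups of index prime to `p q` -/
theorem ee_down (hE : EE p q G) (N : Subgroup G) [N.Normal] (h1 : ¬ p ∣ N.index) (h2 : ¬ q ∣ N.index) : EE p q N := fun θ => by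
  obtain ⟨χ, hχ, ho⟩ := exists_over_subtype N θ.2
  obtain ⟨⟨e, he⟩, h6⟩ := charDegree_dvd_of_over _ hχ θ.2 ho
  rw [he, Nat.mul_div_cancel_left _ (charDegree_pos θ.2)] at h6
  have h7 := hE ⟨χ, hχ⟩
  change ¬ p ∣ charDegree χ ↔ ¬ q ∣ charDegree χ at h7
  rw [he, hp.out.dvd_mul, hq.out.dvd_mul, or_iff_left fun e => h1 (e.trans h6), or_iff_left fun e => h2 (e.trans h6)] at h7
  exact h7

theorem nor_le {N : Subgroup G} [hN : N.Normal] {P : Sylow p N} {Q : Sylow q N} (h : Par P Q) :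
    normalizer (((P : Subgroup N).map N.subtype : Subgroup G) : Set G) ≤
      normalizer (((Q : Subgroup N).map N.subtype : Subgroup G) : Set G) := by
  have key : ∀ g ∈ normalizer (((P : Subgroup N).map N.subtype : Subgroup G) : Set G),
      ∀ y ∈ (Q : Subgroup N).map N.subtype, g * y * g⁻¹ ∈ (Q : Subgroup N).map N.subtype := by
    rintro g hg _ ⟨y, hy, rfl⟩
    refine ⟨MulAut.conjNormal g y, h.mem _ (fun a ha => ?_) ?_, rfl⟩
    · obtain ⟨b, hb, e⟩ := (mem_normalizer_iff.1 (inv_mem hg) _).1 (mem_map_of_mem N.subtype ha)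
      have e1 : a = MulAut.conjNormal g b := Subtype.ext (by
        rw [MulAut.conjNormal_apply, show (b : G) = g⁻¹ * a * g⁻¹⁻¹ from e]
        group)
      rw [e1, ← map_mul, ← map_mul, h.com b hb y hy]
    · rw [El, MulEquiv.orderOf_eq]
      exact Red.order_of_mem hq.out Q.2 hy
  intro g hg
  refine mem_normalizer_iff.2 fun y => ⟨key g hg y, fun hy => ?_⟩
  have := key _ (inv_mem hg) _ hy
  simpa [mul_assoc] using this

/-- `Loc` comes up from normal subgroups of index prime to `p q` -/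
theorem loc_up (hpq : p ≠ q) (N : Subgroup G) [N.Normal] (h1 : ¬ p ∣ N.index) (h2 : ¬ q ∣ N.index) (h : Loc p q N) :
    Loc p q G := by
  obtain ⟨P⟩ : Nonempty (Sylow p N) := inferInstance
  obtain ⟨Q, H⟩ := exists_par hpq h P
  have k1 : ¬ p ∣ ((P : Subgroup N).map N.subtype).index := by
    rw [index_map_subtype, hp.out.dvd_mul]
    exact fun e => e.elim P.not_dvd_index h1
  have k2 : ¬ q ∣ ((Q : Subgroup N).map N.subtype).index := by
    rw [index_map_subtype, hq.out.dvd_mul]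
    exact fun e => e.elim Q.not_dvd_index h2
  refine ⟨(P.2.map N.subtype).toSylow k1, (Q.2.map N.subtype).toSylow k2, ⟨⟨?_⟩⟩, ⟨⟨?_⟩⟩,
    le_antisymm (nor_le H) (nor_le (par_symm hpq H))⟩
  · rintro ⟨_, a, ha, rfl⟩ ⟨_, b, hb, rfl⟩
    exact Subtype.ext (congrArg Subtype.val (H.abP a ha b hb) :)
  · rintro ⟨_, a, ha, rfl⟩ ⟨_, b, hb, rfl⟩
    exact Subtype.ext (congrArg Subtype.val (H.abQ a ha b hb) :)

/-- in a solvable group, a subgroup over `P` of index prime to `q` contains the partner of `P` -/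
theorem le_of_solv [Group.IsSolvable G] {P : Sylow p G} {Q : Sylow q G} (h : Par P Q) {T : Subgroup G}
    (h1 : (P : Subgroup G) ≤ T) (h2 : ¬ q ∣ T.index) : (Q : Subgroup G) ≤ T := by
  obtain ⟨K, k1, k2, k3⟩ := OddOrderLocal.HallPi.exists_hall_ge_top (G := T) {r | r = p ∨ r = q}
    (X := (P : Subgroup G).subgroupOf T) fun r hr hd => by
      obtain ⟨j, hj⟩ := IsPGroup.iff_card.1 (P.2.comap_subtype (K := T))
      exact .inl ((Nat.prime_dvd_prime_iff_eq hr hp.out).1 (hr.dvd_of_dvd_pow (hj ▸ hd)))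
  have k4 := Hy0.wa_sub (Hy0.wa h) T K k1
  obtain ⟨R⟩ : Nonempty (Sylow q K) := inferInstance
  have k6 : IsPGroup q (((R : Subgroup K).map K.subtype).map T.subtype) := (R.2.map _).map _
  have k7 : ¬ q ∣ (((R : Subgroup K).map K.subtype).map T.subtype).index := by
    rw [index_map_subtype, index_map_subtype, hq.out.dvd_mul, hq.out.dvd_mul]
    exact fun e => e.elim (fun e => e.elim R.not_dvd_index (k2 q hq.out (.inr rfl))) h2
  have k8 : ((R : Subgroup K).map K.subtype).map T.subtype ≤ Q := fun y hy => by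
    refine h.mem y (fun a ha => ?_) (Red.order_of_mem hq.out k6 hy)
    obtain ⟨_, ⟨y, -, rfl⟩, rfl⟩ := hy
    exact congrArg Subtype.val (k4 ⟨a, h1 ha⟩ (k3 ha) y y.2)
  rw [(k6.toSylow k7).is_maximal' Q.2 k8]
  exact map_subtype_le _

variable {N : Subgroup G} [hN : N.Normal]

/-- a character of degree prime to `p` over a `P`-invariant character of degree prime to `p` of a perfect normal subgroup -/
theorem exists_over (hc : _root_.commutator N = ⊤) (P : Sylow p G) (θ : IrrCharacter N)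
    (h1 : (P : Subgroup G) ≤ inertia N θ) (h2 : ¬ p ∣ dg θ) : ∃ χ : IrrCharacter G, Over N.subtype χ θ ∧ ¬ p ∣ dg χ := by
  have := Fintype.ofFinite G
  let U : Subgroup G := N ⊔ P
  have := Fintype.ofFinite U
  have hNU : N ≤ U := le_sup_left
  have hUT : U ≤ inertia N θ := sup_le (le_inertia (isIrr_isClassFunction θ.2)) h1
  let e := subgroupOfEquivOfLe hNU
  have k1 := isIrr_comp e.toMonoidHom e.surjective θ.2
  have k2 : _root_.commutator (N.subgroupOf U) = ⊤ := by
    have := map_commutator_eq (N.subgroupOf U) e.toMonoidHom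
    apply map_injective (f := e.toMonoidHom) e.injective
    rw [this, MonoidHom.range_eq_top.2 e.surjective, map_top_of_surjective _ e.surjective]
    exact hc
  obtain ⟨j, hj⟩ : ∃ j, (N.subgroupOf U).index = p ^ j := by
    obtain ⟨j, hj⟩ := IsPGroup.iff_card.1 P.2
    have h3 : N.relIndex U ∣ p ^ j := by
      rw [relIndex_sup_left, ← hj]
      exact relIndex_dvd_card _ _
    obtain ⟨i, -, hi⟩ := (Nat.dvd_prime_pow hp.out).1 h3
    exact ⟨i, hi⟩
  obtain ⟨ξ, ⟨k3, k4, -⟩, -⟩ := S0867.result (N.subgroupOf U) _ k1 (fun g n => mem_inertia_iff.1 (hUT g.2) (e n)) (dg θ)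
    (by rw [Function.comp_apply, map_one, coe_charDegree θ.2]) (by
      rw [H893.Sd.detOrder_eq_one k2 k1, one_mul, hj]
      exact Nat.Coprime.pow_left _ (hp.out.coprime_iff_not_dvd.2 h2))
  have k5 : ξ ∘ inclusion hNU = θ := funext fun n => k4 ⟨⟨n, hNU n.2⟩, n.2⟩
  obtain ⟨χ, hχ, k6, k7⟩ := H597.RelThompson.exists_over_not_dvd p U
    (fun h => P.not_dvd_index (h.trans (index_dvd_of_le le_sup_right))) k3 (by
      rwa [charDegree_of_eq (n := dg θ) (by rw [coe_charDegree θ.2, ← k5, Function.comp_apply, map_one])])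
  refine ⟨⟨χ, hχ⟩, (over_comp_iff U.subtype (inclusion hNU) (isIrr_isCharacter hχ) θ.2).2
    ⟨ξ, k3, (over_subtype_iff _ _ _).2 k6, ?_⟩, k7⟩
  have := Fintype.ofFinite N
  rw [over_iff, k5, (isIrr_iff_classInner_self (isIrr_isCharacter θ.2)).1 θ.2]
  exact one_ne_zero

/-- invariant characters -/
theorem inv (hc : _root_.commutator N = ⊤) [Group.IsSolvable (G ⧸ N)] (hE : EE p q G) {P : Sylow p G} {Q : Sylow q G}
    (h : Par (P.mapSurjective (QuotientGroup.mk'_surjective N)) (Q.mapSurjective (QuotientGroup.mk'_surjective N)))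
    (θ : IrrCharacter N) (h1 : (P : Subgroup G) ≤ inertia N θ) (h2 : ¬ p ∣ dg θ) :
    (Q : Subgroup G) ≤ inertia N θ ∧ ¬ q ∣ dg θ := by
  obtain ⟨χ, k1, k2⟩ := exists_over hc P θ h1 h2
  have k3 := index_mul_charDegree_dvd N χ.2 θ.2 k1
  have k4 := (hE χ).1 k2
  refine ⟨fun x hx => ?_, fun e => k4 ((e.mul_left _).trans k3)⟩
  obtain ⟨t, ht, e⟩ := le_of_solv h (T := (inertia N θ).map (QuotientGroup.mk' N)) (map_mono h1)
    (fun e => k4 (((e.trans (index_map_dvd _ (QuotientGroup.mk'_surjective N))).mul_right _).trans k3))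
    (mem_map_of_mem _ hx)
  have h3 : t⁻¹ * x ∈ inertia N θ := le_inertia (isIrr_isClassFunction θ.2) (QuotientGroup.eq.1 e)
  simpa using mul_mem ht h3

theorem fix_iff (U : Subgroup G) (θ : IrrCharacter N) :
    Fix (U.map (MulAut.conjNormal (H := N))) θ ↔ U ≤ inertia N θ :=
  ⟨fun h g hg => funext (h _ (mem_map_of_mem _ hg)), by
    rintro h _ ⟨g, hg, rfl⟩
    exact congrFun (h hg)⟩

theorem mem_of_inn (hc : centralizer (N : Set G) = ⊥) {g : G} (h : MulAut.conjNormal (H := N) g ∈ Inn N) : g ∈ N := by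
  obtain ⟨n, hn⟩ := h
  have h3 : (n : G)⁻¹ * g ∈ centralizer (N : Set G) := mem_centralizer_iff.2 fun m hm => by
    have h5 : (n : G) * m * (n : G)⁻¹ = g * m * g⁻¹ := congrArg Subtype.val (MulEquiv.congr_fun hn ⟨m, hm⟩)
    calc m * ((n : G)⁻¹ * g) = (n : G)⁻¹ * ((n : G) * m * (n : G)⁻¹) * g := by group
      _ = (n : G)⁻¹ * g * m := by rw [h5]; group
  rw [hc, mem_bot, inv_mul_eq_one] at h3
  exact h3 ▸ n.2

theorem solv [IsSimpleGroup N] (hc : centralizer (N : Set G) = ⊥) : Group.IsSolvable (G ⧸ N) := by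
  have := S5758.result (G := N)
  let f : G →* Out N := (QuotientGroup.mk' _).comp (MulAut.conjNormal (H := N))
  have h1 := Group.isSolvable_of_isSolvable_injective (QuotientGroup.kerLift_injective f)
  have h2 : f.ker ≤ N := fun g hg => mem_of_inn hc ((QuotientGroup.eq_one_iff _).1 (MonoidHom.mem_ker.1 hg))
  exact Group.isSolvable_of_surjective (f := QuotientGroup.map f.ker N (MonoidHom.id G) h2) fun x => by
    obtain ⟨g, rfl⟩ := QuotientGroup.mk_surjective x
    exact ⟨g, rfl⟩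

/-- **the almost simple case** -/
theorem simple (hpq : p ≠ q) [hs : IsSimpleGroup N] (hab : ¬ IsMulCommutative N) (hc : centralizer (N : Set G) = ⊥)
    (dp : p ∣ Nat.card N) (dq : q ∣ Nat.card N) (hI : IH p q (Nat.card G)) (hE : EE p q G) (r1 : CvA N) (r2 : AUT N)
    (r3 : NR N) : Loc p q G := by
  have := solv hc
  have h0 : N ≠ ⊥ := (nontrivial_iff_ne_bot N).1 inferInstance
  have hk : _root_.commutator N = ⊤ := (hs.eq_bot_or_eq_top_of_normal _ inferInstance).resolve_left fun e =>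
    hab ⟨⟨fun a b => commutatorElement_eq_one_iff_mul_comm.1
      (mem_bot.1 (e.le (commutator_mem_commutator (mem_top a) (mem_top b))))⟩⟩
  obtain ⟨P⟩ : Nonempty (Sylow p G) := inferInstance
  have hsur := QuotientGroup.mk'_surjective N
  obtain ⟨Qb, hPQ⟩ := exists_par hpq (hI.quot hE N h0) (P.mapSurjective hsur)
  obtain ⟨Q, rfl⟩ := Sylow.mapSurjective_surjective hsur q Qb
  have hA := P.2.map (MulAut.conjNormal (H := N))
  have hB := Q.2.map (MulAut.conjNormal (H := N))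
  have key : ∀ θ : IrrCharacter N, (Fix ((P : Subgroup G).map (MulAut.conjNormal (H := N))) θ ∧ ¬ p ∣ dg θ) ↔
      (Fix ((Q : Subgroup G).map (MulAut.conjNormal (H := N))) θ ∧ ¬ q ∣ dg θ) := fun θ => by
    rw [fix_iff, fix_iff]
    exact ⟨fun h => inv hk hE hPQ θ h.1 h.2, fun h => inv hk hE.symm (par_symm hpq hPQ) θ h.1 h.2⟩
  have hC : Com p q N := by
    by_contra h
    rcases r1 p q hp.out hq.out hpq dp dq h with h1 | h1
    · obtain ⟨θ, k1, k2, k3⟩ := h1 _ hA
      exact ((key θ).1 ⟨k1, k2⟩).2 k3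
    · obtain ⟨θ, k1, k2, k3⟩ := h1 _ hB
      exact ((key θ).2 ⟨k1, k2⟩).2 k3
  have hP := Red.pair_of_com hab hp.out hq.out hpq dp dq hC
  obtain ⟨k1, k2⟩ := r2 p q hP _ _ hA hB key
  have k3 : ¬ p ∣ N.index := fun e => P.not_dvd_index
    (e.trans (index_dvd_of_le fun g hg => mem_of_inn hc (k1 (mem_map_of_mem _ hg))))
  have k4 : ¬ q ∣ N.index := fun e => Q.not_dvd_index
    (e.trans (index_dvd_of_le fun g hg => mem_of_inn hc (k2 (mem_map_of_mem _ hg))))
  exact loc_up hpq N k3 k4 (r3 p q hP (ee_down hE N k3 k4)).1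

end D

end Cfsg.Agent.PQ.EA
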