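import Cfsg.Agent.PQ.EA.D1
import Cfsg.Agent.PQ.EL.C
import Cfsg.Agent.PQ.EL.Fix

/-!
# S4982: both primes divide the order of a nonabelian minimal normal subgroup (helper81)

The proof of `D.ker_le` is the one of helper24 in `PQ/EL/C.lean`.
-/

set_option autoImplicit false
set_option linter.unusedSectionVars false

namespace Cfsg.Agent.PQ.EA

open Cfsg Subgroup Cfsg.Agent.LV Cfsg.Agent.PQ.LE Cfsg.Agent.PQ.EL Cfsg.Agent.Characters.Core Cfsg.Agent.H671.Tensor
open Cfsg.Agent.PQ.EL.C Cfsg.Agent.H671.H5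

namespace D

variable {p q : ℕ} [hp : Fact p.Prime] [hq : Fact q.Prime] {G : Type} [Group G] [Finite G] {N : Subgroup G} [hNn : N.Normal]
  {S : Type} [Group S] [Finite S] [IsSimpleGroup S] {m : ℕ}

/-- the action on the product -/
noncomputable def cc (e : N ≃* (Fin m → S)) : G →* MulAut (Fin m → S) :=
  (MulAut.congr e).toMonoidHom.comp (MulAut.conjNormal (H := N))

theorem cc_e (e : N ≃* (Fin m → S)) (g : G) (n : N) : cc e g (e n) = e ⟨g * n * g⁻¹, hNn.conj_mem n n.2 g⟩ := by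
  show e (MulAut.conjNormal g (e.symm (e n))) = _
  rw [e.symm_apply_apply]
  rfl

theorem cc_n (e : N ≃* (Fin m → S)) (n : N) : cc e (n : G) = MulAut.conj (e n) := by
  refine MulEquiv.ext fun x => ?_
  obtain ⟨y, rfl⟩ := e.surjective x
  rw [cc_e, MulAut.conj_apply, ← map_inv, ← map_mul, ← map_mul]
  rfl

/-- the partner of `P` fixes all factors -/
theorem ker_le (hpq : p ≠ q) (hna : ¬ IsMulCommutative S) (e : N ≃* (Fin m → S)) (h0 : N ≠ ⊥) (hI : IH p q (Nat.card G))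
    (hE : EE p q G) {α : IrrCharacter S} (hα1 : charDegree (α : S → ℂ) ≠ 1) (hx : ExtAut α)
    (hpα : ¬ p ∣ charDegree (α : S → ℂ)) (P : Sylow p G) (Q : Sylow q G)
    (hcom : ∀ x ∈ (Q : Subgroup G), ∀ a ∈ (P : Subgroup G), x * a * x⁻¹ * a⁻¹ ∈ N) :
    (Q : Subgroup G) ≤ (pi hna (cc e)).ker := by
  classical
  obtain ⟨ψ₀, hψ₀⟩ := hx
  have hce := cc_e e
  have hcn := cc_n e
  generalize cc e = c at hce hcn ⊢
  have hpn : ∀ n ∈ N, pi hna c n = 1 := fun n hn => by
    show perm hna (c (⟨n, hn⟩ : N)) = 1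
    rw [hcn, (conj_spec hna _).1]
  have hd := H669.Basic.charDegree_eq α.2
  intro x hx
  rw [MonoidHom.mem_ker]
  ext i
  let D : Finset (Fin m) := Finset.univ.filter fun j => ∃ a ∈ (P : Subgroup G), pi hna c a i = j
  have hD : ∀ j, j ∈ D ↔ ∃ a ∈ (P : Subgroup G), pi hna c a i = j := fun j => by simp [D]
  have hPT : (P : Subgroup G) ≤ TD hna c D := by
    intro a ha j
    rw [hD, hD]
    constructor
    · rintro ⟨b, hb, rfl⟩
      exact ⟨a * b, mul_mem ha hb, by rw [map_mul]; rfl⟩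
    · rintro ⟨b, hb, h⟩
      refine ⟨a⁻¹ * b, mul_mem (inv_mem ha) hb, ?_⟩
      rw [map_mul, Equiv.Perm.mul_apply, h, map_inv]
      exact (pi hna c a).symm_apply_apply j
  have hNT : N ≤ TD hna c D := fun n hn j => by rw [hpn n hn]; rfl
  -- the character of `N` and its extension
  let r : N →* (D → S) := (MonoidHom.pi fun j : D => Pi.evalMonoidHom (fun _ : Fin m => S) j).comp e.toMonoidHom
  have hr : Function.Surjective r := fun y => ⟨e.symm (ext D y), funext fun j => by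
    show e (e.symm (ext D y)) j = y j
    rw [e.apply_symm_apply]
    simp [C.ext]⟩
  let θ : IrrCharacter N := ⟨(fun y : D → S => ∏ j, (α : S → ℂ) (y j)) ∘ r, isIrr_comp r hr (H713.isIrr_pi α.2)⟩
  have hθ : ∀ n : N, (θ : N → ℂ) n = ∏ j : D, (α : S → ℂ) (e n j) := fun _ => rfl
  obtain ⟨Ψ, hΨ, hΨx⟩ := exists_tensor (ι := D) hna (isIrr_isCharacter ψ₀.2)
  have h1 : IsCharacter (TD hna c D) (Ψ ∘ cD hna c D) := isCharacter_comp _ hΨ
  have h2 : ∀ (n : N) (h : (n : G) ∈ TD hna c D), (Ψ ∘ cD hna c D) ⟨n, h⟩ = (θ : N → ℂ) n := by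
    intro n h
    rw [Function.comp_apply, cD_conj hna c ⟨n, h⟩ (hcn n), hΨx, hθ]
    exact Finset.prod_congr rfl fun j _ => hψ₀ _
  have h3 : IsIrrCharacter (TD hna c D) (Ψ ∘ cD hna c D) := by
    refine CharactersDeep.MaxInduced.isIrr_of_comp (inclusion hNT) h1 ?_
    have : (Ψ ∘ cD hna c D) ∘ inclusion hNT = (θ : N → ℂ) := funext fun n => h2 n (hNT n.2)
    rw [this]
    exact θ.2
  have hst : Stb N θ (TD hna c D) := by
    intro g
    constructor
    · intro hg n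
      rw [← h2 _ (hNT (hNn.conj_mem n n.2 g)), ← h2 n (hNT n.2)]
      exact isCharacter_isClassFunction h1 ⟨n, hNT n.2⟩ ⟨g, hg⟩
    · intro hg
      refine mem_TD hna c α.2 hα1 fun y => ?_
      obtain ⟨n, rfl⟩ := e.surjective y
      rw [hce]
      exact hg n
  have hdeg : ¬ p ∣ charDegree (θ : N → ℂ) := by
    have h4 : charDegree (θ : N → ℂ) = charDegree (α : S → ℂ) ^ D.card := by
      apply deg_of
      rw [hθ]
      simp only [map_one, Pi.one_apply, Finset.prod_const, Finset.card_univ, Fintype.card_coe]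
      rw [hd, Nat.cast_pow]
    rw [h4]
    exact fun h => hpα (hp.out.dvd_of_dvd_pow h)
  have hxq : El q x := (IsPGroup.iff_orderOf.1 Q.2 ⟨x, hx⟩).imp fun k hk => by rw [← hk, orderOf_mk]
  have hxT := boxFix p q hpq G N h0 hI hE P θ _ hst hPT hdeg ⟨⟨_, h3⟩, h2⟩ x hxq (hcom x hx)
  -- a fixed point of `x` in the orbit
  let : MulAction G (Fin m) := MulAction.compHom _ (pi hna c)
  have hsm : ∀ (g : G) (j : Fin m), g • j = pi hna c g j := fun _ _ => rfl
  have hcard : ¬ q ∣ Nat.card D := by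
    obtain ⟨k, hk⟩ := P.2.card_orbit i
    have h4 : Nat.card D = Nat.card (MulAction.orbit (P : Subgroup G) i) :=
      Nat.card_congr (Equiv.subtypeEquivRight fun j => (hD j).trans
        ⟨fun ⟨a, ha, h⟩ => ⟨⟨a, ha⟩, h⟩, fun ⟨a, h⟩ => ⟨a, a.2, h⟩⟩)
    rw [h4, hk]
    exact fun h => hpq ((Nat.prime_dvd_prime_iff_eq hq.out hp.out).1 (hq.out.dvd_of_dvd_pow h)).symm
  let A : SubMulAction (zpowers x) (Fin m) :=
    { carrier := D
      smul_mem' := fun k j hj => ((zpowers_le.2 hxT k.2) j).1 hj }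
  have hzq : IsPGroup q (zpowers x) := Q.2.to_le (zpowers_le.2 hx)
  obtain ⟨j, hj⟩ := hzq.nonempty_fixed_point_of_prime_not_dvd_card A hcard
  have hxj : pi hna c x j.1 = j.1 := congrArg Subtype.val (hj ⟨x, mem_zpowers x⟩)
  obtain ⟨a, ha, haj⟩ := (hD j.1).1 j.2
  have h5 : pi hna c x * pi hna c a⁻¹ = pi hna c a⁻¹ * pi hna c x := by
    have h6 := hpn _ (hcom x hx a⁻¹ (inv_mem ha))
    rw [map_mul, map_mul, map_mul, map_inv _ x, map_inv _ a⁻¹, mul_inv_eq_one, mul_inv_eq_iff_eq_mul] at h6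
    exact h6
  have h7 : pi hna c a⁻¹ j.1 = i := by
    rw [← haj, map_inv]
    exact (pi hna c a).symm_apply_apply i
  congr 1
  rw [← h7, ← Equiv.Perm.mul_apply, h5, Equiv.Perm.mul_apply, hxj]
  rfl

/-- all factors are normal -/
theorem simple_of (hna : ¬ IsMulCommutative S) (e : N ≃* (Fin m → S)) (hm : 0 < m) (hM : MinN N)
    (h : (pi hna (cc e)).ker = ⊤) : IsSimpleGroup N := by
  let f : N →* S := (Pi.evalMonoidHom (fun _ : Fin m => S) ⟨0, hm⟩).comp e.toMonoidHom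
  have h1 : Function.Surjective f := fun s => ⟨e.symm fun _ => s, by
    show e (e.symm fun _ => s) ⟨0, hm⟩ = s
    rw [e.apply_symm_apply]⟩
  have h2 : (f.ker.map N.subtype).Normal := ⟨by
    rintro _ ⟨n, hn, rfl⟩ g
    refine ⟨⟨g * n * g⁻¹, hNn.conj_mem n n.2 g⟩, ?_, rfl⟩
    have h3 := pi_spec hna (cc e) g (e n) ⟨0, hm⟩
    rw [show pi hna (cc e) g = 1 from h.ge (mem_top g), cc_e, show e n ⟨0, hm⟩ = 1 from hn, map_one] at h3
    exact h3⟩
  rcases hM.2 _ h2 (map_subtype_le _) with h3 | h3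
  · rw [map_eq_bot_iff_of_injective _ N.subtype_injective] at h3
    exact (MulEquiv.ofBijective f ⟨(MonoidHom.ker_eq_bot_iff f).1 h3, h1⟩).isSimpleGroup
  · obtain ⟨s, hs⟩ := exists_ne (1 : S)
    obtain ⟨n, rfl⟩ := h1 s
    obtain ⟨k, hk, e1⟩ := h3.ge n.2
    exact (hs ((Subtype.ext e1 : k = n) ▸ hk)).elim

end D

/-- **both primes divide the order of a nonabelian minimal normal subgroup** -/
theorem boxD_of (hF : FactCop.{0}) (hC : All Known CvA) (hA : All Known AUT) (hR : All Known NR) : BoxD := by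
  intro p q hp hq hpq G _ _ N hNn hM hab hc dp dq hI hE
  classical
  obtain ⟨S, m, -, hS, hm, ⟨e⟩⟩ := Lib.MinNormal.exists_mulEquiv_pi N hM.1 hM.2
  have hna : ¬ IsMulCommutative S := fun h => hab ⟨⟨fun a b => e.injective (by
    rw [map_mul, map_mul]
    funext i
    exact h.is_comm.comm _ _)⟩⟩
  obtain ⟨α, h1, h2, h3⟩ : ∃ α : IrrCharacter S, charDegree (α : S → ℂ) ≠ 1 ∧ ExtAut α ∧
      (¬ p ∣ charDegree (α : S → ℂ) ∨ ¬ q ∣ charDegree (α : S → ℂ)) := by
    rcases hF S hna with ⟨α, β, k1, k2, k3, k4, k5⟩ | ⟨α, k1, k2⟩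
    · by_cases h : p ∣ charDegree (α : S → ℂ)
      · exact ⟨β, k2, k5, .inl fun h' => hp.out.one_lt.ne' (Nat.eq_one_of_dvd_coprimes k3 h h')⟩
      · exact ⟨α, k1, k4, .inl h⟩
    · refine ⟨α, k1.ne_one, k2, ?_⟩
      obtain ⟨r, k, hr, -, hk⟩ := (isPrimePow_nat_iff _).1 k1
      by_contra h
      rw [not_or, not_not, not_not, ← hk] at h
      exact hpq (((Nat.prime_dvd_prime_iff_eq hp.out hr).1 (hp.out.dvd_of_dvd_pow h.1)).trans
        ((Nat.prime_dvd_prime_iff_eq hq.out hr).1 (hq.out.dvd_of_dvd_pow h.2)).symm)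
  have h4 : ¬ p ∣ charDegree (α : S → ℂ) ↔ ¬ q ∣ charDegree (α : S → ℂ) := by
    obtain ⟨χ, hχ⟩ := exists_extension N hna e h2
    have k1 : charDegree (χ : G → ℂ) = charDegree (α : S → ℂ) ^ m := by
      apply deg_of
      have k2 := hχ 1
      simp only [map_one, Pi.one_apply, Finset.prod_const, Finset.card_univ, Fintype.card_fin, OneMemClass.coe_one] at k2
      rw [k2, H669.Basic.charDegree_eq α.2, Nat.cast_pow]
    have k2 := hE χ
    rwa [k1, hp.out.prime.dvd_pow_iff_dvd hm.ne', hq.out.prime.dvd_pow_iff_dvd hm.ne'] at k2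
  obtain ⟨P⟩ : Nonempty (Sylow p G) := inferInstance
  have hsur := QuotientGroup.mk'_surjective N
  obtain ⟨Qb, hPQ⟩ := exists_par hpq (hI.quot hE N hM.1) (P.mapSurjective hsur)
  obtain ⟨Q, rfl⟩ := Sylow.mapSurjective_surjective hsur q Qb
  have hcom : ∀ a ∈ (P : Subgroup G), ∀ x ∈ (Q : Subgroup G),
      QuotientGroup.mk' N a * QuotientGroup.mk' N x = QuotientGroup.mk' N x * QuotientGroup.mk' N a := fun a ha x hx =>
    hPQ.com _ (mem_map_of_mem (QuotientGroup.mk' N) ha) _ (mem_map_of_mem (QuotientGroup.mk' N) hx)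
  have hQ := D.ker_le hpq hna e hM.1 hI hE h1 h2 (h3.elim id h4.2) P Q fun x hx a ha => by
    rw [← QuotientGroup.ker_mk' N, MonoidHom.mem_ker, map_mul, map_mul, map_mul, map_inv, map_inv, ← hcom a ha x hx]
    group
  have hP := D.ker_le hpq.symm hna e hM.1 hI.symm hE.symm h1 h2 (h3.elim h4.1 id) Q P fun x hx a ha => by
    rw [← QuotientGroup.ker_mk' N, MonoidHom.mem_ker, map_mul, map_mul, map_mul, map_inv, map_inv, hcom x hx a ha]
    group
  have k3 : ¬ p ∣ (pi hna (D.cc e)).ker.index := fun e => P.not_dvd_index (e.trans (index_dvd_of_le hP))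
  have k4 : ¬ q ∣ (pi hna (D.cc e)).ker.index := fun e => Q.not_dvd_index (e.trans (index_dvd_of_le hQ))
  by_cases ht : (pi hna (D.cc e)).ker = ⊤
  · have hs := D.simple_of hna e hm hM ht
    have hK : IsKnownSimple' N := S0000.result
    exact D.simple hpq hab hc dp dq hI hE (hC N hs hab hK) (hA N hs hab hK) (hR N hs hab hK)
  · refine D.loc_up hpq _ k3 k4 (hI _ ?_ (D.ee_down hE _ k3 k4))
    exact lt_of_le_of_ne (card_le_card_group _) fun e => ht (eq_top_of_card_eq _ e)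

end Cfsg.Agent.PQ.EA
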