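import Cfsg.Agent.PQ.EA.Defs
import Cfsg.Agent.LV.Lift.Bij

/-!
# S4982: the witness over a central character for abelian Sylow subgroups (helper81)

* pure boxes: `BoxPure`, `BoxPerm`; datum boxes: `BoxSame`, `BoxLvl`, `BoxPdj`, `BoxDg`, `BoxWit`;
* rows: `LR` (a datum and the orders), `QPk` (exceptional covers); transfer boxes `BoxQx`, `BoxZz`.
-/

set_option autoImplicit false
set_option linter.unusedSectionVars false

namespace Cfsg.Agent.PQ.EA

open Cfsg Subgroup Cfsg.Agent.LV Cfsg.Agent.DL Cfsg.Agent.KZ.Lie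

/-- a small function which lives on the sections of a central subgroup `E` of `C(E)` -/
def BoxPure : Prop :=
  ∀ (H : Type) [Group H] [Fintype H] (l : ℕ) (M : Ideal AlgInt), IsPModular l M → ∀ D : Sylow l H,
    IsMulCommutative (D : Subgroup H) → ∀ (B : Set (IrrCharacter H))
    (θ : IrrCharacter ↥(centralizer ((D : Subgroup H) : Set H))),
    IsInducedBlock M (centralizer ((D : Subgroup H) : Set H)) (blockOf M θ.1) B → ∀ E : Subgroup H, IsPGroup l E →
    ∀ [Fintype ↥(centralizer (E : Set H))] (ψ : IrrCharacter ↥(centralizer (E : Set H)))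
      (φ : ↥(centralizer (E : Set H)) → ℂ), IsInducedBlock M (centralizer (E : Set H)) (blockOf M ψ.1) B →
    IsGeneralizedCharacter _ φ → (classInner φ φ).re < l → classInner ψ.1 φ ≠ 0 →
    (∀ g b : ↥(centralizer (E : Set H)), IsPPart l g b → (b : H) ∉ E → φ g = 0) →
    ∃ g : H, ∀ a ∈ (D : Subgroup H),
      (∀ n ∈ normalizer ((D : Subgroup H) : Set H),
        (∀ y y' : ↥(centralizer ((D : Subgroup H) : Set H)), (y' : H) = n * y * n⁻¹ →
          y' ∈ center _ → ¬ l ∣ orderOf y' → θ.1 y' = θ.1 y) → n * a = a * n) →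
      g * a * g⁻¹ ∈ E

/-- a linear character of an abelian Sylow subgroup with a small stabiliser -/
def BoxPerm : Prop :=
  ∀ (H : Type) [Group H] [Finite H] (l : ℕ), l.Prime → ∀ P : Sylow l H, IsMulCommutative (P : Subgroup H) →
    ∀ x ∈ (P : Subgroup H), ∃ ω : (P : Subgroup H) →* ℂˣ, ∀ n ∈ normalizer ((P : Subgroup H) : Set H),
      (∀ a b : (P : Subgroup H), (b : H) = n * a * n⁻¹ → ω b = ω a) → n * x = x * n

section Dat

variable {r : ℕ} [Fact r.Prime] {k : Type} [Field k] [CharP k r] {Y : Type} [Group Y] {N : Type} [Fintype N]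
  [DecidableEq N] {ρ : Y →* GL N k} {F : MulAut Y} {G : Subgroup Y} [IsAlgClosed k] (X : Datum r ρ F G)

/-- `l` is good, `F` is `u` times an automorphism of order prime to `l`, the Sylow `l`-subgroups are abelian -/
structure Ok (u : ℤ) (l : ℕ) : Prop where
  gd : Gd X l
  two : l ≠ 2
  sca : Sca X u l
  ab : AbS l ↥(GF F G)

/-- every `c`-subgroup has the same centraliser in `G` as some `l`-subgroup -/
def Same (F : MulAut Y) (G : Subgroup Y) (c l : ℕ) : Prop :=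
  ∀ A : Subgroup ↥(GF F G), IsPGroup c A → ∃ A' : Subgroup ↥(GF F G), IsPGroup l A' ∧
    ∀ g ∈ G, (∀ a ∈ A, g * (a : Y) = a * g) ↔ ∀ a ∈ A', g * (a : Y) = a * g

/-- a level `m` and a large prime `l` -/
structure Lv2 (u : ℤ) (c m l : ℕ) (hm : 0 < m) : Prop where
  okc : Ok (X.pow hm) (u ^ m) c
  okl : Ok (X.pow hm) (u ^ m) l
  ord : orderOf ((u ^ m : ℤ) : ZMod c) = orderOf ((u ^ m : ℤ) : ZMod l)
  tor : ∀ w, (ordT (X.pow hm) w).factorization c = (ordT X w).factorization c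
  grp : (Nat.card ↥(GF (F ^ m) G)).factorization c = (Nat.card ↥(GF F G)).factorization c

variable {X} in
/-- the tori in the support of a character contain the elements fixed by the stabiliser of the `c`-part of a label -/
def Pdj [Fintype ↥(GF F G)] (f : Fr X) (c : ℕ) : Prop :=
  ∀ (χ : IrrCharacter ↥(GF F G)) (w₀ w : X.W) (c₀ c₁ : Lbl X) (P : Sylow c ↥(GF F G)),
    (∀ a ∈ (P : Subgroup ↥(GF F G)), (a : Y) ∈ KZ.Lie.Tw X w₀) → classInner (χ : GF F G → ℂ) (RW f w₀ c₀) ≠ 0 →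
    classInner (χ : GF F G → ℂ) (RW f w c₁) ≠ 0 → ∀ x ∈ (P : Subgroup ↥(GF F G)),
    (∀ n ∈ normalizer ((P : Subgroup ↥(GF F G)) : Set ↥(GF F G)),
      (∀ a ∈ (P : Subgroup ↥(GF F G)), th f w₀ c₀ ((n : Y) * a * (n : Y)⁻¹) = th f w₀ c₀ a) → n * x = x * n) →
    ∃ g : ↥(GF F G), (g : Y) * x * (g : Y)⁻¹ ∈ KZ.Lie.Tw X w

/-- `o`-elements which normalise a `c`-subgroup centralise it -/
def Act (c o : ℕ) (H : Type) [Group H] : Prop :=
  ∀ A : Subgroup H, IsPGroup c A → ∀ b, EL.El o b → b ∈ normalizer (A : Set H) → b ∈ centralizer (A : Set H)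

/-- the witness over every central character -/
def Wit (F : MulAut Y) (G : Subgroup Y) (c o : ℕ) : Prop :=
  ∀ Z : Subgroup ↥(GF F G), (∀ z ∈ Z, ∀ g ∈ G, g * (z : Y) = z * g) → ¬ c ∣ Nat.card Z → ∀ lam : Z →* ℂˣ,
    ∃ χ : IrrCharacter ↥(GF F G), Ov lam χ ∧ ¬ c ∣ dg χ ∧ o ∣ dg χ

end Dat

/-- two primes with the same parameter -/
def BoxSame : Prop :=
  ∀ {r : ℕ} [Fact r.Prime] {k : Type} [Field k] [CharP k r] {Y : Type} [Group Y] {N : Type} [Fintype N]
    [DecidableEq N] {ρ : Y →* GL N k} {F : MulAut Y} {G : Subgroup Y} [IsAlgClosed k] (X : Datum r ρ F G) (u : ℤ) (c l : ℕ),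
    Ok X u c → Ok X u l → orderOf (u : ZMod c) = orderOf (u : ZMod l) → Same F G c l

/-- the level and the large prime -/
def BoxLvl : Prop :=
  ∀ {r : ℕ} [Fact r.Prime] {k : Type} [Field k] [CharP k r] {Y : Type} [Group Y] {N : Type} [Fintype N]
    [DecidableEq N] {ρ : Y →* GL N k} {F : MulAut Y} {G : Subgroup Y} [IsAlgClosed k] {X : Datum r ρ F G} (f : Fr X)
    (u : ℤ) (c B : ℕ), Ok X u c → c ∣ Nat.card ↥(GF F G) →
    ∃ (m l : ℕ) (h : LV.Lift.Lp f m), B < l ∧ Lv2 X u c m l h.prime.pos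

/-- disjointness for the `c`-parts -/
def BoxPdj : Prop :=
  ∀ {r : ℕ} [Fact r.Prime] {k : Type} [Field k] [CharP k r] {Y : Type} [Group Y] {N : Type} [Fintype N]
    [DecidableEq N] {ρ : Y →* GL N k} {F : MulAut Y} {G : Subgroup Y} [IsAlgClosed k] {X : Datum r ρ F G} (f : Fr X)
    [Fintype ↥(GF F G)] (u : ℤ) (c : ℕ), Ok X u c → Pdj f c

/-- a degree prime to `l` needs a torus in the support whose normaliser has index prime to `l` -/
def BoxDg : Prop :=
  ∀ {r : ℕ} [Fact r.Prime] {k : Type} [Field k] [CharP k r] {Y : Type} [Group Y] {N : Type} [Fintype N]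
    [DecidableEq N] {ρ : Y →* GL N k} {F : MulAut Y} {G : Subgroup Y} [IsAlgClosed k] {X : Datum r ρ F G} (f : Fr X)
    [Fintype ↥(GF F G)], X.QS → ∀ (χ : IrrCharacter ↥(GF F G)) (l : ℕ), l.Prime → l ≠ r → ¬ l ∣ dg χ →
      ∃ w c, classInner (χ : GF F G → ℂ) (RW f w c) ≠ 0 ∧
        ¬ l ∣ (normalizer (((KZ.Lie.Tw X w).subgroupOf (GF F G) : Subgroup ↥(GF F G)) : Set ↥(GF F G))).index

/-- **the witness** -/
def BoxWit : Prop :=
  ∀ {r : ℕ} [Fact r.Prime] {k : Type} [Field k] [CharP k r] {Y : Type} [Group Y] {N : Type} [Fintype N]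
    [DecidableEq N] {ρ : Y →* GL N k} {F : MulAut Y} {G : Subgroup Y} [IsAlgClosed k] (X : Datum r ρ F G) (u : ℤ) (c o : ℕ),
    Ok X u c → o.Prime → o ≠ r → Act c o ↥(GF F G) → SS.PX c o ↥(GF F G) → Wit F G c o

/-! ### rows -/

/-- `S` is the central quotient of a group `G ^ F` which dominates the covers with kernel of order prime to `r` -/
def Dt (r : ℕ) (u : ℤ) (S : Type) [Group S] : Prop :=
  ∃ (_ : Fact r.Prime) (k : Type) (_ : Field k) (_ : CharP k r) (_ : IsAlgClosed k) (Y : Type) (_ : Group Y) (N : Type)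
    (_ : Fintype N) (_ : DecidableEq N) (ρ : Y →* GL N k) (F : MulAut Y) (G : Subgroup Y) (X : Datum r ρ F G)
    (π : ↥(GF F G) →* S), IsStemExtension π ∧ (∀ z ∈ π.ker, ∀ g ∈ G, g * (z : Y) = z * g) ∧
    (∀ (K : Type) [Group K] [Finite K] (σ : K →* S), IsStemExtension σ → ¬ r ∣ Nat.card σ.ker →
      ∃ ψ : ↥(GF F G) →* K, Function.Surjective ψ ∧ ∀ s, σ (ψ s) = π s) ∧
    ∀ l : ℕ, l.Prime → l ≠ 2 → l ≠ r → l ∣ Nat.card S → AbS l S →
      (IsPGroup l π.ker ∧ π.ker ≠ ⊥) ∨ (¬ l ∣ Nat.card π.ker ∧ Gd X l ∧ Sca X u l)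

/-- the two primes have the same parameter -/
def Ord (u : ℤ) (S : Type) [Group S] : Prop :=
  ∀ p q : ℕ, Pair p q S → EL.EE p q S → orderOf (u : ZMod p) = orderOf (u : ZMod q)

/-- the multiplier is an `r`-group -/
def Tr (r : ℕ) (S : Type) [Group S] : Prop :=
  ∀ (K : Type) [Group K] [Finite K] (σ : K →* S), IsStemExtension σ → IsPGroup r σ.ker

/-- row for the groups of Lie type -/
def LR (r : ℕ) (S : Type) [Group S] : Prop := (∃ u, Dt r u S ∧ Ord u S) ∨ (Tr r S ∧ ZZ S)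

/-- row: the exceptional covers -/
def QPk (r : ℕ) (S : Type) [Group S] : Prop :=
  ∀ (p q : ℕ) (K : Type) [Group K] [Finite K] (σ : K →* S) (lam : σ.ker →* ℂˣ), p ≠ r → q ≠ r → r ∣ Nat.card σ.ker →
    Pr p q S → QH p q σ lam → ∀ P R : Subgroup S, EL.Hy p q P R → Com p q S

/-- from the witness to the covers -/
def BoxQx : Prop := AllC (fun r S _ => LR r S ∧ QPk r S) QPx

/-- from the centralisers in `G` to the simple group -/
def BoxZz : Prop := AllC (fun r S _ => IsLieTypeChar r S ∧ LR r S) fun _ S _ => ZZ S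

/-- the rows of Lie type -/
structure LieRows : Prop where
  lrA : AllC SS.ClA LR
  lrB : AllC SS.ClB LR
  lrX : AllC SS.Ex LR
  qk : AllC (fun r S _ => IsLieTypeChar r S) QPk
  qd : AllC (fun r S _ => IsLieTypeChar r S) QPd

theorem LieRows.lr (h : LieRows) : AllC (fun r S _ => IsLieTypeChar r S) LR := fun r S _ _ hs hn hr h1 => by
  rcases SS.lie_cases h1 with h1 | h1 | h1
  exacts [h.lrA r S hs hn hr h1, h.lrB r S hs hn hr h1, h.lrX r S hs hn hr h1]

theorem LieRows.qps (h : LieRows) (hQ : BoxQx) : All LieAny EL.QPs := by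
  rintro S _ _ hs hn ⟨r, hr, h0⟩ p q hp hq h3 h4 h5 h6 K _ _ σ k1 k2 k3 k4 lam k5 k6 P R H
  have h1 : Pr p q S := ⟨hp, hq, h3, h4, h5, h6⟩
  have h2 : QH p q σ lam := ⟨k1, k2, k3, k4, k5, k6⟩
  by_cases e : p = r ∨ q = r
  · exact h.qd r S hs hn hr h0 p q K σ lam e h1 h2 P R H
  · exact hQ r S hs hn hr ⟨h.lr r S hs hn hr h0, h.qk r S hs hn hr h0⟩ p q K σ lam (not_or.1 e) h1 h2 P R H

theorem LieRows.zz (h : LieRows) (hZ : BoxZz) : All LieAny ZZ := by
  rintro S _ _ hs hn ⟨r, hr, h0⟩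
  exact hZ r S hs hn hr ⟨h0, h.lr r S hs hn hr h0⟩

end Cfsg.Agent.PQ.EA
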