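import Cfsg.Agent.PQ.EA.Defs2

/-!
# S4982: invariant semisimple characters; the list of all rows (helper81)
-/

set_option autoImplicit false
set_option linter.unusedSectionVars false

namespace Cfsg.Agent.PQ.EA

open Cfsg Subgroup Cfsg.Agent.LV Cfsg.Agent.DL Cfsg.Agent.KZ.Lie Cfsg.Agent.PQ.SS

/-- the character of an element of order `l` is fixed by the `l`-groups of automorphisms -/
def BoxSemA : Prop :=
  ∀ {p : ℕ} [Fact p.Prime] {k : Type} [Field k] [CharP k p] {Y : Type} [Group Y] {N : Type} [Fintype N]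
    [DecidableEq N] {ρ : Y →* GL N k} {F : MulAut Y} {G : Subgroup Y} [IsAlgClosed k] {D : Datum p ρ F G} (f : Fr D)
    [Fintype ↥(GF F G)] {Adm : Matrix D.R D.R ℤ → Prop} {S : Type} [Group S] (s : Sit D Adm S) {l n : ℕ}
    {B : Matrix D.R D.R ℤ}, l.Prime → l ≠ p → Dual D l B → CZl D l → Ker f s l B → ¬ l ∣ n →
    (∀ A, Adm A → ∃ (u : ℤ) (v : D.W), A ^ n = u • D.Wm v) →
    ∀ x : ↥(GF F G), (x : Y) ∈ s.H0 → Form D l x → x ^ l = 1 → ¬ l ∣ cls x →
      ∀ A : Subgroup (MulAut S), IsPGroup l A → ∃ θ : IrrCharacter S, Fix A θ ∧ ∃ j : ℕ, dg θ * p ^ j = cls x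

/-- an element of order `l` with class size prime to `l` and divisible by `m` -/
def WZ1 (l m : ℕ) (S : Type) [Group S] : Prop := ∃ x : S, x ^ l = 1 ∧ ¬ l ∣ cls x ∧ m ∣ cls x

theorem SemiA.of_wz1 {r l m : ℕ} {S : Type} [Group S] (h : SemiA r l S) (hm : m.Prime) (hl : m ≠ l) (hr : m ≠ r)
    (hw : WZ1 l m S) : WA l m S :=
  let ⟨_, h1, h2, h3⟩ := hw
  h.wa hm hl hr h1 h2 h3

/-- everything that is left -/
structure Rows : Prop where
  lie : LieRows
  qx : BoxQx
  zz : BoxZz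
  cd : AllC (fun r S _ => IsLieTypeChar r S) CvD
  cA : AllC ClA CvX
  cB : AllC ClB CvX
  cX : AllC Ex CvX
  aut : All Known AUT
  nq : NlRows EL.QPs
  nn : NlRows NR
  nc : NlRows CvA

theorem Rows.qps (h : Rows) : All Known EL.QPs := all_known_of_lie h.nq (h.lie.qps h.qx)

theorem Rows.cva (h : Rows) : All Known CvA := all_known_of_lie h.nc (cva_lie h.cd h.cA h.cB h.cX)

end Cfsg.Agent.PQ.EA
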