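import Cfsg.Agent.PQ.EA.Defs2

/-!
# S4982: a degree prime to `l` needs a torus in the support whose normaliser has index prime to `l` (helper64)
-/

set_option autoImplicit false

namespace Cfsg.Agent.PQ.EA

open Cfsg Subgroup Matrix Cfsg.Agent.DL Cfsg.Agent.DL.PP Cfsg.Agent.DL.Uni Cfsg.Agent.KZ.Lie Cfsg.Agent.Nodes.Reps Cfsg.Agent.DL.Asm

/-- sums over the orbits -/
theorem Dg.orb {W Z : Type} [Group W] [MulAction W Z] [Fintype Z] (l : ℕ) (a : Z → ℂ) (h1 : ∀ (v : W) x, a (v • x) = a x)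
    (h2 : ∀ x, ∃ b : ℤ, a x = Nat.card (MulAction.stabilizer W x) * (l * b)) : ∃ n : ℤ, ∑ x, a x = Nat.card W * (l * n) := by
  classical
  have := Fintype.ofFinite (MulAction.orbitRel.Quotient W Z)
  choose b hb using h2
  refine ⟨∑ z : MulAction.orbitRel.Quotient W Z, b z.out, ?_⟩
  rw [Finset.sum_congr rfl (g := fun x => a (Quotient.mk (MulAction.orbitRel W Z) x).out) fun x _ => by
    obtain ⟨v, hv⟩ : (Quotient.mk (MulAction.orbitRel W Z) x).out ∈ MulAction.orbit W x := Quotient.mk_out (s := MulAction.orbitRel W Z) x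
    rw [← hv, h1], sum_fib (Quotient.mk (MulAction.orbitRel W Z)) fun z => a z.out, Int.cast_sum, Finset.mul_sum, Finset.mul_sum]
  refine Finset.sum_congr rfl fun z _ => ?_
  rw [hb, ← mul_assoc, ← Nat.cast_mul, ← (MulAction.stabilizer W z.out).index_mul_card, MulAction.index_stabilizer,
    ← Nat.card_coe_set_eq]
  congr 3
  exact Nat.card_congr (Equiv.subtypeEquivRight fun x => Quotient.mk_eq_iff_out)

theorem boxDg : BoxDg := by
  intro r _ k _ _ Y _ N _ _ ρ F G _ X f _ hq χ l hl hr hχ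
  by_contra h
  have := Fintype.ofFinite X.W
  let act : MulAction X.W X.W :=
    { smul := fun v w => v * w * (X.Fw v)⁻¹
      one_smul := fun w => show 1 * w * (X.Fw 1)⁻¹ = w by simp
      mul_smul := fun u v w => show u * v * w * (X.Fw (u * v))⁻¹ = u * (v * w * (X.Fw v)⁻¹) * (X.Fw u)⁻¹ by
        rw [map_mul]; group }
  obtain ⟨n, hn⟩ := @Dg.orb X.W X.W _ act _ l
    (fun w => pc r (GF F G) * ∑ᶠ c, classInner (χ : GF F G → ℂ) (RW f w c) * RW f w c 1) (fun v w => by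
      have h1 : ∀ (v : X.W) c, Rel X v c (mon (X.Wm v⁻¹)ᵀ c) := fun v c x => by
        rw [chr_tr, mulVec_mulVec, ← X.Wm_mul, inv_mul_cancel, X.Wm_one, one_mulVec]
      refine congrArg _ (finsum_eq_of_bijective (mon (X.Wm v⁻¹)ᵀ) ⟨fun c c' e => eq_of_chr X fun x => ?_,
        fun c => ⟨mon (X.Wm v)ᵀ c, eq_of_chr X fun x => ?_⟩⟩ fun c => ?_).symm
      · rw [← h1 v c, ← h1 v c', e]
      · rw [chr_tr, chr_tr, mulVec_mulVec, ← X.Wm_mul, mul_inv_cancel, X.Wm_one, one_mulVec]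
      · rw [RW_conj f (show Tc X v w (v * w * (X.Fw v)⁻¹) from inv_mul_cancel_right _ _) (h1 v c)]
        rfl) fun w => by
      rw [show @MulAction.stabilizer X.W X.W _ act w = CW X w from ext fun v => mul_inv_eq_iff_eq_mul.trans eq_comm]
      refine finsum_induction (fun z : ℂ => ∃ b : ℤ, pc r (GF F G) * z = Nat.card (CW X w) * (l * b)) ⟨0, by simp⟩
        (fun x y ⟨b, hb⟩ ⟨b', hb'⟩ => ⟨b + b', by rw [mul_add, hb, hb']; push_cast; ring⟩) fun c => ?_
      by_cases e : classInner (χ : GF F G → ℂ) (RW f w c) = 0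
      · exact ⟨0, by simp [e]⟩
      obtain ⟨m, hm⟩ := LV.One.inner_int f (gen_of_irr χ.2) w c
      obtain ⟨j, hj⟩ : l ∣ (Nz F G (KZ.Lie.Tw X w)).index := (not_not.1 fun k => h ⟨w, c, e, k⟩).trans
        (index_dvd_of_le (mem_normalizer_of fun x hx y hy => mem_Nz.1 hx ▸ conj_mem_cj.2 hy))
      have h1 := RW_deg f hq (LV.One.fx_of_ne f e)
      have h2 := (Nz F G (KZ.Lie.Tw X w)).index_mul_card
      rw [hj, KZ.Lie.Tw, card_Nz (yw_mem X w) (yw_rp X w), ← pc_mul_pc' r (GF F G)] at h2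
      have h3 := congrArg (Nat.cast : ℕ → ℂ) h2
      refine ⟨m * sgZ X w * j, mul_right_cancel₀ (Nat.cast_ne_zero.2 (ordT_ne w) : (ordT X w : ℂ) ≠ 0) ?_⟩
      rw [hm]
      rw [sg_eq] at h1
      push_cast at h3 ⊢
      linear_combination (pc r (GF F G) * m : ℂ) * h1 - (m * sgZ X w : ℂ) * h3
  have h1 := val_one f (χ : GF F G → ℂ)
  rw [eq_inv_mul_iff_mul_eq₀ (Nat.cast_ne_zero.2 Nat.card_pos.ne'), finsum_eq_sum_of_fintype] at h1
  rw [← Finset.mul_sum, ← h1, mul_left_comm, mul_right_inj' (Nat.cast_ne_zero.2 Nat.card_pos.ne'),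
    Blocks.Basic.irr_one_eq_charDegree χ.2] at hn
  have h2 : (l : ℤ) ∣ (pc r (GF F G) * dg χ : ℕ) := ⟨n, by exact_mod_cast hn⟩
  exact ((hl.dvd_mul.1 (Int.natCast_dvd_natCast.1 h2)).resolve_right hχ |> hl.dvd_of_dvd_pow |>
    (Nat.prime_dvd_prime_iff_eq hl Fact.out).1 |> hr)

end Cfsg.Agent.PQ.EA
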