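import Cfsg.Agent.PQ.EA.Defs3

/-!
# S4982: the group form of the rows of Lie type (helper4)

`GD r S` : a covering group `H` of `S` with the witnesses and with equal centralisers of the Sylow subgroups.
-/

set_option autoImplicit false
set_option linter.unusedSectionVars false

namespace Cfsg.Agent.PQ.EA

open Cfsg Subgroup Cfsg.Agent.LV

/-- the properties of the covering group -/
structure GDo (r : ℕ) {H S : Type} [Group H] [Group S] (π : H →* S) : Prop where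
  st : IsStemExtension π
  cov : ∀ (K : Type) [Group K] [Finite K] (σ : K →* S), IsStemExtension σ → ¬ r ∣ Nat.card σ.ker →
    ∃ ψ : H →* K, Function.Surjective ψ ∧ ∀ s, σ (ψ s) = π s
  alt : ∀ l : ℕ, l.Prime → l ≠ 2 → l ≠ r → l ∣ Nat.card S → AbS l S →
    (IsPGroup l π.ker ∧ π.ker ≠ ⊥) ∨ ¬ l ∣ Nat.card π.ker
  wit : ∀ c o : ℕ, c.Prime → o.Prime → c ≠ 2 → c ≠ r → o ≠ r → c ∣ Nat.card S → AbS c S → ¬ c ∣ Nat.card π.ker →
    ¬ o ∣ Nat.card π.ker → Act c o H → SS.PX c o H → ∀ lam : π.ker →* ℂˣ,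
      ∃ χ : IrrCharacter H, Ov lam χ ∧ ¬ c ∣ dg χ ∧ o ∣ dg χ
  cen : ∀ p q : ℕ, Pair p q S → EL.EE p q S → p ≠ r → q ≠ r → ¬ p ∣ Nat.card π.ker → ¬ q ∣ Nat.card π.ker →
    ∃ (P : Sylow p H) (Q : Sylow q H), centralizer ((P : Subgroup H) : Set H) = centralizer ((Q : Subgroup H) : Set H)

/-- the group form of `Dt` and `Ord` -/
def GD (r : ℕ) (S : Type) [Group S] : Prop := ∃ (H : Type) (_ : Group H) (_ : Finite H) (π : H →* S), GDo r π

/-- from the group form to the covers -/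
def BoxGq : Prop := AllC (fun r S _ => GD r S ∧ QPk r S) QPx

/-- from the group form to the centralisers -/
def BoxGz : Prop := AllC (fun r S _ => IsLieTypeChar r S ∧ GD r S) fun _ S _ => ZZ S

/-- the rows of Lie type, type `A` in the group form -/
structure LieRows2 : Prop where
  gdA : AllC SS.ClA GD
  lrB : AllC SS.ClB LR
  lrX : AllC SS.Ex LR
  qk : AllC (fun r S _ => IsLieTypeChar r S) QPk
  qd : AllC (fun r S _ => IsLieTypeChar r S) QPd

theorem LieRows2.qps (h : LieRows2) (hQ : BoxQx) (hG : BoxGq) : All LieAny EL.QPs := by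
  rintro S _ _ hs hn ⟨r, hr, h0⟩ p q hp hq h3 h4 h5 h6 K _ _ σ k1 k2 k3 k4 lam k5 k6 P R H
  have h1 : Pr p q S := ⟨hp, hq, h3, h4, h5, h6⟩
  have h2 : QH p q σ lam := ⟨k1, k2, k3, k4, k5, k6⟩
  by_cases e : p = r ∨ q = r
  · exact h.qd r S hs hn hr h0 p q K σ lam e h1 h2 P R H
  have h7 := h.qk r S hs hn hr h0
  rcases SS.lie_cases h0 with h8 | h8 | h8
  · exact hG r S hs hn hr ⟨h.gdA r S hs hn hr h8, h7⟩ p q K σ lam (not_or.1 e) h1 h2 P R H
  · exact hQ r S hs hn hr ⟨h.lrB r S hs hn hr h8, h7⟩ p q K σ lam (not_or.1 e) h1 h2 P R H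
  · exact hQ r S hs hn hr ⟨h.lrX r S hs hn hr h8, h7⟩ p q K σ lam (not_or.1 e) h1 h2 P R H

theorem LieRows2.zz (h : LieRows2) (hZ : BoxZz) (hG : BoxGz) : All LieAny ZZ := by
  rintro S _ _ hs hn ⟨r, hr, h0⟩
  rcases SS.lie_cases h0 with h8 | h8 | h8
  · exact hG r S hs hn hr ⟨h0, h.gdA r S hs hn hr h8⟩
  · exact hZ r S hs hn hr ⟨h0, h.lrB r S hs hn hr h8⟩
  · exact hZ r S hs hn hr ⟨h0, h.lrX r S hs hn hr h8⟩

/-- everything that is left -/
structure Rows2 : Prop where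
  lie : LieRows2
  qx : BoxQx
  zz : BoxZz
  gq : BoxGq
  gz : BoxGz
  cd : AllC (fun r S _ => IsLieTypeChar r S) CvD
  cA : AllC SS.ClA CvX
  cB : AllC SS.ClB CvX
  cX : AllC SS.Ex CvX
  aut : All Known AUT
  nq : NlRows EL.QPs
  nn : NlRows NR
  nc : NlRows CvA

theorem Rows2.qps (h : Rows2) : All Known EL.QPs := all_known_of_lie h.nq (h.lie.qps h.qx h.gq)

theorem Rows2.cva (h : Rows2) : All Known CvA := all_known_of_lie h.nc (cva_lie h.cd h.cA h.cB h.cX)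

theorem Rows2.zzl (h : Rows2) : All LieAny ZZ := h.lie.zz h.zz h.gz

end Cfsg.Agent.PQ.EA
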