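import Cfsg.Agent.PQ.EA.Qz
import Cfsg.Agent.PQ.SS.Asm

/-!
# S4982: `boxQx_of` (helper99)
-/

set_option autoImplicit false

namespace Cfsg.Agent.PQ.EA

open Cfsg Subgroup Cfsg.Agent.LV Cfsg.Agent.DL Qz

/-- **from the witness to the covers** -/
theorem boxQx_of (hW : BoxWit) : BoxQx := by
  rintro r S _ _ hs hn hr ⟨hL, hk⟩ p q K _ _ σ lam ⟨hp, hq⟩ h1 h2 P R H
  by_cases e : r ∣ Nat.card σ.ker
  · exact hk p q K σ lam hp hq e h1 h2 P R H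
  have := Fact.mk hr
  rcases hL with ⟨u, ⟨_, k, _, _, _, Y, _, N, _, _, ρ, F, G, X, π, hπ, hz, hψ, hl⟩, -⟩ | ⟨hT, -⟩
  swap
  · exact (e ((hT K σ h2.st).card_eq_or_dvd.resolve_left fun h => h2.ne (card_eq_one.1 h))).elim
  obtain ⟨ψ, ψ1, ψ2⟩ := hψ K σ h2.st e
  have := Asm.finite_GF X
  have hm : ∀ z : π.ker, ψ z ∈ σ.ker := fun z => (ψ2 z).trans z.2
  let φ : π.ker →* σ.ker := (ψ.comp π.ker.subtype).codRestrict _ hm
  have φ1 : Function.Surjective φ := fun z => by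
    obtain ⟨y, hy⟩ := ψ1 z
    exact ⟨⟨y, (ψ2 y).symm.trans (hy ▸ z.2)⟩, Subtype.ext hy⟩
  have key : ∀ c o : ℕ, c.Prime → o.Prime → c ≠ 2 → c ≠ r → o ≠ r → c ∣ Nat.card S → EL.WA c o S → QH c o σ lam →
      ¬ SS.PX c o S := fun c o hc ho c2 cr or cd hw hq hx => by
    have := Fact.mk hc
    have ha := abs_of_wa hc hw
    rcases hl c hc c2 cr cd ha with ⟨h3, -⟩ | ⟨h3, h4, h5⟩
    · exact hq.zp ((h3.of_surjective φ φ1).card_eq_or_dvd.resolve_left fun h => hq.ne (card_eq_one.1 h))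
    obtain ⟨χ, h6, h7, h8⟩ := hW X u c o ⟨h4, c2, h5, abs_up hc h3 ha⟩ ho or (act_up hc ho h3 hw) (px_up hc hπ.1 hx)
      π.ker hz h3 (lam.comp φ)
    obtain ⟨θ, hθ⟩ := defl ψ1 χ fun z h9 => by
      have h10 : z ∈ π.ker := (ψ2 z).symm.trans (by rw [h9, map_one])
      have h11 : φ ⟨z, h10⟩ = 1 := Subtype.ext h9
      have h12 := h6 ⟨z, h10⟩
      rwa [MonoidHom.comp_apply, h11, map_one, Units.val_one, one_mul] at h12
    have h9 : (θ : K → ℂ) 1 = (χ : ↥(GF F G) → ℂ) 1 := by rw [← hθ, map_one]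
    have h10 : charDegree (θ : K → ℂ) = dg χ := by
      unfold dg charDegree
      rw [h9]
    refine (hq.ez θ fun z => ?_).1 (h10 ▸ h7) (h10 ▸ h8)
    obtain ⟨y, rfl⟩ := φ1 z
    rw [h9]
    exact (hθ y).trans (h6 y)
  by_contra h
  have h3 : p ≠ 2 := by have := h1.two; have := h1.lt; omega
  rcases SS.Asm.px_of_not_com hn h1.pp h1.pq h1.lt.ne' h1.dp h1.dq h with h4 | h4
  · exact key p q h1.pp h1.pq h3 hp hq h1.dp H.wa h2 h4
  · exact key q p h1.pq h1.pp h1.two.ne' hq hp h1.dq (wa_symm H.wa) h2.symm h4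

end Cfsg.Agent.PQ.EA
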