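import Cfsg.Agent.PQ.EA.Qz
import Cfsg.Agent.PQ.Mu.Main

/-!
# S4982: `boxZz_of` (helper99)
-/

set_option autoImplicit false

namespace Cfsg.Agent.PQ.EA

open Cfsg Subgroup Cfsg.Agent.LV Cfsg.Agent.DL Qz

theorem Qz.cent_le {Y : Type} [Group Y] {F : MulAut Y} {G : Subgroup Y} {c l : ℕ} (h : Same F G c l)
    (hG : GF F G ≤ G) (P : Sylow c ↥(GF F G)) : ∃ Q : Sylow l ↥(GF F G),
    centralizer ((Q : Subgroup ↥(GF F G)) : Set ↥(GF F G)) ≤ centralizer ((P : Subgroup ↥(GF F G)) : Set ↥(GF F G)) := by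
  obtain ⟨A, h1, h2⟩ := h P P.2
  obtain ⟨Q, hQ⟩ := h1.exists_le_sylow
  refine ⟨Q, fun g hg => mem_centralizer_iff.2 fun a ha => Subtype.ext ((h2 g (hG g.2)).2 (fun b hb => ?_) a ha).symm⟩
  exact congrArg Subtype.val (mem_centralizer_iff.1 hg b (hQ hb)).symm

theorem Qz.card_cent {H : Type} [Group H] [Finite H] {p : ℕ} [Fact p.Prime] (P P' : Sylow p H) :
    Nat.card (centralizer ((P : Subgroup H) : Set H)) ≤ Nat.card (centralizer ((P' : Subgroup H) : Set H)) := by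
  obtain ⟨g, rfl⟩ := MulAction.exists_smul_eq H P' P
  refine Nat.card_le_card_of_injective (fun x => ⟨g⁻¹ * x * g, mem_centralizer_iff.2 fun a ha => ?_⟩) fun x y h => ?_
  · have h1 : g * a * g⁻¹ ∈ ((g • P' : Sylow p H) : Subgroup H) := ⟨a, ha, rfl⟩
    have h2 := mem_centralizer_iff.1 x.2 _ h1
    calc a * (g⁻¹ * x * g) = g⁻¹ * (g * a * g⁻¹ * x) * g := by group
      _ = g⁻¹ * x * g * a := by rw [h2]; group
  · exact Subtype.ext (mul_left_cancel (mul_right_cancel (congrArg Subtype.val h)))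

/-- **from the centralisers in `G` to the simple group** -/
theorem boxZz_of (hS : BoxSame) : BoxZz := by
  rintro r S _ _ hs hn hr ⟨h0, ⟨u, ⟨_, k, _, _, _, Y, _, N, _, _, ρ, F, G, X, π, hπ, hz, -, hl⟩, hO⟩ | ⟨-, hT⟩⟩
  swap
  · exact hT
  intro p q h hE
  have := Asm.finite_GF X
  have key : ∀ {p q : ℕ}, Pair p q S → ¬ q ∣ Nat.card π.ker ∧ Ok X u q := fun {p q} h => by
    have := Fact.mk h.pq
    have h1 := MuL.known S hs hn (OddHalf.Known.known_of_isLie h0) p q h _ π hπ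
    rcases hl q h.pq h.q2 (h.nc r hr h0).2 h.dq h.abq with ⟨h3, h4⟩ | ⟨h3, h4, h5⟩
    · exact (h1 (h3.card_eq_or_dvd.resolve_left fun h => h4 (card_eq_one.1 h))).elim
    · exact ⟨h3, h4, h.q2, h5, abs_up h.pq h3 h.abq⟩
  obtain ⟨q1, q2⟩ := key h
  obtain ⟨p1, p2⟩ := key h.symm
  have := Fact.mk h.pp
  have := Fact.mk h.pq
  have h1 := hO p q h hE
  obtain ⟨P⟩ : Nonempty (Sylow p ↥(GF F G)) := inferInstance
  obtain ⟨Q, hQ⟩ := cent_le (hS X u p q p2 q2 h1) (fun _ h => h.1) P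
  obtain ⟨P', hP⟩ := cent_le (hS X u q p q2 p2 h1.symm) (fun _ h => h.1) Q
  have h2 := eq_of_le_of_card_ge hQ ((card_cent P P').trans (card_le_of_le hP))
  refine ⟨P.mapSurjective hπ.1, Q.mapSurjective hπ.1, ?_⟩
  rw [Sylow.coe_mapSurjective, Sylow.coe_mapSurjective, cent_map h.pp hπ.1 hπ.2.1 p1 P.2,
    cent_map h.pq hπ.1 hπ.2.1 q1 Q.2, h2]

end Cfsg.Agent.PQ.EA
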