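import Cfsg.Agent.PQ.EA.GD
import Cfsg.Agent.PQ.EA.Qx
import Cfsg.Agent.PQ.EA.Zz

/-!
# S4982: `boxGq`, `boxGz` (helper99)
-/

set_option autoImplicit false

namespace Cfsg.Agent.PQ.EA

open Cfsg Subgroup Cfsg.Agent.LV Qz

/-- **from the group form to the covers** -/
theorem boxGq : BoxGq := by
  rintro r S _ _ hs hn hr ⟨⟨H, _, _, π, hπ⟩, hk⟩ p q K _ _ σ lam ⟨hp, hq⟩ h1 h2 P R W
  by_cases e : r ∣ Nat.card σ.ker
  · exact hk p q K σ lam hp hq e h1 h2 P R W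
  obtain ⟨ψ, ψ1, ψ2⟩ := hπ.cov K σ h2.st e
  have hm : ∀ z : π.ker, ψ z ∈ σ.ker := fun z => (ψ2 z).trans z.2
  let φ : π.ker →* σ.ker := (ψ.comp π.ker.subtype).codRestrict _ hm
  have φ1 : Function.Surjective φ := fun z => by
    obtain ⟨y, hy⟩ := ψ1 z
    exact ⟨⟨y, (ψ2 y).symm.trans (hy ▸ z.2)⟩, Subtype.ext hy⟩
  have k0 : ∀ c o : ℕ, c.Prime → c ≠ 2 → c ≠ r → c ∣ Nat.card S → EL.WA c o S → QH c o σ lam →
      ¬ c ∣ Nat.card π.ker := fun c o hc c2 cr cd hw hq => by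
    have := Fact.mk hc
    refine (hπ.alt c hc c2 cr cd (abs_of_wa hc hw)).resolve_left fun h3 => ?_
    exact hq.zp ((h3.1.of_surjective φ φ1).card_eq_or_dvd.resolve_left fun h => hq.ne (card_eq_one.1 h))
  have key : ∀ c o : ℕ, c.Prime → o.Prime → c ≠ 2 → c ≠ r → o ≠ r → c ∣ Nat.card S → EL.WA c o S → QH c o σ lam →
      ¬ o ∣ Nat.card π.ker → ¬ SS.PX c o S := fun c o hc ho c2 cr or cd hw hq h4 hx => by
    have h3 := k0 c o hc c2 cr cd hw hq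
    obtain ⟨χ, h6, h7, h8⟩ := hπ.wit c o hc ho c2 cr or cd (abs_of_wa hc hw) h3 h4 (act_up hc ho h3 hw)
      (px_up hc hπ.st.1 hx) (lam.comp φ)
    obtain ⟨θ, hθ⟩ := defl ψ1 χ fun z h9 => by
      have h10 : z ∈ π.ker := (ψ2 z).symm.trans (by rw [h9, map_one])
      have h11 : φ ⟨z, h10⟩ = 1 := Subtype.ext h9
      have h12 := h6 ⟨z, h10⟩
      rwa [MonoidHom.comp_apply, h11, map_one, Units.val_one, one_mul] at h12
    have h9 : (θ : K → ℂ) 1 = (χ : H → ℂ) 1 := by rw [← hθ, map_one]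
    have h10 : charDegree (θ : K → ℂ) = dg χ := by
      unfold dg charDegree
      rw [h9]
    refine (hq.ez θ fun z => ?_).1 (h10 ▸ h7) (h10 ▸ h8)
    obtain ⟨y, rfl⟩ := φ1 z
    rw [h9]
    exact (hθ y).trans (h6 y)
  by_contra h
  have h3 : p ≠ 2 := by have := h1.two; have := h1.lt; omega
  rcases SS.Asm.px_of_not_com hn h1.pp h1.pq h1.lt.ne' h1.dp h1.dq h with h4 | h4
  · exact key p q h1.pp h1.pq h3 hp hq h1.dp W.wa h2 (k0 q p h1.pq h1.two.ne' hq h1.dq (wa_symm W.wa) h2.symm) h4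
  · exact key q p h1.pq h1.pp h1.two.ne' hq hp h1.dq (wa_symm W.wa) h2.symm (k0 p q h1.pp h3 hp h1.dp W.wa h2) h4

/-- **from the group form to the centralisers** -/
theorem boxGz : BoxGz := by
  rintro r S _ _ hs hn hr ⟨h0, H, _, _, π, hπ⟩ p q h hE
  have key : ∀ {p q : ℕ}, Pair p q S → ¬ q ∣ Nat.card π.ker := fun {p q} h =>
    MuL.known S hs hn (OddHalf.Known.known_of_isLie h0) p q h _ π hπ.st
  have := Fact.mk h.pp
  have := Fact.mk h.pq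
  obtain ⟨P, Q, h2⟩ := hπ.cen p q h hE (h.nc r hr h0).1 (h.nc r hr h0).2 (key h.symm) (key h)
  refine ⟨P.mapSurjective hπ.st.1, Q.mapSurjective hπ.st.1, ?_⟩
  rw [Sylow.coe_mapSurjective, Sylow.coe_mapSurjective, cent_map h.pp hπ.st.1 hπ.st.2.1 (key h.symm) P.2,
    cent_map h.pq hπ.st.1 hπ.st.2.1 (key h) Q.2, h2]

end Cfsg.Agent.PQ.EA
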