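import Cfsg.Agent.PQ.EA.Defs2
import Cfsg.Agent.PQ.Row.Num
import Cfsg.Agent.DL.PP.Reg
import Cfsg.Agent.KM.Sc.Dat
import Cfsg.Agent.KM.Sc.BD1

/-!
# S4982, the rows `LR`: shared tools (helper31)

* `cen_of_center` : the centre of `G ^ F` is central in `G`;
* `dt_of_scS`, `dt_of_alg` : `Dt` from a simply connected datum;
* `Dt.congr`, `Pair.congr`, `cond_of_comS`, `ord_eq`.
-/

set_option autoImplicit false
set_option linter.unusedSectionVars false
set_option maxHeartbeats 400000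

namespace Cfsg.Agent.PQ.EA.Lr

open Cfsg Subgroup Cfsg.Agent.LV Cfsg.Agent.DL Cfsg.Agent.DL.PP Cfsg.Agent.DL.St Cfsg.Agent.Tits.Roots Matrix

section Dat

variable {r : ℕ} [Fact r.Prime] {k : Type} [Field k] [CharP k r] {Y : Type} [Group Y] {N : Type} [Fintype N]
  [DecidableEq N] {ρ : Y →* GL N k} {F : MulAut Y} {G : Subgroup Y} [IsAlgClosed k] {D : Datum r ρ F G}

theorem cen_of_chi {t : Y} (ht : t ∈ D.T) (h : ∀ i, D.χ (sr i) t = 1) : ∀ g ∈ G, g * t = t * g := by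
  have h1 : ∀ a, D.χ a t = 1 := fun a => by
    rw [D.eq_sum_sr a]
    induction (Finset.univ : Finset D.I) using Finset.induction_on with
    | empty => exact D.χ_zero t
    | insert i s hi ih => rw [Finset.sum_insert hi, D.χ_add, ih, D.χ_zsmul, h, _root_.one_zpow, mul_one]
  have h2 : D.cen {t} ≤ centralizer {t} := D.cen_le_centralizer (Set.singleton_subset_iff.2 ht)
  have h3 : G ≤ D.cen {t} := by
    refine D.G_eq.ge.trans ?_
    have h4 : {a | D.Rt a} ⊆ D.Sz {t} := fun a ha => ⟨ha, fun z hz => by rw [hz]; exact h1 a⟩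
    exact sup_le_sup_left (Nodes.BNOf.RGD.Sup_mono h4) _
  exact fun g hg => (mem_centralizer_iff.1 (h2 (h3 hg)) t rfl).symm

/-- **the centre of the finite group is central in the algebraic group** -/
theorem cen_of_center (h : D.QS) {z : Y} (hz : z ∈ G) (hc : ∀ g ∈ GF F G, g * z = z * g) : ∀ g ∈ G, g * z = z * g := by
  obtain ⟨a, ha⟩ := exists_fix_unit h
  obtain ⟨v, hv, h1⟩ := exists_kap_fix h (a := fun i => a i) fun i => by rw [ha]; simp
  have h2 : ∀ i, kap D i v ≠ 0 := fun i => by rw [h1]; exact (a i).ne_zero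
  obtain ⟨u, hu, t, ht, e⟩ := (mem_Par_empty D.sbn).1 (mem_B_of_reg hv.1 h2 hz (by
    rw [mul_assoc, hc v hv.2, inv_mul_cancel_left]
    exact hv.1))
  have h3 : ∀ g ∈ G, g * t = t * g := cen_of_chi ht fun i => by
    have h4 := D.conj_mem_U_of_T ht hv.1
    have h5 : kap D i (u * t * v * (u * t)⁻¹) = D.χ (sr i) t * kap D i v := by
      rw [show u * t * v * (u * t)⁻¹ = u * (t * v * t⁻¹) * u⁻¹ by group, kap_mul i (mul_mem hu h4) (inv_mem hu),
        kap_mul i hu h4, kap_inv i hu, kap_conj i ht hv.1]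
      ring
    rw [← e, ← hc v hv.2, mul_inv_cancel_right] at h5
    exact (mul_eq_right₀ (h2 i)).1 h5.symm
  obtain ⟨m, hm, hF⟩ := D.exists_rp_fix (map_w0 (cs := D.cs) (φ := D.Fw) h.Fw_simple)
  have h4 : u = 1 := by
    refine opp D ⟨_, hm⟩ hm.pr_eq hu ?_
    have h5 := hc m ⟨hm.mem_G, hF⟩
    rw [e, mul_assoc u, ← h3 m hm.mem_G, ← mul_assoc, ← mul_assoc] at h5
    rwa [mul_assoc, ← mul_right_cancel h5, inv_mul_cancel_left]
  rwa [e, h4, one_mul]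

/-- the cover of a stem extension -/
theorem sc_cov {S : Type} [Group S] (s : KM.Sc D S) (hS : IsSimpleGroup S) (hn : ¬ IsMulCommutative S) (K : Type)
    [Group K] [Finite K] (σ : K →* S) (hσ : IsStemExtension σ) (hr : ¬ r ∣ Nat.card σ.ker) :
    ∃ ψ : ↥(GF F G) →* K, Function.Surjective ψ ∧ ∀ x, σ (ψ x) = s.π x := by
  have h1 : σ.ker = center K := TwoF.DC.ker_eq_center hS hn hσ.1 hσ.2.1
  let e : (K ⧸ center K) ≃* S := (QuotientGroup.quotientMulEquivOfEq h1.symm).trans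
    (QuotientGroup.quotientKerEquivOfSurjective σ hσ.1)
  have h2 : commutator K = ⊤ := by
    rw [eq_top_iff, ← comap_top σ, ← TwoF.DC.perfect_of_simple hS hn, commutator_def,
      ← map_top_of_surjective σ hσ.1, ← map_commutator, comap_map_eq, ← commutator_def]
    exact sup_le le_rfl hσ.2.2
  exact s.cov K ⟨⟨h2⟩, e.isSimpleGroup⟩ (h1 ▸ hr) e

/-- **`Dt` from a simply connected datum** -/
theorem dt_of_scS {S : Type} [Group S] (s : KM.Sc D S) (hS : IsSimpleGroup S) (hn : ¬ IsMulCommutative S) {u : ℤ}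
    (hl : ∀ l : ℕ, l.Prime → l ≠ 2 → l ≠ r → l ∣ Nat.card S → AbS l S →
      (IsPGroup l s.π.ker ∧ s.π.ker ≠ ⊥) ∨ (¬ l ∣ Nat.card s.π.ker ∧ KM.Tor.Lev D l ∧ Sca D u l)) : Dt r u S :=
  ⟨_, k, _, _, ‹_›, Y, _, N, _, _, ρ, F, G, D, s.π, ⟨s.surj, s.ker.le, s.perf ▸ le_top⟩,
    fun z hz => cen_of_center s.qs z.2.1 fun g hg =>
      congrArg Subtype.val (mem_center_iff.1 (s.ker.le hz) ⟨g, hg⟩),
    sc_cov s hS hn, fun l h1 h2 h3 h4 h5 => (hl l h1 h2 h3 h4 h5).imp_right fun h =>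
      ⟨h.1, ⟨s.qs, h1, h3, ⟨1, s.pi1, Nat.coprime_one_right l⟩, h.2.1⟩, h.2.2⟩⟩

theorem dt_of_sc {S : Type} [Group S] (s : KM.Sc D S) (hS : IsSimpleGroup S) (hn : ¬ IsMulCommutative S) {u : ℤ}
    (hl : ∀ l : ℕ, l.Prime → l ≠ 2 → l ≠ r → l ∣ Nat.card S → AbS l S →
      (IsPGroup l s.π.ker ∧ s.π.ker ≠ ⊥) ∨ (¬ l ∣ Nat.card s.π.ker ∧ KM.Tor.Lev D l ∧ Sca D u l)) : Dt r u S :=
  dt_of_scS s hS hn hl

end Dat

section Alg

open Cfsg.Agent.TwoF.DC Cfsg.Agent.KM.Dat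

variable {p : ℕ} [Fact p.Prime] {ι Φ k G : Type} [Fintype ι] [DecidableEq ι] [Fintype Φ] [DecidableEq Φ] [Field k]
  [IsAlgClosed k] [CharP k p] [Group G] {D : RDat p ι Φ k G} {P : Tws D} {N : Type} [Fintype N] [DecidableEq N]
  {ρ : G →* GL N k} (h : Alg P ρ)

theorem sca_alg {l n : ℕ} (hn : P.sι ^ n = 1) (hl : ¬ l ∣ n) : Sca h.dat ((p ^ P.f : ℕ) : ℤ) l := by
  refine ⟨(permMatrixHom P.sι : Matrix ι ι ℤ), n, ?_, ?_, hl⟩
  · refine Matrix.ext fun (i j : ι) => ?_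
    show (Pi.single (P.sι.symm i) ((p ^ P.f : ℕ) : ℤ) : ι → ℤ) j = ((p ^ P.f : ℕ) : ℤ) * (permMatrixHom P.sι : Matrix ι ι ℤ) i j
    rw [permMatrixHom_apply, Equiv.Perm.permMatrix, PEquiv.toMatrix_toPEquiv_apply, Pi.single_apply, Pi.single_apply]
    show _ = _ * if j = P.sι.symm i then 1 else 0
    split_ifs <;> simp
  · show (permMatrixHom P.sι : Matrix ι ι ℤ) ^ n = 1
    rw [← map_pow, hn, map_one]

theorem lev_alg {l : ℕ} (hl : KM.BD.LevR D.R l) : KM.Tor.Lev h.dat l := fun j u => by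
  obtain ⟨c, hc, v, hv⟩ := hl j u
  refine ⟨c, hc, v, fun a ha => ?_⟩
  obtain ⟨x, rfl⟩ := h.rt_iff.1 ha
  rw [h.dat_wt]
  exact hv x

include h in
/-- **`Dt` from an algebraic datum** -/
theorem dt_of_alg {S : Type} [Group S] (hS : IsSimpleGroup S) (hn : ¬ IsMulCommutative S) {π : P.TT →* S}
    (hπ : Function.Surjective π) (hc : π.ker ≤ center P.TT) {A : Type} [CommGroup A]
    (hA : HasSchurMultiplier S A) {d a : ℕ} (hd : Nat.card A ∣ d * p ^ a) (hd0 : 0 < d) (hd' : d ≤ Nat.card P.Zc)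
    (hl : ∀ l : ℕ, l.Prime → l ≠ 2 → l ≠ p → l ∣ Nat.card S → AbS l S → (∃ j, 0 < j ∧ Nat.card P.Zc = l ^ j) ∨
      (¬ l ∣ Nat.card P.Zc ∧ KM.BD.LevR D.R l ∧ ∃ n, P.sι ^ n = 1 ∧ ¬ l ∣ n)) : Dt p ((p ^ P.f : ℕ) : ℤ) S := by
  obtain ⟨s, hs⟩ := h.sc hS hn hπ hc hA hd hd0 hd'
  refine dt_of_scS s hS hn fun l h1 h2 h3 h4 h5 => (hl l h1 h2 h3 h4 h5).imp ?_ ?_
  · rintro ⟨j, h6, h7⟩
    refine ⟨IsPGroup.of_card (hs.trans h7), fun e => ?_⟩
    rw [e, card_bot, h7] at hs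
    exact (Nat.one_lt_pow h6.ne' h1.one_lt).ne hs
  · rintro ⟨h6, h7, n, h8, h9⟩
    exact ⟨hs ▸ h6, lev_alg h h7, sca_alg h h8 h9⟩

include h in
/-- the case of a multiplier of order dividing `d * p ^ a`, no odd prime other than `p` divides `d` -/
theorem dt_of_alg' {S : Type} [Group S] (hS : IsSimpleGroup S) (hn : ¬ IsMulCommutative S) {π : P.TT →* S}
    (hπ : Function.Surjective π) (hc : π.ker ≤ center P.TT) {A : Type} [CommGroup A]
    (hA : HasSchurMultiplier S A) {d a : ℕ} (hd : Nat.card A ∣ d * p ^ a) (hd0 : 0 < d) (hd' : d ≤ Nat.card P.Zc)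
    (hl : ∀ l : ℕ, l.Prime → l ≠ 2 → l ≠ p → l ∣ Nat.card S → AbS l S →
      ¬ l ∣ d ∧ KM.BD.LevR D.R l ∧ ∃ n, P.sι ^ n = 1 ∧ ¬ l ∣ n) : Dt p ((p ^ P.f : ℕ) : ℤ) S := by
  obtain ⟨s, -⟩ := h.sc hS hn hπ hc hA hd hd0 hd'
  refine dt_of_scS s hS hn fun l h1 h2 h3 h4 h5 => .inr ?_
  obtain ⟨h6, h7, n, h8, h9⟩ := hl l h1 h2 h3 h4 h5
  refine ⟨fun e => ?_, lev_alg h h7, sca_alg h h8 h9⟩
  rcases (h1.dvd_mul).1 (e.trans ((H95.StemCover.card_ker_dvd hA s.perf s.π s.surj s.ker.le).trans hd)) with e | e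
  · exact h6 e
  · exact h3 ((Nat.prime_dvd_prime_iff_eq h1 Fact.out).1 (h1.dvd_of_dvd_pow e))

end Alg

/-! ### transport -/

section Grp

variable {S T : Type} [Group S] [Group T]

theorem abS_congr {l : ℕ} (e : S ≃* T) (h : AbS l S) : AbS l T := fun P => by
  have h1 := h (P.comapOfInjective e.toMonoidHom e.injective (by rw [MonoidHom.range_eq_top.2 e.surjective]; exact le_top))
  refine ⟨⟨fun a b => Subtype.ext (e.symm.injective ?_)⟩⟩
  have h2 : ∀ a : (P : Subgroup T), e.symm a ∈ (P : Subgroup T).comap e.toMonoidHom := fun a => by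
    rw [mem_comap, MulEquiv.coe_toMonoidHom, e.apply_symm_apply]
    exact a.2
  rw [coe_mul, coe_mul, map_mul, map_mul]
  exact congrArg Subtype.val (h1.1.1 ⟨_, h2 a⟩ ⟨_, h2 b⟩)

theorem Dt_congr {r : ℕ} {u : ℤ} (e : S ≃* T) (h : Dt r u T) : Dt r u S := by
  obtain ⟨i1, k, i2, i3, i4, Y, i5, N, i6, i7, ρ, F, G, X, π, h1, h2, h3, h4⟩ := h
  have hk : (e.symm.toMonoidHom.comp π).ker = π.ker := by
    ext x
    rw [MonoidHom.mem_ker, MonoidHom.mem_ker, MonoidHom.comp_apply, MulEquiv.coe_toMonoidHom,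
      map_eq_one_iff _ e.symm.injective]
  refine ⟨i1, k, i2, i3, i4, Y, i5, N, i6, i7, ρ, F, G, X, e.symm.toMonoidHom.comp π,
    ⟨e.symm.surjective.comp h1.1, hk ▸ h1.2.1, hk ▸ h1.2.2⟩, hk ▸ h2, fun K _ _ σ hσ hr => ?_, fun l k1 k2 k3 k4 k5 => ?_⟩
  · have hk' : (e.toMonoidHom.comp σ).ker = σ.ker := by
      ext x
      rw [MonoidHom.mem_ker, MonoidHom.mem_ker, MonoidHom.comp_apply, MulEquiv.coe_toMonoidHom,
        map_eq_one_iff _ e.injective]
    obtain ⟨ψ, h5, h6⟩ := h3 K (e.toMonoidHom.comp σ) ⟨e.surjective.comp hσ.1, hk' ▸ hσ.2.1, hk' ▸ hσ.2.2⟩ (hk' ▸ hr)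
    exact ⟨ψ, h5, fun s => e.injective ((h6 s).trans (e.apply_symm_apply _).symm)⟩
  · rw [hk]
    exact h4 l k1 k2 k3 (Nat.card_congr e.toEquiv ▸ k4) (abS_congr e k5)

/-- commuting Sylow subgroups give the class size condition -/
theorem cond_of_comS [Finite S] {p q : ℕ} (hp : p.Prime) (hq : q.Prime) (h : Com p q S) : H630.NH.Cond {p, q} S := by
  have key : ∀ {p q : ℕ}, p.Prime → q.Prime → Com p q S → ∀ x : S, (∃ k : ℕ, orderOf x = p ^ k) →
      ¬ q ∣ (centralizer ({x} : Set S)).index := fun {p q} hp hq h x hx => by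
    have := Fact.mk hp
    have := Fact.mk hq
    obtain ⟨P, Q, h⟩ := h
    obtain ⟨j, hj⟩ := hx
    obtain ⟨P', hP'⟩ := (IsPGroup.of_card ((Nat.card_zpowers x).trans hj)).exists_le_sylow
    obtain ⟨g, rfl⟩ := MulAction.exists_smul_eq S P P'
    refine fun e => (g • Q).not_dvd_index (e.trans (index_dvd_of_le fun y hy => mem_centralizer_singleton_iff.2 ?_))
    have h1 := h _ (Subgroup.mem_pointwise_smul_iff_inv_smul_mem.1 (hP' (mem_zpowers x))) _
      (Subgroup.mem_pointwise_smul_iff_inv_smul_mem.1 hy)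
    rw [← smul_mul', ← smul_mul'] at h1
    exact (MulAction.injective _ h1).symm
  rintro a (rfl | rfl) b (rfl | rfl) hab
  exacts [absurd rfl hab, key hp hq h, key hq hp h.symm, absurd rfl hab]

theorem cond_of_com [Finite S] {p q : ℕ} (hp : p.Prime) (hq : q.Prime) (h : Com p q S) : H630.NH.Cond {p, q} S :=
  cond_of_comS hp hq h

end Grp

/-- equal parameters give equal orders -/
theorem ord_eq {F : Type} [Field F] [Fintype F] {p q : ℕ} (hp : H17.CR.Good F p) (hq : H17.CR.Good F q)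
    (h1 : H17.CR.dd F q = H17.CR.dd F p) (h2 : Row.ng F q = Row.ng F p) :
    orderOf (((Fintype.card F : ℕ) : ℤ) : ZMod p) = orderOf (((Fintype.card F : ℕ) : ℤ) : ZMod q) := by
  have o1 := (Row.ord_of hp).2.2
  have o2 := (Row.ord_of hq).2.2
  rw [h1, h2] at o2
  rw [Nat.card_eq_fintype_card] at o1 o2
  rw [Int.cast_natCast, Int.cast_natCast]
  split_ifs at o1 o2
  exacts [o1.trans o2.symm, o1.1.trans o2.1.symm]

end Cfsg.Agent.PQ.EA.Lr
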