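import Cfsg.Agent.PQ.EA.LrA0
import Cfsg.Agent.PQ.EA.LrS
import Cfsg.Agent.KM.A.Tor
import Cfsg.Agent.KZ.Dat.GlH
import Cfsg.Agent.LV.A.Grp
import Cfsg.Agent.H905.PCover
import Cfsg.Agent.H60.CrossA
import Cfsg.Agent.H61.PSUMult
import Cfsg.Agent.H722.HT.PslField
import Cfsg.Agent.H564.HT.PsuMon
import Cfsg.Agent.H259.NatMod
import Cfsg.Agent.S0248

/-!
# S4982: the row of the linear and unitary groups (helper4)

The boxes are applied to the data of `GL` and `GU`; the results go down to `SL` and `SU`.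
-/

set_option autoImplicit false
set_option linter.unusedSectionVars false

namespace Cfsg.Agent.PQ.EA

open Cfsg Subgroup Cfsg.Agent.LV Cfsg.Agent.LV.Blk Cfsg.Agent.DL Cfsg.Agent.KZ.Dat Matrix Cfsg.Agent.Nodes.RootsA
  Cfsg.Agent.ODD.C2 Cfsg.Agent.ODD.C2.GlA

attribute [local instance] finite_WA

namespace LrA

section Dat

variable {r : ℕ} [Fact r.Prime] {k : Type} [Field k] [CharP k r] {Y : Type} [Group Y] {N : Type} [Fintype N]
  [DecidableEq N] {ρ : Y →* GL N k} {F : MulAut Y} {G : Subgroup Y} [IsAlgClosed k]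

/-- equal centralisers -/
theorem same_both [Finite ↥(GF F G)] {p q : ℕ} (h1 : Same F G p q) (h2 : Same F G q p)
    (hA : AbS q ↥(GF F G)) : ∃ (P : Sylow p ↥(GF F G)) (Q : Sylow q ↥(GF F G)),
      centralizer ((P : Subgroup ↥(GF F G)) : Set ↥(GF F G)) = centralizer ((Q : Subgroup ↥(GF F G)) : Set ↥(GF F G)) := by
  have key : ∀ {A B : Subgroup ↥(GF F G)}, (∀ g ∈ G, (∀ a ∈ A, g * (a : Y) = a * g) ↔ ∀ a ∈ B, g * (a : Y) = a * g) →
      centralizer (A : Set ↥(GF F G)) = centralizer (B : Set ↥(GF F G)) := fun h => Subgroup.ext fun g =>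
    ⟨fun e a ha => Subtype.ext ((h g g.2.1).1 (fun b hb => congrArg Subtype.val (e b hb).symm) a ha).symm,
      fun e a ha => Subtype.ext ((h g g.2.1).2 (fun b hb => congrArg Subtype.val (e b hb).symm) a ha).symm⟩
  obtain ⟨P⟩ : Nonempty (Sylow p ↥(GF F G)) := inferInstance
  obtain ⟨A, h3, h4⟩ := h1 P P.2
  obtain ⟨Q, hQ⟩ := h3.exists_le_sylow
  obtain ⟨B, h5, h6⟩ := h2 Q Q.2
  have h7 : (Q : Subgroup ↥(GF F G)) ≤ centralizer ((P : Subgroup ↥(GF F G)) : Set ↥(GF F G)) := key h4 ▸ fun x hx a ha =>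
    congrArg Subtype.val ((hA Q).is_comm.comm ⟨a, hQ ha⟩ ⟨x, hx⟩)
  have h8 : B ≤ centralizer ((P : Subgroup ↥(GF F G)) : Set ↥(GF F G)) := le_centralizer_iff.1 (key h6 ▸ le_centralizer_iff.1 h7)
  have h9 : B ≤ P := by
    rw [← inf_eq_left, ← h5.inf_normalizer_sylow P, inf_eq_left]
    exact h8.trans (centralizer_le_normalizer _)
  refine ⟨P, Q, le_antisymm ?_ ?_⟩
  · rw [key h6]
    exact centralizer_le h9
  · rw [key h4]
    exact centralizer_le hQ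

/-- **the group form from a datum of a larger group** -/
theorem gdo_of (hW : BoxWit) (hS : BoxSame) (X : Datum r ρ F G) (u : ℤ) {H S : Type} [Group H] [Finite H] [Group S]
    (j : H →* ↥(GF F G)) (π : H →* S) (hπ : Function.Surjective π) (hc : π.ker ≤ center H) (hT : commutator H = ⊤)
    (hN : ∀ l : ℕ, l.Prime → l ≠ r → H67.NoPCov l H) (hz : ∀ z ∈ π.ker, ∀ g ∈ G, g * (j z : Y) = j z * g)
    (ha : ∀ l : ℕ, l.Prime → l ≠ 2 → l ≠ r → AbS l S → l ∣ Nat.card π.ker → Nat.card π.ker = l)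
    (hE : ∀ l : ℕ, l.Prime → ¬ l ∣ Nat.card π.ker → Env j l)
    (hG : ∀ l : ℕ, l.Prime → l ≠ 2 → l ≠ r → Gd X l ∧ Sca X u l)
    (hO : ∀ p q : ℕ, Pair p q S → p ≠ r → q ≠ r → orderOf (u : ZMod p) = orderOf (u : ZMod q)) : GDo r π := by
  have := X.amb.finite_GF G
  have hok : ∀ l : ℕ, l.Prime → l ≠ 2 → l ≠ r → ¬ l ∣ Nat.card π.ker → AbS l S → Ok X u l := fun l h1 h2 h3 h4 h5 =>
    have := Fact.mk h1
    ⟨(hG l h1 h2 h3).1, h2, (hG l h1 h2 h3).2, (hE l h1 h4).abS (A.abS_of_ker π h4 h5)⟩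
  refine ⟨⟨hπ, hc, hT ▸ le_top⟩, fun K _ _ σ hσ hr => ?_, fun l h1 h2 h3 _ h5 => ?_,
    fun c o h1 h2 h3 h4 h5 _ h7 h8 h9 hA hP lam => ?_, fun p q h _ h1 h2 h3 h4 => ?_⟩
  · have h1 : (commutator K).map σ = ⊤ := by
      rw [commutator_def, Subgroup.map_commutator, map_top_of_surjective σ hσ.1, ← map_top_of_surjective π hπ,
        ← Subgroup.map_commutator, ← commutator_def, hT]
    have h2 : commutator K = ⊤ := by
      rw [← sup_eq_left.2 hσ.2.2, ← comap_map_eq, h1, comap_top]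
    obtain ⟨ψ, h3, h4⟩ := H905.PCover.exists_hom_of_noPCov hT hN hπ hc h2 hσ.1 hσ.2.1 Fact.out
      ((Nat.Prime.coprime_iff_not_dvd Fact.out).2 hr).symm
    exact ⟨ψ, h3, fun s => DFunLike.congr_fun h4 s⟩
  · by_cases e : l ∣ Nat.card π.ker
    · have h6 := ha l h1 h2 h3 h5 e
      refine .inl ⟨IsPGroup.of_card (h6.trans (pow_one l).symm), fun h7 => h1.ne_one ?_⟩
      rw [← h6, h7, card_bot]
    · exact .inr e
  · have hc' := hE c h1 h8
    have ho := hE o h2 h9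
    let e := π.ker.equivMapOfInjective j ho.inj
    obtain ⟨χ, k1, k2, k3⟩ := hW X u c o (hok c h1 h3 h4 h8 h7) h2 h5 (hc'.act ho hA) (ho.px hP) (π.ker.map j)
      (by
        rintro _ ⟨z, k, rfl⟩
        exact hz z k) (by rwa [card_map_of_injective ho.inj]) (lam.comp e.symm.toMonoidHom)
    obtain ⟨θ, k4, k5, k6⟩ := ho.wit χ
    refine ⟨θ, fun z => k6 z _ (mem_center_iff.2 fun g => Subtype.ext (hz z z.2 g g.2.1)) ?_, fun k7 => k2 (k7.trans k4),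
      k5 k3⟩
    have k8 := k1 (e z)
    rwa [MonoidHom.comp_apply, MulEquiv.coe_toMonoidHom, e.symm_apply_apply] at k8
  · have k1 := hok p h.pp h.p2 h1 h3 h.abp
    have k2 := hok q h.pq h.q2 h2 h4 h.abq
    obtain ⟨P, Q, e⟩ := same_both (hS X u p q k1 k2 (hO p q h h1 h2)) (hS X u q p k2 k1 (hO p q h h1 h2).symm) k2.ab
    obtain ⟨P', hP⟩ := (hE p h.pp h3).syl P
    obtain ⟨Q', hQ⟩ := (hE q h.pq h4).syl Q
    exact ⟨P', Q', by rw [hP, hQ, e]⟩

end Dat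

section A

variable {n p : ℕ} [Fact p.Prime] {k : Type} [Field k] [CharP k p] [IsAlgClosed k] {e : ℕ}
  (hk : ∀ a : k, ∃ j, 0 < j ∧ a ^ p ^ j = a) (he : 0 < e)
  {α : MulAut (GL (Fin (n + 1)) k)} {g : (Fin n → ℤ) → Fin n → ℤ} {B : Matrix (Fin (n + 1)) (Fin (n + 1)) ℤ}
  (Sy0 : (smA n).Sy (csA n) (isCartan n) α g B)

/-- **the group form for the elements of determinant one** -/
theorem gd_det (hW : BoxWit) (hS : BoxSame) (qs : (datA hk he Sy0).QS) (u : ℤ) {γ : Matrix (Fin (n + 1)) (Fin (n + 1)) ℤ}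
    (hγ : (datA hk he Sy0).Mx = u • γ) (hγ2 : γ ^ 2 = 1) {St S : Type} [Group St] [Finite St] [Group S] [Finite S]
    (ι : St →* GL (Fin (n + 1)) k) (inj : Function.Injective ι)
    (mem : ∀ y, y ∈ ι.range ↔ y ∈ GF (α * frP _ p k e) (GA n k) ∧ GeneralLinearGroup.det y = 1)
    (cen : ∀ s ∈ center St, ∃ a : kˣ, ι s = (mnA n).τ k (coch 1 a)) {m : ℕ}
    (h1 : ∀ y ∈ GF (α * frP _ p k e) (GA n k), GeneralLinearGroup.det y ^ m = 1)
    (h2 : ∀ d : kˣ, d ^ m = 1 → ((smA n).τ k fun _ => d) ∈ GF (α * frP _ p k e) (GA n k))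
    (hm : Nat.card (center St) = Nat.gcd (n + 1) m) (hT : commutator St = ⊤)
    (hN : ∀ l : ℕ, l.Prime → l ≠ p → H67.NoPCov l St) (hn : A.Num p u (n + 1) St)
    (h3 : ∀ l : ℕ, l.Prime → l ≠ 2 → l ∣ n + 1 → l ∣ m → H37.HT.AbSyl l (St ⧸ center St) → n + 1 = 3 ∧ l = 3)
    (ε : S ≃* St ⧸ center St) : GD p S := by
  have := (datA hk he Sy0).amb.finite_GF (GA n k)
  let j : St →* ↥(GF (α * frP _ p k e) (GA n k)) := ι.codRestrict _ fun s => ((mem _).1 ⟨s, rfl⟩).1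
  let π : St →* S := ε.symm.toMonoidHom.comp (QuotientGroup.mk' _)
  have hπ : π.ker = center St := by
    rw [← MonoidHom.comap_ker, (MonoidHom.ker_eq_bot_iff _).2 ε.symm.injective, MonoidHom.comap_bot, QuotientGroup.ker_mk']
  have hj : ∀ y, y ∈ j.range ↔ GeneralLinearGroup.det (y : GL (Fin (n + 1)) k) = 1 := fun y =>
    ⟨fun ⟨s, hs⟩ => ((mem _).1 ⟨s, congrArg Subtype.val hs⟩).2, fun h => let ⟨s, hs⟩ := (mem _).2 ⟨y.2, h⟩; ⟨s, Subtype.ext hs⟩⟩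
  have hnor : j.range.Normal := ⟨fun a ha y => (hj _).2 (by
    rw [coe_mul, coe_mul, coe_inv, map_mul, map_mul, map_inv, (hj a).1 ha, mul_one, mul_inv_cancel])⟩
  refine ⟨St, inferInstance, inferInstance, π, gdo_of hW hS (datA hk he Sy0) u j π
    (ε.symm.surjective.comp (QuotientGroup.mk'_surjective _)) hπ.le hT hN (fun z hz y _ => ?_) (fun l k1 k2 _ k4 k5 => ?_)
    (fun l k1 k2 => ⟨k1, fun a b h => inj (congrArg Subtype.val h), hnor, fun k3 => k2 ?_⟩)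
    (fun l k1 k2 k3 => ⟨⟨qs, k1, k3, ⟨1, KM.A.pi1_A hk he Sy0, Nat.coprime_one_right l⟩, KM.A.lev_A hk he Sy0 l⟩,
      γ, 2, hγ, hγ2, fun h => k2 ((Nat.prime_dvd_prime_iff_eq k1 Nat.prime_two).1 h)⟩) fun a b h k1 k2 => ?_⟩
  · obtain ⟨a, ha⟩ := cen z (hπ ▸ hz)
    show y * ι z = ι z * y
    rw [ha, τ_scalar_comm]
  · rw [hπ, hm] at k5 ⊢
    obtain ⟨k6, rfl⟩ := h3 l k1 k2 (k5.trans (Nat.gcd_dvd_left _ _)) (k5.trans (Nat.gcd_dvd_right _ _)) fun P x hx y hy =>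
      congrArg Subtype.val ((Lr.abS_congr ε k4 P).is_comm.comm ⟨x, hx⟩ ⟨y, hy⟩)
    exact Nat.dvd_antisymm ((Nat.gcd_dvd_left _ _).trans k6.dvd) k5
  · have := Fact.mk k1
    obtain ⟨x, hx⟩ := exists_prime_orderOf_dvd_card' l (G := _ ⧸ (j.range ⊔ center _)) k3
    obtain ⟨y, rfl⟩ := QuotientGroup.mk_surjective x
    rw [hπ, hm, ← hx]
    refine Nat.dvd_gcd (orderOf_dvd_of_pow_eq_one ?_) (orderOf_dvd_of_pow_eq_one ?_) <;>
      rw [← QuotientGroup.mk_pow, QuotientGroup.eq_one_iff]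
    · let z : ↥(GF (α * frP _ p k e) (GA n k)) := ⟨_, h2 _ (h1 y y.2)⟩
      rw [← inv_mul_cancel_right (y ^ (n + 1)) z]
      refine mul_mem_sup ((hj _).2 ?_) (mem_center_iff.2 fun x => Subtype.ext ((cen_iff _).2 ⟨_, rfl⟩ _ x.2.1))
      rw [coe_mul, coe_inv, coe_pow, map_mul, map_inv, map_pow, mul_inv_eq_one]
      exact ((datA_det hk he Sy0 _).trans (by rw [Finset.prod_const, Finset.card_univ, Fintype.card_fin])).symm
    · exact mem_sup_left ((hj _).2 (by rw [coe_pow, map_pow, h1 y y.2]))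
  · exact (hn.quot h.pp h.p2 k1 h.pq h.q2 k2 h.ne (Nat.card_congr ε.toEquiv ▸ h.dp) (Nat.card_congr ε.toEquiv ▸ h.dq)
      ((Lr.cond_of_com h.pp h.pq h.com).congr ε)).1

end A

theorem gd_psl (hW : BoxWit) (hS : BoxSame) : AllC (fun r S _ => IsPSLChar r S) GD := by
  rintro r S _ _ - - hr ⟨F, _, _, _, n, hn, h4, ⟨ε⟩⟩
  obtain ⟨n, rfl⟩ : ∃ m, n = m + 1 := ⟨n - 1, by omega⟩
  obtain ⟨p, _, e, k, _, _, _, f, hk, he, hF⟩ := hasL F
  obtain rfl : p = r := CharP.eq k inferInstance ((f.charP_iff_charP r).1 inferInstance)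
  have h0 : p ^ e - 1 + 1 = p ^ e := Nat.sub_add_cancel (Nat.one_le_pow _ _ hr.pos)
  refine gd_det hk he (smA n).sy_one hW hS (datL_qs n hk he) (Fintype.card F) (γ := 1) (by rw [hF, Nat.cast_pow]; rfl)
    (one_pow 2) (ιL n f) (ιL_inj f) (mem_ιL f hF) (fun _ => center_ιL f) (m := p ^ e - 1) (fun y hy => ?_)
    (fun d hd => τ_mem_GFL.2 (funext fun _ => ?_)) (hF ▸ A.card_center_SL n.succ_pos) ?_
    (fun l hl hne => H60.CrossA.noPCov_SL_cross n p hl hne) (A.num_SL p _) (fun l h1 h2 h3 h5 h6 => ?_) ε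
  · exact mul_right_cancel ((pow_succ _ _).symm.trans (by rw [h0, det_GFL hy, one_mul]))
  · rw [Pi.pow_apply, ← h0, pow_succ, hd, one_mul]
  · rcases hn.eq_or_lt with h | h
    · obtain rfl : n = 1 := by omega
      exact H259.NatMod.commutator_eq_top (h4 rfl)
    · exact S0248.result _ h
  · have := Fact.mk h1
    exact (H722.HT.three_of_ab h2 hn h3 (hF ▸ h5) h6).imp_right And.left

theorem gd_psu (hW : BoxWit) (hS : BoxSame) : AllC (fun r S _ => IsPSUChar r S) GD := by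
  rintro r S _ _ - - hr ⟨F, _, _, _, n, q, hq, hn, h4, ⟨ε⟩⟩
  obtain ⟨n, rfl⟩ : ∃ m, n = m + 1 := ⟨n - 1, by omega⟩
  obtain ⟨p, _, e, k, _, _, _, f, hk, he, rfl⟩ := hasU F hq
  obtain rfl : p = r := CharP.eq k inferInstance ((f.charP_iff_charP r).1 inferInstance)
  refine gd_det hk he syG hW hS (datU_qs n hk he) (-(p ^ e : ℕ)) Mx_U (by rw [sq, ← neg_mul_neg, ← BA_eq, BA_BA])
    (ιU (lz n hk he) f (p ^ e)) (ιU_inj _ f _) (mem_ιU f hk he hq) (fun _ => center_ιU _ f hq (by omega)) (m := p ^ e + 1)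
    (fun y hy => det_GFU hy) (fun d hd => τ_mem_GFU.2 fun _ => inv_eq_of_mul_eq_one_right ((pow_succ _ _).symm.trans hd))
    (S0280.card_center hq _ (by omega)) (LieClassical.HermPerfect.commutator_SU_eq_top hq hn h4)
    (fun l hl hne => H61.PSUMult.noPCov_cross hq hn hr hl hne) (A.num_SU hq p _) (fun l h1 h2 h3 h5 h6 => ?_) ε
  have := Fact.mk h1
  exact (H564.HT.three_of_ab h2 hq hn h3 h5 h6).imp_right And.left

end LrA

/-- **the row of the linear and unitary groups** -/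
theorem gdA_of (hW : BoxWit) (hS : BoxSame) : AllC SS.ClA GD := fun r S _ _ hs hn hr h =>
  h.elim (LrA.gd_psl hW hS r S hs hn hr) (LrA.gd_psu hW hS r S hs hn hr)

end Cfsg.Agent.PQ.EA
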