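import Cfsg.Agent.PQ.EA.Defs2
import Cfsg.Agent.KZ.Lie.McTor
import Cfsg.Agent.KZ.Lie.ApiB
import Cfsg.Agent.KZ.Lie.Desc
import Cfsg.Agent.LV.Blk.Gen
import Cfsg.Agent.Blocks.CentralizerSum

/-!
# S4982: the witness over a central character (helper83)
-/

set_option autoImplicit false
set_option linter.unusedSectionVars false

namespace Cfsg.Agent.PQ.EA

open Cfsg Subgroup Cfsg.Agent.LV Cfsg.Agent.DL Cfsg.Agent.KZ.Lie Cfsg.Agent.DL.PP Cfsg.Agent.DL.Uni Cfsg.Agent.DL.Asm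
  Cfsg.Agent.Nodes.Reps Cfsg.Agent.Characters.Core Cfsg.Agent.Blocks
open scoped ComplexConjugate

namespace Wit

section Grp

variable {H : Type} [Group H] [Fintype H] {ρ : H → ℂ} {c : ℕ}

/-- a constituent of degree prime to `c` -/
theorem exists_deg (hρ : IsGeneralizedCharacter H ρ) (h : ∀ n : ℤ, ρ 1 = n → ¬ (c : ℤ) ∣ n) :
    ∃ χ : IrrCharacter H, classInner ρ (χ : H → ℂ) ≠ 0 ∧ ¬ c ∣ dg χ := by
  have := @Fintype.ofFinite _ (finite_irr (G := H))
  choose m hm using fun χ : IrrCharacter H => Blk.inner_int hρ (gen_of_char (isIrr_isCharacter χ.2))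
  by_contra hn
  push Not at hn
  refine h (∑ χ : IrrCharacter H, m χ * dg χ) ?_ (Finset.dvd_sum fun χ _ => ?_)
  · rw [congrFun (classFunction_eq_sum (Blk.gen_cls hρ)) 1, Finset.sum_apply, Int.cast_sum]
    exact Finset.sum_congr rfl fun χ _ => by
      rw [Pi.smul_apply, hm, Basic.irr_one_eq_charDegree χ.2, smul_eq_mul, Int.cast_mul, Int.cast_natCast]
  · by_cases h3 : m χ = 0
    · rw [h3, zero_mul]
      exact dvd_zero _
    · exact (Int.natCast_dvd_natCast.2 (hn χ (by rwa [hm, Int.cast_ne_zero]))).mul_left _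

/-- constituents have the same central scalars -/
theorem scalar {η : H → ℂ} (hη : IsIrrCharacter H η) {z : H} (hz : z ∈ center H) {a : ℂ} (h : ∀ g, ρ (z * g) = a * ρ g)
    (h0 : classInner ρ η ≠ 0) : η z = a * η 1 := by
  obtain ⟨ω, h1, hω⟩ := CentralizerSum.exists_central_scalar hη hz
  have h2 : ∑ g, ρ g * conj (η g) = a * conj ω * ∑ g, ρ g * conj (η g) := by
    rw [Finset.mul_sum, ← Equiv.sum_comp (Equiv.mulLeft z)]
    refine Finset.sum_congr rfl fun g _ => ?_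
    rw [Equiv.coe_mulLeft, h, hω, map_mul]
    ring
  have h3 := (mul_eq_right₀ fun h3 => h0 (by rw [classInner_def, h3, mul_zero])).1 h2.symm
  rw [← mul_one z, hω, show ω = a by linear_combination ω * h3.symm + a * h1]

/-- a common extension to an abelian group -/
theorem exists_ext {Y : Type} [Group Y] {T : Subgroup Y} [Finite T] (hT : ∀ a ∈ T, ∀ b ∈ T, a * b = b * a) {A B : Type}
    [Group A] [Group B] (i : A →* T) (j : B →* T) (h : ∀ a b, i a * j b = 1 → a = 1 ∧ b = 1) (ω : A →* ℂˣ)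
    (l : B →* ℂˣ) : ∃ θ : T →* ℂˣ, (∀ a, θ (i a) = ω a) ∧ ∀ b, θ (j b) = l b := by
  let _ : CommGroup T := { (inferInstance : Group T) with mul_comm := fun a b => Subtype.ext (hT a a.2 b b.2) }
  have : NeZero ((Monoid.exponent T : ℕ) : ℂ) := ⟨Nat.cast_ne_zero.2 Monoid.exponent_ne_zero_of_finite⟩
  have hf : Function.Injective (i.coprod j) := (injective_iff_map_eq_one _).2 fun x e => Prod.ext (h _ _ e).1 (h _ _ e).2
  obtain ⟨m, hm⟩ := MonoidHom.domRestrict_surjective (G := T) ℂ (i.coprod j).range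
    ((ω.coprod l).comp (MonoidHom.ofInjective hf).symm.toMonoidHom)
  have h1 : ∀ x, m (i.coprod j x) = ω.coprod l x := fun x =>
    (DFunLike.congr_fun hm ⟨_, x, rfl⟩).trans (congrArg (ω.coprod l) ((MonoidHom.ofInjective hf).symm_apply_eq.2 rfl))
  exact ⟨m, fun a => by simpa using h1 (a, 1), fun b => by simpa using h1 (1, b)⟩

/-- the class size of an element of an abelian subgroup with a large normaliser -/
theorem not_dvd_cls {o : ℕ} (ho : o.Prime) (hc : c.Prime) (hA : Act c o H) {T : Subgroup H}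
    (hT : ∀ a ∈ T, ∀ b ∈ T, a * b = b * a) (hi : ¬ o ∣ (normalizer (T : Set H)).index) {x : H} (hx : x ∈ T) {j : ℕ}
    (hj : x ^ c ^ j = 1) : ¬ o ∣ SS.cls x := fun h => by
  have := Fact.mk ho
  have := Fact.mk hc
  let A : Subgroup H :=
    { carrier := {a | a ∈ T ∧ a ^ c ^ j = 1}
      one_mem' := ⟨one_mem _, one_pow _⟩
      mul_mem' := fun {a b} ha hb => ⟨mul_mem ha.1 hb.1, by
        rw [(show Commute a b from hT a ha.1 b hb.1).mul_pow, ha.2, hb.2, one_mul]⟩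
      inv_mem' := fun {a} ha => ⟨inv_mem ha.1, by rw [inv_pow, ha.2, inv_one]⟩ }
  obtain ⟨O⟩ : Nonempty (Sylow o (normalizer (T : Set H))) := inferInstance
  have h1 : (O : Subgroup _).map (normalizer (T : Set H)).subtype ≤ centralizer {x} := by
    rintro _ ⟨b, hb, rfl⟩ _ rfl
    obtain ⟨i, hi⟩ := IsPGroup.iff_orderOf.1 O.2 ⟨b, hb⟩
    refine hA A (fun a => ⟨j, Subtype.ext a.2.2⟩) b ⟨i, by rwa [orderOf_coe, ← orderOf_mk b hb]⟩
      (mem_normalizer_iff.2 fun a => and_congr (mem_normalizer_iff.1 b.2 a) ?_) _ ⟨hx, hj⟩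
    rw [conj_pow, conj_eq_one_iff]
  have h2 := h.trans (index_dvd_of_le h1)
  rw [index_map_subtype] at h2
  exact (ho.dvd_mul.1 h2).elim O.not_dvd_index hi

theorem cls_conj (g x : H) : SS.cls (g * x * g⁻¹) = SS.cls x := by
  rw [SS.cls, SS.cls, ← index_comap_of_surjective _ (f := (MulAut.conj g).toMonoidHom) (MulAut.conj g).surjective]
  congr 1
  ext y
  rw [mem_comap, mem_centralizer_singleton_iff, mem_centralizer_singleton_iff]
  exact (MulAut.conj g).injective.eq_iff.symm.trans (by rw [map_mul, map_mul]; rfl) |>.symm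

end Grp

variable {r : ℕ} [Fact r.Prime] {k : Type} [Field k] [CharP k r] {Y : Type} [Group Y] {N : Type} [Fintype N]
  [DecidableEq N] {ρ : Y →* GL N k} {F : MulAut Y} {G : Subgroup Y} [IsAlgClosed k] {X : Datum r ρ F G} {c : ℕ}

/-- an abelian Sylow subgroup in a torus -/
theorem exists_syl [Finite ↥(GF F G)] (h : Gd X c) (ha : AbS c ↥(GF F G)) :
    ∃ (w : X.W) (P : Sylow c ↥(GF F G)), ∀ a ∈ (P : Subgroup ↥(GF F G)), (a : Y) ∈ KZ.Lie.Tw X w := by
  have := Fact.mk h.pr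
  obtain ⟨P⟩ : Nonempty (Sylow c ↥(GF F G)) := inferInstance
  obtain ⟨f, h1, h2⟩ := h.pi1
  obtain ⟨y, hy, hN, h3⟩ := KM.Tor.toral h1 h.pr h.ne h2 h.lev P.2 (ha P)
  obtain ⟨g, hg, e⟩ := conj_of_tc hy (X.rp_pr hN) (yw_mem X _) (yw_rp X _) (tc_one _)
  refine ⟨X.pr (y⁻¹ * F y), (⟨g, hg⟩ : GF F G) • P, fun a ha => ?_⟩
  rw [Sylow.coe_subgroup_smul, mem_pointwise_smul_iff_inv_smul_mem] at ha
  rw [KZ.Lie.Tw, e, mem_cj]
  exact KM.Ht.Z0_le_T (X.conj hy hN) _ (h3 ⟨_, ha, by simp⟩)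

end Wit

open Wit

/-- **[WIT]** -/
theorem boxWit_of (hP : BoxPdj) (hD : BoxDg) (hM : BoxPerm) : BoxWit := by
  intro r _ k _ _ Y _ N _ _ ρ F G _ X u c o ok ho hor hA ⟨x₀, ⟨j, hj⟩, hx⟩ Z hZ hZc lam
  obtain ⟨f⟩ := nonempty_fr X
  have := (sys' X).finH
  let _ := Fintype.ofFinite ↥(GF F G)
  have := Fact.mk ok.gd.pr
  obtain ⟨w₀, P, hT⟩ := exists_syl ok.gd ok.ab
  obtain ⟨x, hxP, hxj, hxo⟩ : ∃ x ∈ (P : Subgroup ↥(GF F G)), x ^ c ^ j = 1 ∧ o ∣ SS.cls x := by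
    obtain ⟨Q, hQ⟩ := (show IsPGroup c (zpowers x₀) from IsPGroup.of_card (n := (Nat.card (zpowers x₀)).factorization c) (by
      obtain ⟨i, -, hi⟩ := (Nat.dvd_prime_pow ok.gd.pr).1 (orderOf_dvd_of_pow_eq_one hj)
      rw [Nat.card_zpowers, hi, ok.gd.pr.factorization_pow, Finsupp.single_eq_same])).exists_le_sylow
    obtain ⟨g, rfl⟩ := MulAction.exists_smul_eq ↥(GF F G) Q P
    exact ⟨g * x₀ * g⁻¹, smul_mem_pointwise_smul _ (MulAut.conj g) _ (hQ (mem_zpowers x₀)),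
      by rw [conj_pow, hj, mul_one, mul_inv_cancel], by rwa [cls_conj]⟩
  obtain ⟨ω, hω⟩ := hM _ c ok.gd.pr P (ok.ab P) x hxP
  have hZT : ∀ z ∈ Z, (z : Y) ∈ KZ.Lie.Tw X w₀ ⊓ GF F G := fun z hz =>
    ⟨central_mem z.2.1 (hZ z hz) (yw_mem X w₀), z.2⟩
  have := (sys' X).finT (KZ.Lie.Tw X w₀)
  let i : (P : Subgroup ↥(GF F G)) →* ↥(KZ.Lie.Tw X w₀ ⊓ GF F G) :=
    ((GF F G).subtype.comp (P : Subgroup ↥(GF F G)).subtype).codRestrict _ fun a => ⟨hT a a.2, a.1.2⟩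
  obtain ⟨θ, hθ, hθ'⟩ := exists_ext ((sys' X).comm _ (Tw_mem w₀)) i
    (((GF F G).subtype.comp Z.subtype).codRestrict _ fun z => hZT z z.2) (fun a b e => by
      have e1 : (a : GF F G) * b = 1 := Subtype.ext (congrArg Subtype.val e :)
      obtain ⟨n, hn⟩ := P.2 a
      have e2 : b = 1 := by
        have e3 : b ^ c ^ n = 1 := Subtype.ext (by
          rw [Subgroup.coe_pow, eq_inv_of_mul_eq_one_right e1, inv_pow, ← Subgroup.coe_pow, hn]; simp)
        have e4 := pow_gcd_eq_one.2 ⟨e3, pow_card_eq_one'⟩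
        rwa [((ok.gd.pr.coprime_iff_not_dvd.2 hZc).pow_left n).gcd_eq_one, pow_one] at e4
      exact ⟨Subtype.ext (by simpa [e2] using e1), e2⟩) ω lam
  obtain ⟨c₀, hc⟩ := exists_lab f.L f.hζ (yw_mem X w₀) (yw_rp X w₀) (isLin_lin θ)
  have hF := hc.fx f.L f.hζ (yw_mem X w₀) (yw_rp X w₀)
  have hth : ∀ t (ht : t ∈ KZ.Lie.Tw X w₀ ⊓ GF F G), th f w₀ c₀ t = θ ⟨t, ht⟩ := fun t ht => by
    rw [th_ext hF hc t ht, lin_apply θ ht]
  obtain ⟨χ, h1, h2⟩ := exists_deg (c := c) (RW_gen f w₀ c₀) fun n hn hd => by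
    have e1 := RW_deg f ok.gd.qs hF
    have e2 : n.natAbs * ordT X w₀ = pc' r (GF F G) := by
      rw [hn] at e1
      rcases sg_sign X w₀ with e | e <;> rw [e] at e1
      · have e3 : n * ordT X w₀ = pc' r (GF F G) := by exact_mod_cast e1.trans (one_mul _)
        simpa [Int.natAbs_mul] using congrArg Int.natAbs e3
      · have e3 : n * ordT X w₀ = -pc' r (GF F G) := by exact_mod_cast e1.trans (neg_one_mul _)
        simpa [Int.natAbs_mul] using congrArg Int.natAbs e3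
    have e3 : c * Nat.card (P : Subgroup ↥(GF F G)) ∣ Nat.card ↥(GF F G) := by
      refine (mul_dvd_mul (Int.natCast_dvd.1 hd) (card_Tw (D := X) w₀ ▸ card_dvd_of_injective i fun a b e =>
        Subtype.ext (Subtype.ext (congrArg Subtype.val e :)))).trans ?_
      rw [e2, ← pc_mul_pc' r]
      exact dvd_mul_left _ _
    rw [← (P : Subgroup ↥(GF F G)).index_mul_card] at e3
    exact P.not_dvd_index (Nat.dvd_of_mul_dvd_mul_right Nat.card_pos e3)
  have h3 : classInner (χ : GF F G → ℂ) (RW f w₀ c₀) ≠ 0 := by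
    rwa [← classInner_conj_symm, map_ne_zero]
  refine ⟨χ, fun z => ?_, h2, by_contra fun h4 => ?_⟩
  · rw [← hθ' z]
    exact scalar χ.2 (mem_center_iff.2 fun g => Subtype.ext (hZ z z.2 g g.2.1)) (fun g => by
      rw [RW_apply, Subgroup.coe_mul, R_central (hZT z z.2) (hZ z z.2) (th_spec f hF).1 g.2.1, hth _ (hZT z z.2)]
      rfl) h1
  · obtain ⟨w, c₁, h5, h6⟩ := hD f ok.gd.qs χ o ho hor h4
    obtain ⟨g, hg⟩ := hP f u c ok χ w₀ w c₀ c₁ P hT h3 h5 x hxP fun n hn e => hω n hn fun a b e' => Units.ext (by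
      have e1 := e a a.2
      rw [show (n : Y) * a * (n : Y)⁻¹ = b from (congrArg Subtype.val e').symm] at e1
      rw [← hθ, ← hθ]
      exact (hth _ (i b).2).symm.trans (e1.trans (hth _ (i a).2)))
    exact not_dvd_cls ho ok.gd.pr hA (fun a ha b hb => Subtype.ext ((sys' X).comm _ (Tw_mem w) _ ⟨ha, a.2⟩ _ ⟨hb, b.2⟩))
      h6 (x := g * x * g⁻¹) hg (j := j) (by rw [conj_pow, hxj, mul_one, mul_inv_cancel]) (by rwa [cls_conj])

end Cfsg.Agent.PQ.EA
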