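import Cfsg.Agent.PQ.EA.GD
import Cfsg.Agent.PQ.EA.Wit
import Cfsg.Agent.PQ.SS.Fm
import Cfsg.Agent.KZ.Tool.Res
import Cfsg.Agent.H691.Back
import Cfsg.Agent.Transfer.FrobeniusFusion
import Cfsg.Agent.S0887

/-!
# S4982, type `A`: from a group `Γ` to a normal subgroup `H` with `Γ / H Z(Γ)` of order prime to `l` (helper4)
-/

set_option autoImplicit false
set_option linter.unusedSectionVars false

namespace Cfsg.Agent.PQ.EA.LrA

open Cfsg Subgroup Cfsg.Agent.LV Cfsg.Agent.LV.Blk Cfsg.Agent.Characters.Core Cfsg.Agent.Blocks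

variable {H Γ : Type} [Group H] [Group Γ] [Finite Γ] {j : H →* Γ} {l c o : ℕ}

variable (j l) in
/-- the index of `H Z(Γ)` is prime to `l` -/
structure Env : Prop where
  pr : l.Prime
  inj : Function.Injective j
  nor : j.range.Normal
  idx : ¬ l ∣ (j.range ⊔ center Γ).index

theorem cm {z : Γ} (hz : z ∈ center Γ) (g : Γ) : Commute g z := mem_center_iff.1 hz g

theorem isL_pg {x : Γ} (h : IsL l x) : IsPGroup l (zpowers x) := by
  rintro ⟨_, m, rfl⟩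
  obtain ⟨i, hi⟩ := h
  refine ⟨i, Subtype.ext ?_⟩
  show (x ^ m) ^ l ^ i = 1
  rw [← zpow_natCast, ← zpow_mul, mul_comm, zpow_mul, zpow_natCast, hi, one_zpow]

theorem isL_of_mem {P : Subgroup Γ} (hP : IsPGroup l P) {x : Γ} (hx : x ∈ P) : IsL l x :=
  (hP ⟨x, hx⟩).imp fun _ h => congrArg Subtype.val h

/-- central `l`-elements lie in the Sylow subgroups -/
theorem cen_mem (P : Sylow l Γ) {z : Γ} (hz : z ∈ center Γ) (h : IsL l z) : z ∈ (P : Subgroup Γ) := by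
  have : (zpowers z).Normal := ⟨fun n hn g => by
    rwa [(cm (zpowers_le.2 hz hn) g).eq, mul_inv_cancel_right]⟩
  exact (isL_pg h).le_sylow_of_normal P (mem_zpowers z)

/-- the decomposition of an `l`-element -/
theorem Env.dec (h : Env j l) {x : Γ} (hx : IsL l x) : ∃ a, ∃ z ∈ center Γ, IsL l a ∧ IsL l z ∧ x = j a * z := by
  have := h.nor
  obtain ⟨i, hi⟩ := hx
  have h1 : x ∈ j.range ⊔ center Γ := by
    rw [← QuotientGroup.eq_one_iff]
    refine (pow_eq_one_iff_of_coprime ((h.pr.coprime_iff_not_dvd.2 h.idx).pow_left i)).1 ⟨?_, pow_card_eq_one'⟩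
    rw [← QuotientGroup.mk_pow, hi, QuotientGroup.mk_one]
  obtain ⟨_, ⟨a, rfl⟩, z, hz, e⟩ := mem_sup_of_normal_right.1 h1
  obtain ⟨s, b, hb, hn⟩ := Nat.exists_eq_pow_mul_and_not_dvd (Nat.card_pos (α := Γ)).ne' l h.pr.ne_one
  obtain ⟨m, h2, t, rfl⟩ : ∃ m, m ≡ 1 [MOD l ^ i] ∧ b ∣ m :=
    let m := Nat.chineseRemainder ((h.pr.coprime_iff_not_dvd.2 hb).pow_left i) 1 0
    ⟨m, m.2.1, (Nat.modEq_zero_iff_dvd).1 m.2.2⟩
  have h3 : ∀ y : Γ, (y ^ (b * t)) ^ l ^ s = 1 := fun y => by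
    rw [← pow_mul, mul_comm, ← mul_assoc, ← hn, pow_mul, pow_card_eq_one', one_pow]
  refine ⟨a ^ (b * t), z ^ (b * t), pow_mem hz _, ⟨s, h.inj ?_⟩, ⟨s, h3 z⟩, ?_⟩
  · rw [map_pow, map_pow, h3, map_one]
  · rw [map_pow, ← (cm hz _).mul_pow, e, pow_eq_pow_of_modEq h2 hi, pow_one]

theorem Env.dec_syl (h : Env j l) (P : Sylow l Γ) {x : Γ} (hx : x ∈ (P : Subgroup Γ)) :
    ∃ a ∈ (P : Subgroup Γ).comap j, ∃ z ∈ center Γ, x = j a * z := by
  obtain ⟨a, z, hz, -, h1, rfl⟩ := h.dec (isL_of_mem P.2 hx)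
  exact ⟨a, (mul_mem_cancel_right (cen_mem P hz h1)).1 hx, z, hz, rfl⟩

theorem comm_dec {a : H} {z g : Γ} (hz : z ∈ center Γ) (h : Commute g (j a)) : Commute g (j a * z) := h.mul_right (cm hz g)

/-- abelian Sylow subgroups go up -/
theorem Env.abS (h : Env j l) (hA : AbS l H) : AbS l Γ := fun P => ⟨⟨fun x y => Subtype.ext (by
  have := Fact.mk h.pr
  obtain ⟨a, ha, z, hz, e⟩ := h.dec_syl P x.2
  obtain ⟨b, hb, w, hw, e'⟩ := h.dec_syl P y.2
  obtain ⟨Q, hQ⟩ := (P.2.comap_of_injective j h.inj).exists_le_sylow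
  have h1 : Commute a b := congrArg Subtype.val ((hA Q).is_comm.comm ⟨a, hQ ha⟩ ⟨b, hQ hb⟩)
  rw [coe_mul, coe_mul, e, e']
  exact (comm_dec hz (comm_dec hw (h1.map j)).symm).symm.eq)⟩⟩

/-- `Act` goes up -/
theorem Env.act (hc : Env j c) (ho : Env j o) (hA : Act c o H) : Act c o Γ := fun A h1 b h2 h3 => by
  have := Fact.mk ho.pr
  obtain ⟨a, z, hz, ⟨i, hi⟩, -, rfl⟩ := ho.dec (h2.imp fun _ e => by rw [← e, pow_orderOf_eq_one])
  let A' : Subgroup H :=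
    { carrier := {y | ∃ w ∈ center Γ, IsL c w ∧ j y * w ∈ A}
      one_mem' := ⟨1, one_mem _, ⟨0, one_pow _⟩, by rw [map_one, mul_one]; exact one_mem _⟩
      mul_mem' := by
        rintro x y ⟨v, hv, ⟨s, hs⟩, k1⟩ ⟨w, hw, ⟨t, ht⟩, k2⟩
        refine ⟨v * w, mul_mem hv hw, ⟨s + t, ?_⟩, ?_⟩
        · rw [(cm hw v).mul_pow, pow_add, pow_mul, hs, one_pow, mul_comm, pow_mul, ht, one_pow, one_mul]
        · rw [map_mul, (cm hv (j y)).mul_mul_mul_comm]
          exact mul_mem k1 k2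
      inv_mem' := by
        rintro x ⟨v, hv, ⟨s, hs⟩, k1⟩
        refine ⟨v⁻¹, inv_mem hv, ⟨s, by rw [inv_pow, hs, inv_one]⟩, ?_⟩
        rw [map_inv, ← mul_inv_rev, ← (cm hv _).eq]
        exact inv_mem k1 }
  have h4 : IsPGroup c A' := by
    rintro ⟨x, v, hv, ⟨s, hs⟩, k1⟩
    obtain ⟨t, ht⟩ := isL_of_mem h1 k1
    refine ⟨s + t, Subtype.ext (hc.inj ?_)⟩
    have k2 : (j x * v) ^ c ^ (s + t) = 1 := by rw [pow_add, mul_comm (c ^ s), pow_mul, ht, one_pow]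
    rw [(cm hv _).mul_pow, pow_add c, pow_mul v, hs, one_pow, mul_one, ← pow_add] at k2
    rw [coe_pow, map_pow, k2, coe_one, map_one]
  have h5 : ∀ (y : H) (w : Γ), w ∈ center Γ → j (a * y * a⁻¹) * w = j a * z * (j y * w) * (j a * z)⁻¹ := fun y w hw => by
    rw [mul_inv_rev, mul_assoc (j a) z, ← (cm hz _).eq, map_mul, map_mul, map_inv, mul_assoc _ _ w, (cm hw _).eq]
    group
  have h6 : a ∈ normalizer (A' : Set H) := mem_normalizer_iff.2 fun y =>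
    exists_congr fun w => and_congr_right fun hw => and_congr_right fun _ => by
      rw [h5 y w hw]
      exact mem_normalizer_iff.1 h3 _
  have h7 := hA A' h4 a ((Nat.dvd_prime_pow ho.pr).1 (orderOf_dvd_of_pow_eq_one hi) |>.imp fun _ e => e.2) h6
  intro x hx
  obtain ⟨y, w, hw, -, k1, rfl⟩ := hc.dec (isL_of_mem h1 hx)
  have k2 : Commute y a := h7 y ⟨w, hw, k1, hx⟩
  exact (comm_dec hz (comm_dec hw (k2.symm.map j)).symm).eq

/-- `PX` goes up -/
theorem Env.px (h : Env j l) (hP : SS.PX c o H) : SS.PX c o Γ := by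
  have := h.nor
  obtain ⟨x, ⟨i, hi⟩, h1⟩ := hP
  let e := MonoidHom.ofInjective h.inj
  refine ⟨j x, ⟨i, by rw [← map_pow, hi, map_one]⟩, h1.trans (Dvd.dvd.trans ?_ (SS.cls_sub_dvd j.range (e x)))⟩
  have h2 := SS.cls_map_dvd e.symm.toMonoidHom e.symm.surjective (e x)
  rwa [MulEquiv.coe_toMonoidHom, e.symm_apply_apply] at h2

/-- the witness goes down -/
theorem Env.wit (h : Env j o) (χ : IrrCharacter Γ) : ∃ θ : IrrCharacter H, dg θ ∣ dg χ ∧ (o ∣ dg χ → o ∣ dg θ) ∧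
    ∀ (z : H) (a : ℂ), j z ∈ center Γ → (χ : Γ → ℂ) (j z) = a * (χ : Γ → ℂ) 1 → (θ : H → ℂ) z = a * (θ : H → ℂ) 1 := by
  have := h.nor
  let N := j.range ⊔ center Γ
  have := Fintype.ofFinite Γ
  have := Fintype.ofFinite N
  obtain ⟨η, hη⟩ := KZ.Res.exists_under N χ
  rw [KZ.Res.over_iff] at hη
  obtain ⟨⟨m, hm⟩, h2⟩ := S0887.result N χ χ.2 η η.2 hη _ _ (Basic.irr_one_eq_charDegree χ.2)
    (Basic.irr_one_eq_charDegree η.2)
  rw [hm, Nat.mul_div_cancel_left _ (Basic.charDegree_pos η.2)] at h2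
  have h3 : j.range.subgroupOf N ⊔ center N = ⊤ := top_unique fun x _ => by
    obtain ⟨a, ha, z, hz, e⟩ := mem_sup_of_normal_right.1 x.2
    rw [show x = ⟨a, mem_sup_left ha⟩ * ⟨z, mem_sup_right hz⟩ from Subtype.ext e.symm]
    exact mul_mem_sup ha (mem_center_iff.2 fun g => Subtype.ext (cm hz g).eq)
  let e : H ≃* j.range.subgroupOf N := (MonoidHom.ofInjective h.inj).trans (subgroupOfEquivOfLe le_sup_left).symm
  let θ := KZ.Res.pull e.toMonoidHom e.surjective ⟨_, H691.Back.isIrr_restrict _ h3 η.2⟩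
  have h4 : ∀ x, (θ : H → ℂ) x = (η : N → ℂ) ⟨j x, mem_sup_left ⟨x, rfl⟩⟩ := fun x => rfl
  have h5 : (θ : H → ℂ) 1 = (η : N → ℂ) 1 := (h4 1).trans (congrArg _ (Subtype.ext (map_one j)))
  have h6 : dg θ = dg η := by unfold dg charDegree; rw [h5]
  refine ⟨θ, ⟨m, h6 ▸ hm⟩, fun h7 => h6 ▸ ?_, fun z a hz h7 => ?_⟩
  · exact (h.pr.dvd_mul.1 (hm ▸ h7)).resolve_right fun h8 => h.idx (h8.trans h2)
  · rw [h4, h5]
    refine Wit.scalar η.2 (mem_center_iff.2 fun g => Subtype.ext (cm hz g).eq) (fun g => ?_) hη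
    obtain ⟨ω, -, hω⟩ := CentralizerSum.exists_central_scalar χ.2 hz
    have h8 := hω 1
    rw [mul_one, h7] at h8
    rw [coe_mul, hω, mul_right_cancel₀ (Basic.irr_one_ne_zero χ.2) h8]

/-- Sylow subgroups and their centralisers go down -/
theorem Env.syl (h : Env j l) (P : Sylow l Γ) : ∃ Q : Sylow l H,
    centralizer ((Q : Subgroup H) : Set H) = (centralizer ((P : Subgroup Γ) : Set Γ)).comap j := by
  have := h.nor
  have := Fact.mk h.pr
  obtain ⟨R, hR⟩ := Transfer.FrobeniusFusion.exists_sylow_subgroupOf P j.range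
  have h1 : ¬ l ∣ ((P : Subgroup Γ).comap j).index := by
    rw [index_comap, relIndex, ← hR]
    exact R.not_dvd_index
  refine ⟨(P.2.comap_of_injective j h.inj).toSylow h1, le_antisymm (fun x hx y hy => ?_) fun x hx y hy => h.inj ?_⟩
  · obtain ⟨a, ha, z, hz, rfl⟩ := h.dec_syl P hy
    exact (comm_dec hz (Commute.map (hx a ha) j).symm).symm.eq
  · rw [map_mul, map_mul]
    exact hx _ hy

end Cfsg.Agent.PQ.EA.LrA
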