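import Cfsg.Agent.PQ.EA.LrS
import Cfsg.Agent.KM.Sc.C
import Cfsg.Agent.S2093
import Cfsg.Agent.S2095

/-!
# S4982, the rows `LR` of the symplectic groups and of the odd dimensional orthogonal groups (helper31)

* tools: `good_of`, `cond_O`, `dt_cd`;
* `lr_psp`, `lr_odd`.
-/

set_option autoImplicit false
set_option linter.unusedSectionVars false
set_option maxHeartbeats 400000

namespace Cfsg.Agent.PQ.EA.Lr

open Cfsg Subgroup Cfsg.Agent.LV Cfsg.Agent.DL Cfsg.Agent.H17.CR Cfsg.Agent.H630.NH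
open Cfsg.Agent.H377 Cfsg.Agent.LieClassical.OrthCore Cfsg.Agent.LieClassical.OrthForms

theorem good_of {F : Type} [Field F] {r p : ℕ} [CharP F r] (hr : r.Prime) (hp : p.Prime) (h2 : p ≠ 2) (h : p ≠ r) :
    Good F p :=
  ⟨hp, h2, fun e => h ((Nat.prime_dvd_prime_iff_eq hr hp).1 ((CharP.cast_eq_zero_iff F r p).1 e)).symm⟩

theorem prime_two {p q : ℕ} {S : Type} [Group S] (h : Pair p q S) : ∀ s ∈ ({p, q} : Set ℕ), s.Prime ∧ s ≠ 2 := by
  rintro s (rfl | rfl)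
  exacts [⟨h.pp, h.p2⟩, ⟨h.pq, h.q2⟩]

/-- from `POmega` to the isometry group -/
theorem cond_O {F : Type} [Field F] [Fintype F] {ι : Type} [Fintype ι] [DecidableEq ι] (Q : QuadraticForm F (ι → F))
    (hQ : Nondeg Q) (h5 : 5 ≤ Fintype.card ι) {Q' : (ι → F) → F} (hQ' : ⇑Q = Q') {S T : Type} [Group S] [Finite S]
    [Group T] (e : S ≃* POmega F Q') (e' : isometryGroup F Q' ≃* T) {p q : ℕ} (h : Pair p q S) :
    p ∣ Nat.card T ∧ q ∣ Nat.card T ∧ Cond {p, q} T := by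
  subst hQ'
  have h1 : Nat.card S ∣ Nat.card T := by
    rw [Nat.card_congr e.toEquiv, ← Nat.card_congr e'.toEquiv]
    exact (card_quotient_dvd_card _).trans (card_subgroup_dvd_card _)
  refine ⟨h.dp.trans h1, h.dq.trans h1, Cond.congr e' ?_⟩
  refine Cond.of_normal (prime_two h) (Omega F ⇑Q) (exists_index_two_pow _ (mul_self_mem_Omega Q hQ h5)) ?_
  exact Cond.of_quot (fun s hs => (prime_two h s hs).1) (QuotientGroup.mk' (center (Omega F ⇑Q)))
    (QuotientGroup.mk'_surjective _) (QuotientGroup.ker_mk' _).le ((cond_of_comS h.pp h.pq h.com).congr e)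

section CD

open Cfsg.Agent.TwoF.DC Cfsg.Agent.TwoF.DC.TC Cfsg.Agent.TwoF.DC.TBD Cfsg.Agent.TwoF.DC.TBD.Cl Cfsg.Agent.KM.BD Sum

/-- **`Dt` for the spin groups** -/
theorem dt_cd {m : ℕ} {Φ : Type} [Fintype Φ] [DecidableEq Φ] (C : CD m Φ)
    (h : ∀ w, ∃ v, C.X.dual.E v = (2 : ℤ) • w) {p : ℕ} [Fact p.Prime] {k : Type} [Field k] [IsAlgClosed k] [CharP k p]
    (lf : ∀ a : k, ∃ m, 0 < m ∧ a ^ p ^ m = a) (h2 : (∃ b, C.ib b = inl ()) → (2 : k) ≠ 0)
    (P : Tws (C.rdat k p h2)) (hP : P.Fr = C.fr (frobenius k p)) (hF : (C.rdat k p h2).Fa) (hs : P.sι ^ 2 = 1)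
    {S : Type} [Group S] (hS : IsSimpleGroup S) (hn : ¬ IsMulCommutative S) (hπ : PiP P S) {A : Type} [CommGroup A]
    (hA : HasSchurMultiplier S A) {d a : ℕ} (h1 : Nat.card A ∣ d * p ^ a) (h4 : d ∣ 4)
    (hd : p ≠ 2 → d ≤ Nat.card P.Zc) : Dt p ((p ^ P.f : ℕ) : ℤ) S := by
  obtain ⟨π, k1, k2⟩ := hπ
  obtain ⟨d', a', k3, k4, k5⟩ : ∃ d a, Nat.card A ∣ d * p ^ a ∧ d ∣ 4 ∧ d ≤ Nat.card P.Zc := by
    by_cases e : p = 2
    · have := TE.finite_Zc P
      refine ⟨1, 2 + a, ?_, one_dvd _, Nat.card_pos⟩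
      rw [one_mul, pow_add]
      exact h1.trans (mul_dvd_mul_right (by rw [e]; exact h4) _)
    · exact ⟨d, a, h1, h4, hd e⟩
  have hA' : KM.Dat.Alg P (rho C k) := ⟨hF, lf, rho_inj C k, fun g => by rw [hP]; exact rho_fr C p g, rho_poly C p h2,
    1, _, fun c => by rw [inv_one, one_mul, mul_one, rho_diag C p h2]⟩
  exact dt_of_alg' hA' hS hn k1 k2 hA k3 (Nat.pos_of_dvd_of_pos k4 four_pos) k5 fun l l1 l2 _ _ _ =>
    ⟨not_dvd_four l1 l2 k4, levR C h l1 l2, 2, hs, not_dvd_four l1 l2 (by decide)⟩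

theorem dt_odd {F : Type} [Field F] [Fintype F] {p : ℕ} [CharP F p] {m : ℕ} (hm : 3 ≤ m) (hodd : Odd (Fintype.card F))
    (hS : IsSimpleGroup (POmega F (quadFormOdd m F))) (hn : ¬ IsMulCommutative (POmega F (quadFormOdd m F))) :
    Dt p (Fintype.card F) (POmega F (quadFormOdd m F)) := by
  obtain ⟨f, hp, hq⟩ := FiniteField.card F p
  have : Fact p.Prime := ⟨hp⟩
  have hp2 : p ≠ 2 := by
    rintro rfl
    rw [hq, Nat.odd_pow_iff f.pos.ne'] at hodd
    exact absurd hodd (by decide)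
  let k := AlgebraicClosure F
  have h2 : (2 : k) ≠ 0 := fun e =>
    hp2 ((Nat.prime_dvd_prime_iff_eq hp Nat.prime_two).1 ((CharP.cast_eq_zero_iff k p 2).1 (by exact_mod_cast e)))
  let D := (cB m).rdat k p fun _ => h2
  let P := tw0 D f f.pos ((cB m).fr (frobenius k p)) ((cB m).fr_z p _ _) ((cB m).fr_y p _ _)
  have hF : D.Fa := TE.fa_of_faith (boxB p hp2 m hm k _ D rfl).faith ⟨0, by omega⟩
  have hv : Vec D (fun b => b.1.1) ibB (cB m).th := by
    rw [show (fun b : PR m => b.1.1) = fun b => Sum.inl ((cB m).ia b) from funext fun b => (inl_ix b.lt).symm]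
    exact (cB m).vec p _
  have hπ := (boxPi p m k _ F (algebraMap F k) _).1 hp2 hm D rfl hF hv P rfl hq
  have hd : 2 ≤ Nat.card P.Zc := by
    refine TE.le_card_Zc P (m := 2) Nat.prime_two (Pi.single ⟨m - 1, by omega⟩ 1) ⟨m - 1, by omega⟩ (by simp) (fun i => ?_)
      fun _ => ⟨fun e => hp2 ((Nat.prime_dvd_prime_iff_eq hp Nat.prime_two).1 e), fun i => ?_⟩
    · rw [Finset.sum_eq_single ⟨m - 1, by omega⟩ (fun j _ hj => by simp [hj]) (by simp)]
      refine Dvd.dvd.mul_left ?_ _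
      show _ ∣ rv (zc _) ⬝ᵥ _
      rw [rv_zc_dot, dif_neg (by simp only; omega)]
      exact dvd_mul_right _ _
    · rw [show P.sι i = i from rfl]
      conv_lhs => rw [← mul_one (Pi.single (M := fun _ => ℕ) _ _ _)]
      exact Nat.ModEq.mul_left _ (Nat.odd_iff.1 (hq ▸ hodd)).symm
  rw [hq]
  by_cases h5 : m = 3 ∧ Fintype.card F = 3
  · obtain ⟨rfl, h5⟩ := h5
    obtain rfl : p = 3 := (Nat.prime_dvd_prime_iff_eq hp Nat.prime_three).1 (h5 ▸ hq ▸ dvd_pow_self p f.pos.ne')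
    exact dt_cd (cB 3) (two_B 3) (lf_closure F 3) _ P rfl hF (one_pow 2) hS hn hπ (S2095.result h5) (d := 2) (a := 1)
      (by rw [card_cyc]; decide) (by decide) fun _ => hd
  · exact dt_cd (cB m) (two_B m) (lf_closure F p) _ P rfl hF (one_pow 2) hS hn hπ (S2094.result rfl hodd m hm h5)
      (d := 2) (a := 0) (by rw [card_cyc, pow_zero, mul_one]) (by decide) fun _ => hd

end CD

section C

open Cfsg.Agent.KZ.Dat Cfsg.Agent.KM.ScC

theorem dt_psp {F : Type} [Field F] [Fintype F] {p : ℕ} [CharP F p] {m : ℕ} (hm : 2 ≤ m)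
    (hm2 : m = 2 → 3 ≤ Fintype.card F) (hS : IsSimpleGroup (PSp m F)) (hn : ¬ IsMulCommutative (PSp m F)) :
    Dt p (Fintype.card F) (PSp m F) := by
  have : Fact p.Prime := ⟨CharP.char_is_prime F p⟩
  obtain ⟨k, _, _, _, hk, e, he, f, hq⟩ := hasC p F
  have := (datC m hk he).amb.finite_GF (GC m k)
  let π : GF (FC m k p e) (GC m k) →* PSp m F := (QuotientGroup.mk' _).comp (eqvC f hq).symm.toMonoidHom
  have h0 : Function.Surjective π := (QuotientGroup.mk'_surjective _).comp (eqvC f hq).symm.surjective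
  have h1 : π.ker = (center _).map (eqvC f hq).toMonoidHom := by
    rw [← MonoidHom.comap_ker, QuotientGroup.ker_mk', map_equiv_eq_comap_symm']
  have h3 : Nat.card π.ker = Nat.gcd 2 (Fintype.card F - 1) := by
    rw [h1, card_map_of_injective (eqvC f hq).injective, LieClassical.SympCenter.card_center (by omega)]
  have h4 : π.ker ≤ center _ := by
    rw [h1]
    rintro _ ⟨z, hz, rfl⟩
    refine mem_center_iff.2 fun g => ?_
    obtain ⟨g, rfl⟩ := (eqvC f hq).surjective g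
    rw [MulEquiv.coe_toMonoidHom, ← map_mul, ← map_mul, mem_center_iff.1 hz]
  have h5 : commutator ↥(GF (FC m k p e) (GC m k)) = ⊤ := by
    have h5 := S0269.result (F := F) m (by omega)
    rw [commutator_def, ← map_top_of_surjective (eqvC f hq).toMonoidHom (eqvC f hq).surjective, ← map_commutator,
      ← commutator_def, h5]
  have h6 : IsStemExtension π := ⟨h0, h4, h5 ▸ le_top⟩
  have h7 : ¬ p ∣ Nat.card π.ker := by
    have h7 := KM.BD.not_dvd_sub (m := 1) (Fact.out : p.Prime) (hq ▸ dvd_pow_self p he.ne') Fintype.card_pos one_pos 2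
    rwa [pow_one, ← h3] at h7
  obtain ⟨n, a, h8, h9⟩ : ∃ n a, HasCyclicSchurMultiplier (PSp m F) n ∧ n ∣ Nat.card π.ker * p ^ a := by
    by_cases h : m = 3 ∧ Fintype.card F = 2
    · obtain ⟨rfl, h⟩ := h
      obtain rfl : p = 2 := (Nat.prime_dvd_prime_iff_eq Fact.out Nat.prime_two).1 (h ▸ hq ▸ dvd_pow_self p he.ne')
      exact ⟨2, 1, S2093.result h, dvd_mul_left _ _⟩
    · exact ⟨_, 0, S2092.result rfl m hm hm2 h, by rw [h3, pow_zero, mul_one]⟩
  refine ⟨_, k, _, _, ‹_›, _, _, _, _, _, _, _, _, datC m hk he, π, h6, fun z hz => cen_of_center (datC_qs hk he) z.2.1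
    fun g hg => congrArg Subtype.val (mem_center_iff.1 (h4 hz) ⟨g, hg⟩), fun K _ _ σ hσ hr => ?_,
    fun l l1 l2 l3 _ _ => .inr ⟨?_, ⟨datC_qs hk he, l1, l3, ⟨1, pi1C hk he, Nat.coprime_one_right l⟩,
      levC hk he (l1.odd_of_ne_two l2)⟩, 1, 1, ?_, one_pow 1, fun h => l1.one_lt.ne' (Nat.dvd_one.1 h)⟩⟩
  · exact TwoF.DC.cover_of_mult Fact.out (TwoF.DC.perfect_of_simple hS hn) h8 h6 hσ h7 hr
      (by rw [KM.BD.card_cyc]; exact h9) Nat.card_pos le_rfl
  · rw [h3]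
    exact KM.BD.not_dvd_four l1 l2 ((Nat.gcd_dvd_left _ _).trans (by decide))
  · rw [datC_Mx, hq, Nat.cast_pow]

end C

/-- **the row of the symplectic groups** -/
theorem lr_psp : AllC (fun r S _ => IsPSpChar r S) LR := by
  rintro r S _ _ hS hn hr ⟨F, _, _, _, m, hm, hm2, ⟨e⟩⟩
  refine .inl ⟨Fintype.card F, Dt_congr e (dt_psp hm hm2 e.symm.isSimpleGroup (KM.BD.noncomm_of e hn)), fun p q h _ => ?_⟩
  obtain ⟨h1, h2⟩ := h.nc r hr (.inr (.inl ⟨F, _, _, ‹_›, m, hm, hm2, ⟨e⟩⟩))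
  have hp : Good F p := good_of hr h.pp h.p2 h1
  have hq : Good F q := good_of hr h.pq h.q2 h2
  obtain ⟨e'⟩ := (isSp_std (F := F) m).equiv
  have h3 : Nat.card S ∣ Nat.card (stdSp F m).G := by
    rw [Nat.card_congr e.toEquiv, ← Nat.card_congr e'.toEquiv]
    exact card_quotient_dvd_card _
  have h4 : Cond {p, q} (stdSp F m).G := (Cond.of_quot (fun s hs => (prime_two h s hs).1) (QuotientGroup.mk' _)
    (QuotientGroup.mk'_surjective _) (QuotientGroup.ker_mk' _).le ((cond_of_comS h.pp h.pq h.com).congr e)).congr e'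
  exact ord_eq hp hq (Row.dd_same (famSp F) (n := m) (ε := 1) hp hq ⟨isSp_std m, .inl rfl⟩ (h.dp.trans h3) (h.dq.trans h3) h4)
    (Row.sg_sp hp hq (isSp_std m) (h.dp.trans h3) (h.dq.trans h3) h4 h.ne)

/-- **the row of the odd dimensional orthogonal groups** -/
theorem lr_odd : AllC (fun r S _ => IsPOmegaOddChar r S) LR := by
  rintro r S _ _ hS hn hr ⟨F, _, _, _, m, hm, hF, ⟨e⟩⟩
  refine .inl ⟨Fintype.card F, Dt_congr e (dt_odd hm hF e.symm.isSimpleGroup (KM.BD.noncomm_of e hn)), fun p q h _ => ?_⟩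
  obtain ⟨h1, h2⟩ := h.nc r hr (.inr (.inr (.inr (.inl ⟨F, _, _, ‹_›, m, hm, hF, ⟨e⟩⟩))))
  have hp : Good F p := good_of hr h.pp h.p2 h1
  have hq : Good F q := good_of hr h.pq h.q2 h2
  have h2 : (2 : F) ≠ 0 := H377.OOdd.two_ne_zero_of_odd (by rwa [Nat.card_eq_fintype_card])
  obtain ⟨e'⟩ := (isOO_std h2 m).oddEquiv
  obtain ⟨h3, h4, h5⟩ := cond_O _ (nondeg_oddForm m F h2) (by
    simp only [Fintype.card_sum, Fintype.card_fin, Fintype.card_unit]
    omega) (coe_oddForm m F) e e' h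
  have hT : (famOdd F hF h2).T m 1 (stdOdd F m) := ⟨isOO_std h2 m, .inl rfl⟩
  exact ord_eq hp hq (Row.dd_same _ hp hq hT h3 h4 h5)
    (Row.ng_congr ((Row.sign_or _ hp hq hT h3 h4 h5 h.ne).resolve_right fun h => h.1))

end Cfsg.Agent.PQ.EA.Lr
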