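import Cfsg.Agent.PQ.EA.Defs
import Cfsg.Agent.PQ.SS.Core
import Cfsg.Agent.KZ.Mts.Main
import Cfsg.Agent.KZ.Cl.Fam
import Cfsg.Agent.KZ.ClB.SP
import Cfsg.Agent.H17.CR.Orth
import Cfsg.Agent.Lib.Zsigmondy

/-!
# S4982, the row `LR` in type `D`: the degree witness in the exceptional case (helper39)

* `exists_wit` : a label of odd order in general position gives a character of the simple group;
* `not_ee` : rank `2 a`, `a` odd, minus type, primes of orders `a` and `2 a`.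
-/

set_option autoImplicit false
set_option linter.unusedSectionVars false
set_option maxHeartbeats 400000

namespace Cfsg.Agent.PQ.EA.LrD

open Cfsg Cfsg.Agent.DL Cfsg.Agent.DL.PP Cfsg.Agent.DL.Uni Cfsg.Agent.KZ Cfsg.Agent.KZ.Lie Cfsg.Agent.KZ.Dat
  Cfsg.Agent.KZ.ClB Cfsg.Agent.Characters.Core Matrix Equiv

theorem triv_of {H : Type} [Group H] [Fintype H] (θ : IrrCharacter H) {χ : H → ℂ} (h2 : classInner (θ : H → ℂ) χ ≠ 0)
    {z : H} (hz : ∀ g, g * z = z * g) (h : ∀ g, χ (z * g) = χ g) : (θ : H → ℂ) z = (θ : H → ℂ) 1 := by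
  have h4 : classInner θ.1 χ = θ.1 z / θ.1 1 * classInner θ.1 χ := by
    rw [classInner_def, mul_left_comm, Finset.mul_sum _ _ (_ / _), ← Equiv.sum_comp (Equiv.mulLeft z)]
    refine congrArg _ (Finset.sum_congr rfl fun g _ => ?_)
    rw [Equiv.coe_mulLeft, h, irr_cen θ hz, mul_assoc]
  exact (div_eq_one_iff_eq (isIrr_apply_one_ne_zero θ.2)).1 ((mul_eq_right₀ h2).1 h4.symm)

/-! ### the numbers -/

/-- cycles of lengths `a`, `a - 1`, `1` -/
def pf (a j : ℕ) : ℕ := if j = 0 then a - 1 else if j = a then 2 * a - 2 else if j + 1 = 2 * a then j else j - 1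

/-- the second cycle is negative -/
def tf (a j : ℕ) : ℤˣ := if j = a then -1 else 1

/-- the coordinates of a fixed label -/
def Cc (a u : ℕ) (y : ℕ → ℂˣ) : Prop := ∀ j < 2 * a, y (pf a j) ^ ((u : ℤ) * tf a j) = y j

/-- the label -/
def yy (a u : ℕ) (ξ η : ℂˣ) (j : ℕ) : ℂˣ := if j < a then ξ ^ u ^ j else if j + 1 < 2 * a then η ^ u ^ (j - a) else 1

theorem exists_pm {a m : ℕ} (ha : 3 ≤ a) (hm : m = 2 * a) : ∃ π : Perm (Fin m), ∀ j, (π j : ℕ) = pf a j :=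
  ⟨Equiv.ofBijective (fun j => ⟨pf a j, by have := j.2; unfold pf; split_ifs <;> omega⟩)
    (Finite.injective_iff_bijective.1 fun i j h => Fin.ext (by
      have h1 := Fin.mk.inj h
      have := i.2
      have := j.2
      unfold pf at h1
      split_ifs at h1 <;> omega)), fun _ => rfl⟩

variable {a u l n : ℕ} {ξ η : ℂˣ}

theorem cc_yy (ha : 3 ≤ a) (h1 : ξ ^ u ^ a = ξ) (h2 : η ^ (u ^ (a - 1) + 1) = 1) : Cc a u (yy a u ξ η) := by
  intro j hj
  by_cases h : j = a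
  · rw [h, pf, tf, if_neg (by omega), if_pos rfl, if_pos rfl, yy, yy, if_neg (by omega), if_pos (by omega),
      if_neg (lt_irrefl a), if_pos (by omega), Units.val_neg, Units.val_one, mul_neg, mul_one, _root_.zpow_neg, zpow_natCast,
      ← pow_mul, ← pow_succ, show 2 * a - 2 - a + 1 = a - 1 by omega, Nat.sub_self, pow_zero, pow_one,
      inv_eq_iff_mul_eq_one, ← pow_succ, h2]
  rw [tf, if_neg h, Units.val_one, mul_one, zpow_natCast, pf]
  by_cases h3 : j = 0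
  · rw [if_pos h3, h3, yy, yy, if_pos (by omega), if_pos (by omega), ← pow_mul, ← pow_succ,
      show a - 1 + 1 = a by omega, h1, pow_zero, pow_one]
  rw [if_neg h3, if_neg h]
  by_cases h4 : j + 1 = 2 * a
  · rw [if_pos h4, yy, if_neg (by omega), if_neg (by omega), one_pow]
  rw [if_neg h4, yy, yy]
  by_cases h5 : j < a
  · rw [if_pos h5, if_pos (by omega), ← pow_mul, ← pow_succ, show j - 1 + 1 = j by omega]
  · rw [if_neg h5, if_neg (by omega), if_pos (by omega), if_pos (by omega), ← pow_mul, ← pow_succ,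
      show j - 1 - a + 1 = j - a by omega]

theorem eq_one_of {x : ℂˣ} (hl : l.Prime) (h1 : x ^ l = 1) (h2 : x ^ n = 1) (h : ¬ l ∣ n) : x = 1 :=
  (pow_eq_one_iff_of_coprime (hl.coprime_iff_not_dvd.2 h)).1 ⟨h1, h2⟩

theorem Cc.triv {y : ℕ → ℂˣ} (h : Cc a u y) (ha : 3 ≤ a) (hu : 0 < u) (hl : l.Prime) (h0 : ∀ j, y j ^ l = 1)
    (h1 : ¬ l ∣ u ^ a - 1) (h2 : ¬ l ∣ u ^ (a - 1) + 1) {j : ℕ} (hj : j < 2 * a) : y j = 1 := by
  have k0 : ∀ j < 2 * a, j ≠ a → y (pf a j) ^ u = y j := fun j hj e => by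
    have h3 := h j hj
    rwa [tf, if_neg e, Units.val_one, mul_one, zpow_natCast] at h3
  have k1 : ∀ b i, (b = 0 ∧ i < a ∨ b = a ∧ i + 1 < a) → y (b + i) = y b ^ u ^ i := fun b i => by
    induction i with
    | zero => exact fun _ => by rw [pow_zero, pow_one, add_zero]
    | succ i ih =>
      intro hi
      rw [← k0 (b + (i + 1)) (by omega) (by omega), pf, if_neg (by omega), if_neg (by omega), if_neg (by omega),
        show b + (i + 1) - 1 = b + i by omega, ih (by omega), ← pow_mul, ← pow_succ]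
  have k2 : ∀ {x : ℂˣ} {n : ℕ}, 0 < n → x ^ n = x → x ^ (n - 1) = 1 := fun {x n} hn e =>
    mul_right_cancel (by rw [← pow_succ, Nat.sub_add_cancel hn, e, one_mul])
  have k3 : y 0 = 1 := by
    refine eq_one_of hl (h0 0) (k2 (pow_pos hu a) ?_) h1
    have h3 := k0 0 (by omega) (by omega)
    rwa [pf, if_pos rfl, ← zero_add (a - 1), k1 0 _ (by omega), ← pow_mul, ← pow_succ, show a - 1 + 1 = a by omega] at h3
  have k4 : y a = 1 := by
    refine eq_one_of hl (h0 a) ?_ h2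
    have h3 := h a (by omega)
    rwa [pf, tf, if_neg (by omega), if_pos rfl, if_pos rfl, show 2 * a - 2 = a + (a - 2) by omega, k1 a _ (by omega),
      Units.val_neg, Units.val_one, mul_neg, mul_one, _root_.zpow_neg, zpow_natCast, ← pow_mul, ← pow_succ,
      show a - 2 + 1 = a - 1 by omega, inv_eq_iff_mul_eq_one, ← pow_succ] at h3
  by_cases h3 : j < a
  · rw [← zero_add j, k1 0 j (by omega), k3, one_pow]
  by_cases h4 : j + 1 = 2 * a
  · refine eq_one_of hl (h0 j) (k2 hu ?_) fun e => h1 (e.trans ?_)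
    · have h5 := k0 j hj (by omega)
      rwa [pf, if_neg (by omega), if_neg (by omega), if_pos h4] at h5
    · simpa using Nat.sub_dvd_pow_sub_pow u 1 a
  · rw [show j = a + (j - a) by omega, k1 a _ (by omega), k4, one_pow]

theorem ne_one (hl : l.Prime) (hξ : IsPrimitiveRoot ξ l) (hu : ¬ l ∣ u) (hn : ¬ l ∣ n) (i : ℕ) (σ : ℤˣ) :
    ((ξ ^ u ^ i) ^ (σ : ℤ)) ^ n ≠ 1 := fun h => by
  rw [← zpow_natCast, ← _root_.zpow_mul, ← zpow_natCast, ← _root_.zpow_mul, hξ.zpow_eq_one_iff_dvd,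
    Int.natCast_dvd, Int.natAbs_mul, Int.natAbs_mul, Int.units_natAbs, one_mul, Int.natAbs_natCast,
    Int.natAbs_natCast] at h
  exact (hl.dvd_mul.1 h).elim (fun h => hu (hl.dvd_of_dvd_pow h)) hn

theorem sep (hl : l.Prime) (h2 : l ≠ 2) (hξ : IsPrimitiveRoot ξ l) (hu : ¬ l ∣ u) {i j : ℕ}
    (hi : i < orderOf ((u : ZMod l) ^ 2)) (hj : j < orderOf ((u : ZMod l) ^ 2)) {σ : ℤˣ}
    (h : (ξ ^ u ^ i) ^ (σ : ℤ) = ξ ^ u ^ j) : i = j ∧ σ = 1 := by
  have := Fact.mk hl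
  rw [← zpow_natCast, ← _root_.zpow_mul, ← zpow_natCast, ← mul_inv_eq_one, ← _root_.zpow_sub, hξ.zpow_eq_one_iff_dvd,
    ← ZMod.intCast_zmod_eq_zero_iff_dvd] at h
  push_cast at h
  have h0 : (u : ZMod l) ≠ 0 := fun e => hu ((ZMod.natCast_eq_zero_iff u l).1 e)
  have h3 : ((σ : ℤ) : ZMod l) ^ 2 = 1 := by rcases Int.units_eq_one_or σ with rfl | rfl <;> simp
  have h4 : i = j := pow_injOn_Iio_orderOf hi hj (by
    show ((u : ZMod l) ^ 2) ^ i = ((u : ZMod l) ^ 2) ^ j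
    rw [← pow_mul, ← pow_mul, mul_comm, mul_comm 2, pow_mul, pow_mul, ← sub_eq_zero.1 h, mul_pow, h3, mul_one])
  refine ⟨h4, (Int.units_eq_one_or σ).resolve_right ?_⟩
  rintro rfl
  rw [h4, sub_eq_zero, mul_eq_left₀ (pow_ne_zero _ h0)] at h
  have : Fact (2 < l) := ⟨lt_of_le_of_ne hl.two_le h2.symm⟩
  exact ZMod.neg_one_ne_one (by simpa using h)

theorem sep_yy (hl : l.Prime) (hn : n.Prime) (h2 : l ≠ 2) (h2' : n ≠ 2) (hne : l ≠ n) (hξ : IsPrimitiveRoot ξ l)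
    (hη : IsPrimitiveRoot η n) (hu : ¬ l ∣ u) (hu' : ¬ n ∣ u) (o1 : orderOf ((u : ZMod l) ^ 2) = a)
    (o2 : orderOf ((u : ZMod n) ^ 2) = a - 1) {i j : ℕ} (hi : i < 2 * a) (hj : j < 2 * a) {σ : ℤˣ}
    (h : yy a u ξ η i ^ (σ : ℤ) = yy a u ξ η j) : i = j ∧ (σ = 1 ∨ j + 1 = 2 * a) := by
  have k1 : ¬ l ∣ n := fun e => hne ((Nat.prime_dvd_prime_iff_eq hl hn).1 e)
  have k2 : ¬ n ∣ l := fun e => hne ((Nat.prime_dvd_prime_iff_eq hn hl).1 e).symm
  have k3 : ∀ i, (ξ ^ u ^ i) ^ l = 1 := fun i => by rw [← pow_mul, mul_comm, pow_mul, hξ.pow_eq_one, one_pow]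
  have k4 : ∀ i, (η ^ u ^ i) ^ n = 1 := fun i => by rw [← pow_mul, mul_comm, pow_mul, hη.pow_eq_one, one_pow]
  unfold yy at h
  split_ifs at h with e1 e2 e3 e4 e5 e6 e7 e8
  · exact (sep hl h2 hξ hu (o1 ▸ e1) (o1 ▸ e2) h).imp_right .inl
  · exact absurd (h ▸ k4 _) (ne_one hl hξ hu k1 i σ)
  · exact absurd ((pow_one _).trans h) (ne_one hl hξ hu hl.not_dvd_one i σ)
  · exact absurd (h ▸ k3 _) (ne_one hn hη hu' k2 _ σ)
  · exact (sep hn h2' hη hu' (by omega) (by omega) h).imp (fun _ => by omega) .inl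
  · exact absurd ((pow_one _).trans h) (ne_one hn hη hu' hn.not_dvd_one _ σ)
  · exact absurd (by rw [Units.val_one, zpow_one, ← h, _root_.one_zpow, one_pow]) (ne_one hl hξ hu hl.not_dvd_one j 1)
  · exact absurd (by rw [Units.val_one, zpow_one, ← h, _root_.one_zpow, one_pow])
      (ne_one hn hη hu' hn.not_dvd_one (j - a) 1)
  · exact ⟨by omega, .inr (by omega)⟩

theorem exists_root (hn : n ≠ 0) : ∃ ξ : ℂˣ, IsPrimitiveRoot ξ n :=
  ⟨_, (Complex.isPrimitiveRoot_exp n hn).isUnit_unit hn⟩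

/-! ### the character -/

variable {p : ℕ} [Fact p.Prime] {k : Type} [Field k] [CharP k p] {Y : Type} [Group Y] {N : Type} [Fintype N]
  [DecidableEq N] {ρ : Y →* GL N k} {F : MulAut Y} {G : Subgroup Y} [IsAlgClosed k] {D : Datum p ρ F G}
  {Adm : Matrix D.R D.R ℤ → Prop} {S : Type} [Group S] [Fintype ↥(GF F G)] (s : Sit D Adm S)
  (h1 : ∀ g ∈ GF F G, g ^ 2 ∈ s.H0) (h3 : ∀ z, s.π z = 1 → z ^ 2 = 1) {w : D.W} {c : Lbl D}

include h1 in
theorem index_two : ∃ i, s.H1.index = 2 ^ i :=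
  have := s.normal
  H17.CR.exists_index_two_pow s.H1 fun g => (sq (g : Y) ▸ h1 g g.2 : (g : Y) * g ∈ s.H0)

include h3 in
theorem ker_sq {z : s.H1} (hz : s.π1 z = 1) : (z : GF F G) ^ 2 = 1 :=
  Subtype.ext (congrArg (fun x : s.H0 => (x : Y)) (h3 ⟨z.1, z.2⟩ hz))

include h1 h3

theorem card_two : ∃ i, Nat.card ↥(GF F G) = Nat.card S * 2 ^ i := by
  have := Fact.mk Nat.prime_two
  obtain ⟨i, hi⟩ := index_two s h1
  obtain ⟨j, hj⟩ := IsPGroup.iff_card.1 (show IsPGroup 2 s.π1.ker from fun z =>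
    ⟨1, Subtype.ext (Subtype.ext (ker_sq s h3 z.2))⟩)
  refine ⟨j + i, ?_⟩
  rw [← s.H1.card_mul_index, ← s.π1.ker.card_mul_index, Subgroup.index_ker, MonoidHom.range_eq_top.2 s.π1_surj,
    Subgroup.card_top, hi, hj]
  ring

/-- **a label of odd order in general position** -/
theorem exists_wit (hc : Fx D w c) (hg : ∀ v, Rel D v c c → v = 1) (hn : Odd n) (h4 : c ^ n = 1) :
    ∃ (ψ : IrrCharacter S) (j : ℕ), dg ψ * 2 ^ j * ordT D w = pc' p (GF F G) := by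
  obtain ⟨f⟩ := nonempty_fr D
  have hA := Mts.boxApi f s.qs
  have := s.normal
  have h5 : classInner (RW f w c) (RW f w c) = 1 := by
    rw [hA.ip w w c c hc hc, Nat.cast_eq_one, Nat.card_eq_one_iff_unique]
    exact ⟨⟨fun a b => Subtype.ext ((hg _ a.2.2).trans (hg _ b.2.2).symm)⟩,
      ⟨⟨1, (CW D w).one_mem, fun v => by rw [D.Wm_one, one_mulVec]⟩⟩⟩
  obtain ⟨χ, ε, h6, h7⟩ : ∃ (χ : IrrCharacter ↥(GF F G)) (ε : ℂ), (ε = 1 ∨ ε = -1) ∧
      (χ : GF F G → ℂ) = ε • RW f w c := by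
    rcases isIrr_of_generalized (hA.gen w c) h5 with h | h
    exacts [⟨⟨_, h⟩, 1, .inl rfl, (one_smul _ _).symm⟩, ⟨⟨_, h⟩, -1, .inr rfl, (neg_one_smul _ _).symm⟩]
  have h8 : dg χ * ordT D w = pc' p (GF F G) := by
    refine SS.nat_of_sign (ε := ε * sg D w) ?_ ?_
    · rcases h6 with rfl | rfl <;> rcases sg_sign D w with h | h <;> simp [h]
    · rw [Nat.cast_mul, ← Blocks.Basic.irr_one_eq_charDegree χ.2, h7, Pi.smul_apply, smul_eq_mul, mul_assoc,
        hA.deg w c hc, mul_assoc]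
  obtain ⟨θ, hθ⟩ := Res.exists_under s.H1 χ
  obtain ⟨i, hi⟩ := index_two s h1
  obtain ⟨h9, h10⟩ := Res.over_dvd hθ
  obtain ⟨j, -, hj⟩ := (Nat.dvd_prime_pow Nat.prime_two).1 (hi ▸ h10)
  have := Fintype.ofFinite s.H1
  obtain ⟨ψ, rfl⟩ := DGen.exists_push s.π1 s.π1_surj (θ := θ) fun z hz =>
    triv_of θ (χ := fun n : s.H1 => (χ : GF F G → ℂ) n) (by
      rw [← classInner_conj_symm, map_ne_zero]
      exact Res.over_iff.1 hθ) (fun g => Subtype.ext (s.π1_cen z hz g)) fun g => by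
      show χ.1 ((z : GF F G) * g) = χ.1 g
      rw [h7, Pi.smul_apply, Pi.smul_apply, hA.cen' z ((s.ker ⟨z.1, z.2⟩).1 hz) w c n h4
        (Nat.Coprime.coprime_dvd_right (orderOf_dvd_of_pow_eq_one (ker_sq s h3 hz)) (Nat.coprime_two_right.2 hn))]
  exact ⟨ψ, j, by rw [← h8, ← hj, dg, ← Res.pull_deg s.π1 s.π1_surj, Nat.mul_div_cancel' h9]⟩

omit h1 h3

variable {m : ℕ} {ev : Prop} (P : SP D m ev)

theorem co_lab (y : Fin m → ℂˣ) : P.co (Cl.lab D P.P y) = y := funext fun i => by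
  rw [SP.co, Cl.chr_lab, P.P_P', chr_single]

theorem fx_iff {q : ℤ} {π : Perm (Fin m)} {t : Fin m → ℤˣ} (h : P.P * (D.Wm w * D.Mx) = q • spm π t * P.P) :
    Fx D w c ↔ ∀ j, P.co c (π j) ^ (q * t j) = P.co c j := by
  have h1 : ∀ v, chr ((D.Wm w * D.Mx) *ᵥ v) c = chr (q • spm π t *ᵥ (P.P *ᵥ v)) (P.co c) := fun v => by
    rw [P.chr_co, mulVec_mulVec, h, ← mulVec_mulVec, smul_mulVec]
  refine ⟨fun hc j => ?_, fun hc v => ?_⟩
  · conv_rhs => rw [SP.co, ← hc, h1, P.P_P', spm_mulVec_single, mul_one, chr_zsmul, SP.chr_single', ← _root_.zpow_mul,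
      mul_comm]
  · rw [h1, P.chr_co v c, chr_apply, chr_apply, ← Equiv.prod_comp π]
    refine Finset.prod_congr rfl fun j _ => ?_
    rw [Pi.smul_apply, spm_mulVec, smul_eq_mul, ← mul_assoc, _root_.zpow_mul, hc]

include h1 h3 in
/-- **the exceptional case** -/
theorem not_ee (P : SP D m True) {t : Fin m → ℤˣ} (hM : P.P * D.Mx = (u : ℤ) • spm 1 t * P.P) (ht : ∏ j, t j = -1)
    (hu : 2 ≤ u) (hm : m = 2 * a) (ha : Odd a) (ha3 : 3 ≤ a) {q : ℕ} (hl : l.Prime) (hq : q.Prime) (l2 : l ≠ 2)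
    (q2 : q ≠ 2) (hqp : q ≠ p) (o1 : orderOf (u : ZMod l) = a) (o2 : orderOf (u : ZMod q) = 2 * a)
    (hd : q ∣ Nat.card S) (hv : (Nat.card S).factorization l ≤ (u ^ a - 1).factorization l) : ¬ EL.EE l q S := by
  intro hE
  have dv := fun (r m : ℕ) => Lib.Zsigmondy.dvd_pow_sub_one_iff (a := u) (r := r) (by omega) m
  obtain ⟨π, hπ⟩ := exists_pm ha3 hm
  obtain ⟨w, rfl, hs⟩ := P.exists_w π (s := fun j => tf a j * t j) fun _ => by
    rw [Finset.prod_mul_distrib, ht, Finset.prod_eq_single (f := fun j : Fin m => tf a j) ⟨a, by omega⟩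
      (fun j _ hj => if_neg fun e => hj (Fin.ext e)) (by simp), tf, if_pos rfl, neg_mul_neg, one_mul]
  have hw : P.P * (D.Wm w * D.Mx) = (u : ℤ) • spm (P.π w) (fun j => tf a j) * P.P := by
    rw [← Matrix.mul_assoc, P.eq, Matrix.mul_assoc, hM, ← Matrix.mul_assoc, Matrix.mul_smul, spm_mul, mul_one, hs]
    congr 3
    funext j
    rw [Perm.one_apply, mul_assoc, Int.units_mul_self, mul_one]
  have k1 : ∀ ξ η : ℂˣ, ξ ^ u ^ a = ξ → η ^ (u ^ (a - 1) + 1) = 1 → Fx D w (Cl.lab D P.P fun j => yy a u ξ η j) :=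
    fun ξ η e1 e2 => (fx_iff P hw).2 fun j => by
      rw [co_lab, hπ]
      exact cc_yy ha3 e1 e2 j (hm ▸ j.2)
  have k0 : 1 < u ^ a := Nat.one_lt_pow (by omega) hu
  have k2 : u ^ a - 1 ∣ ordT D w := by
    obtain ⟨ξ, hξ⟩ := exists_root (n := u ^ a - 1) (by omega)
    have e := P.co_pow (LV.Blk.pow_ordT (k1 ξ 1 (by
      rw [← Nat.sub_add_cancel k0.le, pow_succ, hξ.pow_eq_one, one_mul]) (one_pow _))) ⟨0, by omega⟩
    rwa [co_lab, yy, if_pos (by show 0 < a; omega), pow_zero, pow_one, hξ.pow_eq_one_iff_dvd] at e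
  have k3 : ¬ q ∣ ordT D w := fun e => by
    have := Fact.mk hq
    obtain ⟨c, hc⟩ := exists_prime_orderOf_dvd_card' (G := LV.Blk.FS D w) q (by rwa [LV.Blk.card_FS])
    have e1 : c.1 ^ q = 1 := congrArg Subtype.val (hc ▸ pow_orderOf_eq_one c)
    have e2 : Cc a u fun j => if h : j < m then P.co c.1 ⟨j, h⟩ else 1 := fun j hj => by
      have e3 := (fx_iff P hw).1 c.2 ⟨j, by omega⟩
      have e4 := hπ ⟨j, by omega⟩
      have e5 := (P.π w ⟨j, by omega⟩).2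
      beta_reduce
      rw [dif_pos (show j < m by omega), dif_pos (show pf a j < m from e4 ▸ e5), ← e3]
      exact congrArg (P.co c.1 · ^ _) (Fin.ext e4.symm)
    have e3 : P.co c.1 = 1 := funext fun j => (dif_pos j.2).symm.trans (e2.triv ha3 (by omega) hq (fun i => by
      split_ifs
      exacts [P.co_pow e1 _, one_pow _]) (fun e => ?_) (fun e => ?_) (hm ▸ j.2))
    · refine hq.one_lt.ne' (hc.symm.trans (orderOf_eq_one_iff.2 (Subtype.ext (eq_of_chr D fun v => ?_))))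
      rw [P.chr_co, e3, OneMemClass.coe_one, map_one, map_one]
    · rw [dv, o2] at e
      have := Nat.le_of_dvd (by omega) e
      omega
    · have e4 : q ∣ u ^ (2 * (a - 1)) - 1 := e.trans (by
        rw [mul_comm, pow_mul]
        simpa using Nat.sq_sub_sq (u ^ (a - 1)) 1 ▸ dvd_mul_right _ _)
      rw [dv, o2] at e4
      have := Nat.le_of_dvd (by omega) e4
      omega
  obtain ⟨b, rfl⟩ := ha
  obtain ⟨n, hn, n1, n2, n3⟩ := Lib.Zsigmondy.exists_primitive (a := u) (n := 2 * (2 * b)) hu (by omega) (by omega)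
    (by omega)
  have n4 : orderOf (u : ZMod n) = 2 * (2 * b) := Nat.dvd_antisymm ((dv n _).1 ((n1 _).2 dvd_rfl))
    ((n1 _).1 ((dv n _).2 dvd_rfl))
  have n5 : n ≠ 2 := by
    rintro rfl
    have := Nat.le_of_dvd (by omega) n2
    omega
  have n6 : l ≠ n := by
    rintro rfl
    omega
  have n7 : ¬ l ∣ u := fun e => by
    have := Fact.mk hl
    have e1 := pow_orderOf_eq_one (u : ZMod l)
    rw [o1, (ZMod.natCast_eq_zero_iff u l).2 e, zero_pow (by omega)] at e1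
    exact zero_ne_one e1
  obtain ⟨ξ, hξ⟩ := exists_root hl.ne_zero
  obtain ⟨η, hη⟩ := exists_root hn.ne_zero
  have k4 := k1 ξ η (by
    rw [← Nat.sub_add_cancel k0.le, pow_succ, (hξ.pow_eq_one_iff_dvd _).2 ((dv l _).2 o1.dvd), one_mul]) (by
    have e : n ∣ (u ^ (2 * b) + 1) * (u ^ (2 * b) - 1) := by
      have e := (n1 _).2 dvd_rfl
      rw [mul_comm, pow_mul] at e
      simpa using Nat.sq_sub_sq (u ^ (2 * b)) 1 ▸ e
    refine (hη.pow_eq_one_iff_dvd _).2 ((hn.dvd_mul.1 e).resolve_right fun e1 => ?_)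
    have := Nat.le_of_dvd (by omega) ((n1 _).1 e1)
    omega)
  have k5 : ∀ v, Rel D v (Cl.lab D P.P fun j => yy (2 * b + 1) u ξ η j) (Cl.lab D P.P fun j => yy (2 * b + 1) u ξ η j) →
      v = 1 := fun v hv => by
    have h8 : ∀ j, P.π v j = j ∧ (P.s v j = 1 ∨ (j : ℕ) + 1 = m) := fun j => by
      have h9 := P.co_rel hv j
      rw [co_lab] at h9
      refine (sep_yy hl hn l2 n5 n6 hξ hη n7 n3 ?_ ?_ (hm ▸ (P.π v j).2) (hm ▸ j.2) h9).imp Fin.ext
        (Or.imp_right fun h => h.trans hm.symm)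
      · rw [orderOf_pow' _ two_ne_zero, o1, Nat.Coprime.gcd_eq_one (Nat.coprime_two_right.2 ⟨b, rfl⟩), Nat.div_one]
      · rw [orderOf_pow' _ two_ne_zero, n4, Nat.gcd_eq_right (dvd_mul_right _ _), Nat.mul_div_cancel_left _ two_pos]
        rfl
    refine P.ext (fun j => by rw [(h8 j).1, map_one]; rfl) fun j => ?_
    rw [P.s_one]
    refine (h8 j).2.elim id fun h10 => ?_
    rw [← P.even trivial v, Finset.prod_eq_single j (fun b _ hb => (h8 b).2.resolve_right fun h =>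
      hb (Fin.ext (by omega))) (by simp)]
  have k6 : (Cl.lab D P.P fun j => yy (2 * b + 1) u ξ η j) ^ (l * n) = 1 := eq_of_chr D fun v => by
    rw [map_pow, map_one, Cl.chr_lab, ← map_pow]
    refine (congrArg _ (funext fun j => ?_)).trans (map_one _)
    rw [Pi.pow_apply, Pi.one_apply, yy]
    split_ifs
    · rw [← pow_mul, mul_left_comm, pow_mul, hξ.pow_eq_one, one_pow]
    · rw [← pow_mul, ← mul_assoc, mul_comm, pow_mul, hη.pow_eq_one, one_pow]
    · exact one_pow _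
  obtain ⟨ψ, j, hψ⟩ := exists_wit s h1 h3 k4 k5 ((hl.odd_of_ne_two l2).mul (hn.odd_of_ne_two n5)) k6
  obtain ⟨i, hi⟩ := card_two s h1 h3
  have nd : ∀ {r : ℕ}, r.Prime → r ≠ 2 → ∀ i, ¬ r ∣ 2 ^ i := fun hr h2 i e =>
    h2 ((Nat.prime_dvd_prime_iff_eq hr Nat.prime_two).1 (hr.dvd_of_dvd_pow e))
  have e1 : q ∣ pc' p (GF F G) := by
    refine (hq.dvd_mul.1 (show q ∣ pc p (GF F G) * _ from pc_mul_pc' p (GF F G) ▸ hi ▸ hd.mul_right _)).resolve_left
      fun e => hqp ((Nat.prime_dvd_prime_iff_eq hq Fact.out).1 (hq.dvd_of_dvd_pow e))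
  rw [← hψ] at e1
  refine (hE ψ).1 (fun e => ?_) ((hq.dvd_mul.1 ((hq.dvd_mul.1 e1).resolve_right k3)).resolve_right (nd hq q2 j))
  have e2 : l * (u ^ (2 * b + 1) - 1) ∣ Nat.card ↥(GF F G) :=
    (mul_dvd_mul (e.mul_right _) k2).trans (hψ.dvd.trans (Dvd.intro_left _ (pc_mul_pc' p (GF F G))))
  have e3 := (Nat.factorization_le_iff_dvd (mul_ne_zero hl.ne_zero (by omega)) Nat.card_pos.ne').2 e2 l
  have := s.finite
  rw [hi, Nat.factorization_mul hl.ne_zero (by omega), Nat.factorization_mul Nat.card_pos.ne' (by positivity),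
    Finsupp.add_apply, Finsupp.add_apply, hl.factorization_self, Nat.factorization_eq_zero_of_not_dvd (nd hl l2 i)] at e3
  omega

end Cfsg.Agent.PQ.EA.LrD
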