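import Cfsg.Agent.PQ.EA.LrC
import Cfsg.Agent.PQ.EA.LrD1
import Cfsg.Agent.PQ.SS.B
import Cfsg.Agent.KZ.ClD.Row
import Cfsg.Agent.S2098

/-!
# S4982, the rows `LR` of the even dimensional orthogonal groups (helper39)

`lr_plus`, `lr_minus`, **`lrB`**.
-/

set_option autoImplicit false
set_option linter.unusedSectionVars false
set_option maxHeartbeats 400000

namespace Cfsg.Agent.PQ.EA

open Cfsg Subgroup Cfsg.Agent.LV Cfsg.Agent.DL Cfsg.Agent.H17.CR Cfsg.Agent.H630.NH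
open Cfsg.Agent.H377 Cfsg.Agent.LieClassical.OrthCore Cfsg.Agent.LieClassical.OrthForms

namespace LrD

section CD

open Cfsg.Agent.TwoF.DC Cfsg.Agent.TwoF.DC.TC Cfsg.Agent.TwoF.DC.TBD Cfsg.Agent.TwoF.DC.TBD.Cl Cfsg.Agent.KM.BD Sum

variable {F : Type} [Field F] [Fintype F] {p : ℕ} [CharP F p] {m : ℕ} (hm : 4 ≤ m)
include hm

theorem dt_plus (hS : IsSimpleGroup (POmega F (quadFormPlus m F))) (hn : ¬ IsMulCommutative (POmega F (quadFormPlus m F))) :
    Dt p (Fintype.card F) (POmega F (quadFormPlus m F)) := by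
  obtain ⟨f, hp, hq⟩ := FiniteField.card F p
  have : Fact p.Prime := ⟨hp⟩
  have : Fact (2 ≤ m) := ⟨by omega⟩
  let k := AlgebraicClosure F
  let P := tD m k p f f.pos 1
  have hF : (dD m k p).Fa := TE.fa_of_faith (faithD (by omega) p k) (fst m)
  have hπ := ((boxPi p m k _ F (algebraMap F k) _).2 hm _ rfl hF vec_D P hq).1 rfl
  by_cases h5 : m = 4 ∧ Fintype.card F = 2
  · obtain ⟨rfl, h5⟩ := h5
    obtain rfl : p = 2 := (Nat.prime_dvd_prime_iff_eq hp Nat.prime_two).1 (h5 ▸ hq ▸ dvd_pow_self p f.pos.ne')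
    rw [hq]
    exact Lr.dt_cd (cD 4) (two_D 4) (lf_closure F 2) _ P rfl hF (one_pow 2) hS hn hπ (S2098.result h5) (d := 1) (a := 2)
      (by rw [card_sq]; decide) (one_dvd _) fun h => absurd rfl h
  obtain ⟨A, _, hA, -, k2, k3⟩ := mult_plus hp (hq ▸ dvd_pow_self p f.pos.ne') hm h5
  rw [hq] at k3 ⊢
  refine Lr.dt_cd (cD m) (two_D m) (lf_closure F p) _ P rfl hF (one_pow 2) hS hn hπ hA (d := Nat.card A) (a := 0)
    (by rw [pow_zero, mul_one]) k2 fun h2 => ?_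
  obtain ⟨z2, z4⟩ := Nm.card_Zc (D := dD m k p) rfl P h2 (by omega) (Or.inl rfl)
  by_cases h7 : m % 2 = 1 ∧ p ^ (f : ℕ) % 4 = 3
  · exact (Nat.le_of_dvd two_pos (k3 h7)).trans z2
  · exact (Nat.le_of_dvd four_pos k2).trans (z4 (Or.inl ⟨rfl, h7⟩))

theorem dt_minus {a b : F} (hab : ∀ z₁ z₂ : F, z₁ ^ 2 + a * z₁ * z₂ + b * z₂ ^ 2 = 0 → z₁ = 0 ∧ z₂ = 0)
    (hS : IsSimpleGroup (POmega F (quadFormMinus (m - 1) F a b)))
    (hn : ¬ IsMulCommutative (POmega F (quadFormMinus (m - 1) F a b))) :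
    Dt p (Fintype.card F) (POmega F (quadFormMinus (m - 1) F a b)) := by
  obtain ⟨f, hp, hq⟩ := FiniteField.card F p
  have : Fact p.Prime := ⟨hp⟩
  have : Fact (2 ≤ m) := ⟨by omega⟩
  let k := AlgebraicClosure F
  let P := tD m k p f f.pos ⟨gN m, Subgroup.mem_zpowers _⟩
  have hF : (dD m k p).Fa := TE.fa_of_faith (faithD (by omega) p k) (fst m)
  have hπ := ((boxPi p m k _ F (algebraMap F k) _).2 hm _ rfl hF vec_D P hq).2 rfl a b hab
  have hA := S2099.result rfl m hm a b hab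
  rw [hq] at hA ⊢
  refine Lr.dt_cd (cD m) (two_D m) (lf_closure F p) _ P rfl hF (Equiv.ext fun i => gN_gN i) hS hn hπ hA
    (d := Nat.gcd 4 ((p ^ (f : ℕ)) ^ m + 1)) (a := 0) (by rw [card_cyc, pow_zero, mul_one]) (Nat.gcd_dvd_left _ _)
    fun h2 => ?_
  obtain ⟨z2, z4⟩ := Nm.card_Zc (D := dD m k p) rfl P h2 (by omega) (Or.inr rfl)
  by_cases h7 : m % 2 = 1 ∧ p ^ (f : ℕ) % 4 = 3
  · exact (Nat.le_of_dvd four_pos (Nat.gcd_dvd_left _ _)).trans (z4 (Or.inr ⟨rfl, h7⟩))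
  · have h3 := Nm.pow_mod (m := m) (Nat.odd_iff.1 (hp.odd_of_ne_two h2).pow : p ^ (f : ℕ) % 2 = 1)
    rw [if_neg h7] at h3
    exact (Nat.le_of_dvd two_pos (Nm.gcd_dvd_two (by omega))).trans z2

end CD

/-- the exponent of the prime of odd order -/
theorem ev_exc {F : Type} [Field F] [Fintype F] {l : ℕ} {X : Spc F} (hl : Good F l) (hX : IsOE (2 * dd F l) (-1) X)
    (hs : Row.ng F l = false) : (Nat.card X.G).factorization l = (Fintype.card F ^ dd F l - 1).factorization l := by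
  have := Fact.mk hl.prime
  have hd := hl.dd_pos
  have h0 : sg F l = 1 := by rw [Row.sg_eq, hs]; rfl
  have h1 : (Nat.card X.G).factorization l = vv F l := by
    refine (hX.evE hl).trans ?_
    unfold NN
    rw [Nat.mul_div_cancel _ hd, if_pos ⟨trivial, Dvd.intro_left 2 rfl, by rw [h0]; norm_num⟩, nu_one]
  have h3 : ((Fintype.card F : ℤ) ^ 2) ^ dd F l - 1 =
      ((Fintype.card F : ℤ) ^ dd F l - 1) * ((Fintype.card F : ℤ) ^ dd F l - -1) := by ring
  have h5 : ¬ (l : ℤ) ∣ (Fintype.card F : ℤ) ^ dd F l - -1 := fun h =>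
    hl.not_dvd_two (by
      have h6 := dvd_sub h hl.dvd_sg
      rwa [h0, sub_sub_sub_cancel_left] at h6)
  rw [h1, vv, h3, H749.vp_mul l (card_pow_ne hd.ne' (.inl rfl)) (card_pow_ne hd.ne' (.inr rfl)), H749.vp_eq_zero h5,
    add_zero, ← H749.vp_natCast, Nat.cast_sub (Nat.one_le_pow _ _ Fintype.card_pos), Nat.cast_pow, Nat.cast_one]

open Cfsg.Agent.KZ.Dat Cfsg.Agent.KZ.Dat.Om in
/-- **the exceptional case** -/
theorem not_ee_minus {F : Type} [Field F] [Fintype F] {r : ℕ} [CharP F r] (hr : r.Prime) {n : ℕ} (hn : 2 ≤ n) {a b : F}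
    (hab : ∀ z₁ z₂ : F, z₁ ^ 2 + a * z₁ * z₂ + b * z₂ ^ 2 = 0 → z₁ = 0 ∧ z₂ = 0) {S : Type} [Group S]
    (e : S ≃* POmega F (quadFormMinus (n + 1) F a b)) {l q : ℕ} (hl : Good F l) (hq : Good F q) (hqr : q ≠ r)
    (hd : dd F q = dd F l) (h1 : n + 2 = 2 * dd F l) (s1 : Row.ng F l = false) (s2 : Row.ng F q = true)
    (h2 : q ∣ Nat.card S) : ¬ EL.EE l q S := by
  have := Fact.mk hr
  obtain ⟨k, _, _, _, hk, j, hj, f, hF⟩ := hasC r F
  obtain ⟨t, h4, h5⟩ := sitM f hF hk hj hn hab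
  have := Asm.finite_GF (datM n hk hj)
  have := Fintype.ofFinite ↥(GF ((syD n).F k r j) ((osD n).G k))
  have o1 := (Row.ord_of hl).2.2
  have o2 := (Row.ord_of hq).2.2
  rw [s1, if_neg Bool.false_ne_true, Nat.card_eq_fintype_card] at o1
  rw [s2, if_pos rfl, hd, Nat.card_eq_fintype_card] at o2
  have hX := isOE_minus (F := F) (n + 1) hab
  obtain ⟨e'⟩ := hX.minusEquiv (by omega) hab
  have h6 : Nat.card S ∣ Nat.card (stdMinus F (n + 1) a b).G := by
    rw [Nat.card_congr e.toEquiv, ← Nat.card_congr e'.toEquiv]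
    exact (card_quotient_dvd_card _).trans (card_subgroup_dvd_card _)
  refine not_ee (SS.RB.tr t e.symm) h4 (fun z hz => h5 z (e.symm.map_eq_one_iff.1 hz)) (KZ.ClD.spD hk hj (syD n))
    (u := Fintype.card F) (by rw [hF, Nat.cast_pow]; exact KZ.ClD.one_comm (KZ.ClD.smul_BD _)) (KZ.ClD.prod_lsg _ _) Fintype.one_lt_card h1
    o1.2 (by have := Nat.odd_iff.1 o1.2; omega) hl.prime hq.prime hl.ne_two hq.ne_two hqr o1.1 o2 h2 ?_
  rw [← ev_exc hl (h1 ▸ hX) s1]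
  exact (Nat.factorization_le_iff_dvd (fun e => Nat.card_pos.ne' (Nat.eq_zero_of_zero_dvd (e ▸ h6)))
    Nat.card_pos.ne').2 h6 l

end LrD

open Lr LrD

/-- **the row of the orthogonal groups of plus type** -/
theorem lr_plus : AllC (fun r S _ => IsPOmegaPlusChar r S) LR := by
  rintro r S _ _ hS hn hr ⟨F, _, _, _, m, hm, ⟨e⟩⟩
  refine .inl ⟨Fintype.card F, Dt_congr e (dt_plus hm e.symm.isSimpleGroup (KM.BD.noncomm_of e hn)), fun p q h _ => ?_⟩
  obtain ⟨h1, h2⟩ := h.nc r hr (.inr (.inr (.inr (.inr (.inl ⟨F, _, ‹_›, ‹_›, m, hm, ⟨e⟩⟩)))))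
  have hp : Good F p := Lr.good_of hr h.pp h.p2 h1
  have hq : Good F q := Lr.good_of hr h.pq h.q2 h2
  have hT := isOE_plus (F := F) m
  obtain ⟨e'⟩ := hT.plusEquiv (by omega)
  obtain ⟨h3, h4, h5⟩ := cond_O _ (nondeg_plusForm m F) (by
    rw [Fintype.card_sum, Fintype.card_fin]
    omega) (coe_plusForm m F) e e' h
  exact ord_eq hp hq (Row.dd_same (famEven F) hp hq hT h3 h4 h5)
    (Row.ng_congr ((Row.sign_or (famEven F) hp hq hT h3 h4 h5 h.ne).resolve_right fun h => absurd h.2.2 (by decide)))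

/-- **the row of the orthogonal groups of minus type** -/
theorem lr_minus : AllC (fun r S _ => IsPOmegaMinusChar r S) LR := by
  rintro r S _ _ hS hn hr ⟨F, _, _, _, m, a, b, hm, hab, ⟨e⟩⟩
  refine .inl ⟨Fintype.card F, Dt_congr e (dt_minus hm hab e.symm.isSimpleGroup (KM.BD.noncomm_of e hn)),
    fun p q h hE => ?_⟩
  obtain ⟨h1, h2⟩ := h.nc r hr (.inr (.inr (.inr (.inr (.inr (.inl ⟨F, _, ‹_›, ‹_›, m, a, b, hm, hab, ⟨e⟩⟩))))))
  have hp : Good F p := Lr.good_of hr h.pp h.p2 h1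
  have hq : Good F q := Lr.good_of hr h.pq h.q2 h2
  obtain ⟨n, rfl⟩ : ∃ n, m = n + 2 := ⟨m - 2, by omega⟩
  have hT := isOE_minus (F := F) (n + 1) hab
  obtain ⟨e'⟩ := hT.minusEquiv (by omega) hab
  obtain ⟨h3, h4, h5⟩ := cond_O _ (nondeg_minusForm (n + 1) F a b hab) (by
    simp only [Fintype.card_sum, Fintype.card_fin]
    omega) (coe_minusForm (n + 1) F a b) e e' h
  have h6 := Row.dd_same (famEven F) hp hq hT h3 h4 h5
  refine ord_eq hp hq h6 ((Row.sign_or (famEven F) hp hq hT h3 h4 h5 h.ne).elim Row.ng_congr fun h7 => ?_)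
  cases c1 : Row.ng F p <;> cases c2 : Row.ng F q
  · rfl
  · exact absurd hE (not_ee_minus hr (by omega) hab e hp hq h2 h6 (h6 ▸ h7.2.1) c1 c2 h.dq)
  · exact absurd (fun χ => (hE χ).symm) (not_ee_minus hr (by omega) hab e hq hp h1 h6.symm h7.2.1 c2 c1 h.dp)
  · rfl

/-- **the row of the symplectic and orthogonal groups** -/
theorem lrB : AllC SS.ClB LR := fun r S _ _ hS hn hr h => by
  rcases h with h | h | h | h
  exacts [lr_psp r S hS hn hr h, lr_odd r S hS hn hr h, lr_plus r S hS hn hr h, lr_minus r S hS hn hr h]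

end Cfsg.Agent.PQ.EA
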