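import Cfsg.Agent.H630.ExcRowsC
import Cfsg.Agent.H630.ExcRowsE

/-!
# S4982, exceptional groups: two primes with `Cond` have the same parameter (helper37)

`SO p d Q X`; `so_of` (from the tables of helper630); `so_E8`, `so_E7`, `so_E6`, `so_2E6`, `so_F4`, `so_G2`.
-/

set_option autoImplicit false
set_option linter.unusedSectionVars false

namespace Cfsg.Agent.PQ.EA.LrE

open Cfsg Cfsg.Lie Cfsg.Agent.ChevalleyStructure.NPerm Cfsg.Agent.Nodes.RGDChev Cfsg.Agent.H129.TorusChar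
  Cfsg.Agent.H630.NH Cfsg.Agent.H630.Exc

/-- odd primes with `Cond` have the same order of `Q` -/
def SO (p d : ℕ) (Q : ℤ) (X : Type) [Group X] : Prop :=
  ∀ r s : ℕ, r.Prime → s.Prime → r ≠ s → r ≠ 2 → s ≠ 2 → r ≠ p → s ≠ p → ¬ r ∣ d → ¬ s ∣ d → r ∣ Nat.card X →
    s ∣ Nat.card X → Cond {r, s} X → orderOf (Q : ZMod r) = orderOf (Q : ZMod s)

theorem so_of {D : ChevalleyDatum} {l : ℕ} {M : CoxeterMatrix (Fin l)} (hp : IsType D l M) {k : Type} [Field k]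
    {W : Type} [Group W] (cs : CoxeterSystem M W) {p e : ℕ} [hF : Fact p.Prime] [CharP k p] {σ : MulAut ↥(D.group k)}
    {g : (Fin l → ℤ) ≃+ (Fin l → ℤ)} {X : Type} [Group X] {e0 : X →* ↥(D.group k)} {d : ℕ}
    (S : Setup hp cs p e σ g e0 d) [IsAlgClosed k] [Finite W] [Finite X] (hka : BpExc.TorAll.HAlg p k) {ε Q : ℤ}
    (hε : ε = 1 ∨ ε = -1) (hQ : Q = ε * (p ^ e : ℕ)) {degs es : List ℕ}
    (hes : ∀ i ∈ degs, i ≠ 0 ∧ ∀ n < i + 1, n ∣ i → n ∈ es) {N g' : ℕ}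
    (hc : g' * Nat.card X = (p ^ e) ^ N * ((degs.map (fun i => Q ^ i - 1)).prod).natAbs)
    {H : List ℕ} (hReg : ∀ n ∈ H, RegE X p d Q n) {Sp : ℕ → ℕ → Prop}
    (hpair : ∀ n ∈ es, ∀ m ∈ es, n ≠ m → (n ∈ H ∧ ¬ m ∣ n) ∨ (m ∈ H ∧ ¬ n ∣ m) ∨
      (l < n.totient + m.totient ∧ Big l n ∧ Big l m) ∨ Sp n m ∨ Sp m n)
    (hSp : ∀ (π : Set ℕ) (r s : ℕ), r.Prime → s.Prime → r ∈ π → s ∈ π → r ≠ s → r ≠ p → s ≠ p → ¬ r ∣ d →
      s ∣ Nat.card X → Sp (orderOf (Q : ZMod r)) (orderOf (Q : ZMod s)) → ¬ Cond π X) : SO p d Q X := by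
  have h0 : ∀ r : ℕ, r.Prime → r ≠ p → r ∣ Nat.card X →
      orderOf (Q : ZMod r) ∈ es ∧ (Big l (orderOf (Q : ZMod r)) → l + 1 < r) := fun r h1 h2 h3 => by
    refine ⟨?_, fun hb => not_le.1 fun h => hb r (by omega) h1 (ord_dvd h1 (not_dvd_Q hF.out h1 h2 hε hQ))⟩
    rcases h1.dvd_mul.1 (hc ▸ h3.mul_left g') with h | h
    · exact absurd ((Nat.prime_dvd_prime_iff_eq h1 hF.out).1 (h1.dvd_of_dvd_pow (h1.dvd_of_dvd_pow h))) h2
    · obtain ⟨x, hx, h4⟩ := (Prime.dvd_prod_iff (Nat.prime_iff_prime_int.1 h1)).1 (Int.natCast_dvd.2 h)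
      obtain ⟨i, hi, rfl⟩ := List.mem_map.1 hx
      have h5 := (dvd_pow_sub_one_iff i).1 h4
      exact (hes i hi).2 _ (Nat.lt_succ_of_le (Nat.le_of_dvd (Nat.pos_of_ne_zero (hes i hi).1) h5)) h5
  intro r s h1 g1 hrs h2 g2 h3 g3 h4 g4 h5 g5 h
  have hr : r ∈ ({r, s} : Set ℕ) := .inl rfl
  have hs : s ∈ ({r, s} : Set ℕ) := .inr rfl
  by_contra hne
  rcases hpair _ (h0 r h1 h3 h5).1 _ (h0 s g1 g3 g5).1 hne with ⟨h6, h7⟩ | ⟨h6, h7⟩ | ⟨h6, h7, h8⟩ | h6 | h6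
  · exact hReg _ h6 _ r s h1 g1 hr hs hrs h2 h3 h4 g5 rfl h7 h
  · exact hReg _ h6 _ s r g1 h1 hs hr hrs.symm g2 g3 g4 h5 rfl h7 h
  · obtain ⟨x, hx⟩ := exists_mul_order h1 g1 hr hs hrs h5 g5 h
    exact (S.totient_le hp cs hka h1 g1 h3 g3 ((h0 r h1 h3 h5).2 h7) ((h0 s g1 g3 g5).2 h8) hx hε hQ hne).not_gt h6
  · exact hSp _ r s h1 g1 hr hs hrs h3 g3 h4 g5 h6 h
  · exact hSp _ s r g1 h1 hs hr hrs.symm g3 h3 g4 h5 h6 h

variable {r e : ℕ} [hr : Fact r.Prime] {F : Type} [Field F] [Fintype F]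

theorem clo {m : ℕ} (hF : Fintype.card F = r ^ m) : ∃ (k : Type) (_ : Field k) (_ : IsAlgClosed k) (_ : CharP k r),
    Nonempty (F →+* k) ∧ BpExc.TowChev.LocFin k ∧ BpExc.TorAll.HAlg r k ∧ 0 < m := by
  obtain ⟨k, _, _, f, p, hp, _, e, hk, hka, he, h⟩ := H378.TorFin.exists_closure F
  rw [Nat.card_eq_fintype_card, hF] at h
  obtain rfl : p = r := (Nat.prime_dvd_prime_iff_eq hp.out hr.out).1 (hp.out.dvd_of_dvd_pow (h ▸ dvd_pow_self p he.ne'))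
  exact ⟨k, _, ‹_›, ‹_›, ⟨f⟩, hk, hka, Nat.pow_right_injective hr.out.two_le h ▸ he⟩

theorem so_E8 (hF : Fintype.card F = r ^ e) : SO r 1 (r ^ e : ℕ) ↥(chevE8.group F) := by
  obtain ⟨k, _, _, _, ⟨f⟩, hk, hka, he⟩ := clo hF
  have cs := CoxeterMatrix.E₈.toCoxeterSystem
  have := finite_W e8T cs
  have S := setup_untw e8T cs hk f he hF invC_E8 one_ne_zero
  rw [Nat.gcd_one_left] at S
  refine so_of e8T cs S hka (.inl rfl) (one_mul _).symm (degs := [2, 8, 12, 14, 18, 20, 24, 30]) (N := 120) (g' := 1)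
    (es := [1, 2, 3, 4, 5, 6, 7, 8, 9, 10, 12, 14, 15, 18, 20, 24, 30]) (by decide +kernel) ?_
    (reg_E8 cs S (one_mul _).symm) (Sp := fun _ _ => False) (by decide +kernel) fun _ _ _ _ _ _ _ _ _ _ _ _ h => h.elim
  rw [natAbs_prod _ (pow_pos hr.out.pos _), one_mul, S1065.result hF]
  simp only [List.map_cons, List.map_nil, List.prod_cons, List.prod_nil, mul_one]
  ring

theorem so_F4 (hF : Fintype.card F = r ^ e) : SO r 1 (r ^ e : ℕ) ↥(chevF4.group F) := by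
  obtain ⟨k, _, _, _, ⟨f⟩, hk, hka, he⟩ := clo hF
  have cs := CoxeterMatrix.F₄.toCoxeterSystem
  have := finite_W f4T cs
  have S := setup_untw f4T cs hk f he hF invC_F4 one_ne_zero
  rw [Nat.gcd_one_left] at S
  refine so_of f4T cs S hka (.inl rfl) (one_mul _).symm (degs := [2, 6, 8, 12]) (N := 24) (g' := 1)
    (es := [1, 2, 3, 4, 6, 8, 12]) (by decide +kernel) ?_
    (reg_F4 cs S (one_mul _).symm) (Sp := fun _ _ => False) (by decide +kernel) fun _ _ _ _ _ _ _ _ _ _ _ _ h => h.elim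
  rw [natAbs_prod _ (pow_pos hr.out.pos _), one_mul, S1062.result hF]
  simp only [List.map_cons, List.map_nil, List.prod_cons, List.prod_nil, mul_one]
  ring

theorem so_G2 (hF : Fintype.card F = r ^ e) : SO r 1 (r ^ e : ℕ) ↥(chevG2.group F) := by
  obtain ⟨k, _, _, _, ⟨f⟩, hk, hka, he⟩ := clo hF
  have cs := CoxeterMatrix.G₂.toCoxeterSystem
  have := finite_W g2T cs
  have S := setup_untw g2T cs hk f he hF invC_G2 one_ne_zero
  rw [Nat.gcd_one_left] at S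
  refine so_of g2T cs S hka (.inl rfl) (one_mul _).symm (degs := [2, 6]) (N := 6) (g' := 1)
    (es := [1, 2, 3, 6]) (by decide +kernel) ?_
    (reg_G2 cs S (one_mul _).symm) (Sp := fun _ _ => False) (by decide +kernel) fun _ _ _ _ _ _ _ _ _ _ _ _ h => h.elim
  rw [natAbs_prod _ (pow_pos hr.out.pos _), one_mul, S1059.result hF]
  simp only [List.map_cons, List.map_nil, List.prod_cons, List.prod_nil, mul_one]
  ring

theorem SO.mono {p d d' : ℕ} {Q : ℤ} {X : Type} [Group X] (h : SO p d Q X) (hd : d ∣ d') : SO p d' Q X :=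
  fun r s h1 h2 h3 h4 h5 h6 h7 h8 h9 => h r s h1 h2 h3 h4 h5 h6 h7 (fun e => h8 (e.trans hd)) fun e => h9 (e.trans hd)

theorem so_E7 (hF : Fintype.card F = r ^ e) : SO r 2 (r ^ e : ℕ) ↥(chevE7.group F) := by
  obtain ⟨k, _, _, _, ⟨f⟩, hk, hka, he⟩ := clo hF
  have cs := CoxeterMatrix.E₇.toCoxeterSystem
  have := finite_W e7T cs
  have S := setup_untw e7T cs hk f he hF invC_E7 two_ne_zero
  refine (so_of e7T cs S hka (.inl rfl) (one_mul _).symm (degs := [2, 6, 8, 10, 12, 14, 18]) (N := 63)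
    (g' := Nat.gcd 2 (r ^ e - 1)) (es := [1, 2, 3, 4, 5, 6, 7, 8, 9, 10, 12, 14, 18]) (by decide +kernel) ?_
    (reg_E7 cs S (one_mul _).symm) (Sp := SpE7) (by decide +kernel) ?_).mono (Nat.gcd_dvd_left _ _)
  · rw [natAbs_prod _ (pow_pos hr.out.pos _), S1064.result hF]
    simp only [List.map_cons, List.map_nil, List.prod_cons, List.prod_nil, mul_one]
    ring
  · rintro π s t hs ht h1 h2 h3 h4 h5 h6 h7 ⟨h8, h9⟩
    obtain ⟨k1, k2, k3⟩ := (by decide +kernel : ∀ m ∈ [5, 7, 8, 9, 10, 12, 14, 18], Big 7 m ∧ m ≠ 4 ∧ 4 ≤ m.totient) _ h9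
    have k4 : 8 < t := not_le.1 fun h => k1 t (by omega) ht (ord_dvd ht (not_dvd_Q hr.out ht h5 (.inl rfl) (one_mul _).symm))
    rw [Int.cast_natCast] at h8 k2 k3
    exact H234.NotCond.not_cond_E7_four cs hka S hs ht h1 h2 h3 h4 h5 h6 h7 k4 h8 k2 k3

theorem so_E6 (hF : Fintype.card F = r ^ e) : SO r 3 (r ^ e : ℕ) ↥(chevE6.group F) := by
  obtain ⟨k, _, _, _, ⟨f⟩, hk, hka, he⟩ := clo hF
  have cs := CoxeterMatrix.E₆.toCoxeterSystem
  have := finite_W e6T cs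
  have S := setup_untw e6T cs hk f he hF invC_E6 three_ne_zero
  refine (so_of e6T cs S hka (.inl rfl) (one_mul _).symm (degs := [2, 5, 6, 8, 9, 12]) (N := 36)
    (g' := Nat.gcd 3 (r ^ e - 1)) (es := [1, 2, 3, 4, 5, 6, 8, 9, 12]) (by decide +kernel) ?_
    (reg_E6 cs S (.inl rfl) (one_mul _).symm (hasTor_one e6T cs)) (Sp := fun _ _ => False) (by decide +kernel)
    fun _ _ _ _ _ _ _ _ _ _ _ _ h => h.elim).mono (Nat.gcd_dvd_left _ _)
  rw [natAbs_prod _ (pow_pos hr.out.pos _), S1063.result hF]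
  simp only [List.map_cons, List.map_nil, List.prod_cons, List.prod_nil, mul_one]
  ring

theorem so_2E6 (hF : Fintype.card F = (r ^ e) ^ 2) : SO r 3 (-(r ^ e : ℕ)) ↥(twistedE6 F (r ^ e)) := by
  obtain ⟨k, _, _, _, ⟨f⟩, hk, hka, he⟩ := clo (hF.trans (pow_mul _ _ _).symm)
  have h0 : 0 < e := by omega
  have hq := hr.out.isPrimePow.pow h0.ne'
  have cs := CoxeterMatrix.E₆.toCoxeterSystem
  have := finite_W e6T cs
  have S := setup_twE6 cs hk f h0 rfl hq hF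
  refine (so_of e6T cs S hka (.inr rfl) (neg_one_mul _).symm (degs := [2, 5, 6, 8, 9, 12]) (N := 36)
    (g' := Nat.gcd 3 (r ^ e + 1)) (es := [1, 2, 3, 4, 5, 6, 8, 9, 12]) (by decide +kernel) ?_
    (reg_E6 cs S (.inr rfl) (neg_one_mul _).symm (hasTor_tw cs)) (Sp := fun _ _ => False) (by decide +kernel)
    fun _ _ _ _ _ _ _ _ _ _ _ _ h => h.elim).mono (Nat.gcd_dvd_left _ _)
  rw [S1066.result hq hF]
  clear S
  generalize r ^ e = q at hq
  have ev : ∀ i : ℕ, Even i → ((-(q : ℤ)) ^ i - 1).natAbs = q ^ i - 1 := fun i hi => by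
    rw [hi.neg_pow, ← Nat.cast_pow, ← Nat.cast_pred (pow_pos hq.pos i), Int.natAbs_natCast]
  have od : ∀ i : ℕ, Odd i → ((-(q : ℤ)) ^ i - 1).natAbs = q ^ i + 1 := fun i hi => by
    rw [hi.neg_pow, ← neg_add', Int.natAbs_neg, ← Nat.cast_pow, ← Nat.cast_succ, Int.natAbs_natCast]
  simp only [List.map_cons, List.map_nil, List.prod_cons, List.prod_nil, mul_one, Int.natAbs_mul]
  rw [ev 2 (by decide), od 5 (by decide), ev 6 (by decide), ev 8 (by decide), od 9 (by decide), ev 12 (by decide)]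
  ring

end Cfsg.Agent.PQ.EA.LrE
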