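import Cfsg.Agent.PQ.EA.LrDt
import Cfsg.Agent.PQ.EA.LrO
import Cfsg.Agent.KM.Sc.E4
import Cfsg.Agent.KZ.DatX.Weyl
import Cfsg.Agent.H371.HT.Three
import Cfsg.Agent.S2100
import Cfsg.Agent.S2101
import Cfsg.Agent.S2102
import Cfsg.Agent.S2103
import Cfsg.Agent.S2104
import Cfsg.Agent.S2107

/-!
# S4982, the row `LR` for the exceptional Chevalley groups and `²E₆` (helper37)

`lr_chev : AllC (fun r S _ => IsExceptionalChevChar r S) LR`, `lr_2E6`.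
-/

set_option autoImplicit false
set_option linter.unusedSectionVars false

namespace Cfsg.Agent.PQ.EA

open Cfsg Cfsg.Lie Cfsg.Agent.LV Cfsg.Agent.DL Cfsg.Agent.KZ.DatX Cfsg.Agent.KM Cfsg.Agent.KM.Sc
  Cfsg.Agent.Nodes.RGDChev Cfsg.Agent.H371.HT
open Cfsg.Agent.TO.X.Cn (PM pi1 pm_G2 pm_F4 pm_E8)

namespace LrE

variable {C : ChevalleyDatum} {n : ℕ} {M : CoxeterMatrix (Fin n)} {hp : IsType C n M} {r e : ℕ} [hr : Fact r.Prime]
  {S T : Type} [Group S] [Group T] {u : ℤ} {b : ℕ}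

/-- primes with abelian Sylow subgroups are large -/
def Lg (r b : ℕ) (S : Type) [Group S] : Prop := ∀ l : ℕ, l.Prime → l ≠ 2 → l ≠ r → AbS l S → b ≤ l

/-- both halves of the first branch -/
theorem lr_of [Finite S] (i : S ≃* T) (hL : IsLieTypeChar r S) {d : ℕ} (h1 : Dt r u T) (h2 : SO r d u T) (h3 : Lg r b T)
    (hd : 0 < d ∧ d < b) : LR r S := .inl ⟨u, Lr.Dt_congr i h1, fun p q h _ => by
  have k1 := h.nc r hr.out hL
  have k2 : ∀ l : ℕ, l.Prime → l ≠ 2 → l ≠ r → AbS l S → ¬ l ∣ d := fun l a1 a2 a3 a4 a5 =>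
    ((Nat.le_of_dvd hd.1 a5).trans_lt hd.2).not_ge (h3 l a1 a2 a3 (Lr.abS_congr i a4))
  exact h2 p q h.pp h.pq h.ne h.p2 h.q2 k1.1 k1.2 (k2 p h.pp h.p2 k1.1 h.abp) (k2 q h.pq h.q2 k1.2 h.abq)
    (Nat.card_congr i.toEquiv ▸ h.dp) (Nat.card_congr i.toEquiv ▸ h.dq) ((Lr.cond_of_comS h.pp h.pq h.com).congr i)⟩

theorem dt_sc {Mx : Matrix (Fin n) (Fin n) ℤ} {Adm : Matrix (Fin n) (Fin n) ℤ → Prop} {z d : ℕ}
    (h : HasSc hp r Mx Adm z d S) (hs : IsSimpleGroup S) (hn : ¬ IsMulCommutative S) (hz : z.Prime ∧ z < 5) (h5 : Lg r 5 S)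
    (hL : ∀ l, 5 ≤ l → ∀ [Fact l.Prime], LX hp l) (hw : ∀ (k : Type) [Field k] [CharP k r] [IsAlgClosed k] (X : XF hp r k Mx),
      ∃ w, Mx = u • X.D.Wm w ∧ X.D.Wm w ^ 2 = 1) : Dt r u S := by
  obtain ⟨k, _, _, _, X, t, -, Y, _, N, _, _, ρ, F, X', θ, s, ⟨I⟩, -, h1⟩ := h
  obtain ⟨w, h2, h3⟩ := hw k X
  refine dt_of_isog I s h1 hs hn h2 h3 fun l k1 k2 k3 _ k4 => ?_
  have := Fact.mk k1
  have k5 := h5 l k1 k2 k3 k4
  exact ⟨(Nat.coprime_primes k1 hz.1).2 (by omega), fun e => by have := Nat.le_of_dvd two_pos e; omega, hL l k5 r k Mx X⟩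

theorem dt_one {B : Matrix (Fin n) (Fin n) ℤ} (h : Nt.HasNT hp r (u • B) 1 S) (hT : Tr r S) {f m : ℕ} (hP : PM C n f)
    (hB : B ^ m = 1) (hb : Lg r b S) (hf : ∀ l, l.Prime → b ≤ l → l.Coprime f ∧ ¬ l ∣ m)
    (hL : ∀ (k : Type) [Field k] [CharP k r] [IsAlgClosed k] (X : XF hp r k (u • B)) (l : ℕ), l.Prime → b ≤ l →
      Tor.Lev X.D l) : Dt r u S := by
  obtain ⟨k, _, _, _, X, -, ⟨s⟩⟩ := h
  refine dt_of_iso (X := X.D) s.ov.equiv.symm hT fun l k1 k2 k3 _ k4 => ?_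
  have k5 := hb l k1 k2 k3 k4
  exact ⟨⟨X.D_qs, k1, k3, ⟨f, pi1 X hP, (hf l k1 k5).1⟩, hL k X l k1 k5⟩, B, m, rfl, hB, (hf l k1 k5).2⟩

theorem tr_cyc {a : ℕ} (h : HasCyclicSchurMultiplier S (r ^ a)) : Tr r S :=
  have : NeZero (r ^ a) := ⟨pow_ne_zero a hr.out.ne_zero⟩
  tr_of_mult h (.of_card ((Nat.card_congr Multiplicative.toAdd).trans (Nat.card_zmod _)))

theorem one_one (l : ℕ) (h : l.Prime) (_ : b ≤ l) : l.Coprime 1 ∧ ¬ l ∣ 1 := ⟨Nat.coprime_one_right l, h.not_dvd_one⟩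

variable {F : Type} [Field F] [Fintype F]

theorem nd (hF : Fintype.card F = r ^ e) {l : ℕ} (hl : l.Prime) (h : l ≠ r) : ¬ l ∣ Fintype.card F := fun h1 =>
  h ((Nat.prime_dvd_prime_iff_eq hl hr.out).1 (hl.dvd_of_dvd_pow (hF ▸ h1)))

theorem lg_of (hF : Fintype.card F = r ^ e) (h : ¬ 3 ∣ Fintype.card F → ¬ AbS 3 S) : Lg r 5 S := fun l h1 h2 h3 h4 =>
  h1.five_le_of_ne_two_of_ne_three h2 fun h5 => h (h5 ▸ nd hF h1 h3) (h5 ▸ h4)

theorem lg_E8 (hF : Fintype.card F = r ^ e) : Lg r 7 ↥(chevE8.group F) := fun l h1 h2 h3 h4 => by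
  have h5 := lg_of hF (not_ab_untw (D := chevE8) (by simp)) l h1 h2 h3 h4
  have h6 : l ≠ 5 := fun h => not_ab_e8_five (h ▸ nd hF h1 h3) (h ▸ h4)
  have h7 : l ≠ 6 := fun h => absurd (h ▸ h1) (by decide)
  omega

theorem eq_of_card (hF : Fintype.card F = r ^ e) {p a : ℕ} (hp : p.Prime) (h : Fintype.card F = p ^ (a + 1)) : p = r :=
  (Nat.prime_dvd_prime_iff_eq hp hr.out).1 (hp.dvd_of_dvd_pow (hF ▸ h ▸ dvd_pow_self p a.succ_ne_zero))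

theorem tr_G2 (hF : Fintype.card F = r ^ e) (h : 3 ≤ Fintype.card F) : Tr r ↥(chevG2.group F) := by
  obtain h | h | h : Fintype.card F = 3 ∨ Fintype.card F = 4 ∨ 5 ≤ Fintype.card F := by omega
  · obtain rfl := eq_of_card hF (a := 0) Nat.prime_three h
    exact tr_cyc (a := 1) (S2101.result h)
  · obtain rfl := eq_of_card hF (a := 1) Nat.prime_two h
    exact tr_cyc (a := 1) (S2102.result h)
  · exact tr_cyc (a := 0) (S2100.result h)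

theorem tr_F4 (hF : Fintype.card F = r ^ e) : Tr r ↥(chevF4.group F) := by
  obtain h | h : Fintype.card F = 2 ∨ 3 ≤ Fintype.card F := by have := Fintype.one_lt_card (α := F); omega
  · obtain rfl := eq_of_card hF (a := 0) Nat.prime_two h
    exact tr_cyc (a := 1) (S2104.result h)
  · exact tr_cyc (a := 0) (S2103.result h)

theorem not_comm (i : S ≃* T) (hn : ¬ IsMulCommutative S) : ¬ IsMulCommutative T := fun h =>
  hn ⟨⟨fun a b => i.injective (by rw [map_mul, map_mul, h.1.1])⟩⟩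

theorem wm_one {Mx : Matrix (Fin n) (Fin n) ℤ} (h : Mx = u • 1) (k : Type) [Field k] [CharP k r] [IsAlgClosed k]
    (X : XF hp r k Mx) : ∃ w, Mx = u • X.D.Wm w ∧ X.D.Wm w ^ 2 = 1 :=
  ⟨1, h.trans (congrArg _ X.D.Wm_one.symm), by rw [X.D.Wm_one, one_pow]⟩

end LrE

open LrE

/-- **`G₂`, `F₄`, `E₆`, `E₇`, `E₈`** -/
theorem lr_chev : AllC (fun r S _ => IsExceptionalChevChar r S) LR := by
  intro r S _ _ hs hn hr h
  have hL : IsLieTypeChar r S := .inr (.inr (.inr (.inr (.inr (.inr (.inl h))))))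
  obtain ⟨F, _, _, _, h⟩ := h
  have := Fact.mk hr
  obtain ⟨e, -, hF⟩ := FiniteField.card F r
  have c : ((r ^ (e : ℕ) : ℕ) : ℤ) = (r : ℤ) ^ (e : ℕ) := Nat.cast_pow _ _
  have g : ∀ D ∈ [chevG2, chevF4, chevE6, chevE7, chevE8], Lg r 5 ↥(D.group F) := fun D hD => lg_of hF (not_ab_untw hD)
  rcases h with ⟨h, ⟨i⟩⟩ | ⟨⟨i⟩⟩ | ⟨⟨i⟩⟩ | ⟨⟨i⟩⟩ | ⟨⟨i⟩⟩
  · exact lr_of i hL (dt_one (Nt.has_G2 hF h) (tr_G2 hF h) pm_G2 (pow_one 1) (g _ (by simp)) one_one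
      fun _ _ _ _ X _ => Ex.lev_G2 X) (c ▸ so_G2 hF) (g _ (by simp)) (by decide)
  · exact lr_of i hL (dt_one (Nt.has_F4 hF) (tr_F4 hF) pm_F4 (pow_one 1) (g _ (by simp)) one_one
      fun _ _ _ _ X _ => Ex.lev_F4 X) (c ▸ so_F4 hF) (g _ (by simp)) (by decide)
  · exact lr_of i hL (dt_sc (sc_E6 hF) i.symm.isSimpleGroup (not_comm i hn) (by decide) (g _ (by simp))
      (fun _ h _ => lx6 h) (wm_one rfl)) (c ▸ so_E6 hF) (g _ (by simp)) (by decide)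
  · exact lr_of i hL (dt_sc (sc_E7 hF) i.symm.isSimpleGroup (not_comm i hn) (by decide) (g _ (by simp))
      (fun _ h _ => lx7 h) (wm_one rfl)) (c ▸ so_E7 hF) (g _ (by simp)) (by decide)
  · exact lr_of i hL (dt_one (Nt.has_E8 hF) (tr_cyc (a := 0) S2107.result) pm_E8 (pow_one 1) (lg_E8 hF) one_one
      fun _ _ _ _ X _ => Ex.lev_E8 X) (c ▸ so_E8 hF) (lg_E8 hF) (by decide)

/-- **`²E₆`** -/
theorem lr_2E6 {r : ℕ} {S : Type} [Group S] [Finite S] (hs : IsSimpleGroup S) (hn : ¬ IsMulCommutative S) (hr : r.Prime)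
    {F : Type} [Field F] [Fintype F] [CharP F r] {q : ℕ} (hq : IsPrimePow q) (hF : Fintype.card F = q ^ 2)
    (i : S ≃* ↥(twistedE6 F q)) : LR r S := by
  have hL : IsLieTypeChar r S :=
    .inr (.inr (.inr (.inr (.inr (.inr (.inr (.inl ⟨F, _, _, ‹_›, q, hq, .inl ⟨hF, ⟨i⟩⟩⟩)))))))
  obtain ⟨p, e, _, h1, -, -, rfl, -⟩ := Tw.setup hq two_ne_zero hF
  obtain rfl : r = p := CharP.eq F ‹CharP F r› h1
  have g : Lg r 5 ↥(twistedE6 F (r ^ e)) := lg_of (hF.trans (pow_mul _ _ _).symm) (not_ab_twE6 hq hF)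
  refine lr_of i hL (dt_sc (sc_2E6 hF) i.symm.isSimpleGroup (not_comm i hn) (by decide) g (fun _ h _ => lx6 h)
    fun k _ _ _ X => ?_) (so_2E6 hF) g (by decide)
  obtain ⟨w, hw⟩ := X.exists_neg_E6
  exact ⟨w, by rw [hw, Nat.cast_pow]; exact (neg_smul_neg _ _).symm, by rw [hw]; exact (neg_sq _).trans Nt.P6_sq⟩

end Cfsg.Agent.PQ.EA
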