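import Cfsg.Agent.PQ.EA.LrG2
import Cfsg.Agent.PQ.EA.LrE
import Cfsg.Agent.PQ.Fa.Sz
import Cfsg.Agent.H315.Cov.Exc
import Cfsg.Agent.H371.HT.Three

/-!
# S4982, the rows `LR` of the exceptional groups (helper73)

`lr_sz`, `lr_ree`, `lr_tf4`, `lr_td4`, **`lrX`**.
-/

set_option autoImplicit false
set_option linter.unusedSectionVars false

namespace Cfsg.Agent.PQ.EA

namespace LrG

open Cfsg Cfsg.Lie Cfsg.Agent.LV Cfsg.Agent.LV.Blk Cfsg.Agent.DL Cfsg.Agent.DL.PP Cfsg.Agent.KZ.Lie Cfsg.Agent.PQ.Two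
  Cfsg.Agent.KZ.DatX Cfsg.Agent.KZ.McX Cfsg.Agent.KZ.G2 Cfsg.Agent.LV.Lab Cfsg.Agent.Nodes.RGDChev
  Cfsg.Agent.ChevalleyStructure.NPerm Cfsg.Agent.ChevalleyStructure.CoxeterGeomTypes Cfsg.Agent.H315.Cov Matrix

section X

variable {C : ChevalleyDatum} {n : ℕ} {M : CoxeterMatrix (Fin n)} {hp : IsType C n M} {p : ℕ} [Fact p.Prime] {k : Type}
  [Field k] [CharP k p] [IsAlgClosed k] {l : ℕ}

theorem wm_mem {Mx : Matrix (Fin n) (Fin n) ℤ} (X : XF hp p k Mx) {A : List (List ℤ)} (hA : IsRows C n A)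
    {L : List (Matrix (Fin n) (Fin n) ℤ)} (h : 1 ∈ L ∧ ∀ B ∈ L, ∀ i, sT n A i * B ∈ L) (w : M.Group) : Ck.wm X w ∈ L := by
  have e : ∀ i, sM C n i = sT n A i := fun i => by
    ext a b
    rw [sM, sT, of_apply, of_apply, tb, hA, getD_ofFn]
  obtain ⟨V, -, h1⟩ := X.exists_word w
  rw [show Ck.wm X w = (V.map (sM C n)).prod from h1]
  clear h1
  induction V with
  | nil => exact h.1
  | cons i V ih => rw [List.map_cons, List.prod_cons, e]; exact h.2 _ ih i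

theorem det_word {Mx : Matrix (Fin n) (Fin n) ℤ} (X : XF hp p k Mx) (L : List (Fin n)) :
    sgZ X.D (M.toCoxeterSystem.wordProd L) = (-1) ^ L.length := by
  induction L with
  | nil => rw [CoxeterSystem.wordProd_nil]; exact map_one (sgZ X.D)
  | cons i L ih =>
    rw [CoxeterSystem.wordProd_cons, List.length_cons, pow_succ', ← ih]
    exact (map_mul (sgZ X.D) _ _).trans (congrArg (· * _)
      ((congrArg (sgZ X.D) (X.D.rf_sr i)).symm.trans (sgZ_rf (D := X.D) (Tits.Roots.isRoot_sr _ _ i))))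

theorem ca_of {Mx : Matrix (Fin n) (Fin n) ℤ} (X : XF hp p k Mx) {S : Type} [Group S] [Finite S] (e : S ≃* ↥(GF X.F ⊤))
    {b q : ℕ} (hB : BoxX hp b) (h : Pair l q S) (hb : b ≤ l) (hl : l ≠ p) (hs : l ∣ Nat.card ↥(GF X.F ⊤) → Sg X.D l) :
    CA l S := by
  have := X.finite
  have := Fintype.ofFinite ↥(GF X.F ⊤)
  exact CA.of_equiv h.pp e fun P a ha b hb' => cen_comm h.pp hl (hB X h.pp hb hl) (Lr.abS_congr e h.abp)
    (hs (Nat.card_congr e.toEquiv ▸ h.dp)) P ha hb'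

variable {Γ : Matrix (Fin n) (Fin n) ℤ} {Q : ℤ} (X : XF hp p k (Q • Γ)) {cp : Matrix (Fin n) (Fin n) ℤ → ℤ × ℤ × ℤ × ℤ}
  (hc : ∀ x t, (t • x - 1).det = ev4 (cp x) t) [hl : Fact l.Prime] (hd : l ∣ Nat.card ↥(GF X.F ⊤))

include hc

theorem ordT_eq (w : M.Group) : ordT X.D w = (ev4 (cp (Ck.wm X w * Γ)) Q).natAbs := by
  rw [← hc, ← mul_smul_comm]
  rfl

include hd

theorem sg_of {Bad Good : List (ℤ × ℤ × ℤ × ℤ)} (h : Ar l Q Bad Good)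
    (h1 : ∀ w, (Ck.wm X w).det = -1 → cp (Ck.wm X w * Γ) ∈ Bad) (h2 : ∀ c ∈ Good, ∃ w, cp (Ck.wm X w * Γ) = c) :
    Sg X.D l := fun _ w _ hw _ hs => by
  have := X.finite
  have := Fintype.ofFinite ↥(GF X.F ⊤)
  have e : ∀ w, (ordT X.D w).factorization l = padicValInt l (ev4 (cp (Ck.wm X w * Γ)) Q) := fun w =>
    (Nat.factorization_def _ hl.out).trans (congrArg (padicValNat l) (ordT_eq X hc w))
  have e0 : ∀ w, ev4 (cp (Ck.wm X w * Γ)) Q ≠ 0 := fun w => Int.natAbs_ne_zero.1 (ordT_eq X hc w ▸ ordT_ne (D := X.D) w)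
  have h3 := h _ (h1 w hw) (e0 w) fun c hc => by
    obtain ⟨v, rfl⟩ := h2 c hc
    exact ⟨e0 v, e v ▸ e w ▸ (fact_T_le (D := X.D) l v).trans_eq hs⟩
  have h4 := (hl.out.dvd_iff_one_le_factorization Nat.card_pos.ne').1 hd
  rw [hs, e, h3] at h4
  omega

theorem sg_of2 {c : ℤ × ℤ × ℤ × ℤ} {Bad : List (ℤ × ℤ × ℤ × ℤ)} (h : (l : ℤ) ∣ ev4 c Q → ∀ b ∈ Bad, ¬ (l : ℤ) ∣ ev4 b Q)
    (h1 : ∀ w, ((Ck.wm X w).det = 1 → cp (Ck.wm X w * Γ) = c) ∧ ((Ck.wm X w).det = -1 → cp (Ck.wm X w * Γ) ∈ Bad)) :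
    Sg X.D l := fun v w hv hw hs hs' => by
  have := X.finite
  have e : ∀ w, SylT X.D l w → (l : ℤ) ∣ ev4 (cp (Ck.wm X w * Γ)) Q := fun w hs =>
    Int.natCast_dvd.2 (((hl.out.dvd_iff_one_le_factorization (ordT_ne (D := X.D) w)).2
      (((hl.out.dvd_iff_one_le_factorization Nat.card_pos.ne').1 hd).trans_eq hs)).trans (dvd_of_eq (ordT_eq X hc w)))
  exact h ((h1 v).1 hv ▸ e v hs) _ ((h1 w).2 hw) (e w hs')

end X

theorem boxB2 : BoxX hpB2 3 :=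
  box_of (B := [[2, 1], [1, 1]]) (B' := [[1, -1], [-1, 2]]) (m := 1) isRows_B2 (by decide +kernel) (by omega) (by omega)
    (by omega) good_B2

theorem cp2_det (x : Matrix (Fin 2) (Fin 2) ℤ) : (cp2 x).2.1 = x.det := (det_fin_two x).symm

theorem goodT : ∀ c ∈ ([(0, -4, 0, 4), (0, 4, 0, 4), (4, 8, 8, 4), (-4, 8, -8, 4)] : List (ℤ × ℤ × ℤ × ℤ)),
    ∃ L ∈ ([[], [0, 1, 2, 3, 1, 2, 0, 1, 2, 0, 1, 0], [0, 1, 2, 0, 1, 0],
      [0, 1, 2, 3, 1, 2, 0, 1, 2, 3, 1, 2, 0, 1, 2, 0, 1, 0]] : List (List (Fin 4))), cp4 (mW L G4) = c := by decide +kernel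

theorem goodD : ∀ c ∈ ([(1, 0, 1, 1), (-1, 0, -1, 1), (2, 3, 2, 1), (-2, 3, -2, 1)] : List (ℤ × ℤ × ℤ × ℤ)),
    ∃ n ∈ ([0, 81, 30, 142] : List (Fin 192)), cf (mF 4 (eD n) pD) = c := by decide +kernel

variable {S : Type} [Group S] [Finite S]

theorem lr_sz (h : IsoSuzuki S) : LR 2 S := by
  obtain ⟨K, _, _, m, hm, hK, ⟨i⟩⟩ := h
  refine .inr ⟨tr_of fun l hl h2 => (noMul_sz hl hm hK fun e => h2 e.1).congr i, zz_of fun l q h => ?_⟩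
  obtain ⟨k, _, _, _, X, ⟨s⟩⟩ := (Fa.has_2B2 hm hK).congr i
  have := Fact.mk h.pp
  exact ca_of X s.ov.equiv boxB2 h (h.pp.two_le.lt_of_ne h.p2.symm) h.p2 fun hd => sg_of2 X det_cp2 hd (arS _) fun w => by
    have h1 := tabB _ (wm_mem X isRows_B2 cloB w)
    rwa [cp2_det, ← GamB_eq] at h1

theorem lr_ree (h : IsoRee S) : LR 3 S := by
  have h0 : IsLieTypeChar 3 S := .inr (.inr (.inr (.inr (.inr (.inr (.inr (.inr (.inr (.inr ⟨rfl, h⟩)))))))))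
  obtain ⟨K, _, _, m, hm, hK, ⟨i⟩⟩ := h
  refine .inr ⟨tr_of fun l hl _ => (noMul_ree hl hm hK).congr i, zz_of fun l q h => ?_⟩
  have := Fact.mk Nat.prime_three
  obtain ⟨k, _, _, _, X, ⟨s⟩⟩ := (has_2G2 hm hK).congr i
  have := Fact.mk h.pp
  have h3 := (h.nc 3 Nat.prime_three h0).1
  have h5 := h.pp.five_le_of_ne_two_of_ne_three h.p2 h3
  exact ca_of X s.ov.equiv boxG2 h h5 h3 fun hd => sg_of2 X det_cp2 hd (arR h5 _) fun w => by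
    have h1 := tabG _ (wm_mem X isRows_G2 cloG w)
    rwa [cp2_det, ← GamG_eq] at h1

theorem lr_tf4 (h : Iso2F4 S) : LR 2 S := by
  have h3 := H371.HT.not_ab_iso2F4 h
  obtain ⟨K, _, _, m, hm, hK, ⟨i⟩⟩ := h
  refine .inr ⟨tr_of fun l hl _ => (noMul_tf4 hl hm hK).congr i, zz_of fun l q h => ?_⟩
  obtain ⟨k, _, _, _, X, ⟨s⟩⟩ := (has_2F4 hm hK).congr i
  have := Fact.mk h.pp
  have h5 := h.pp.five_le_of_ne_two_of_ne_three h.p2 fun e => h3 (e ▸ h.abp)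
  have e : ∀ L, Ck.wm X (CoxeterMatrix.F₄.toCoxeterSystem.wordProd L) * GamF = mW L G4 := fun L =>
    (congrArg₂ (fun A B : Matrix (Fin 4) (Fin 4) ℤ => A * B) (X.Wm_word L) GamF_eq).trans (mW_eq L G4).symm
  refine ca_of X s.ov.equiv boxF4 h h5 h.p2 fun hd => sg_of X det_cp4 hd (arT h5 _) (fun w hw => ?_) fun c hc => ?_
  · obtain ⟨L, h1, rfl⟩ := exists_wordF4 X w
    refine e L ▸ (tabF L h1).resolve_left fun h2 => ?_
    have h4 := (det_word X L).symm.trans hw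
    rw [(Nat.even_iff.2 h2).neg_one_pow] at h4
    omega
  · obtain ⟨L, -, h1⟩ := goodT c hc
    exact ⟨_, (congrArg cp4 (e L)).trans h1⟩

theorem cp4_det (x : Matrix (Fin 4) (Fin 4) ℤ) : (cp4 x).2.2.2 = x.det := by
  simp [det_succ_row_zero, Fin.sum_univ_succ, Fin.succAbove, cp4, mn3]
  ring

theorem lr_td4 {r : ℕ} {K : Type} [Field K] [Fintype K] [CharP K r] {q : ℕ} (hq : IsPrimePow q) (hK : Fintype.card K = q ^ 3)
    (i : S ≃* ↥(twistedD4 K q)) : LR r S := by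
  refine .inr ⟨tr_of fun l hl _ => (noMul_td4 hl hq hK).congr i, zz_of fun l q' h => ?_⟩
  obtain ⟨p, e, _, _, -, he, rfl, -⟩ := Tw.setup hq three_ne_zero hK
  obtain ⟨k, _, _, _, X, ⟨s⟩⟩ := (has_3D4 hK).congr i
  have := Fact.mk h.pp
  have h0 := (h.nc p Fact.out
    (.inr (.inr (.inr (.inr (.inr (.inr (.inr (.inl ⟨K, _, _, ‹_›, _, hq, .inr ⟨hK, ⟨i⟩⟩⟩))))))))).1
  have h5 := h.pp.five_le_of_ne_two_of_ne_three h.p2 fun e' => H371.HT.not_ab_twD4 hq hK (fun h4 => h0 (e'.trans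
    ((Nat.prime_dvd_prime_iff_eq Nat.prime_three Fact.out).1
      (Nat.prime_three.dvd_of_dvd_pow (Nat.prime_three.dvd_of_dvd_pow (hK ▸ h4)))))) (Lr.abS_congr i (e' ▸ h.abp))
  obtain ⟨ε, hε⟩ := ckD.exists_equiv X card_W_D4
  have e : ∀ w, cp4 (Ck.wm X w * P4) = cf (mF 4 (eD (ε w)) pD) := fun w => by
    rw [hε, ← toM_pD, ← toM_mF]
    rfl
  refine ca_of X s.ov.equiv boxD4 h (by omega) h0 fun hd => sg_of X det_cp4 hd (arD h5 _) (fun w hw => ?_) fun c hc => ?_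
  · refine e w ▸ (tabD _ (ε w).2).resolve_left fun h2 => ?_
    rw [hε, ← cp4_det] at hw
    exact absurd (h2.symm.trans hw) (by decide)
  · obtain ⟨n, -, h1⟩ := goodD c hc
    exact ⟨ε.symm n, (e _).trans (by rwa [ε.apply_symm_apply])⟩

end LrG

open LrG in
/-- **the rows of the exceptional groups** -/
theorem lrX : AllC SS.Ex LR := by
  rintro r S _ _ hs hn hr (h | ⟨K, _, _, _, q, hq, ⟨hK, ⟨i⟩⟩ | ⟨hK, ⟨i⟩⟩⟩ | ⟨rfl, h⟩ | ⟨rfl, h⟩ | ⟨rfl, h⟩)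
  exacts [lr_chev r S hs hn hr h, lr_2E6 hs hn hr hq hK i, lr_td4 hq hK i, lr_sz h, lr_tf4 h, lr_ree h]

end Cfsg.Agent.PQ.EA
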