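import Cfsg.Agent.PQ.EA.Defs2
import Cfsg.Agent.PQ.Two.Main

/-!
# S4982, the small exceptional groups: centralisers of Sylow subgroups are abelian (helper73)

* `Sg D l` : the Sylow tori have the same sign; `cen_comm` : then the centraliser of a Sylow subgroup is abelian;
* `zz_of`, `tr_of` : the rows `ZZ`, `Tr`.
-/

set_option autoImplicit false
set_option linter.unusedSectionVars false

namespace Cfsg.Agent.PQ.EA.LrG

open Cfsg Subgroup Cfsg.Agent.LV Cfsg.Agent.LV.Blk Cfsg.Agent.DL Cfsg.Agent.DL.PP Cfsg.Agent.KZ.Lie Cfsg.Agent.PQ.Two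
  Cfsg.Agent.Nodes Cfsg.Agent.Nodes.BNOf Matrix

section Gen

variable {p : ℕ} [Fact p.Prime] {k : Type} [Field k] [CharP k p] {Y : Type} [Group Y] {N : Type} [Fintype N]
  [DecidableEq N] {ρ : Y →* GL N k} {F : MulAut Y} {G : Subgroup Y} [IsAlgClosed k] {D : Datum p ρ F G} {l : ℕ}

/-- the Sylow tori have the same sign -/
def Sg (D : Datum p ρ F G) (l : ℕ) : Prop :=
  ∀ w w', (D.Wm w).det = 1 → (D.Wm w').det = -1 → SylT D l w → SylT D l w' → False

/-- **The centraliser of a Sylow subgroup is a torus.** -/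
theorem cen_comm [Fintype ↥(GF F G)] (hl : l.Prime) (hp : l ≠ p) (hT : TF D l) (hA : AbS l ↥(GF F G)) (hs : Sg D l)
    (P : Sylow l ↥(GF F G)) {a b : ↥(GF F G)} (ha : a ∈ centralizer ((P : Subgroup ↥(GF F G)) : Set ↥(GF F G)))
    (hb : b ∈ centralizer ((P : Subgroup ↥(GF F G)) : Set ↥(GF F G))) : a * b = b * a := by
  have hf : (Subtype.val '' ((P : Subgroup ↥(GF F G)) : Set ↥(GF F G))).Finite := (Set.toFinite _).image _
  have h1 : ∀ t ∈ Subtype.val '' ((P : Subgroup ↥(GF F G)) : Set ↥(GF F G)), IsL l t := by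
    rintro _ ⟨x, hx, rfl⟩
    exact (P.2 ⟨x, hx⟩).imp fun j hj => congrArg (fun z => z.1.1) hj
  obtain ⟨T, hT', hZ⟩ := tor (D := D) hf (fun t ht => ⟨by obtain ⟨x, -, rfl⟩ := ht; exact x.2, l, hl, hp, hT, h1 t ht⟩) (by
    rintro _ ⟨x, hx, rfl⟩ _ ⟨z, hz, rfl⟩
    exact congrArg (fun z => z.1.1) ((hA P).1.1 ⟨x, hx⟩ ⟨z, hz⟩))
  obtain ⟨y, hy, w, hw, rfl⟩ := exists_y hT'
  have hF : y⁻¹ * F y ∈ D.NN := ⟨w, hw⟩
  have hZ' : Subtype.val '' ((P : Subgroup ↥(GF F G)) : Set ↥(GF F G)) ⊆ (D.conj hy hF).T := hZ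
  have h0 : (D.conj hy hF).Sz (Subtype.val '' ((P : Subgroup ↥(GF F G)) : Set ↥(GF F G))) = ∅ := by
    refine Set.eq_empty_of_forall_notMem fun c hc => ?_
    obtain ⟨m, h2, h3⟩ := (D.conj hy hF).exists_rp_rf hc.1
    obtain ⟨g, hg, e⟩ := (D.conj hy hF).lang_TS (D.conj hy hF).Sz_root (fun _ => (D.conj hy hF).g_mem_Sz hZ' (by
      rintro _ ⟨x, hx, rfl⟩
      exact ⟨x, hx, x.2.2.symm⟩)) ((sup_le_sup_left (sup_le (RGD.le_Sup hc) (RGD.le_Sup ((D.conj hy hF).Sz_neg hc))) _) h2)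
    have h4 : D.Rp ((D.conj hy hF).rf c) (y⁻¹ * m * y) := (D.conj_rp_iff hy hF).1 (by
      rwa [show y * (y⁻¹ * m * y) * y⁻¹ = m by group])
    have h5 : D.Rp ((D.conj hy hF).rf c * w) ((g * y)⁻¹ * F (g * y)) := by
      have h6 := h4.mul hw
      rwa [e, show y⁻¹ * (g⁻¹ * F g) * y * (y⁻¹ * F y) = (g * y)⁻¹ * (F g * F y) by group, ← map_mul] at h6
    have s1 := sylT_of_le hl P hy hw fun u hu => hZ ⟨u, hu, rfl⟩
    have s2 := sylT_of_le hl P (mul_mem ((D.conj hy hF).cen_le_G _ hg) hy) h5 fun u hu => by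
      have h6 : (u : Y) * g = g * u := (D.conj hy hF).cen_le_centralizer hZ' hg _ ⟨u, hu, rfl⟩
      have h7 : y⁻¹ * u * y ∈ D.T := Reps.mem_cj.1 (hZ ⟨u, hu, rfl⟩)
      exact Reps.mem_cj.2 (by rwa [show (g * y)⁻¹ * u * (g * y) = y⁻¹ * (g⁻¹ * (u * g)) * y by group, h6, inv_mul_cancel_left])
    have h6 : (D.Wm ((D.conj hy hF).rf c)).det = -1 :=
      (congrArg det (TO.E6.conj_Wm D hy hF _)).symm.trans (sgZ_rf (D := D.conj hy hF) hc.1)
    have h7 : (D.Wm ((D.conj hy hF).rf c * w)).det = -(D.Wm w).det := by rw [D.Wm_mul, det_mul, h6, neg_one_mul]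
    rcases sgZ_sign D w with h8 | h8
    · exact hs _ _ h8 (h7.trans (congrArg _ h8)) s1 s2
    · exact hs _ _ (h7.trans ((congrArg _ h8).trans (neg_neg 1))) h8 s2 s1
  have h2 : ∀ x ∈ centralizer ((P : Subgroup ↥(GF F G)) : Set ↥(GF F G)), (x : Y) ∈ (D.conj hy hF).T := fun x hx => by
    have h3 := mem_cen hZ' hf (fun t ht => ⟨l, hT.conj hy hF, h1 t ht⟩) x.2.1 (by
      rintro _ ⟨z, hz, rfl⟩
      exact congrArg Subtype.val (hx z hz))
    rwa [Datum.cen, h0, Datum.S, OppDec.Sup_empty, sup_bot_eq] at h3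
  exact Subtype.ext ((D.conj hy hF).T_comm (h2 a ha) (h2 b hb))

end Gen

/-- the centralisers of the Sylow `l`-subgroups are abelian -/
def CA (l : ℕ) (S : Type) [Group S] : Prop :=
  ∀ (P : Sylow l S), ∀ a ∈ centralizer ((P : Subgroup S) : Set S), ∀ b ∈ centralizer ((P : Subgroup S) : Set S), a * b = b * a

theorem CA.of_equiv {l : ℕ} {S T : Type} [Group S] [Group T] [Finite S] (hl : l.Prime) (e : S ≃* T) (h : CA l T) : CA l S :=
  fun P a ha b hb => by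
    have := Fact.mk hl
    have : Finite T := Finite.of_equiv _ e.toEquiv
    have h1 : ∀ x ∈ centralizer ((P : Subgroup S) : Set S), e x ∈ centralizer
        ((P.mapSurjective (f := e.toMonoidHom) e.surjective : Subgroup T) : Set T) := by
      rintro x hx _ ⟨z, hz, rfl⟩
      exact (map_mul e z x).symm.trans ((congrArg e (hx z hz)).trans (map_mul e x z))
    exact e.injective (by rw [map_mul, map_mul]; exact h _ _ (h1 a ha) _ (h1 b hb))

theorem zz_of {S : Type} [Group S] (h : ∀ p q, Pair p q S → CA p S) : ZZ S := fun p q H _ => by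
  obtain ⟨P, Q, h1⟩ := H.com
  exact ⟨P, Q, le_antisymm (fun a ha y hy => h p q H P y (fun x hx => h1 x hx y hy) a ha)
    fun a ha x hx => h q p H.symm Q x (fun y hy => (h1 x hx y hy).symm) a ha⟩

theorem tr_of {r : ℕ} {S : Type} [Group S]
    (h : ∀ l : ℕ, l.Prime → l ≠ r → ∀ (K : Type) [Group K] [Finite K] (σ : K →* S), IsStemExtension σ → ¬ l ∣ Nat.card σ.ker) :
    Tr r S := fun K _ _ σ hσ =>
  IsPGroup.of_card (Nat.eq_prime_pow_of_unique_prime_dvd Nat.card_pos.ne' fun {l} hl h1 => by_contra fun e => h l hl e K σ hσ h1)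

end Cfsg.Agent.PQ.EA.LrG
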