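import Cfsg.Agent.KZ.McX.WF4

/-!
# S4982, the elements of odd length in the Weyl group of type `F₄` (helper73)
-/

set_option autoImplicit false

namespace Cfsg.Agent.PQ.EA.LrG

open Cfsg.Agent.KZ.McX

theorem tabF : ∀ L ∈ wordsF4, L.length % 2 = 0 ∨ cp4 (mW L G4) ∈ [(0, 0, 0, -4), (2, 0, -4, -4), (-2, 0, 4, -4)] := by
  decide +kernel

end Cfsg.Agent.PQ.EA.LrG
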