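import Cfsg.Agent.PQ.EA.LrG1
import Cfsg.Agent.PQ.EA.LrGT
import Cfsg.Agent.KZ.G2.Dat
import Cfsg.Agent.KZ.DatX.Three

/-!
# S4982, the small exceptional groups: tables and arithmetic (helper73)

`tabB`, `tabG`, `tabD` : the tori with a given sign; `arT`, `arD`, `arS`, `arR` : arithmetic.
-/

set_option autoImplicit false
set_option linter.unusedSectionVars false

namespace Cfsg.Agent.PQ.EA.LrG

open Cfsg Cfsg.Lie Cfsg.Agent.LV Cfsg.Agent.LV.Blk Cfsg.Agent.DL Cfsg.Agent.DL.PP Cfsg.Agent.KZ.Lie Cfsg.Agent.PQ.Two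
  Cfsg.Agent.KZ.DatX Cfsg.Agent.KZ.McX Cfsg.Agent.KZ.G2 Cfsg.Agent.LV.Lab Cfsg.Agent.Nodes.RGDChev
  Cfsg.Agent.ChevalleyStructure.NPerm Cfsg.Agent.ChevalleyStructure.CoxeterGeomTypes Matrix

/-! ### arithmetic -/

section Ar

variable {l : ℕ} [hl : Fact l.Prime]

theorem or0 (h5 : 5 ≤ l) {x y : ℤ} (u w : ℤ) {n : ℕ} (h0 : 0 < n) (h4 : n < 5) (h : u * x + w * y = n) :
    padicValInt l x = 0 ∨ padicValInt l y = 0 := by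
  by_contra! e
  have h1 : ∀ z : ℤ, padicValInt l z ≠ 0 → (l : ℤ) ∣ z := fun z hz => by_contra fun e => hz (padicValInt.eq_zero_of_not_dvd e)
  have h2 := Nat.le_of_dvd h0 (Int.natCast_dvd_natCast.1 (h ▸ dvd_add ((h1 x e.1).mul_left u) ((h1 y e.2).mul_left w)))
  omega

theorem vmul {x y z : ℤ} (h : z = x * y) (h0 : z ≠ 0) : padicValInt l z = padicValInt l x + padicValInt l y :=
  h ▸ padicValInt.mul (left_ne_zero_of_mul (h ▸ h0)) (right_ne_zero_of_mul (h ▸ h0))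

end Ar

/-- the value of a polynomial of degree four -/
def ev4 (c : ℤ × ℤ × ℤ × ℤ) (t : ℤ) : ℤ := 1 - c.1 * t + c.2.1 * t ^ 2 - c.2.2.1 * t ^ 3 + c.2.2.2 * t ^ 4

/-- trace and determinant -/
def cp2 (x : Matrix (Fin 2) (Fin 2) ℤ) : ℤ × ℤ × ℤ × ℤ := (x 0 0 + x 1 1, x 0 0 * x 1 1 - x 0 1 * x 1 0, 0, 0)

theorem det_cp2 (x : Matrix (Fin 2) (Fin 2) ℤ) (t : ℤ) : (t • x - 1).det = ev4 (cp2 x) t := by
  rw [det_fin_two]
  simp [ev4, cp2, -zsmul_eq_mul]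
  ring

section Ar

variable {l : ℕ} [hl : Fact l.Prime] (h5 : 5 ≤ l) (Q : ℤ)

/-- the test: a torus of type `b` is not a Sylow torus -/
def Ar (l : ℕ) (Q : ℤ) (Bad Good : List (ℤ × ℤ × ℤ × ℤ)) : Prop :=
  ∀ b ∈ Bad, ev4 b Q ≠ 0 → (∀ c ∈ Good, ev4 c Q ≠ 0 ∧ padicValInt l (ev4 c Q) ≤ padicValInt l (ev4 b Q)) →
    padicValInt l (ev4 b Q) = 0

include h5

theorem arT1 (t u w : ℤ) {m : ℕ} (m0 : 0 < m) (m4 : m < 5) (hm : u * (1 - 2 * Q ^ 2) + w * (1 - t * Q + 2 * Q ^ 2) = m)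
    (h0 : ev4 (t, 0, -2 * t, -4) Q ≠ 0)
    (h1 : ev4 (0, -4, 0, 4) Q ≠ 0 ∧ padicValInt l (ev4 (0, -4, 0, 4) Q) ≤ padicValInt l (ev4 (t, 0, -2 * t, -4) Q))
    (h2 : ev4 (2 * t, t ^ 2 + 4, 4 * t, 4) Q ≠ 0 ∧
      padicValInt l (ev4 (2 * t, t ^ 2 + 4, 4 * t, 4) Q) ≤ padicValInt l (ev4 (t, 0, -2 * t, -4) Q)) :
    padicValInt l (ev4 (t, 0, -2 * t, -4) Q) = 0 := by
  obtain ⟨a1, a2⟩ := h1
  obtain ⟨b1, b2⟩ := h2
  rw [vmul (x := 1 - 2 * Q ^ 2) (y := 1 - 2 * Q ^ 2) (by simp only [ev4]; ring) a1] at a2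
  rw [vmul (x := 1 - t * Q + 2 * Q ^ 2) (y := 1 - t * Q + 2 * Q ^ 2) (by simp only [ev4]; ring) b1] at b2
  rw [vmul (x := 1 - 2 * Q ^ 2) (y := 1 - t * Q + 2 * Q ^ 2) (by simp only [ev4]; ring) h0] at a2 b2 ⊢
  have := or0 h5 u w m0 m4 hm
  omega

theorem arT : Ar l Q [(0, 0, 0, -4), (2, 0, -4, -4), (-2, 0, 4, -4)]
    [(0, -4, 0, 4), (0, 4, 0, 4), (4, 8, 8, 4), (-4, 8, -8, 4)] := by
  simp only [Ar, List.forall_mem_cons, List.not_mem_nil, false_imp_iff, implies_true, and_true]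
  exact ⟨fun h0 h => arT1 h5 Q 0 1 1 two_pos (by omega) (by push_cast; ring) h0 h.1 h.2.1,
    fun h0 h => arT1 h5 Q 2 Q (1 + Q) one_pos (by omega) (by push_cast; ring) h0 h.1 h.2.2.1,
    fun h0 h => arT1 h5 Q (-2) (-Q) (1 - Q) one_pos (by omega) (by push_cast; ring) h0 h.1 h.2.2.2⟩

theorem arD1 (h0 : (1 - Q) * (1 + Q) * (1 - Q + Q ^ 2) ≠ 0) {n : ℕ}
    (hn : padicValInt l ((1 - Q) * (1 + Q) * (1 - Q + Q ^ 2)) = n) {x y : ℤ}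
    (h1 : (1 - Q) * (1 - Q) * x ≠ 0 ∧ padicValInt l ((1 - Q) * (1 - Q) * x) ≤ n)
    (h2 : (1 + Q) * (1 + Q) * y ≠ 0 ∧ padicValInt l ((1 + Q) * (1 + Q) * y) ≤ n)
    (h3 : (1 - Q + Q ^ 2) * (1 - Q + Q ^ 2) ≠ 0 ∧ padicValInt l ((1 - Q + Q ^ 2) * (1 - Q + Q ^ 2)) ≤ n) : n = 0 := by
  obtain ⟨a1, a2⟩ := h1
  obtain ⟨b1, b2⟩ := h2
  obtain ⟨c1, c2⟩ := h3
  rw [vmul rfl a1, vmul rfl (left_ne_zero_of_mul a1)] at a2
  rw [vmul rfl b1, vmul rfl (left_ne_zero_of_mul b1)] at b2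
  rw [vmul rfl c1] at c2
  rw [vmul rfl h0, vmul rfl (left_ne_zero_of_mul h0)] at hn
  have := or0 h5 (x := 1 - Q) (y := 1 + Q) 1 1 two_pos (by omega) (by push_cast; ring)
  have := or0 h5 (x := 1 - Q) (y := 1 - Q + Q ^ 2) Q 1 one_pos (by omega) (by push_cast; ring)
  have := or0 h5 (x := 1 + Q) (y := 1 - Q + Q ^ 2) (2 - Q) 1 three_pos (by omega) (by push_cast; ring)
  omega

theorem arD : Ar l Q [(1, 0, -1, -1), (-1, 0, 1, -1)] [(1, 0, 1, 1), (-1, 0, -1, 1), (2, 3, 2, 1), (-2, 3, -2, 1)] := by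
  simp only [Ar, List.forall_mem_cons, List.not_mem_nil, false_imp_iff, implies_true, and_true]
  refine ⟨fun h0 h => ?_, fun h0 h => ?_⟩
  · have e : ev4 (1, 0, -1, -1) Q = (1 - Q) * (1 + Q) * (1 - Q + Q ^ 2) := by simp only [ev4]; ring
    refine arD1 h5 Q (e ▸ h0) (congrArg _ e.symm) (x := 1 + Q + Q ^ 2) (y := 1 - Q + Q ^ 2) ?_ ?_ ?_
    · convert h.1 using 2 <;> simp only [ev4] <;> ring_nf
    · convert h.2.1 using 2 <;> simp only [ev4] <;> ring_nf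
    · convert h.2.2.1 using 2 <;> simp only [ev4] <;> ring_nf
  · have e : ev4 (-1, 0, 1, -1) Q = (1 - -Q) * (1 + -Q) * (1 - -Q + (-Q) ^ 2) := by simp only [ev4]; ring
    refine arD1 h5 (-Q) (e ▸ h0) (congrArg _ e.symm) (x := 1 - Q + Q ^ 2) (y := 1 + Q + Q ^ 2) ?_ ?_ ?_
    · convert h.2.1 using 2 <;> simp only [ev4] <;> ring_nf
    · convert h.1 using 2 <;> simp only [ev4] <;> ring_nf
    · convert h.2.2.2 using 2 <;> simp only [ev4] <;> ring_nf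

omit h5 in
theorem arS (h : (l : ℤ) ∣ ev4 (0, -2, 0, 0) Q) :
    ∀ b ∈ ([(2, 2, 0, 0), (-2, 2, 0, 0)] : List (ℤ × ℤ × ℤ × ℤ)), ¬ (l : ℤ) ∣ ev4 b Q := by
  have h1 : ¬ (l : ℤ) ∣ 1 := (Nat.prime_iff_prime_int.1 hl.out).not_dvd_one
  simp only [List.forall_mem_cons, List.not_mem_nil, false_imp_iff, implies_true, and_true]
  refine ⟨fun e => h1 ?_, fun e => h1 ?_⟩
  · exact (dvd_add (h.mul_left Q) (e.mul_left (1 + Q))).trans (dvd_of_eq (by simp only [ev4]; ring))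
  · exact (dvd_add (h.mul_left (-Q)) (e.mul_left (1 - Q))).trans (dvd_of_eq (by simp only [ev4]; ring))

theorem arR (h : (l : ℤ) ∣ ev4 (0, -3, 0, 0) Q) :
    ∀ b ∈ ([(0, 3, 0, 0), (3, 3, 0, 0), (-3, 3, 0, 0)] : List (ℤ × ℤ × ℤ × ℤ)), ¬ (l : ℤ) ∣ ev4 b Q := by
  have h1 : ¬ (l : ℤ) ∣ 2 := fun e => by
    have := Int.le_of_dvd two_pos e
    omega
  simp only [List.forall_mem_cons, List.not_mem_nil, false_imp_iff, implies_true, and_true]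
  refine ⟨fun e => h1 ?_, fun e => h1 ?_, fun e => h1 ?_⟩
  · exact (dvd_add h e).trans (dvd_of_eq (by simp only [ev4]; ring))
  · exact (dvd_add (h.mul_left (6 * Q - 2)) (e.mul_left (4 + 6 * Q))).trans (dvd_of_eq (by simp only [ev4]; ring))
  · exact (dvd_add (h.mul_left (-6 * Q - 2)) (e.mul_left (4 - 6 * Q))).trans (dvd_of_eq (by simp only [ev4]; ring))

end Ar

/-! ### tables -/

/-- the Weyl group of type `B₂` -/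
def wB : List (Matrix (Fin 2) (Fin 2) ℤ) := [!![1, 0; 0, 1], !![-1, 0; 2, 1], !![1, 1; 0, -1], !![1, 1; -2, -1],
  !![-1, -1; 2, 1], !![-1, -1; 0, 1], !![1, 0; -2, -1], !![-1, 0; 0, -1]]

/-- the Weyl group of type `G₂` -/
def wG : List (Matrix (Fin 2) (Fin 2) ℤ) := [!![1, 0; 0, 1], !![-1, 0; 3, 1], !![1, 1; 0, -1], !![2, 1; -3, -1],
  !![-1, -1; 3, 2], !![-2, -1; 3, 2], !![2, 1; -3, -2], !![1, 1; -3, -2], !![-2, -1; 3, 1], !![-1, -1; 0, 1], !![1, 0; -3, -1],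
  !![-1, 0; 0, -1]]

theorem cloB : 1 ∈ wB ∧ ∀ B ∈ wB, ∀ i, sT 2 rowsB2 i * B ∈ wB := by decide +kernel

theorem cloG : 1 ∈ wG ∧ ∀ B ∈ wG, ∀ i, sT 2 rowsG2 i * B ∈ wG := by decide +kernel

theorem tabB : ∀ B ∈ wB, ((cp2 B).2.1 = 1 → cp2 (B * !![0, 1; 2, 0]) = (0, -2, 0, 0)) ∧
    ((cp2 B).2.1 = -1 → cp2 (B * !![0, 1; 2, 0]) ∈ [(2, 2, 0, 0), (-2, 2, 0, 0)]) := by decide +kernel

theorem tabG : ∀ B ∈ wG, ((cp2 B).2.1 = 1 → cp2 (B * !![0, 1; 3, 0]) = (0, -3, 0, 0)) ∧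
    ((cp2 B).2.1 = -1 → cp2 (B * !![0, 1; 3, 0]) ∈ [(0, 3, 0, 0), (3, 3, 0, 0), (-3, 3, 0, 0)]) := by decide +kernel

theorem tabD : ∀ n < 192, (cf (eD n)).2.2.2 = 1 ∨ cf (mF 4 (eD n) pD) ∈ [(1, 0, -1, -1), (-1, 0, 1, -1)] := by decide +kernel

end Cfsg.Agent.PQ.EA.LrG
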