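import Cfsg.Agent.PQ.EA.Defs2
import Cfsg.Agent.LV.One.All
import Cfsg.Agent.LV.One.Res
import Cfsg.Agent.LV.Red.Ab
import Cfsg.Agent.TO.X11.Fr

/-!
# S4982: the level and the large prime, `boxLvl : BoxLvl` (helper10)
-/

set_option autoImplicit false
set_option linter.unusedSectionVars false

namespace Cfsg.Agent.PQ.EA

open Cfsg Subgroup Cfsg.Agent.LV Cfsg.Agent.DL Cfsg.Agent.KZ.Lie Matrix Polynomial

namespace Lvb

theorem fact_congr {t K : ℕ} (ht : t.Prime) {a b : ℤ} (ha : a ≠ 0) (hK : a.natAbs.factorization t < K)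
    (h : (t : ℤ) ^ K ∣ b - a) : b.natAbs.factorization t = a.natAbs.factorization t := by
  have h0 : ∀ (x : ℤ) (j : ℕ), (t : ℤ) ^ j ∣ x ↔ t ^ j ∣ x.natAbs := fun x j => by
    rw [← Int.natCast_dvd, Nat.cast_pow]
  have h1 : ∀ j ≤ K, t ^ j ∣ b.natAbs ↔ t ^ j ∣ a.natAbs := fun j hj => by
    rw [← h0, ← h0]
    exact dvd_iff_dvd_of_dvd_sub ((pow_dvd_pow _ hj).trans h)
  have h2 := Int.natAbs_ne_zero.2 ha
  have h3 : ¬ t ^ (a.natAbs.factorization t + 1) ∣ b.natAbs := fun e =>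
    Nat.pow_succ_factorization_not_dvd h2 ht ((h1 _ hK).1 e)
  have h4 : b.natAbs ≠ 0 := fun e => h3 (e ▸ dvd_zero _)
  rw [ht.pow_dvd_iff_le_factorization h4] at h3
  have h5 := (ht.pow_dvd_iff_le_factorization h4).1 ((h1 _ hK.le).2 (Nat.ordProj_dvd _ _))
  omega

theorem euler {u : ℤ} {n j : ℕ} (h : IsCoprime (n : ℤ) u) (hj : n.totient ∣ j) : (n : ℤ) ∣ u ^ j - 1 := by
  obtain ⟨x, hx⟩ := (ZMod.coe_int_isUnit_iff_isCoprime u n).2 h
  obtain ⟨i, rfl⟩ := hj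
  rw [← ZMod.intCast_zmod_eq_zero_iff_dvd]
  push_cast
  rw [← hx, ← Units.val_pow_eq_pow_val, pow_mul, ZMod.pow_totient, one_pow, Units.val_one, sub_self]

theorem cop {t : ℕ} (ht : t.Prime) {u : ℤ} (h : ¬ (t : ℤ) ∣ u) (K : ℕ) : IsCoprime ((t ^ K : ℕ) : ℤ) u := by
  rw [Nat.cast_pow]
  exact ((Nat.prime_iff_prime_int.1 ht).irreducible.coprime_iff_not_dvd.2 h).pow_left

theorem pow_sub {u : ℤ} {n m M : ℕ} (h : IsCoprime (n : ℤ) u) (hm : 0 < m) (h1 : m ≡ 1 [MOD M]) (h2 : n.totient ∣ M) :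
    (n : ℤ) ∣ u ^ m - u := by
  obtain ⟨m, rfl⟩ : ∃ j, m = j + 1 := ⟨m - 1, by omega⟩
  have h3 : M ∣ m := by simpa using (Nat.modEq_iff_dvd' (by omega)).1 h1.symm
  rw [show u ^ (m + 1) - u = (u ^ m - 1) * u by ring]
  exact (euler h (h2.trans h3)).mul_right _

/-- a large prime divisor of `P (u ^ m)` -/
theorem exists_big (P : ℤ[X]) (hP : P.natDegree ≠ 0) (h0 : IsUnit (P.eval 0)) {u : ℤ} (hu : 2 ≤ |u|) (h1 : P.eval u ≠ 0)
    (B : ℕ) : ∃ A M : ℕ, M ≠ 0 ∧ ∀ m, A < m → m ≡ 1 [MOD M] → ∃ l : ℕ, l.Prime ∧ B < l ∧ (l : ℤ) ∣ P.eval (u ^ m) := by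
  have := P.tendstoCofinite_of_natDegree_ne_zero hP
  have h2 : (P.eval ⁻¹' Set.Icc (-|P.eval u|) |P.eval u|).Finite :=
    Filter.TendstoCofinite.finite_preimage _ (Set.finite_Icc _ _)
  obtain ⟨A, hA⟩ := (h2.image Int.natAbs).bddAbove
  refine ⟨A, ((B + 1) ^ (P.eval u).natAbs).factorial, Nat.factorial_ne_zero _, fun m hm hM => ?_⟩
  by_contra h3
  push Not at h3
  have h4 : P.eval (u ^ m) ≠ 0 := fun e =>
    let ⟨l, h5, h6⟩ := Nat.exists_infinite_primes (B + 1)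
    h3 l h6 h5 (e ▸ dvd_zero _)
  have h5 : (P.eval (u ^ m)).natAbs ∣ (P.eval u).natAbs := by
    refine (Nat.factorization_prime_le_iff_dvd (Int.natAbs_ne_zero.2 h4) (Int.natAbs_ne_zero.2 h1)).1 fun t ht => ?_
    by_cases h6 : (t : ℤ) ∣ P.eval (u ^ m)
    · have h7 : t ≤ B := not_lt.1 fun e => h3 t ht e h6
      by_cases h8 : (t : ℤ) ∣ u
      · have h9 : (t : ℤ) ∣ P.eval (u ^ m) - P.eval 0 :=
          (dvd_pow h8 (by omega : m ≠ 0)).trans (by simpa using sub_dvd_eval_sub (u ^ m) 0 P)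
        exact absurd (isUnit_of_dvd_unit ((dvd_iff_dvd_of_dvd_sub h9).1 h6) h0) (Nat.prime_iff_prime_int.1 ht).not_isUnit
      · refine (fact_congr ht h1 (Nat.factorization_lt t (Int.natAbs_ne_zero.2 h1)) ?_).le
        rw [← Nat.cast_pow]
        refine (pow_sub (cop ht h8 _) (by omega) hM (Nat.dvd_factorial (Nat.totient_pos.2 (pow_pos ht.pos _))
          ((Nat.totient_le _).trans (Nat.pow_le_pow_left (by omega) _)))).trans (sub_dvd_eval_sub _ _ P)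
    · rw [Nat.factorization_eq_zero_of_not_dvd (mt Int.natCast_dvd.2 h6)]
      exact Nat.zero_le _
  have h6 : (u ^ m).natAbs ≤ A := hA ⟨_, abs_le.1 (by
    rw [Int.abs_eq_natAbs, Int.abs_eq_natAbs]
    exact_mod_cast Nat.le_of_dvd (Int.natAbs_pos.2 h1) h5), rfl⟩
  rw [Int.natAbs_pow] at h6
  have h7 : 2 ^ m ≤ u.natAbs ^ m := Nat.pow_le_pow_left (by rw [Int.abs_eq_natAbs] at hu; exact_mod_cast hu) m
  have h8 : m < 2 ^ m := Nat.lt_two_pow_self
  omega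

/-- a large prime with a given order of `u ^ m` -/
theorem exists_ord {u : ℤ} (hu : 2 ≤ |u|) {d : ℕ} (hd : 0 < d) (B : ℕ) : ∃ A M : ℕ, M ≠ 0 ∧ ∀ m, A < m → m ≡ 1 [MOD M] →
    ∃ l : ℕ, l.Prime ∧ B < l ∧ orderOf ((u ^ m : ℤ) : ZMod l) = d := by
  have h1 : ∀ x : ℤ, (cyclotomic d ℤ).eval x ∣ x ^ d - 1 := fun x => by
    simpa using eval_dvd (x := x) (cyclotomic.dvd_X_pow_sub_one d ℤ)
  obtain ⟨A, M, hM, h⟩ := exists_big (cyclotomic d ℤ) (by rw [natDegree_cyclotomic]; exact (Nat.totient_pos.2 hd).ne')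
    (isUnit_of_dvd_unit (h1 0) (by rw [zero_pow hd.ne', zero_sub]; exact isUnit_one.neg)) hu (fun e => by
      have h2 := h1 u
      rw [e, zero_dvd_iff, sub_eq_zero] at h2
      have h3 := (pow_eq_one_iff_of_nonneg (abs_nonneg u) hd.ne').1 (by rw [← abs_pow, h2, abs_one])
      omega) (B + d)
  refine ⟨A, M, hM, fun m h2 h3 => ?_⟩
  obtain ⟨l, h4, h5, h6⟩ := h m h2 h3
  have := Fact.mk h4
  have : NeZero (d : ZMod l) := ⟨fun e => by
    have := Nat.le_of_dvd hd ((ZMod.natCast_eq_zero_iff d l).1 e)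
    omega⟩
  refine ⟨l, h4, by omega, (isRoot_cyclotomic_iff.1 ?_).eq_orderOf.symm⟩
  have h7 := cyclotomic.eval_apply (u ^ m) d (Int.castRingHom (ZMod l))
  rw [eq_intCast, eq_intCast, (ZMod.intCast_zmod_eq_zero_iff_dvd _ _).2 h6] at h7
  exact h7

/-- one multiplier for the saturation of a sublattice -/
theorem exists_sat {M : Type} [AddCommGroup M] [Module.Finite ℤ M] (Λ : Submodule ℤ M) :
    ∃ c : ℤ, c ≠ 0 ∧ ∀ (n : ℤ) (y : M), n ≠ 0 → n • y ∈ Λ → c • y ∈ Λ := by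
  obtain ⟨c, h1, h2⟩ := Submodule.annihilator_top_inter_nonZeroDivisors
    (Submodule.torsion_isTorsion (R := ℤ) (M := M ⧸ Λ))
  refine ⟨c, nonZeroDivisors.ne_zero h2, fun n y hn hy => ?_⟩
  have h3 := Submodule.mem_annihilator.1 h1 ⟨Λ.mkQ y, ⟨n, mem_nonZeroDivisors_of_ne_zero hn⟩,
    (Submodule.Quotient.mk_eq_zero Λ).2 hy⟩ Submodule.mem_top
  exact (Submodule.Quotient.mk_eq_zero Λ).1 (congrArg Subtype.val h3)

theorem abS_up {H K : Type} [Group H] [Finite H] [Group K] [Finite K] {l : ℕ} (hl : l.Prime) (ι : K →* H)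
    (hι : Function.Injective ι) (h : (Nat.card H).factorization l = (Nat.card K).factorization l) (hK : AbS l K) :
    AbS l H := by
  have := Fact.mk hl
  obtain ⟨P⟩ : Nonempty (Sylow l K) := inferInstance
  refine abS_of_one (Sylow.ofCard ((P : Subgroup K).map ι) (by
    rw [card_map_of_injective hι, h, P.card_eq_multiplicity])) ?_
  rintro _ ⟨a, ha, rfl⟩ _ ⟨b, hb, rfl⟩
  rw [← map_mul, ← map_mul, abS_iff.1 hK P a ha b hb]

variable {r : ℕ} [Fact r.Prime] {k : Type} [Field k] [CharP k r] {Y : Type} [Group Y] {N : Type} [Fintype N]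
  [DecidableEq N] {ρ : Y →* GL N k} {F : MulAut Y} {G : Subgroup Y} [IsAlgClosed k] (X : Datum r ρ F G)

/-- all large primes are good -/
theorem lev_large : ∃ B : ℕ, ∀ l : ℕ, l.Prime → B < l → KM.Tor.Lev X l := by
  have : Finite {a // X.Rt a} := X.finite_roots
  choose c h1 h2 using fun S : Set {a // X.Rt a} =>
    exists_sat (LinearMap.range (Matrix.of fun a : S => X.wt a.1.1).mulVecLin)
  obtain ⟨B, hB⟩ := (Set.finite_range fun S => (c S).natAbs).bddAbove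
  refine ⟨B, fun l hl h j u => ?_⟩
  let S : Set {a // X.Rt a} := {a | (l : ℤ) ^ j ∣ X.wt a.1 ⬝ᵥ u}
  obtain ⟨v, hv⟩ := h2 S ((l : ℤ) ^ j) (fun a => X.wt a.1.1 ⬝ᵥ u / (l : ℤ) ^ j)
    (pow_ne_zero _ (Int.natCast_ne_zero.2 hl.ne_zero)) ⟨u, funext fun a => (Int.mul_ediv_cancel' a.2).symm⟩
  refine ⟨c S, ?_, -v, fun a ha h3 => ?_⟩
  · rw [← Nat.cast_pow]
    refine (cop hl (fun e => ?_) j).symm
    have h3 := Nat.le_of_dvd (Int.natAbs_pos.2 (h1 S)) (Int.natCast_dvd.1 e)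
    have h4 : (c S).natAbs ≤ B := hB ⟨S, rfl⟩
    omega
  · have h4 : X.wt a ⬝ᵥ v = c S * (X.wt a ⬝ᵥ u / (l : ℤ) ^ j) := congrFun hv ⟨⟨a, ha⟩, h3⟩
    rw [dotProduct_add, dotProduct_smul, dotProduct_smul, dotProduct_neg, h4, smul_eq_mul, smul_eq_mul]
    linear_combination (-c S) * Int.mul_ediv_cancel' h3

theorem abS_large {l : ℕ} (hl : l.Prime) (hr : l ≠ r) (hW : ¬ l ∣ Nat.card X.W) : AbS l ↥(GF F G) := by
  have := Fact.mk hl
  refine abS_iff.2 fun R a ha b hb => ?_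
  obtain ⟨y, -, -, -, hT⟩ := TO.X11.toral hr hW R.2 ((GF F G).subtype.comp (R : Subgroup (GF F G)).subtype) fun u => u.1.2
  have h1 := X.T_comm (hT ⟨a, ha⟩) (hT ⟨b, hb⟩)
  refine Subtype.ext ((MulAut.conj y⁻¹).injective ?_)
  simpa [mul_assoc] using h1

theorem nonempty_R {c : ℕ} (hc : c.Prime) (hr : c ≠ r) (h : c ∣ Nat.card ↥(GF F G)) : Nonempty X.R := by
  by_contra h1
  have := not_nonempty_iff.1 h1
  have := X.amb.finite_GF G
  have := Fintype.ofFinite ↥(GF F G)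
  obtain ⟨w, hw⟩ := LV.Blk.exists_card X hc hr
  have : Subsingleton X.W := X.Wm_injective.subsingleton
  have h2 : ordT X w = 1 := by rw [ordT, det_isEmpty, Int.natAbs_one]
  have h3 : (Nat.card ↥(GF F G)).factorization c = (ordT X w * Nat.card (CW X w)).factorization c := hw
  rw [h2, Nat.card_unique (α := CW X w), mul_one, Nat.factorization_one, Finsupp.zero_apply] at h3
  have := (hc.dvd_iff_one_le_factorization Nat.card_pos.ne').1 h
  omega

variable {X}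

theorem sca_pow {u : ℤ} {γ : Matrix X.R X.R ℤ} {n : ℕ} (h : X.Mx = u • γ) (hn : γ ^ n = 1) {m : ℕ} (hm : 0 < m) {l : ℕ}
    (hl : ¬ l ∣ n) : Sca (X.pow hm) (u ^ m) l :=
  ⟨γ ^ m, n, by
    show X.Mx ^ m = _
    rw [h, _root_.smul_pow], by rw [← pow_mul, mul_comm, pow_mul, hn, one_pow], hl⟩

theorem u_pow (f : Fr X) [Nonempty X.R] {u : ℤ} {γ : Matrix X.R X.R ℤ} {n : ℕ} (h : X.Mx = u • γ) (hn : γ ^ n = 1) :
    u ^ (f.d * n) = (r : ℤ) ^ (f.e * n) := by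
  have h1 := congrArg (· ^ n) (f.L.pow 1)
  simp only [X.Wm_one, one_mul, h, _root_.smul_pow, one_pow, ← pow_mul] at h1
  rw [mul_comm f.d n, pow_mul γ, hn, one_pow, mul_comm n] at h1
  obtain ⟨i⟩ := ‹Nonempty X.R›
  simpa using congrFun (congrFun h1 i) i

theorem tor_eq (f : Fr X) {c m j K : ℕ} (hc : c.Prime) (hr : c ≠ r) (hm : 0 < m) (h : m = 1 + f.d * j)
    (hj : (c ^ K).totient ∣ j) (w : X.W) (hK : (ordT X w).factorization c < K) :
    (ordT (X.pow hm) w).factorization c = (ordT X w).factorization c := by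
  refine fact_congr hc (Int.natAbs_ne_zero.1 (ordT_ne w)) hK ?_
  have h1 : ((c ^ K : ℕ) : ℤ) ∣ (r : ℤ) ^ (f.e * j) - 1 := euler (cop hc (fun e => hr
    ((Nat.prime_dvd_prime_iff_eq hc Fact.out).1 (Int.natCast_dvd_natCast.1 e))) K) (hj.mul_left _)
  have h2 : X.Mx ^ m = ((r : ℤ) ^ (f.e * j)) • X.Mx := h ▸ LV.One.pow_Mx f.L j
  show (c : ℤ) ^ K ∣ (X.Wm w * X.Mx ^ m - 1).det - (X.Wm w * X.Mx - 1).det
  rw [h2, mul_smul_comm, ← Nat.cast_pow, ← ZMod.intCast_eq_intCast_iff_dvd_sub]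
  have h3 := (ZMod.intCast_eq_intCast_iff_dvd_sub 1 _ _).2 h1
  rw [Int.cast_det, Int.cast_det]
  congr 1
  ext a b
  rw [map_apply, map_apply, Matrix.sub_apply, Matrix.sub_apply, Matrix.smul_apply, smul_eq_mul, Int.cast_sub, Int.cast_sub, Int.cast_mul,
    ← h3, Int.cast_one, one_mul]

theorem grp_eq (f : Fr X) {c m j : ℕ} (hc : c.Prime) (hr : c ≠ r) (hm : 0 < m) (h : m = 1 + f.d * j)
    (ht : ∀ w, (ordT (X.pow hm) w).factorization c = (ordT X w).factorization c) :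
    (Nat.card ↥(GF (F ^ m) G)).factorization c = (Nat.card ↥(GF F G)).factorization c := by
  have h1 : ∀ w : X.W, (ordT (X.pow hm) w * Nat.card (CW (X.pow hm) w)).factorization c =
      (ordT X w * Nat.card (CW X w)).factorization c := fun w => by
    have h2 : CW (X.pow hm) w = CW X w := Subgroup.ext fun v => by
      show w * (X.pow hm).Fw v = v * w ↔ w * X.Fw v = v * w
      rw [LV.One.pow_Fw f.L hm h]
    have := (X.pow hm).fW
    rw [Nat.factorization_mul (ordT_ne _) Nat.card_pos.ne', Nat.factorization_mul (ordT_ne _) Nat.card_pos.ne',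
      Finsupp.add_apply, Finsupp.add_apply, ht, h2]
  have := X.amb.finite_GF G
  have := (X.pow hm).amb.finite_GF G
  have := Fintype.ofFinite ↥(GF F G)
  have := Fintype.ofFinite ↥(GF (F ^ m) G)
  obtain ⟨w, hw⟩ := LV.Blk.exists_card X hc hr
  obtain ⟨w', hw'⟩ := LV.Blk.exists_card (X.pow hm) hc hr
  exact le_antisymm (hw'.le.trans ((h1 w').le.trans (LV.Blk.fact_N_le (D := X) c w')))
    (hw.le.trans ((h1 w).ge.trans (LV.Blk.fact_N_le (D := X.pow hm) c w)))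

end Lvb

open Lvb in
/-- **the level and the large prime** -/
theorem boxLvl : BoxLvl := by
  intro r _ k _ _ Y _ N _ _ ρ F G _ X f u c B h hd
  have hc := h.gd.pr
  have := Fact.mk hc
  have := nonempty_R X hc h.gd.ne hd
  obtain ⟨γ, n, h1, h2, h3⟩ := h.sca
  obtain ⟨f₁, h4, h5⟩ := h.gd.pi1
  have hn : 0 < n := Nat.pos_of_ne_zero fun e => h3 (e ▸ dvd_zero _)
  have hf : 0 < f₁ := Nat.pos_of_ne_zero fun e => hc.one_lt.ne' (by simpa [e] using h5)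
  have h6 := u_pow f h1 h2
  have hr : r.Prime := Fact.out
  have h7 : ¬ (c : ℤ) ∣ u := fun e => h.gd.ne ((Nat.prime_dvd_prime_iff_eq hc hr).1 (hc.dvd_of_dvd_pow (n := f.e * n) (by
    have h8 := h6 ▸ dvd_pow e (Nat.mul_pos f.L.d_pos hn).ne'
    exact_mod_cast h8)))
  have h8 : 2 ≤ |u| := by
    by_contra h9
    have h10 := pow_le_one₀ (n := f.d * n) (abs_nonneg u) (by omega)
    rw [← abs_pow, h6, abs_of_nonneg (by positivity)] at h10
    exact absurd h10 (not_le.2 (one_lt_pow₀ (by exact_mod_cast hr.one_lt) (Nat.mul_pos f.L.e_pos hn).ne'))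
  have h9 : (u : ZMod c) ≠ 0 := mt (ZMod.intCast_zmod_eq_zero_iff_dvd _ _).1 h7
  have h10 : 0 < orderOf (u : ZMod c) :=
    (isOfFinOrder_iff_pow_eq_one.2 ⟨c - 1, by have := hc.one_lt; omega, ZMod.pow_card_sub_one_eq_one h9⟩).orderOf_pos
  obtain ⟨B₁, hB₁⟩ := lev_large X
  obtain ⟨A, M, hM, h11⟩ := exists_ord h8 h10 (B + B₁ + r + 2 + n + f₁ + Nat.card X.W)
  obtain ⟨K, hK⟩ := (Set.finite_range fun w : X.W => (ordT X w).factorization c).bddAbove
  have h12 : (c ^ (K + 1)).totient ≠ 0 := (Nat.totient_pos.2 (pow_pos hc.pos _)).ne'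
  obtain ⟨m, h13, h14, L⟩ := LV.Lift.exists_lp f A (mul_ne_zero hM (mul_ne_zero f.L.d_pos.ne' h12))
  obtain ⟨l, hl, h15, h16⟩ := h11 m h13 (h14.of_mul_right _)
  have hm := L.prime.pos
  obtain ⟨j, hj⟩ := (Nat.modEq_iff_dvd' hm).1 (h14.of_mul_left _).symm
  have h17 : m = 1 + f.d * ((c ^ (K + 1)).totient * j) := by rw [← mul_assoc, ← hj]; omega
  have ht := fun w => tor_eq f hc h.gd.ne hm h17 (dvd_mul_right _ _) w (Nat.lt_succ_of_le (hK ⟨w, rfl⟩))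
  have hg := grp_eq f hc h.gd.ne hm h17 ht
  have := X.amb.finite_GF G
  have := (X.pow hm).amb.finite_GF G
  have hW : 0 < Nat.card X.W := Nat.card_pos
  refine ⟨m, l, L, by omega, ⟨⟨LV.One.pow_QS h.gd.qs hm, hc, h.gd.ne, ⟨f₁, h4, h5⟩, h.gd.lev⟩, h.two, sca_pow h1 h2 hm h3,
    abS_up hc _ (inclusion_injective (LV.Lift.le_pow m)) hg h.ab⟩,
    ⟨⟨LV.One.pow_QS h.gd.qs hm, hl, by omega, ⟨f₁, h4, hl.coprime_iff_not_dvd.2 (Nat.not_dvd_of_pos_of_lt hf (by omega))⟩,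
      hB₁ l hl (by omega)⟩, by omega, sca_pow h1 h2 hm (Nat.not_dvd_of_pos_of_lt hn (by omega)),
      abS_large (X.pow hm) hl (by omega) (Nat.not_dvd_of_pos_of_lt hW (show Nat.card X.W < l by omega))⟩, ?_, ht, hg⟩
  rw [h16]
  congr 1
  rw [ZMod.intCast_eq_intCast_iff_dvd_sub, dvd_sub_comm]
  exact (dvd_pow_self _ K.succ_ne_zero).trans ((Nat.cast_pow c (K + 1) : ((c ^ (K + 1) : ℕ) : ℤ) = _) ▸
    pow_sub (cop hc h7 _) hm h14 ((dvd_mul_left _ _).mul_left _))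

end Cfsg.Agent.PQ.EA
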