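import Cfsg.Agent.PQ.EA.Defs
import Cfsg.Agent.PQ.Alt.Main
import Cfsg.Agent.PQ.Alt.Fa
import Cfsg.Agent.PQ.Spor.Main
import Cfsg.Agent.TAB.Sm1.Tool
import Cfsg.Agent.J2Type.SylowSeven

/-!
# S4982: the rows `NR`, `CvA` for the alternating groups, the sporadic groups and the Tits group (helper60)
-/

set_option autoImplicit false
set_option maxRecDepth 100000

namespace Cfsg.Agent.PQ.EA

open Cfsg Subgroup Cfsg.Agent.TAB Cfsg.Agent.TAB.Eng Cfsg.Agent.TAB.Use Cfsg.Agent.PQ.Spor
open Cfsg.Agent.H679 (OutTwo)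

namespace Nl

section tool

variable {S : Type} [Group S] {p q : ℕ}

theorem wa_odd (ho : OutTwo S) (hp : p.Prime) (h2 : p ≠ 2) {θ : IrrCharacter S} (h3 : ¬ p ∣ dg θ) (h4 : q ∣ dg θ) :
    WA p q S := fun A hA => ⟨θ, fun σ hσ g => by
  have := Fact.mk hp
  obtain ⟨k, hk⟩ := IsPGroup.iff_orderOf.1 hA ⟨σ, hσ⟩
  obtain ⟨s, rfl⟩ := H205.RV.inner_of_outTwo ho (φ := σ) (by
    rw [← orderOf_mk σ hσ, hk]; exact (hp.odd_of_ne_two h2).pow)
  exact Blocks.Basic.irr_conj θ.2 g s, h3, h4⟩

/-- a degree prime to `p` and divisible by `q`; for `p = 2` it occurs only once -/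
def okB (L : List ℕ) (p q : ℕ) : Bool :=
  (List.range L.length).any fun j => L.getD j 0 % p != 0 && L.getD j 0 % q == 0 &&
    (p != 2 || (List.range L.length).all fun i => i == j || L.getD i 0 != L.getD j 0)

theorem wa_of_ok (ho : OutTwo S) (hp : p.Prime) {L : List ℕ} (hL : DegList S L) (h : okB L p q = true) : WA p q S := by
  obtain ⟨χ, hE⟩ := hL
  simp only [okB, List.any_eq_true, List.mem_range, Bool.and_eq_true, bne_iff_ne, ne_eq, beq_iff_eq, Bool.or_eq_true,
    List.all_eq_true, ← Nat.dvd_iff_mod_eq_zero] at h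
  obtain ⟨j, hj, ⟨h1, h2⟩, h3⟩ := h
  have h4 : dg (⟨χ j, hE.irr j hj⟩ : IrrCharacter S) = L.getD j 0 := hE.charDegree_eq hj
  refine h3.elim (fun h3 => wa_odd ho hp h3 (h4 ▸ h1) (h4 ▸ h2)) fun h3 A _ => ⟨_, fun σ _ g => ?_, h4 ▸ h1, h4 ▸ h2⟩
  obtain ⟨i, hi, e⟩ := hE.all _ (H700.PrinExt.mapIrr σ ⟨χ j, hE.irr j hj⟩).2
  have h5 := H700.PrinExt.charDegree_mapIrr σ ⟨χ j, hE.irr j hj⟩
  rw [e, hE.charDegree_eq hi] at h5
  obtain rfl : i = j := (h3 i hi).resolve_right fun h6 => h6 (h5.trans h4)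
  exact congrFun e g

/-- the check for all pairs -/
def allB (N : ℕ) (L : List ℕ) (c : ℕ) : Bool :=
  PL.prod ^ 50 % N == 0 && PL.all fun p => PL.all fun q => N % p != 0 || N % q != 0 || p == q || p * q == c ||
    okB L p q || okB L q p

/-- witnesses for all pairs whose product is not `c` -/
def Sp (c : ℕ) (S : Type) [Group S] : Prop :=
  ∀ p q : ℕ, p.Prime → q.Prime → p ≠ q → p ∣ Nat.card S → q ∣ Nat.card S → p * q ≠ c → WA p q S ∨ WA q p S

theorem sp_of (ho : OutTwo S) {N c : ℕ} {L : List ℕ} (hN : Nat.card S = N) (hL : DegList S L) (h : allB N L c = true) :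
    Sp c S := fun p q hp hq hpq h1 h2 h3 => by
  simp only [allB, Bool.and_eq_true, bne_iff_ne, ne_eq, beq_iff_eq, List.all_eq_true, Bool.or_eq_true, ← hN] at h
  rcases h.2 p (mem_PL h.1 hp h1) q (mem_PL h.1 hq h2) with ((((h4 | h4) | h4) | h4) | h4) | h4
  exacts [absurd (Nat.mod_eq_zero_of_dvd h1) h4, absurd (Nat.mod_eq_zero_of_dvd h2) h4, absurd h4 hpq, absurd h4 h3,
    .inl (wa_of_ok ho hp hL h4), .inr (wa_of_ok ho hq hL h4)]

theorem sp_tab (ho : OutTwo S) {D : Dat} {R : Rows} (h : HasT S D R) (hc : allB D.N R.deg 0 = true) : Sp 0 S :=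
  h.elim fun _ h => sp_of ho h.1.1 h.2.degList hc

theorem not_ee (h : WA p q S ∨ WA q p S) : ¬ EL.EE p q S := fun e => by
  rcases h with h | h <;> obtain ⟨θ, -, h1, h2⟩ := h ⊥ IsPGroup.of_bot
  exacts [(e θ).1 h1 h2, (e θ).2 h1 h2]

theorem Sp.nr (h : Sp 0 S) : NR S := fun p q H e =>
  absurd e (not_ee (h p q H.pp H.pq H.ne H.dp H.dq (mul_ne_zero H.pp.ne_zero H.pq.ne_zero)))

theorem Sp.cva (h : Sp 0 S) : CvA S := fun p q hp hq hpq h1 h2 _ => h p q hp hq hpq h1 h2 (mul_ne_zero hp.ne_zero hq.ne_zero)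

end tool

section one

variable {G : Type} [Group G] [Finite G] {p q : ℕ}

/-- Sylow subgroups of order `p` with centralisers of order `c` -/
def Cn (p c : ℕ) (G : Type) [Group G] : Prop :=
  ∀ P : Sylow p G, Nat.card (P : Subgroup G) = p ∧ Nat.card (centralizer ((P : Subgroup G) : Set G)) = c

theorem cn_of [hp : Fact p.Prime] {c : ℕ} (h1 : (Nat.card G).factorization p = 1)
    (h2 : ∀ x : G, orderOf x = p → Nat.card (centralizer ({x} : Set G)) = c) : Cn p c G := fun P => by
  have h3 : Nat.card (P : Subgroup G) = p := by rw [P.card_eq_multiplicity, h1, pow_one]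
  obtain ⟨x, hx⟩ := exists_prime_orderOf_dvd_card' p (G := P) h3.symm.dvd
  rw [← Subgroup.orderOf_coe] at hx
  rw [← eq_of_le_of_card_ge (zpowers_le.2 x.2) (by rw [h3, Nat.card_zpowers, hx]), zpowers_eq_closure, centralizer_closure,
    ← zpowers_eq_closure, Nat.card_zpowers]
  exact ⟨hx, h2 _ hx⟩

omit [Finite G] in
theorem Cn.comm [Fact p.Prime] {c : ℕ} (h : Cn p c G) (P : Sylow p G) : IsMulCommutative (P : Subgroup G) :=
  have := isCyclic_of_prime_card (h P).1
  inferInstance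

theorem norm_le [hp : Fact p.Prime] [hq : Fact q.Prime] (hpq : p ≠ q) (h2 : 2 < q) (hP : Cn p (p * q * 2) G)
    (hQ : Cn q (p * q * 2) G) {P : Sylow p G} {Q : Sylow q G} (h : (Q : Subgroup G) ≤ centralizer ((P : Subgroup G) : Set G)) :
    normalizer ((P : Subgroup G) : Set G) ≤ normalizer ((Q : Subgroup G) : Set G) := fun g hg => by
  have := hP.comm P
  have h1 := card_sylow_modEq_one q (centralizer ((P : Subgroup G) : Set G))
  have h3 := card_mul_index (normalizer ((Q.subtype h).1 : Set (centralizer ((P : Subgroup G) : Set G))))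
  obtain ⟨m, hm⟩ : p * q ∣ Nat.card (normalizer ((Q.subtype h).1 : Set (centralizer ((P : Subgroup G) : Set G)))) := by
    refine ((Nat.coprime_primes hp.out hq.out).2 hpq).mul_dvd_of_dvd_of_dvd ?_ ?_
    · exact ((Nat.card_congr (subgroupOfEquivOfLe (le_centralizer (H := (P : Subgroup G)))).toEquiv).trans
        (hP P).1).symm.dvd.trans (card_dvd_of_le fun x hx => centralizer_le_normalizer _ (mem_centralizer_iff.2 fun y _ =>
          Subtype.ext (mem_centralizer_iff.1 y.2 x hx).symm))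
    · exact ((Nat.card_congr (subgroupOfEquivOfLe h).toEquiv).trans (hQ Q).1).symm.dvd.trans (card_dvd_of_le le_normalizer)
  rw [hm, (hP P).2, mul_assoc, Nat.mul_right_inj (mul_ne_zero hp.out.ne_zero hq.out.ne_zero)] at h3
  have h4 : Nat.card (Sylow q (centralizer ((P : Subgroup G) : Set G))) = 1 :=
    ((Nat.dvd_prime Nat.prime_two).1 ((Q.subtype h).card_eq_index_normalizer.dvd.trans
      (Dvd.intro_left m h3))).resolve_right fun e => by
      rw [e] at h1
      have := Nat.le_of_dvd one_pos ((Nat.modEq_iff_dvd' one_le_two).1 h1.symm)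
      omega
  have := (Nat.card_eq_one_iff_unique.1 h4).1
  have h5 : ((g • Q : Sylow q G) : Subgroup G) ≤ centralizer ((P : Subgroup G) : Set G) := by
    rintro _ ⟨y, hy, rfl⟩ a ha
    have h6 := mem_centralizer_iff.1 (h hy) _ ((mem_normalizer_iff''.1 hg a).1 ha)
    change a * (g * y * g⁻¹) = g * y * g⁻¹ * a
    calc _ = g * (g⁻¹ * a * g * y) * g⁻¹ := by group
      _ = _ := by rw [h6]; group
  exact Sylow.smul_eq_iff_mem_normalizer.1 (Sylow.subtype_injective (Subsingleton.elim ((g • Q).subtype h5) (Q.subtype h)))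

theorem exists_par [hp : Fact p.Prime] [hq : Fact q.Prime] (hpq : p ≠ q) (h1 : 2 < p) (h2 : 2 < q) (hP : Cn p (p * q * 2) G)
    (hQ : Cn q (p * q * 2) G) (P : Sylow p G) : ∃ Q : Sylow q G, (Q : Subgroup G) ≤ centralizer ((P : Subgroup G) : Set G) ∧
      normalizer ((P : Subgroup G) : Set G) = normalizer ((Q : Subgroup G) : Set G) := by
  obtain ⟨y, hy⟩ := exists_prime_orderOf_dvd_card' q (G := centralizer ((P : Subgroup G) : Set G))
    (by rw [(hP P).2]; exact Dvd.intro (p * 2) (by ring))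
  rw [← Subgroup.orderOf_coe, ← Nat.card_zpowers] at hy
  obtain ⟨Q, h3⟩ := (IsPGroup.of_card (n := 1) (hy.trans (pow_one q).symm)).exists_le_sylow
  have h4 : (Q : Subgroup G) ≤ centralizer ((P : Subgroup G) : Set G) := by
    rw [← eq_of_le_of_card_ge h3 ((hQ Q).1.trans hy.symm).le]
    exact zpowers_le.2 y.2
  exact ⟨Q, h4, le_antisymm (norm_le hpq h2 hP hQ h4)
    (norm_le hpq.symm h1 (mul_comm p q ▸ hQ) (mul_comm p q ▸ hP) (le_centralizer_iff.1 h4))⟩

theorem one [hp : Fact p.Prime] [hq : Fact q.Prime] (hpq : p ≠ q) (h1 : 2 < p) (h2 : 2 < q) (hP : Cn p (p * q * 2) G)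
    (hQ : Cn q (p * q * 2) G) : Com p q G ∧ LE.Loc p q G ∧ EL.AC p q G := by
  obtain ⟨Q, h3, h4⟩ := exists_par hpq h1 h2 hP hQ default
  refine ⟨⟨default, Q, fun x hx y hy => mem_centralizer_iff.1 (h3 hy) x hx⟩, ⟨default, Q, hP.comm _, hQ.comm _, h4⟩,
    fun P => ?_⟩
  obtain ⟨Q, -, h5⟩ := exists_par hpq h1 h2 hP hQ P
  have key : ∀ A : Subgroup G, Nat.card (centralizer (A : Set G)) *
      (centralizer (A : Set G)).relIndex (normalizer (A : Set G)) = Nat.card (normalizer (A : Set G)) := fun A => by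
    rw [← Nat.card_congr (subgroupOfEquivOfLe (centralizer_le_normalizer (A : Set G))).toEquiv]
    exact card_mul_index _
  have h6 := key P
  rw [h5, ← key Q, (hP P).2, (hQ Q).2, Nat.mul_right_inj
    (mul_ne_zero (mul_ne_zero hp.out.ne_zero hq.out.ne_zero) two_ne_zero)] at h6
  rw [h5, h6]
  exact J2Type.SylowSeven.relIndex_dvd_of_card_prime _ hq.out (hQ Q).1

theorem j1 {S : Type} [Group S] [Finite S] (ho : OutTwo S) (e : S ≃* Spor.J1) : NR S ∧ CvA S := by
  have hN := (Nat.card_congr e.toEquiv).trans H413.JOneLocal.card_J1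
  have hL := H413.JOneLocal.isLocal
  have h1 := sp_of (c := 15) ho hN (Sm1.degList_of e.symm J1.deg) (by decide +kernel)
  have h2 : ∀ x : S, Nat.card (centralizer ({x} : Set S)) = Nat.card (centralizer ({e x} : Set Spor.J1)) := fun x =>
    Nat.card_congr (e.toEquiv.subtypeEquiv fun g => by
      rw [mem_centralizer_singleton_iff, mem_centralizer_singleton_iff, ← e.injective.eq_iff, map_mul, map_mul]; rfl)
  have : Fact (Nat.Prime 3) := ⟨Nat.prime_three⟩
  have : Fact (Nat.Prime 5) := ⟨Nat.prime_five⟩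
  have h3 : Cn 3 30 S := cn_of (by rw [hN]; decide +kernel) fun x hx =>
    (h2 x).trans (hL.cent3 _ ((e.orderOf_eq x).trans hx))
  have h5 : Cn 5 30 S := cn_of (by rw [hN]; decide +kernel) fun x hx =>
    (h2 x).trans (hL.cent5 _ ((e.orderOf_eq x).trans hx))
  have h4 : ∀ p q : ℕ, p.Prime → q.Prime → p * q = 15 → Com p q S ∧ LE.Loc p q S ∧ EL.AC p q S := fun p q hp hq h => by
    have h6 := Nat.le_of_dvd (by omega) (Dvd.intro q h)
    have h7 := hq.two_le
    obtain ⟨rfl, rfl⟩ | ⟨rfl, rfl⟩ : (p = 3 ∧ q = 5) ∨ (p = 5 ∧ q = 3) := by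
      have := hp.two_le
      interval_cases p <;> omega
    exacts [one (by omega) (by omega) (by omega) h3 h5, one (by omega) (by omega) (by omega) h5 h3]
  exact ⟨fun p q H E => (em (p * q = 15)).elim (fun h => ⟨(h4 p q H.pp H.pq h).2.1, fun _ _ => (h4 p q H.pp H.pq h).2.2⟩)
      fun h => absurd E (not_ee (h1 p q H.pp H.pq H.ne H.dp H.dq h)),
    fun p q hp hq hpq a1 a2 a3 => h1 p q hp hq hpq a1 a2 fun h => a3 (h4 p q hp hq h).1⟩

end one

theorem spor {S : Type} [Group S] [Finite S] (h : IsSporadicGroup S) : NR S ∧ CvA S := by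
  have ho := H679.outTwo_sporadic h
  have key : ∀ {G : Type} [Group G] {D : Dat} {R : Rows}, HasT G D R → allB D.N R.deg 0 = true → Nonempty (S ≃* G) →
      NR S ∧ CvA S := fun t c ⟨e⟩ => ⟨(sp_tab ho (t.pull e) c).nr, (sp_tab ho (t.pull e) c).cva⟩
  rcases h with h | h | h | h | h | h | h | h | h | h | h | h | h | h | h | h | h | h | h | h | h | h | h | h | h | h
  · exact key tM11 (by decide +kernel) h
  · exact key tM12 (by decide +kernel) h
  · exact key tM22 (by decide +kernel) h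
  · exact key tM23 (by decide +kernel) h
  · exact key tM24 (by decide +kernel) h
  · exact h.elim (j1 ho)
  · exact key tJ2 (by decide +kernel) h
  · have h1 := sp_of (c := 0) ho (J3.card_eq h) (J3.deg h) (by decide +kernel)
    exact ⟨h1.nr, h1.cva⟩
  · exact key tJ4 (by decide +kernel) h
  · exact key tCo1 (by decide +kernel) h
  · exact key tCo2 (by decide +kernel) h
  · exact key tCo3 (by decide +kernel) h
  · exact key tMcL (by decide +kernel) h
  · exact key tHS (by decide +kernel) h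
  · exact key tSuz (by decide +kernel) h
  · exact key tHe (by decide +kernel) h
  · exact key tRu (by decide +kernel) h
  · exact key tON (by decide +kernel) h
  · exact key tLy (by decide +kernel) h
  · exact key tFi22 (by decide +kernel) h
  · exact key tFi23 (by decide +kernel) h
  · exact key tFi24 (by decide +kernel) h
  · exact key tHN (by decide +kernel) h
  · exact key tTh (by decide +kernel) h
  · exact key tB (by decide +kernel) h
  · exact key tM (by decide +kernel) h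

theorem tits {S : Type} [Group S] (h : Lie.IsoTits S) : Sp 0 S :=
  sp_tab (H679.SporOut.tits h) (tTits h) (by decide +kernel)

theorem alt {S : Type} [Group S] [Finite S] (h : IsAlternating S) {p q : ℕ} (hp : p.Prime) (hq : q.Prime) (hqp : q < p)
    (h1 : p ∣ Nat.card S) : WA p q S := by
  obtain ⟨n, hn, ⟨e⟩⟩ := h
  rw [Nat.card_congr e.toEquiv] at h1
  obtain ⟨θ, -, h3, h4⟩ := Alt.exists_pq hp hq hqp (Alt.le_of_dvd_card hp h1) hn
  rw [← H700.PrinExt.charDegree_mapIrr e] at h3 h4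
  exact wa_odd (H679.OutTwo.congr e (H205.RV.outTwo_alt' hn)) hp (by have := hq.two_le; omega) h3 h4

end Nl

/-- **`NR`** for the alternating, sporadic and Tits groups -/
theorem nn : NlRows NR :=
  ⟨fun _ _ _ _ _ h _ _ H => absurd H (Alt.not_pair h), fun _ _ _ _ _ h => (Nl.spor h).1, fun _ _ _ _ _ h => (Nl.tits h).nr⟩

/-- **`CvA`** for the alternating, sporadic and Tits groups -/
theorem nc : NlRows CvA :=
  ⟨fun _ _ _ _ _ h _ _ hp hq hpq h1 h2 _ => hpq.lt_or_gt.elim (fun e => .inr (Nl.alt h hq hp e h2))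
    fun e => .inl (Nl.alt h hp hq e h1), fun _ _ _ _ _ h => (Nl.spor h).2, fun _ _ _ _ _ h => (Nl.tits h).cva⟩

end Cfsg.Agent.PQ.EA
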