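import Cfsg.Agent.PQ.EA.Pdj3

/-!
# S4982, box `Pdj` (helper51)
-/

set_option autoImplicit false
set_option linter.unusedSectionVars false

namespace Cfsg.Agent.PQ.EA

open Cfsg Subgroup Cfsg.Agent.DL Cfsg.Agent.DL.Uni Cfsg.Agent.DL.Asm Cfsg.Agent.KZ.Lie Cfsg.Agent.LV.Lift Cfsg.Agent.PQ.EA.Pd

/-- **disjointness for the `c`-parts** -/
theorem boxPdj_of (hP : BoxPure) (hS : BoxSame) (hL : BoxLvl) : BoxPdj := by
  intro r _ k _ _ Y _ N _ _ ρ F G _ X f _ u c ok χ w₀ w c₀ c₁ P hPT i₀ i₁ x hx hn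
  have hc : Fact c.Prime := ⟨ok.gd.pr⟩
  rcases P.2.card_eq_or_dvd with h0 | h0
  · rw [card_eq_one.1 h0, mem_bot] at hx
    rw [hx]
    exact ⟨1, by simp⟩
  obtain ⟨m, l, h, hB, L⟩ := hL f u c (HZ.Gen.bd (HZ.Gen.nb X) 1 + Nat.card (GF F G) + Nat.card X.W) ok
    (h0.trans (card_subgroup_dvd_card _))
  have hm : Fact m.Prime := ⟨h.prime⟩
  have hl : Fact l.Prime := ⟨L.okl.gd.pr⟩
  have := finite_GF (X.pow h.pos)
  have := Fintype.ofFinite (GF (F ^ m) G)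
  have hcH := Nat.le_of_dvd Nat.card_pos (h0.trans (card_subgroup_dvd_card _))
  obtain ⟨j, hj⟩ := h.exists_eq
  obtain ⟨f', h1, h2⟩ := h.exists_fr
  obtain ⟨φ, hφ, hU⟩ := exists_setup h
  obtain ⟨e, -, h4, h5⟩ := exists_bij hU
  obtain ⟨n, h7, h8⟩ := h5 χ
  have h6 := (h4 (e χ)).2 ⟨χ, rfl⟩
  obtain ⟨ε, hε, h9⟩ := lift_of h h1 h2 χ.2 (e χ).2
    (fun g g' hg => by rw [← h6 g, show g' = φ g from Subtype.ext (hg.trans (hφ g).symm)]) h7 h8
  have hε' : ε ≠ 0 := by rcases hε with rfl | rfl <;> simp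
  have hF : ∀ {w c}, classInner (χ : GF F G → ℂ) (RW f w c) ≠ 0 → PP.Fx X w c := fun i => not_not.1 fun k => i (by
    rw [RW_zero f k]
    simp [classInner])
  obtain ⟨θ₀, a1, a2, a3⟩ := lift_theta h h1 h2 (hF i₀)
  obtain ⟨θ, b1, b2, -⟩ := lift_theta h h1 h2 (hF i₁)
  have hT : ∀ w, KZ.Lie.Tw X w ∈ tori (X.pow h.pos) := fun w =>
    KZ.Lie.mem_tori (D := X.pow h.pos) (yw_mem X w) (rp_pow f.L h.pos hj (yw_mem X w) (yw_rp X w))
  have hι := inclusion_injective (le_pow (F := F) (G := G) m)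
  obtain ⟨g, hg⟩ := core (X := X.pow h.pos) hP (hS _ _ c l L.okc L.okl L.ord) (hS _ _ l c L.okl L.okc L.ord.symm) L.okl.ab
    (by omega) L.okl.gd.ne (show Nat.card X.W < l by omega) (show HZ.Gen.bd (HZ.Gen.nb X) 1 < l by omega) (e χ)
    (sm_lift hU (Nat.not_dvd_of_pos_of_lt Nat.card_pos (by omega)) (e χ) χ (inv_zpowers _ h6) h7 h8) (P.2.map (inclusion (le_pow m)))
    (not_dvd_index_map _ hι L.grp P) (hT w₀) (hT w) (by rintro _ ⟨a, ha, rfl⟩; exact hPT a ha) a1 b1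
    (by rw [a2, h9]; exact mul_ne_zero hε' i₀) (by rw [b2, h9]; exact mul_ne_zero hε' i₁) (mem_map_of_mem _ hx) fun n hn1 hn2 => by
      have k1 : ∀ z ∈ (P : Subgroup (GF F G)), ∃ z' ∈ (P : Subgroup (GF F G)),
          inclusion (le_pow m) z' = n * inclusion (le_pow m) z * n⁻¹ := fun z hz => (hn1 _).1 (mem_map_of_mem _ hz)
      obtain ⟨d, hd⟩ := exists_fix hU (Z := (P : Subgroup (GF F G))) (n := n) fun z hz => (k1 z hz).imp fun _ h => h.2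
      have k2 : ∀ z ∈ (P : Subgroup (GF F G)), d * z * d⁻¹ ∈ (P : Subgroup (GF F G)) := fun z hz => by
        obtain ⟨z', k3, k4⟩ := k1 z hz
        rwa [hι ((hd z hz).trans k4.symm)]
      have k3 := hn d (mem_normalizer_fintype k2) fun a ha => by
        have k4 : (d : Y) * a * (d : Y)⁻¹ = n * a * (n : Y)⁻¹ := congrArg Subtype.val (hd a ha)
        exact ((a3 _ ⟨hPT _ (k2 a ha), (d * a * d⁻¹).2⟩).symm.trans (congrArg θ₀ k4)).trans
          ((hn2 _ (mem_map_of_mem _ ha)).trans (a3 _ ⟨hPT a ha, a.2⟩))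
      have k4 := hd x hx
      rw [k3, mul_inv_cancel_right] at k4
      exact mul_inv_eq_iff_eq_mul.1 k4.symm
  obtain ⟨i, hi⟩ := P.2 ⟨x, hx⟩
  have hi' : (x : Y) ^ c ^ i = 1 := congrArg (fun a : (P : Subgroup (GF F G)) => (a.1 : Y)) hi
  have := finite_inf_GF (X.pow h.pos) (KZ.Lie.Tw X w)
  have k1 : (g : Y) * x * (g : Y)⁻¹ ∈ KZ.Lie.Tw X w ⊓ GF F G := mem_of_fact (c := c) (inf_le_inf_left _ (le_pow m))
    (fun a ha b hb => tor_comm (hT w) ha.1 hb.1) (by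
      rw [card_Tw, ← L.tor w]
      exact congrArg (fun n : ℕ => n.factorization c)
        ((X.pow h.pos).card_cj_TF (yw_mem X w) (rp_pow f.L h.pos hj (yw_mem X w) (yw_rp X w))))
    ⟨hg, (g * inclusion (le_pow m) x * g⁻¹).2⟩ (j := i) (by rw [conj_pow, hi', mul_one, mul_inv_cancel])
  obtain ⟨d, hd⟩ := exists_fix hU (Z := {x}) (n := g) fun z hz => ⟨⟨_, k1.2⟩, by rw [hz]; rfl⟩
  have k2 : (d : Y) * x * (d : Y)⁻¹ = g * x * (g : Y)⁻¹ := congrArg Subtype.val (hd x rfl)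
  exact ⟨d, k2 ▸ hg⟩

end Cfsg.Agent.PQ.EA
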