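import Cfsg.Agent.PQ.EA.Defs2
import Cfsg.Agent.HZ.Gen.Gal
import Cfsg.Agent.HZ.Gen.Blk
import Cfsg.Agent.OddOrderCharacters.GaloisTwist

/-!
# S4982, box `Pdj`: finite group lemmas (helper51)
-/

set_option autoImplicit false
set_option linter.unusedSectionVars false

namespace Cfsg.Agent.PQ.EA.Pd

open Cfsg Subgroup Cfsg.Agent.HZ.Gen Cfsg.Agent.OddOrderCharacters.VChar Cfsg.Agent.Characters Cfsg.Agent.H593.GlaubermanP
  Cfsg.Agent.Blocks.PPart
open scoped ComplexConjugate

variable {H : Type} [Group H] [Fintype H] {c : ℕ}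

theorem le_of_comm [Fact c.Prime] {Q A : Subgroup H} (hQ : IsPGroup c Q) (hi : ¬ c ∣ Q.index) (hA : IsPGroup c A)
    (h : ∀ a ∈ A, ∀ x ∈ Q, x * a = a * x) : A ≤ Q :=
  le_sup_right.trans ((hQ.toSylow hi).3 (sup_p hQ hA h) le_sup_left).le

theorem isP_zpowers [Fact c.Prime] {Q : Subgroup H} (hQ : IsPGroup c Q) {x : H} (hx : x ∈ Q) : IsPGroup c (zpowers x) :=
  hQ.to_le (zpowers_le.2 hx)

theorem not_dvd_index_map [Fact c.Prime] {K : Type} [Group K] [Finite K] (ι : K →* H) (hι : Function.Injective ι)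
    (h : (Nat.card H).factorization c = (Nat.card K).factorization c) (P : Sylow c K) :
    ¬ c ∣ ((P : Subgroup K).map ι).index := fun k => by
  have h1 := ((P : Subgroup K).map ι).index_mul_card
  rw [card_map_of_injective hι, P.card_eq_multiplicity, ← h] at h1
  refine Nat.pow_succ_factorization_not_dvd (Nat.card_pos (α := H)).ne' (Fact.out : c.Prime) ?_
  rw [pow_succ']
  exact (Nat.mul_dvd_mul_right k _).trans h1.dvd

/-- the `c`-elements of an abelian group lie in a subgroup with the same `c`-part of the order -/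
theorem mem_of_fact [Fact c.Prime] {Γ : Type} [Group Γ] {A B : Subgroup Γ} [Finite B] (hAB : A ≤ B)
    (hB : ∀ a ∈ B, ∀ b ∈ B, a * b = b * a) (h : (Nat.card B).factorization c = (Nat.card A).factorization c) {x : Γ}
    (hx : x ∈ B) {j : ℕ} (hj : x ^ c ^ j = 1) : x ∈ A := by
  have := Fintype.ofFinite B
  have := Finite.of_injective _ (inclusion_injective hAB)
  let P : Sylow c A := default
  have h1 : IsPGroup c (zpowers (⟨x, hx⟩ : B)) := by
    rintro ⟨_, n, rfl⟩
    refine ⟨j, Subtype.ext (Subtype.ext ?_)⟩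
    change (x ^ n) ^ c ^ j = 1
    rw [← zpow_natCast, ← zpow_mul, mul_comm, zpow_mul, zpow_natCast, hj, one_zpow]
  obtain ⟨y, -, hy⟩ := le_of_comm (P.2.map (inclusion hAB)) (not_dvd_index_map _ (inclusion_injective hAB) h P) h1
    (fun a _ b _ => Subtype.ext (hB _ b.2 _ a.2)) (mem_zpowers _)
  have e : (y : Γ) = x := congrArg Subtype.val hy
  rw [← e]
  exact y.2

/-- **fixed conjugating elements** -/
theorem exists_fix {S K : Type} [Group S] [Group K] [Fintype K] [MulDistribMulAction S H] {ι : K →* H} {m : ℕ} [Fact m.Prime]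
    (h : Setup S ι m) {Z : Set K} {n : H} (hn : ∀ z ∈ Z, ∃ z', ι z' = n * ι z * n⁻¹) :
    ∃ d : K, ∀ z ∈ Z, ι (d * z * d⁻¹) = n * ι z * n⁻¹ := by
  let X := {g : H // ∀ z ∈ Z, g * ι z * g⁻¹ = n * ι z * n⁻¹}
  let _ : MulAction S X :=
    { smul := fun s x => ⟨s • (x : H), fun z hz => by
        obtain ⟨z', e⟩ := hn z hz
        have h1 := congrArg (fun t => s • t) ((x.2 z hz).trans e.symm)
        simp only [smul_mul', smul_inv', h.smul] at h1
        exact h1.trans e⟩
      one_smul := fun x => Subtype.ext (one_smul S (x : H))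
      mul_smul := fun s t x => Subtype.ext (mul_smul s t (x : H)) }
  have hcard : Nat.card X = Nat.card (centralizer (ι '' Z)) := by
    refine Nat.card_congr ⟨fun x => ⟨n⁻¹ * x, ?_⟩, fun y => ⟨n * y, fun z hz => ?_⟩, fun x => ?_, fun y => ?_⟩
    · rintro _ ⟨z, hz, rfl⟩
      calc ι z * (n⁻¹ * x) = n⁻¹ * (n * ι z * n⁻¹) * x := by group
        _ = _ := by rw [← x.2 z hz]; group
    · calc n * y * ι z * (n * y)⁻¹ = n * (y * ι z) * (n * y)⁻¹ := by group
        _ = _ := by rw [← y.2 _ ⟨z, hz, rfl⟩]; group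
    · exact Subtype.ext (by simp)
    · exact Subtype.ext (by simp)
  obtain ⟨x, hx⟩ := h.pgroup.nonempty_fixed_point_of_prime_not_dvd_card X
    (hcard ▸ fun hd => h.ndvd (hd.trans (card_subgroup_dvd_card _)))
  obtain ⟨d, hd⟩ := (h.fixed (x : H)).1 fun s => congrArg Subtype.val (hx s)
  exact ⟨d, fun z hz => by rw [map_mul, map_mul, map_inv, hd]; exact x.2 z hz⟩

/-- a common constituent -/
theorem exists_common {η φ : H → ℂ} (hη : IsGeneralizedCharacter H η) (h : classInner η φ ≠ 0) :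
    ∃ ψ : IrrCharacter H, classInner η ψ ≠ 0 ∧ classInner (ψ : H → ℂ) φ ≠ 0 := by
  have := Core.finite_irr (G := H)
  have := Fintype.ofFinite (IrrCharacter H)
  by_contra k
  refine h ?_
  rw [gen_eq_sum hη, Core.classInner_sum_left]
  refine Finset.sum_eq_zero fun ψ _ => ?_
  rw [Core.classInner_smul_left]
  by_contra k1
  exact k ⟨ψ, left_ne_zero_of_mul k1, right_ne_zero_of_mul k1⟩

/-- the central character of a constituent -/
theorem cen_of_inner {φ ψ : H → ℂ} (hψ : IsIrrCharacter H ψ) {z : H} (hz : z ∈ center H) {a : ℂ}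
    (hf : ∀ g, φ (z * g) = a * φ g) (h : classInner ψ φ ≠ 0) : ψ z = a * ψ 1 := by
  obtain ⟨ω, hω⟩ := exists_omega hψ (center H).subtype fun z => z.2
  have h0 : ∀ g, ψ (z * g) = ω ⟨z, hz⟩ * ψ g := hω ⟨z, hz⟩
  have h1 : classInner ψ φ = ω ⟨z, hz⟩ * conj a * classInner ψ φ := by
    conv_lhs => rw [classInner, ← Equiv.sum_comp (Equiv.mulLeft z)]
    rw [classInner, mul_left_comm]
    refine congrArg _ ?_
    rw [Finset.mul_sum]
    refine Finset.sum_congr rfl fun x _ => ?_
    rw [Equiv.coe_mulLeft, hf, h0, map_mul]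
    ring
  have h2 := mul_right_cancel₀ h (h1.symm.trans (one_mul _).symm)
  have h3 : ‖(ω ⟨z, hz⟩ : ℂ)‖ = 1 := Complex.norm_eq_one_of_pow_eq_one (n := Nat.card (center H)) (by
    rw [← Units.val_pow_eq_pow_val, ← map_pow, pow_card_eq_one', map_one, Units.val_one]) Nat.card_pos.ne'
  have h4 : conj a = conj (ω ⟨z, hz⟩ : ℂ) := by
    rw [← Complex.inv_eq_conj h3]
    exact eq_inv_of_mul_eq_one_right h2
  rw [← mul_one z, h0, (RingHom.injective _ h4 : a = _)]

/-- **the Glauberman correspondent is rational at the primes which do not divide the order of the fixed group** -/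
theorem sm_lift {S K : Type} [Group S] [Group K] [Fintype K] [MulDistribMulAction S H] {ι : K →* H} {m l : ℕ} [Fact m.Prime]
    [Fact l.Prime] (h : Setup S ι m) (hl : ¬ l ∣ Nat.card K) (χ : IrrCharacter H) (β : IrrCharacter K)
    (h1 : H593.GlaubermanP.Inv S (χ : H → ℂ)) {n : ℕ} (hn : ¬ m ∣ n) (h2 : classInner ((χ : H → ℂ) ∘ ι) (β : K → ℂ) = n) :
    Sm l 1 (χ : H → ℂ) := by
  refine ⟨gen_of_irr χ.2, by rw [Core.classInner_irr_self χ.2]; simp, ratR_of_fix (gen_of_irr χ.2) hl fun σ hσ g => ?_⟩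
  obtain ⟨M, hM⟩ := Blocks.ExistsModular.exists_isPModular (Fact.out : m.Prime)
  have h3 : ∀ x, σ ((β : K → ℂ) x) = (β : K → ℂ) x := fun x => by
    rw [GaloisBasic.map_apply_card σ (m := 1) (fun z hz => (hσ z hz).trans (pow_one z).symm) (Core.isIrr_isCharacter β.2), pow_one]
  let χ' : IrrCharacter H := ⟨_, OddOrderCharacters.GaloisTwist.isIrrCharacter_map σ χ.2⟩
  have h4 : classInner ((χ' : H → ℂ) ∘ ι) (β : K → ℂ) = n := by
    rw [← map_natCast σ, ← h2, classInner, classInner, map_mul, map_inv₀, map_natCast, map_sum]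
    refine congrArg _ (Finset.sum_congr rfl fun x _ => ?_)
    rw [map_mul, ← Core.isCharacter_apply_inv (Core.isIrr_isCharacter β.2), h3]
    rfl
  have h5 : χ' = χ := unique_chi h hM (fun s g => congrArg σ (h1 s g)) h1 (fun k => hn ((good_iff h hM h4).1 k))
    fun k => hn ((good_iff h hM h2).1 k)
  exact congrFun (congrArg Subtype.val h5) g

end Cfsg.Agent.PQ.EA.Pd
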