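import Cfsg.Agent.PQ.EA.Pdj1
import Cfsg.Agent.HZ.Gen.Rst
import Cfsg.Agent.KZ.Lie.McTor

/-!
# S4982, box `Pdj`: the local characters at a big prime (helper51)
-/

set_option autoImplicit false
set_option linter.unusedSectionVars false

namespace Cfsg.Agent.PQ.EA.Pd

open Cfsg Subgroup Cfsg.Agent.DL Cfsg.Agent.DL.CF Cfsg.Agent.DL.Uni Cfsg.Agent.DL.Asm Cfsg.Agent.DL.PP Cfsg.Agent.RL
  Cfsg.Agent.Nodes.Reps Cfsg.Agent.Nodes.BNOf Cfsg.Agent.Characters.Core Cfsg.Agent.KZ.Lie Cfsg.Agent.Blocks.PPart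
  Cfsg.Agent.HZ.Gen Cfsg.Agent.OddOrderCharacters.VChar

variable {p : ℕ} [Fact p.Prime] {k : Type} [Field k] [CharP k p] [IsAlgClosed k] {Y : Type} [Group Y] {N : Type}
  [Fintype N] [DecidableEq N] {ρ : Y →* GL N k} {F : MulAut Y} {G C T : Subgroup Y} {X : Datum p ρ F G}
  {l : ℕ} [Fact l.Prime] {θ : Y → ℂ}

/-- the norm of a Deligne-Lusztig character of a subgroup -/
theorem nrm_le {X' : Datum p ρ F C} (HX : RL.Ov X X') (hT : T ∈ tori X) (hTC : T ≤ C) (hθ : IsLin (T ⊓ GF F C) θ) :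
    (ip (GF F C) (R X' T θ) (R X' T θ)).re ≤ Nat.card X.W := by
  have hT' : T ∈ tori X' := HX.tori_eq.ge ⟨hT, hTC⟩
  have eT : T ⊓ GF F C = T ⊓ GF F G := (GF_tor hTC).symm.trans (GF_tor (tori_le hT))
  have := finite_GF X
  obtain ⟨y, hy, w, hw, rfl⟩ := exists_y hT
  have h1 : Nat.card {h : GF F C // Conj (GF F C) (cj y X.T) θ (cj y X.T) θ h} ≤ Nat.card (Nz F G (cj y X.T)) :=
    Nat.card_le_card_of_injective (fun h => ⟨⟨h.1.1, HX.le h.1.2.1, h.1.2.2⟩, mem_Nz.2 h.2.1⟩) fun a b e =>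
      Subtype.ext (Subtype.ext (congrArg (fun x : Nz F G (cj y X.T) => (x.1 : Y)) e))
  rw [card_Nz hy hw] at h1
  have h2 := h1.trans (Nat.mul_le_mul_left _ (card_le_card_group (CW X w)))
  have h3 : (0 : ℝ) < ordT X w := Nat.cast_pos.2 (Nat.pos_of_ne_zero (ordT_ne w))
  rw [(sys' X').ip_R_R hT' hT' hθ hθ, eT, X.card_cj_TF hy hw, Complex.div_natCast_re, Complex.natCast_re]
  refine (div_le_iff₀' h3).2 ?_
  exact_mod_cast h2

/-- **the local character** -/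
theorem loc [Fintype (GF F G)] (hp : l ≠ p) (hW : ¬ l ∣ Nat.card X.W) (hb : bd (nb X) 1 < l) {M : Ideal AlgInt}
    (hM : IsPModular l M) (χ : IrrCharacter (GF F G)) (hχ : Sm l 1 (χ : GF F G → ℂ)) {E : Subgroup (GF F G)}
    (hE : IsPGroup l E) [Fintype (centralizer (E : Set (GF F G)))] (hT : T ∈ tori X) (hET : ∀ a ∈ E, (a : Y) ∈ T)
    (hθ : IsLin (T ⊓ GF F G) θ) (h : classInner (χ : GF F G → ℂ) (res (GF F G) (R X T θ)) ≠ 0) :
    ∃ (ψ : IrrCharacter (centralizer (E : Set (GF F G)))) (φ : centralizer (E : Set (GF F G)) → ℂ),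
      IsInducedBlock M (centralizer (E : Set (GF F G))) (blockOf M ψ.1) (blockOf M χ.1) ∧ IsGeneralizedCharacter _ φ ∧
      (classInner φ φ).re ≤ Nat.card X.W ∧ classInner ψ.1 φ ≠ 0 ∧
      (∀ g b : centralizer (E : Set (GF F G)), IsPPart l g b → φ g ≠ 0 →
        ∃ h : centralizer (E : Set (GF F G)), ((h * b * h⁻¹ : centralizer (E : Set (GF F G))).1 : Y) ∈ T) ∧
      ∀ z : centralizer (E : Set (GF F G)), (z.1 : Y) ∈ T →
        (∀ y ∈ G, (∀ a ∈ E, y * (a : Y) = a * y) → y * z.1 = z.1 * y) → ψ.1 z = θ z.1 * ψ.1 1 := by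
  classical
  obtain ⟨C, hC⟩ : ∃ C, C = G ⊓ centralizer (E.map (GF F G).subtype : Set Y) := ⟨_, rfl⟩
  obtain ⟨X', HX⟩ : Rg X C := hC ▸ rg_cen X hp hW hE
  have hTC := tor_le_C hC hT hET
  have hT' : T ∈ tori X' := HX.tori_eq.ge ⟨hT, hTC⟩
  have eT : T ⊓ GF F C = T ⊓ GF F G := (GF_tor hTC).symm.trans (GF_tor (tori_le hT))
  have hθ' : IsLin (T ⊓ GF F C) θ := eT ▸ hθ
  have := finite_GF X'
  have := Fintype.ofFinite (GF F C)
  let e : centralizer (E : Set (GF F G)) ≃* GF F C :=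
    { toFun := fun g => ⟨g.1, (mem_C hC).2 g.2, g.1.2.2⟩
      invFun := fun g => ⟨⟨g, HX.le g.2.1, g.2.2⟩, (mem_C hC).1 g.2.1⟩
      left_inv := fun _ => rfl
      right_inv := fun _ => rfl
      map_mul' := fun _ _ => rfl }
  have hB := big_GF X hp hW
  have := Blocks.Local.isPrime_of_isPModular hM
  have h1 := ip_rs hp hW hE hχ hb hC (χ := extendByZero _ χ.1) (η := extendByZero _ (rs l E χ.1))
    (fun g => extendByZero_of_mem _ _ g.2) (fun g _ => extendByZero_of_mem _ _ g.2) HX hT hET θ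
  rw [ip_eq_classInner, ip_eq_classInner, show res (GF F G) (extendByZero _ χ.1) = χ.1 from
    funext fun g => extendByZero_of_mem _ _ g.2, ← Characters.Clifford.classInner_comp_mulEquiv e,
    show res (GF F C) (extendByZero _ (rs l E χ.1)) ∘ e = rs l E χ.1 ∘ (centralizer (E : Set (GF F G))).subtype from
      funext fun g => extendByZero_of_mem _ _ g.1.2] at h1
  obtain ⟨ψ, h2, h3⟩ := exists_common (hB.rs_gen hE hχ hb (subtype_injective _) (range_subtype _)) (h1.trans_ne h)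
  refine ⟨ψ, res (GF F C) (R X' T θ) ∘ e, hB.rs_block hE hM (Blocks.Basic.isPBlock_blockOf χ) (Blocks.Basic.mem_blockOf_self χ) hχ hb rfl ψ h2,
    gen_comp e.toMonoidHom ((sys' X').gen _ hT' _ hθ'), ?_, h3, fun g b hb' h4 => ?_, fun z hz hc => ?_⟩
  · rw [Characters.Clifford.classInner_comp_mulEquiv e, ← ip_eq_classInner]
    exact nrm_le HX hT hTC hθ'
  · by_contra h5
    refine h4 ((sys' X').R_eq_zero hT' θ (e g).2 fun x hx h6 => (h5 ⟨e.symm ⟨x, hx⟩, ?_⟩).elim)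
    obtain ⟨n, hn⟩ := exists_pow_eq (G := GF F C) l
    obtain ⟨s, -, u, hu, hJ⟩ := exists_isJ (p := p) (e g).2
    have h7 : u ^ n = 1 := congrArg Subtype.val (hn ⟨u, hu⟩ 1 (isPPart_of_not_dvd (by
      rw [Subgroup.orderOf_mk]
      exact isSs_of_isUni Fact.out hp.symm hJ.uni)))
    have h8 : ((e g : GF F C) : Y) ^ n = b.1 := congrArg Subtype.val (hn _ _ (isPPart_map e.toMonoidHom e.injective hb'))
    rw [← hJ.eq, Commute.mul_pow hJ.comm, h7, mul_one] at h8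
    have h9 := pow_mem h6 n
    rwa [conj_pow, hJ.jsp_eq, h8] at h9
  · have h4 : ∀ y ∈ C, y * z.1 = z.1 * y := fun y hy => hc y (HX.le hy) fun a ha => ((hC ▸ hy).2 _ ⟨a, ha, rfl⟩).symm
    exact cen_of_inner ψ.2 (mem_center_iff.2 fun y => Subtype.ext (Subtype.ext (h4 _ (e y).2.1)))
      (fun g => R_central ⟨hz, (e z).2⟩ h4 hθ' (e g).2.1) h3

end Cfsg.Agent.PQ.EA.Pd
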