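import Cfsg.Agent.PQ.EA.Pdj2

/-!
# S4982, box `Pdj`: disjointness for the `c`-parts (helper51)
-/

set_option autoImplicit false
set_option linter.unusedSectionVars false

namespace Cfsg.Agent.PQ.EA.Pd

open Cfsg Subgroup Cfsg.Agent.DL Cfsg.Agent.DL.CF Cfsg.Agent.DL.Uni Cfsg.Agent.DL.Asm Cfsg.Agent.DL.PP Cfsg.Agent.RL
  Cfsg.Agent.Nodes.Reps Cfsg.Agent.Nodes.BNOf Cfsg.Agent.Characters.Core Cfsg.Agent.KZ.Lie Cfsg.Agent.Blocks.PPart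
  Cfsg.Agent.HZ.Gen Cfsg.Agent.OddOrderCharacters.VChar Cfsg.Agent.LV.Lift Cfsg.Agent.DL.Mk

variable {p : ℕ} [Fact p.Prime] {k : Type} [Field k] [CharP k p] [IsAlgClosed k] {Y : Type} [Group Y] {N : Type}
  [Fintype N] [DecidableEq N] {ρ : Y →* GL N k} {F : MulAut Y} {G T T₀ : Subgroup Y} {X : Datum p ρ F G}
  {c l m : ℕ} {θ θ₀ : Y → ℂ}

theorem tor_comm (hT : T ∈ tori X) {a b : Y} (ha : a ∈ T) (hb : b ∈ T) : a * b = b * a := by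
  obtain ⟨X', -, rfl⟩ := (Rg.top X).frame hT (tori_le hT)
  exact X'.T_comm ha hb

theorem mem_tor (hT : T ∈ tori X) {a : Y} (ha : a ∈ G) (h : ∀ t ∈ T, t * a = a * t) : a ∈ T := by
  obtain ⟨X', -, rfl⟩ := (Rg.top X).frame hT (tori_le hT)
  exact X'.centralizer_T.le ⟨ha, h⟩

/-- the `l`-elements of a finite torus -/
def lp (hT : T ∈ tori X) (l : ℕ) : Subgroup (GF F G) where
  carrier := {g | (g : Y) ∈ T ∧ ∃ j, g ^ l ^ j = 1}
  one_mem' := ⟨one_mem _, 0, one_pow _⟩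
  mul_mem' := by
    rintro a b ⟨h1, i, hi⟩ ⟨h2, j, hj⟩
    refine ⟨mul_mem h1 h2, i + j, ?_⟩
    rw [Commute.mul_pow (Subtype.ext (tor_comm hT h1 h2)), pow_add, pow_mul, hi, mul_comm, pow_mul, hj, one_pow, one_pow, one_mul]
  inv_mem' := by
    rintro a ⟨h1, i, hi⟩
    exact ⟨inv_mem h1, i, by rw [inv_pow, hi, inv_one]⟩

theorem comm_zpowers {H : Subgroup Y} {x : H} {g : Y} : (∀ a ∈ zpowers x, g * (a : Y) = a * g) ↔ g * x = x * g :=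
  ⟨fun h => h x (mem_zpowers x), fun h => by
    rintro _ ⟨n, rfl⟩
    exact (Commute.zpow_right h n).eq⟩

/-- **the statement at a level with a big prime** -/
theorem core [Fact c.Prime] [Fact l.Prime] [Fintype (GF F G)] (hP : BoxPure) (h1 : Same F G c l) (h2 : Same F G l c)
    (hab : LV.AbS l (GF F G)) (hcl : c ≠ l) (hp : l ≠ p) (hW : Nat.card X.W < l) (hb : bd (nb X) 1 < l)
    (χ : IrrCharacter (GF F G)) (hχ : HZ.Gen.Sm l 1 (χ : GF F G → ℂ)) {P : Subgroup (GF F G)} (hPc : IsPGroup c P)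
    (hi : ¬ c ∣ P.index) (hT₀ : T₀ ∈ tori X) (hT : T ∈ tori X) (hPT : ∀ a ∈ P, (a : Y) ∈ T₀)
    (hθ₀ : IsLin (T₀ ⊓ GF F G) θ₀) (hθ : IsLin (T ⊓ GF F G) θ)
    (i₀ : classInner (χ : GF F G → ℂ) (res (GF F G) (R X T₀ θ₀)) ≠ 0)
    (i₁ : classInner (χ : GF F G → ℂ) (res (GF F G) (R X T θ)) ≠ 0) {x : GF F G} (hx : x ∈ P)
    (hn : ∀ n ∈ normalizer (P : Set (GF F G)), (∀ a ∈ P, θ₀ ((n : Y) * a * (n : Y)⁻¹) = θ₀ a) → n * x = x * n) :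
    ∃ g : GF F G, (g : Y) * x * (g : Y)⁻¹ ∈ T := by
  classical
  have hW' : ¬ l ∣ Nat.card X.W := Nat.not_dvd_of_pos_of_lt Nat.card_pos hW
  obtain ⟨M, hM⟩ := Blocks.ExistsModular.exists_isPModular (Fact.out : l.Prime)
  obtain ⟨A', hA', k1⟩ := h1 P hPc
  obtain ⟨D, hD⟩ := hA'.exists_le_sylow
  obtain ⟨P', hP', k2⟩ := h2 D D.2
  have hDc : ∀ a ∈ (D : Subgroup (GF F G)), ∀ b ∈ (D : Subgroup (GF F G)), (a : Y) * b = b * a := fun a ha b hb =>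
    congrArg (fun x : (D : Subgroup (GF F G)) => (x.1 : Y)) ((hab D).1.1 ⟨a, ha⟩ ⟨b, hb⟩)
  have k3 : ∀ g ∈ G, (∀ a ∈ (D : Subgroup (GF F G)), g * (a : Y) = a * g) → ∀ a ∈ P, g * (a : Y) = a * g :=
    fun g hg h => (k1 g hg).2 fun a ha => h a (hD ha)
  have k4 : P' ≤ P := le_of_comm hPc hi hP' fun a ha y hy =>
    Subtype.ext (k3 a a.2.1 (fun d hd => ((k2 d d.2.1).1 (hDc d hd) a ha).symm) y hy).symm
  have k5 : ∀ g ∈ G, (∀ a ∈ P, g * (a : Y) = a * g) → ∀ a ∈ (D : Subgroup (GF F G)), g * (a : Y) = a * g :=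
    fun g hg h => (k2 g hg).2 fun a ha => h a (k4 ha)
  have hDT : ∀ a ∈ (D : Subgroup (GF F G)), (a : Y) ∈ T₀ := fun a ha => mem_tor hT₀ a.2.1 fun t ht =>
    k5 t (tori_le hT₀ ht) (fun b hb => tor_comm hT₀ ht (hPT b hb)) a ha
  have hPD : P ≤ centralizer ((D : Subgroup (GF F G)) : Set (GF F G)) := fun a ha b hb =>
    Subtype.ext (tor_comm hT₀ (hDT b hb) (hPT a ha))
  have hDP : ∀ y ∈ centralizer ((D : Subgroup (GF F G)) : Set (GF F G)), ∀ a ∈ P, y * a = a * y := fun y hy a ha =>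
    Subtype.ext (k3 y y.2.1 (fun d hd => congrArg Subtype.val (hy d hd).symm) a ha)
  obtain ⟨ψ₀, -, j1, -, -, -, -, j2⟩ := loc hp hW' hb hM χ hχ D.2 hT₀ hDT hθ₀ i₀
  have j3 : ∀ a (ha : a ∈ P), ψ₀.1 ⟨a, hPD ha⟩ = θ₀ a * ψ₀.1 1 := fun a ha =>
    j2 ⟨a, hPD ha⟩ (hPT a ha) fun y hy h => k3 y hy h a ha
  have hE : IsPGroup l (lp hT l) := fun g => g.2.2.imp fun j e => Subtype.ext e
  obtain ⟨ψ, φ, j4, j5, j6, j7, j8, -⟩ := loc hp hW' hb hM χ hχ hE hT (fun a ha => ha.1) hθ i₁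
  obtain ⟨g, hg⟩ := hP _ l M hM D (hab D) _ ψ₀ j1 _ hE ψ φ j4 j5 (j6.trans_lt (Nat.cast_lt.2 hW)) j7 fun g b h3 h4 => by
    by_contra h5
    obtain ⟨h, h6⟩ := j8 g b h3 h5
    obtain ⟨-, -, -, ⟨j, hj⟩, -⟩ := h3
    have h7 : (h * b * h⁻¹).1 ∈ lp hT l := ⟨h6, j, by
      rw [← Subgroup.coe_pow, conj_pow, ← hj, pow_orderOf_eq_one, mul_one, mul_inv_cancel, Subgroup.coe_one]⟩
    have h8 := h.2 _ h7
    rw [Subgroup.coe_mul, Subgroup.coe_mul, Subgroup.coe_inv, inv_mul_cancel_right, mul_right_inj] at h8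
    exact h4 (h8 ▸ h7)
  obtain ⟨A, hA, k6⟩ := h1 _ (isP_zpowers hPc hx)
  have k7 : ∀ y ∈ G, y * x = x * y ↔ ∀ a ∈ A, y * (a : Y) = a * y := fun y hy => comm_zpowers.symm.trans (k6 y hy)
  have hAD : A ≤ D := le_of_comm D.2 D.not_dvd_index hA fun a ha d hd =>
    Subtype.ext ((k7 d d.2.1).1 (tor_comm hT₀ (hDT d hd) (hPT x hx)) a ha)
  have k8 : ∀ a ∈ A, g * a * g⁻¹ ∈ lp hT l := fun a ha => hg a (hAD ha) fun n hnD hs => by
    have k9 : P.map (MulAut.conj n).toMonoidHom ≤ P := le_of_comm hPc hi (hPc.map _) (by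
      rintro _ ⟨b, hb, rfl⟩ y hy
      have h3 : n⁻¹ * y * n ∈ centralizer ((D : Subgroup (GF F G)) : Set (GF F G)) := fun d hd => by
        have h4 := hPD hy _ ((hnD d).1 hd)
        calc d * (n⁻¹ * y * n) = n⁻¹ * (n * d * n⁻¹ * y) * n := by group
          _ = _ := by rw [h4]; group
      calc y * (n * b * n⁻¹) = n * (n⁻¹ * y * n * b) * n⁻¹ := by group
        _ = n * b * n⁻¹ * y := by rw [hDP _ h3 b hb]; group)
    have k10 : ∀ b ∈ P, n * b * n⁻¹ ∈ P := fun b hb => k9 ⟨b, hb, rfl⟩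
    refine Subtype.ext ((k7 n n.2.1).1 (congrArg Subtype.val (hn n (mem_normalizer_fintype k10) fun b hb => ?_)) a ha)
    have h3 := hs ⟨b, hPD hb⟩ ⟨_, hPD (k10 b hb)⟩ rfl
      (mem_center_iff.2 fun y => Subtype.ext (hDP y y.2 _ (k10 b hb))) fun h4 => by
        obtain ⟨j, hj⟩ := (IsPGroup.iff_orderOf.1 hPc) ⟨_, k10 b hb⟩
        rw [Subgroup.orderOf_mk] at h4 hj
        rw [hj] at h4
        exact hcl ((Nat.prime_dvd_prime_iff_eq Fact.out Fact.out).1 ((Fact.out : l.Prime).dvd_of_dvd_pow h4)).symm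
    rw [j3 b hb, j3 _ (k10 b hb)] at h3
    exact mul_right_cancel₀ (isIrr_apply_one_ne_zero ψ₀.2) h3
  refine ⟨g, mem_tor hT (g * x * g⁻¹).2.1 fun t ht => ?_⟩
  have h3 := (k7 ((g : Y)⁻¹ * t * g) (mul_mem (mul_mem (inv_mem g.2.1) (tori_le hT ht)) g.2.1)).2 fun a ha => by
    have h4 : t * (g * a * (g : Y)⁻¹) = g * a * (g : Y)⁻¹ * t := tor_comm hT ht (k8 a ha).1
    calc (g : Y)⁻¹ * t * g * a = (g : Y)⁻¹ * (t * (g * a * (g : Y)⁻¹)) * g := by group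
      _ = _ := by rw [h4]; group
  calc t * (g * x * (g : Y)⁻¹) = g * ((g : Y)⁻¹ * t * g * x) * (g : Y)⁻¹ := by group
    _ = _ := by rw [h3]; group

theorem nrm_of_fix {t : Y} (ht : F t = t) (m : ℕ) : nrm F m t = t ^ m := by
  induction m with
  | zero => rw [nrm_zero, pow_zero]
  | succ m ih => rw [nrm_succ, ih, DL.Mk.pow_fix ht, pow_succ]

theorem IsLin.pow {K : Subgroup Y} (h : IsLin K θ) {t : Y} (ht : t ∈ K) (m : ℕ) : θ (t ^ m) = θ t ^ m := by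
  induction m with
  | zero => rw [pow_zero, pow_zero, h.one]
  | succ m ih => rw [pow_succ, h.mul _ (pow_mem ht m) _ ht, ih, pow_succ]

/-- the linear characters at the two levels -/
theorem lift_theta {f : Fr X} (hl : Lp f m) {f' : Fr (X.pow hl.pos)} (h1 : f'.d = f.d) (h2 : f'.ζ ^ gs (p ^ f.e) m = f.ζ)
    {w : X.W} {c : Lbl X} (hc : Fx X w c) : ∃ θ, IsLin (KZ.Lie.Tw X w ⊓ GF (F ^ m) G) θ ∧
      res _ (R (X.pow hl.pos) (KZ.Lie.Tw X w) θ) = RW f' w c ∧ ∀ t ∈ KZ.Lie.Tw X w ⊓ GF F G, θ t = th f w c t := by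
  obtain ⟨j, hj⟩ := hl.exists_eq
  have hy := yw_mem X w
  have hw := yw_rp X w
  have hw' := rp_pow f.L hl.pos hj hy hw
  obtain ⟨h3, h4⟩ := th_spec f hc
  obtain ⟨θ, h5, h6⟩ := exists_theta f'.L f'.hζ hy hw' (fx_pow f.L hl.pos hj hc)
  refine ⟨θ, h5, funext (R_eq_RW f' hy hw' h6), fun t ht => ?_⟩
  rw [h6.ext f'.L f'.hζ hy hw' (h1 ▸ lab_pow f.L hl.pos h2 hy hw h4) t ⟨ht.1, le_pow m ht.2⟩, nrm_of_fix ht.2.2, IsLin.pow h3 ht]
  obtain ⟨v, rfl⟩ := exists_nrm f.L f.hζ hy hw ht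
  have h7 := Nat.one_lt_pow f.L.e_pos.ne' (Fact.out : p.Prime).one_lt
  have h8 : chr v c ^ (p ^ f.e - 1) = 1 := by
    rw [← mul_left_inj (chr v c), ← pow_succ, Nat.sub_add_cancel h7.le, hc.pow f.L, one_mul]
  rw [h4, ← Units.val_pow_eq_pow_val, pow_eq_pow_mod m h8, hl.mod.of_mul_left _, ← pow_eq_pow_mod 1 h8, pow_one]

end Cfsg.Agent.PQ.EA.Pd
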