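import Cfsg.Agent.PQ.EA.Defs2
import Mathlib.GroupTheory.FiniteAbelian.Duality
import Mathlib.RingTheory.RootsOfUnity.AlgebraicallyClosed
import Mathlib.Analysis.Complex.Polynomial.Basic

/-!
# S4982: a linear character of an abelian Sylow subgroup with a small stabiliser (helper64)
-/

set_option autoImplicit false

namespace Cfsg.Agent.PQ.EA

open Cfsg Subgroup

namespace Perm

/-- equal marks give equal numbers of points with a given stabiliser -/
theorem marks {L X Y : Type} [Finite L] [PartialOrder L] [Finite X] [Finite Y] (s : X → L) (t : Y → L)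
    (h : ∀ U, Nat.card {x // U ≤ s x} = Nat.card {y // U ≤ t y}) (U : L) :
    Nat.card {x // s x = U} = Nat.card {y // t y = U} := by
  classical
  have := Fintype.ofFinite L
  have key : ∀ {Z : Type} [Finite Z] (r : Z → L) (V : L), Nat.card {z // V ≤ r z} =
      Nat.card {z // r z = V} + ∑ V' ∈ Finset.univ.filter (V < ·), Nat.card {z // r z = V'} := fun {Z} _ r V => by
    have := Fintype.ofFinite Z
    simp only [Nat.card_eq_fintype_card, Fintype.card_subtype]
    rw [← Finset.card_filter_add_card_filter_not (fun z => r z = V), Finset.filter_filter, Finset.filter_filter,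
      Finset.card_eq_sum_card_fiberwise (f := r) (s := Finset.univ.filter fun z => V ≤ r z ∧ ¬ r z = V)
        (t := Finset.univ.filter (V < ·)) fun z hz => by simpa [lt_iff_le_and_ne, eq_comm] using hz]
    congr 1
    · exact congrArg _ (Finset.filter_congr fun z _ => and_iff_right_of_imp ge_of_eq)
    · refine Finset.sum_congr rfl fun V' hV => ?_
      rw [Finset.filter_filter]
      refine congrArg _ (Finset.filter_congr fun z _ => and_iff_right_of_imp fun k => ?_)
      rw [k]
      exact ⟨(Finset.mem_filter.1 hV).2.le, (Finset.mem_filter.1 hV).2.ne'⟩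
  induction U using WellFoundedGT.induction with
  | ind U ih =>
    have h1 := h U
    rw [key s, key t, Finset.sum_congr rfl fun V hV => ih V (Finset.mem_filter.1 hV).2] at h1
    exact Nat.add_right_cancel h1

variable {A W : Type} [CommGroup A] [Finite A] [Group W] [Finite W] (φ : W →* MulAut A)

/-- the stabiliser of an element -/
def sa (a : A) : Subgroup W where
  carrier := {w | φ w a = a}
  one_mem' := by simp
  mul_mem' {u v} hu hv := by
    show φ (u * v) a = a
    rw [map_mul, MulAut.mul_apply, show φ v a = a from hv, show φ u a = a from hu]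
  inv_mem' {u} hu := by
    show φ u⁻¹ a = a
    rw [map_inv, MulAut.inv_apply, MulEquiv.symm_apply_eq, show φ u a = a from hu]

/-- the stabiliser of a character -/
def sc (ω : A →* ℂˣ) : Subgroup W where
  carrier := {w | ∀ a, ω (φ w a) = ω a}
  one_mem' := by simp
  mul_mem' {u v} hu hv a := by rw [map_mul, MulAut.mul_apply, hu, hv]
  inv_mem' {u} hu a := by rw [← hu, map_inv, MulAut.apply_inv_self]

theorem card_fix (hc : (Nat.card W).Coprime (Nat.card A)) (U : Subgroup W) :
    Nat.card {a // U ≤ sa φ a} = Nat.card {ω // U ≤ sc φ ω} := by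
  have := Fintype.ofFinite U
  have h0 : (Nat.card U).Coprime (Nat.card A) := hc.coprime_dvd_left (card_subgroup_dvd_card U)
  let B : Subgroup A :=
    { carrier := {a | U ≤ sa φ a}
      one_mem' := fun u _ => map_one (φ u)
      mul_mem' := fun {a b} ha hb u hu => (map_mul (φ u) a b).trans (congrArg₂ _ (ha hu) (hb hu))
      inv_mem' := fun {a} ha u hu => (map_inv (φ u) a).trans (congrArg _ (ha hu)) }
  have h1 : ∀ (u : U) a, ∏ v : U, φ v (φ u a) = ∏ v : U, φ v a := fun u a =>
    Fintype.prod_equiv (Equiv.mulRight u) _ _ fun v => by rw [Equiv.coe_mulRight, coe_mul, map_mul, MulAut.mul_apply]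
  let ν : A →* B :=
    { toFun := fun a => ⟨∏ v : U, φ v a, fun u hu => (map_prod (φ u) _ _).trans
        (Fintype.prod_equiv (Equiv.mulLeft (⟨u, hu⟩ : U)) _ _ fun v => by
          rw [Equiv.coe_mulLeft, coe_mul, map_mul, MulAut.mul_apply])⟩
      map_one' := Subtype.ext (by simp)
      map_mul' := fun a b => Subtype.ext (by simp [Finset.prod_mul_distrib]) }
  have h2 : ∀ {C : Type} [CommGroup C] (η η' : C →* ℂˣ) (c : C), c ^ Nat.card A = 1 →
      η c ^ Nat.card U = η' c ^ Nat.card U → η c = η' c := fun η η' c k1 k2 => by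
    rw [← div_eq_one]
    refine (pow_eq_one_iff_of_coprime h0).1 ⟨by rw [div_pow, k2, div_self'], ?_⟩
    rw [div_pow, ← map_pow, ← map_pow, k1, map_one, map_one, div_one]
  have h3 : Finite (A →* ℂˣ) := Nat.finite_of_card_ne_zero (by
    rw [CommGroup.card_monoidHom_of_hasEnoughRootsOfUnity]; exact Nat.card_pos.ne')
  have h4 : Nat.card (B →* ℂˣ) = Nat.card B := CommGroup.card_monoidHom_of_hasEnoughRootsOfUnity B ℂ
  have h5 : Finite (B →* ℂˣ) := Nat.finite_of_card_ne_zero (h4.trans_ne Nat.card_pos.ne')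
  refine h4.symm.trans (le_antisymm (Nat.card_le_card_of_injective
    (fun η => (⟨η.comp ν, fun u hu a => congrArg η (Subtype.ext (h1 ⟨u, hu⟩ a))⟩ : {ω // U ≤ sc φ ω})) fun η η' k => ?_)
    (Nat.card_le_card_of_injective (fun ω : {ω // U ≤ sc φ ω} => ω.1.comp B.subtype) fun ω ω' k => ?_))
  · refine MonoidHom.ext fun b => h2 η η' b (Subtype.ext pow_card_eq_one') ?_
    have k1 : ν b = b ^ Nat.card U := Subtype.ext (by
      show ∏ v : U, φ v b = b.1 ^ _
      rw [Finset.prod_congr rfl fun v _ => b.2 v.2, Finset.prod_const, Finset.card_univ, Nat.card_eq_fintype_card])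
    rw [← map_pow, ← map_pow, ← k1]
    exact DFunLike.congr_fun (congrArg Subtype.val k) b.1
  · refine Subtype.ext (MonoidHom.ext fun a => h2 _ _ a pow_card_eq_one' ?_)
    have k1 : ∀ ω : {ω // U ≤ sc φ ω}, ω.1 a ^ Nat.card U = ω.1 (ν a) := fun ω => by
      show _ = ω.1 (∏ v : U, φ v a)
      rw [map_prod, Finset.prod_congr rfl fun v _ => ω.2 v.2 a, Finset.prod_const, Finset.card_univ, Nat.card_eq_fintype_card]
    rw [k1, k1]
    exact DFunLike.congr_fun k (ν a)

theorem exists_sc (hc : (Nat.card W).Coprime (Nat.card A)) (a : A) : ∃ ω, sc φ ω = sa φ a := by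
  have h3 : Finite (A →* ℂˣ) := Nat.finite_of_card_ne_zero (by
    rw [CommGroup.card_monoidHom_of_hasEnoughRootsOfUnity]; exact Nat.card_pos.ne')
  have : Nonempty {x // sa φ x = sa φ a} := ⟨⟨a, rfl⟩⟩
  obtain ⟨⟨ω, h⟩⟩ := (Nat.card_ne_zero.1 ((marks _ _ (card_fix φ hc) (sa φ a)).symm.trans_ne Nat.card_pos.ne')).1
  exact ⟨ω, h⟩

end Perm

open scoped IsMulCommutative in
theorem boxPerm : BoxPerm := fun H _ _ l hl P hP x hx => by
  have : Fact l.Prime := ⟨hl⟩
  obtain ⟨ω, h⟩ := Perm.exists_sc (P : Subgroup H).normalizerMonoidHom.range.subtype (by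
    obtain ⟨n, hn⟩ := IsPGroup.iff_card.1 P.2
    rw [hn, ← index_ker, normalizerMonoidHom_ker]
    refine (Nat.Coprime.symm ((Nat.Prime.coprime_iff_not_dvd hl).2 fun k => P.not_dvd_index ?_)).pow_right n
    exact k.trans ((relIndex_dvd_of_le_left _ (le_centralizer _)).trans (relIndex_dvd_index_of_le le_normalizer))) ⟨x, hx⟩
  refine ⟨ω, fun n hn k => ?_⟩
  have h1 := h.le (show (⟨_, ⟨n, hn⟩, rfl⟩ : (P : Subgroup H).normalizerMonoidHom.range) ∈ _ from fun a => k a _ rfl)
  exact mul_inv_eq_iff_eq_mul.1 (congrArg Subtype.val h1)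

end Cfsg.Agent.PQ.EA
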