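import Cfsg.Agent.PQ.EA.Defs2
import Cfsg.Agent.H608.KKL.Star
import Cfsg.Agent.H658.KKL.FongTwo
import Cfsg.Agent.H649.AbelLocal
import Cfsg.Agent.H767.FusTransfer
import Cfsg.Agent.CharactersDeep.Extraspecial
import Cfsg.Agent.S4677

/-!
# S4982: the box Pure (helper94)

* `Pure.star_sec` : the star construction on the section of a central element;
* `Pure.core` : the statement inside `C(E)`; `boxPure`.
-/

set_option autoImplicit false
set_option linter.unusedSectionVars false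

namespace Cfsg.Agent.PQ.EA

open Cfsg Subgroup Cfsg.Agent.Characters.Core Cfsg.Agent.Blocks Cfsg.Agent.H649 Cfsg.Agent.H651 Cfsg.Agent.H650
open Cfsg.Agent.H645.FusCount (stab exists_mul_of_le)

namespace Pure

universe u

variable {p : ℕ} [Fact p.Prime] {M : Ideal AlgInt} {G : Type u} [Group G] {B : Set (IrrCharacter G)}

/-- the star construction on the section of a central element -/
theorem star_sec [Finite G] {a : BrauerPairIdx G} (hM : IsPModular p M) (hmax : IsMaximalBrauerPair p M B a.1 a.2)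
    {η : G → ℂ} (hη : IsStable p M a η) {χ : IrrCharacter G} (hχ : χ ∈ B) {g u : G} (hu : IsPPart p g u)
    (huc : u ∈ center G) (h1 : η u = 1) : star p M a η (χ : G → ℂ) g = (χ : G → ℂ) g := by
  obtain ⟨s, rfl, hc, hord, hs⟩ := hu
  have hs' : ¬ p ∣ orderOf (⟨s, mem_Cz_iff.2 hc⟩ : Cz u) := by rwa [Subgroup.orderOf_mk]
  have hf := Basic.irr_isClassFunction χ.2
  refine (starW_apply hM (etaW p M a η) hf hord hs').trans ((wSum_congr (ω' := fun _ => 1) hM fun f hf => ?_).trans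
    (congrFun (wSum_one M (isClassFunction_secFun hf u)) _))
  by_cases h4 : IsBrauerPairOf p M B (zpowers u) f
  · obtain ⟨x, -, hx⟩ := exists_etaW_eq hM hmax h4
    exact Or.inl (by rw [hx _ hη, mem_center_iff.1 huc, mul_inv_cancel_right, h1])
  · exact Or.inr (blockPart_secFun_eq_zero hM hmax.1.2.1 hχ hord hf h4 hs')

/-- the number of constituents of a generalized character -/
theorem le_norm [Fintype G] {φ : G → ℂ} (hφ : IsGeneralizedCharacter G φ) {n : ℕ} (f : Fin n → IrrCharacter G)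
    (hf : Function.Injective f) (h : ∀ i, classInner (f i : G → ℂ) φ ≠ 0) : (n : ℝ) ≤ (classInner φ φ).re := by
  classical
  have := finite_irr (G := G)
  let _ := Fintype.ofFinite (IrrCharacter G)
  obtain ⟨m, hm⟩ := isGeneralizedCharacter_iff.1 hφ
  have h1 : ∀ χ : IrrCharacter G, classInner φ (χ : G → ℂ) = m χ := fun χ => by
    rw [hm, classInner_sum_zsmul_irr]
  have h2 : classInner φ φ = ((∑ χ, m χ * m χ : ℤ) : ℝ) := by
    nth_rw 2 [hm]
    rw [classInner_sum_right]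
    push_cast
    refine Finset.sum_congr rfl fun χ _ => ?_
    rw [← Int.cast_smul_eq_zsmul ℂ, classInner_smul_right, h1, map_intCast]
  rw [h2, Complex.ofReal_re]
  have h3 : (n : ℤ) ≤ ∑ χ, m χ * m χ := calc
    (n : ℤ) = ∑ _i : Fin n, (1 : ℤ) := by simp
    _ ≤ ∑ i, m (f i) * m (f i) := Finset.sum_le_sum fun i _ => (mul_self_pos (a := m (f i))).2 fun h0 => h i (by
        rw [← classInner_conj_symm, h1, h0, Int.cast_zero, map_zero])
    _ = ∑ χ ∈ Finset.univ.image f, m χ * m χ := (Finset.sum_image (f := fun χ => m χ * m χ) hf.injOn).symm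
    _ ≤ _ := Finset.sum_le_univ_sum_of_nonneg fun _ => mul_self_nonneg _
  exact_mod_cast h3

/-- the statement for a central subgroup -/
theorem core [Fintype G] (hM : IsPModular p M) {P : Subgroup G} {e : Set (IrrCharacter (centralizer (P : Set G)))}
    (hmax : IsMaximalBrauerPair p M B P e) (hab : ∀ x ∈ P, ∀ y ∈ P, x * y = y * x) {Z : Subgroup G}
    (hZ : Z ≤ center G) {ψ : IrrCharacter G} (hψ : ψ ∈ B) {φ : G → ℂ} (hφ : IsGeneralizedCharacter G φ)
    (h1 : (classInner φ φ).re < p) (h2 : classInner ψ.1 φ ≠ 0) (h3 : ∀ g b, IsPPart p g b → b ∉ Z → φ g = 0)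
    {a : G} (ha : a ∈ P) (h4 : ∀ t ∈ stab ⟨P, e⟩, t * a = a * t) : a ∈ Z := by
  by_contra h0
  have := Local.isPrime_of_isPModular hM
  let _ : CommGroup P := { (inferInstance : Group P) with mul_comm := fun x y => Subtype.ext (hab x x.2 y y.2) }
  obtain ⟨ν, hν⟩ := CommGroup.exists_apply_ne_one_of_hasEnoughRootsOfUnity (P ⧸ Z.subgroupOf P) ℂ
    (a := (⟨a, ha⟩ : P)) fun h => h0 ((QuotientGroup.eq_one_iff (N := Z.subgroupOf P) ⟨a, ha⟩).1 h)
  obtain ⟨F, hF, hs⟩ := S4677.result p M hM B P e hmax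
  obtain ⟨m, τ, hm, h5, h6⟩ := H767.FusTransfer.exists_transfer hmax.1.1.1 hs (ν.comp (QuotientGroup.mk' _))
  have hl : τ ∈ Lam F := fun x hx => by
    obtain ⟨y, hy, e⟩ := H767.FusTransfer.focal_le τ h5 hx
    rw [← show y = x from Subtype.ext e, MonoidHom.mem_ker.1 hy]
  have key : ∀ g : P, (∀ t ∈ stab ⟨P, e⟩, t * g = g * t) → τ g = ν g ^ m := fun g hg =>
    h6 g fun y R f hf hy hyz => by
      obtain ⟨-, x, hx, -, c, h7, h8⟩ := (hF.2 R f).1 hf
      obtain ⟨t, ht, h9⟩ := exists_mul_of_le hM (a := ⟨P, e⟩) hmax hab (x := x) (b := ⟨R, c⟩) h7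
        (by rw [conjIdx_mk]; exact h8)
      obtain ⟨j, rfl⟩ := hyz
      refine congrArg _ (Subtype.ext ((hx _).trans ((h9 _ hy).trans ?_)))
      exact mul_inv_eq_iff_eq_mul.2 ((show Commute t g from hg t ht).zpow_right j)
  have h7 : p ∣ orderOf (τ ⟨a, ha⟩) := by
    obtain ⟨k, hk⟩ := hmax.1.1.1 ⟨a, ha⟩
    obtain ⟨j, -, hj⟩ := (Nat.dvd_prime_pow Fact.out).1 (orderOf_dvd_of_pow_eq_one (x := ν (⟨a, ha⟩ : P)) (n := p ^ k)
      (by rw [← map_pow, ← QuotientGroup.mk_pow, hk, QuotientGroup.mk_one, map_one]))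
    rw [key _ h4, Nat.Coprime.orderOf_pow (hj ▸ ((Nat.Prime.coprime_iff_not_dvd Fact.out).2 hm).pow_left j), hj]
    exact dvd_pow_self p fun h => hν (orderOf_eq_one_iff.1 (by rw [hj, h, pow_zero]))
  have d := dat_of hM hmax hF
  let _ := d.mulAction (blockHeight p B ψ.1)
  let ψ' : Ht p B (blockHeight p B ψ.1) := ⟨ψ, hψ, rfl⟩
  refine absurd (le_norm hφ (fun i : Fin p => ((⟨τ, hl⟩ : Lam F) ^ (i : ℕ) • ψ').1) (fun i j h => ?_) fun i => ?_)
    (not_le.2 h1)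
  · have h10 : (((⟨τ, hl⟩ : Lam F) ^ (j : ℕ))⁻¹ * (⟨τ, hl⟩ : Lam F) ^ (i : ℕ)) • ψ' = ψ' := by
      rw [mul_smul, Subtype.ext h, inv_smul_smul]
    have h8 := d.eq_one_of_central (Subtype.prop _) hψ (congrArg (fun x : Ht p B _ => x.1.1) h10) ha
      fun y hy => hab y hy a ha
    have h9 : τ ⟨a, ha⟩ ^ (j : ℕ) = τ ⟨a, ha⟩ ^ (i : ℕ) := inv_mul_eq_one.1 h8
    exact Fin.ext (Nat.ModEq.eq_of_lt_of_lt ((pow_eq_pow_iff_modEq.1 h9).of_dvd h7) j.2 i.2).symm
  · refine fun h => h2 (Eq.trans ?_ h)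
    rw [classInner_def, classInner_def]
    refine congrArg _ (Finset.sum_congr rfl fun g _ => ?_)
    obtain ⟨b, hb⟩ := PPart.exists_isPPart p g
    by_cases h8 : b ∈ Z
    · obtain ⟨s, h9, h10, ⟨k, hk⟩, h11⟩ := hb
      have h12 : b ∈ P := by
        refine (Lib.Cores.le_pCore (N := zpowers b) ⟨fun y hy c => ?_⟩ (IsPGroup.of_card (Nat.card_zpowers b ▸ hk))).trans
          (S0912.result p M hM B hmax.1.2.1 P (H644.isDefectGroup_of_isMaximalBrauerPair hM hmax)) (mem_zpowers b)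
        rwa [mem_center_iff.1 (hZ (zpowers_le.2 h8 hy)), mul_inv_cancel_right]
      rw [d.smul_coe, star_sec hM (a := ⟨P, e⟩) hmax (isStable_ext0 hF (Subtype.prop _)) hψ
        ⟨s, h9, h10, ⟨k, hk⟩, h11⟩ (hZ h8) ?_]
      rw [ext0_of_mem _ h12]
      change ((τ ⟨b, h12⟩ ^ (i : ℕ) : ℂˣ) : ℂ) = 1
      rw [key _ fun t _ => mem_center_iff.1 (hZ h8) t, (QuotientGroup.eq_one_iff _).2 (show (⟨b, h12⟩ : P) ∈ _ from h8),
        map_one, one_pow, one_pow, Units.val_one]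
    · rw [h3 g b hb h8, map_zero, mul_zero, mul_zero]

/-- members of a block on central `p`-regular elements -/
theorem cent_eq [Finite G] (hM : IsPModular p M) {χ χ' : IrrCharacter G} (h : SameBlock M χ.1 χ'.1)
    (h1 : χ.1 1 = χ'.1 1) {z : G} (hz : z ∈ center G) (hp : ¬ p ∣ orderOf z) : χ.1 z = χ'.1 z := by
  have key : ∀ ξ : IrrCharacter G, (ξ.1 z / ξ.1 1) ^ orderOf z = 1 := fun ξ => by
    obtain ⟨c, hc, -⟩ := CharactersDeep.Extraspecial.exists_central_hom ξ.2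
    have h2 := hc 1 ⟨z, hz⟩
    rw [one_mul] at h2
    rw [show ξ.1 z = _ from h2, mul_div_cancel_left₀ _ (isIrr_apply_one_ne_zero ξ.2), ← Units.val_pow_eq_pow_val,
      ← map_pow, ← Subgroup.orderOf_mk z hz, pow_orderOf_eq_one, map_one, Units.val_one]
  have h2 := h z
  rw [H658.KKL.FongTwo.centralChar_central hz, H658.KKL.FongTwo.centralChar_central hz] at h2
  have h3 := H658.KKL.FongTwo.root_eq hM hp (orderOf_pos z).ne' (key χ) (key χ') h2
  rwa [h1, div_left_inj' (isIrr_apply_one_ne_zero χ'.2)] at h3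

end Pure

/-- **[Pure]** -/
theorem boxPure : BoxPure := by
  intro H _ _ l M hM D hD B θ hθ E hE _ ψ φ hψ h1 h2 h3 h4
  have : Fact l.Prime := ⟨hM.1⟩
  have := Local.isPrime_of_isPModular hM
  have hab : ∀ x ∈ (D : Subgroup H), ∀ y ∈ (D : Subgroup H), x * y = y * x := fun x hx y hy =>
    congrArg Subtype.val (hD.is_comm.comm ⟨x, hx⟩ ⟨y, hy⟩)
  have hmax : IsMaximalBrauerPair l M B D (blockOf M θ.1) :=
    ⟨(isBrauerPairOf_iff_isInducedBlock hM hθ.2.1 D.2 hθ.1).2 hθ, fun R g hR hle =>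
      D.3 hR.1.1 (SubpairLE.le hle)⟩
  obtain ⟨x, hx⟩ := exists_conj_leIdx hM (a := ⟨D, blockOf M θ.1⟩) hmax
    ((isBrauerPairOf_iff_isInducedBlock hM hψ.2.1 hE hψ.1).2 hψ)
  rw [← leIdx_conjIdx_iff x⁻¹, conjIdx_inv_conjIdx, conjIdx_mk] at hx
  have hmax' := (isMaximalBrauerPair_conj_iff B D x⁻¹ _).2 hmax
  have hab' : ∀ a ∈ (D : Subgroup H).map (MulAut.conj x⁻¹).toMonoidHom,
      ∀ b ∈ (D : Subgroup H).map (MulAut.conj x⁻¹).toMonoidHom, a * b = b * a := by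
    rintro _ ⟨a, ha, rfl⟩ _ ⟨b, hb, rfl⟩
    rw [← map_mul, ← map_mul, hab a ha b hb]
  have hle := SubpairLE.le hx
  have hC : (D : Subgroup H).map (MulAut.conj x⁻¹).toMonoidHom ≤ centralizer (E : Set H) := fun a ha b hb =>
    hab' b (hle hb) a ha
  obtain ⟨c, h5, h6⟩ := exists_locIdx_eq hM hmax'.1.1 hC hx
  refine ⟨x⁻¹, fun a ha h7 => ?_⟩
  refine Pure.core hM (isMaximal_local hM hmax' hC hx h5) (fun a ha b hb => Subtype.ext (hab' a ha b hb))
    (Z := E.subgroupOf _) (fun z hz => mem_center_iff.2 fun g => Subtype.ext (g.2 z hz).symm)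
    (Basic.mem_blockOf_self ψ) h1 h2 h3 h4 (a := ⟨x⁻¹ * a * x⁻¹⁻¹, hC ⟨a, ha, rfl⟩⟩) ⟨a, ha, rfl⟩ fun t ht => ?_
  have h8 := conjIdx_locIdx E ⟨_, c⟩ t
  rw [show conjIdx t _ = _ from ht, h6, ← conjIdx_mk, conjIdx_conjIdx] at h8
  have h9 := congrArg (conjIdx x) h8
  rw [conjIdx_conjIdx, conjIdx_conjIdx_inv, ← mul_assoc, conjIdx_eq_iff hθ.1] at h9
  obtain ⟨θ', h10, h11⟩ := h9.2.2 θ (Basic.mem_blockOf_self θ)
  have h12 := h7 _ h9.1 fun y y' e hy hy' =>
    (Pure.cent_eq hM h10 (h11 1 1 (by simp)).symm hy hy').trans (h11 y y' e)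
  refine Subtype.ext ?_
  change t * (x⁻¹ * a * x⁻¹⁻¹) = x⁻¹ * a * x⁻¹⁻¹ * t
  calc _ = x⁻¹ * (x * t * x⁻¹ * a) * x := by group
    _ = _ := by rw [h12]; group

end Cfsg.Agent.PQ.EA
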