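import Cfsg.Agent.PQ.EA.Defs
import Cfsg.Agent.KM.Own

/-!
# S4982: the covering groups in the defining characteristic (helper18)
-/

set_option autoImplicit false
set_option linter.unusedSectionVars false

namespace Cfsg.Agent.PQ.EA

open Cfsg Matrix

namespace Qd

variable {F : Type} [Field F] [Fintype F]

local notation "𝔾" => SpecialLinearGroup (Fin 2) F

/-- every odd prime divisor of `q ^ 2 - 1` divides the degree of a faithful character -/
theorem exists_faithful {r o : ℕ} [hr : Fact r.Prime] [CharP F r] (h2 : r ≠ 2) (h5 : 5 ≤ Fintype.card F) (ho : o.Prime)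
    (ho2 : o ≠ 2) (hd : o ∣ Fintype.card F ^ 2 - 1) :
    ∃ χ : IrrCharacter 𝔾, χ.1 (-1) = -χ.1 1 ∧ (o ∣ charDegree χ.1 ∨ r ∣ charDegree χ.1) := by
  obtain ⟨n, -, hn⟩ := FiniteField.card F r
  have hodd : Odd (Fintype.card F) := by
    rw [hn]
    exact (hr.out.odd_of_ne_two h2).pow
  have hq : r ∣ Fintype.card F := by rw [hn]; exact dvd_pow_self r n.ne_zero
  by_contra hc
  simp only [not_exists, not_and, not_or] at hc
  obtain ⟨h0, h1⟩ := S2299.result (F := F) hodd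
  obtain ⟨c1, -⟩ := h1 h5
  obtain ⟨h, hh⟩ := hodd
  have e1 : (Fintype.card F + 1) / 2 = h + 1 := by omega
  have e2 : (Fintype.card F - 1) / 2 = h := by omega
  rw [e1, e2] at h0
  have key : ∀ χ : IrrCharacter 𝔾, χ.1 (-1) = -χ.1 1 → charDegree χ.1 = 2 * (h + 1) ∨ charDegree χ.1 = 2 * h ∨
      charDegree χ.1 = h + 1 ∨ charDegree χ.1 = h := by
    intro χ hχ
    rcases h0 χ.1 χ.2 with e | e | e | e | e | e
    · exfalso
      have h6 := (Nat.card_eq_one_iff_unique.1 c1).1.elim ⟨χ, e⟩ ⟨⟨1, Characters.Core.isIrr_one⟩, rfl⟩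
      have h7 : χ.1 = 1 := congrArg (fun x => x.1.1) h6
      rw [h7] at hχ
      norm_num at hχ
    · exact absurd (Blocks.Basic.charDegree_of_eq e ▸ hq) (hc χ hχ).2
    · exact Or.inl (Blocks.Basic.charDegree_of_eq (by rw [e, hh]; push_cast; ring))
    · exact Or.inr (Or.inl (Blocks.Basic.charDegree_of_eq (by rw [e, hh]; push_cast; ring)))
    · exact Or.inr (Or.inr (Or.inl (Blocks.Basic.charDegree_of_eq e)))
    · exact Or.inr (Or.inr (Or.inr (Blocks.Basic.charDegree_of_eq e)))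
  have h3 : o ∣ h ∨ o ∣ h + 1 := by
    have e : Fintype.card F ^ 2 - 1 = 2 ^ 2 * (h * (h + 1)) := by
      rw [hh]
      exact Nat.sub_eq_of_eq_add (by ring)
    rw [e] at hd
    exact (Nat.Prime.dvd_mul ho).1 (((Nat.Prime.dvd_mul ho).1 hd).resolve_left fun h4 =>
      ho2 ((Nat.prime_dvd_prime_iff_eq ho Nat.prime_two).1 (ho.dvd_of_dvd_pow h4)))
  obtain ⟨a, key2⟩ : ∃ a, ∀ χ : IrrCharacter 𝔾, χ.1 (-1) = -χ.1 1 → charDegree χ.1 = 2 * a ∨ charDegree χ.1 = a := by
    rcases h3 with h3 | h3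
    · refine ⟨h + 1, fun χ hχ => ?_⟩
      rcases key χ hχ with e | e | e | e
      exacts [Or.inl e, absurd (e ▸ h3.mul_left 2) (hc χ hχ).1, Or.inr e, absurd (e ▸ h3) (hc χ hχ).1]
    · refine ⟨h, fun χ hχ => ?_⟩
      rcases key χ hχ with e | e | e | e
      exacts [absurd (e ▸ h3.mul_left 2) (hc χ hχ).1, Or.inl e, absurd (e ▸ h3) (hc χ hχ).1, Or.inr e]
  obtain ⟨χ₁, χ₂, χ₃, a1, a2, a3, n1, n2, n3⟩ := TO.DC.three_degrees (F := F) ⟨h, hh⟩ h5
  rw [← H686.CharKit.charDegree_irr, ← H686.CharKit.charDegree_irr, Nat.cast_injective.ne_iff] at n1 n2 n3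
  have b1 := key2 _ a1
  have b2 := key2 _ a2
  have b3 := key2 _ a3
  omega

theorem main {r o : ℕ} (hr : r.Prime) (ho : o.Prime) (hro : o ≠ r) (h2 : r ≠ 2) (ho2 : o ≠ 2) {S : Type} [Group S]
    [Finite S] (hL : IsLieTypeChar r S) (hd : o ∣ Nat.card S) (hw : EL.WA r o S) {K : Type} [Group K] [Finite K]
    {σ : K →* S} {lam : σ.ker →* ℂˣ} (hS : commutator S = ⊤) (H : QH r o σ lam) : False := by
  have := Fact.mk hr
  obtain ⟨P⟩ : Nonempty (Sylow r S) := inferInstance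
  obtain ⟨k, hk⟩ := IsPGroup.iff_card.1 P.isPGroup'
  obtain ⟨E, _, _, _, ⟨e⟩⟩ := KM.Own.psl2_of_comm hL P ⟨⟨fun x y => Subtype.ext (hw P (fun s hs h => Or.inl
    ((Nat.prime_dvd_prime_iff_eq hs hr).1 (hs.dvd_of_dvd_pow (hk ▸ h)))) x x.2 y y.2)⟩⟩
  obtain ⟨n, -, hn⟩ := FiniteField.card E r
  have hq : r ∣ Fintype.card E := by rw [hn]; exact dvd_pow_self r n.ne_zero
  have hoq : ¬ o ∣ Fintype.card E := fun h => hro ((Nat.prime_dvd_prime_iff_eq ho hr).1 (ho.dvd_of_dvd_pow (hn ▸ h)))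
  rw [Nat.card_congr e.toEquiv] at hd
  have h3 := hd.trans (Subgroup.card_dvd_of_surjective _ (QuotientGroup.mk'_surjective
    (Subgroup.center (SpecialLinearGroup (Fin 2) E))))
  rw [S0276.card_sl_two rfl] at h3
  have h4 := ((Nat.Prime.dvd_mul ho).1 h3).resolve_left hoq
  have h5 : 5 ≤ Fintype.card E := by
    by_contra h5
    have h6 : Odd (Fintype.card E) := by
      rw [hn]
      exact (hr.odd_of_ne_two h2).pow
    have h7 : 1 < Fintype.card E := Fintype.one_lt_card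
    obtain ⟨a, ha⟩ := h6
    rw [show Fintype.card E = 3 by omega] at h4
    exact ho2 ((Nat.prime_dvd_prime_iff_eq ho Nat.prime_two).1 (ho.dvd_of_dvd_pow (show o ∣ 2 ^ 3 from h4)))
  have hker : (e.toMonoidHom.comp σ).ker = σ.ker := by
    ext x
    simp [MonoidHom.mem_ker]
  have hK : commutator K = ⊤ := by
    have h6 : (commutator K).map σ = ⊤ := by
      rw [map_commutator_eq, MonoidHom.range_eq_top.2 H.st.1, ← commutator_def, hS]
    have h7 := Subgroup.comap_map_eq σ (commutator K)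
    rw [h6, Subgroup.comap_top, sup_eq_left.2 H.st.2.2] at h7
    exact h7.symm
  obtain ⟨φ, hφ, h6⟩ := TO.DC.exists_cover (p := r) h5 (σ := e.toMonoidHom.comp σ) hK (e.surjective.comp H.st.1)
    (hker ▸ H.st.2.1) (hker ▸ H.zp)
  have h7 : ∀ x, φ x ∈ σ.ker → x = 1 ∨ x = -1 := fun x hx => by
    have h8 := h6 x
    rw [← hker, MonoidHom.mem_ker] at hx
    rw [hx] at h8
    exact TO.DC.center_cases ((QuotientGroup.eq_one_iff x).1 h8.symm)
  have h8 : φ (-1) ≠ 1 := fun h8 => H.ne ((Subgroup.eq_bot_iff_forall _).2 fun z hz => by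
    obtain ⟨x, rfl⟩ := hφ z
    rcases h7 x hz with rfl | rfl
    exacts [map_one φ, h8])
  have h9 : Function.Injective φ := (injective_iff_map_eq_one φ).2 fun x hx =>
    (h7 x (hx ▸ one_mem _)).resolve_right fun h => h8 (h ▸ hx)
  let f := MulEquiv.ofBijective φ ⟨h9, hφ⟩
  obtain ⟨χ, c1, c2⟩ := exists_faithful (r := r) h2 h5 ho ho2 h4
  have c3 : charDegree (χ.1 ∘ f.symm.toMonoidHom) = charDegree χ.1 := by
    unfold charDegree
    rw [Function.comp_apply, map_one]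
  have c4 := H.ez ⟨_, Characters.Core.isIrr_comp f.symm.toMonoidHom f.symm.surjective χ.2⟩ (by
    rintro ⟨z, hz⟩
    obtain ⟨x, rfl⟩ := hφ z
    show χ.1 (f.symm (f x)) = _ * χ.1 (f.symm 1)
    rw [f.symm_apply_apply, map_one]
    rcases h7 x hz with rfl | rfl
    · rw [show (⟨φ 1, hz⟩ : σ.ker) = 1 from Subtype.ext (map_one φ), map_one, Units.val_one, one_mul]
    · have d1 : lam ⟨φ (-1), hz⟩ ^ 2 = 1 := by
        rw [← map_pow, ← map_one lam]
        exact congrArg lam (Subtype.ext (by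
          rw [Subgroup.coe_pow, ← map_pow, neg_one_sq, map_one, Subgroup.coe_one]))
      have d2 : (lam ⟨φ (-1), hz⟩ : ℂ) ^ 2 = 1 := by rw [← Units.val_pow_eq_pow_val, d1, Units.val_one]
      rcases sq_eq_one_iff.1 d2 with d3 | d3
      · exact absurd (congrArg Subtype.val (H.inj ((Units.ext d3).trans (map_one lam).symm))) h8
      · rw [d3, c1, neg_one_mul])
  rw [c3, not_iff_not] at c4
  have c5 : r ∣ charDegree χ.1 := c2.elim c4.2 id
  exact hoq (KM.Own.deg_sl2 χ.2 c5 ▸ c4.1 c5)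

end Qd

/-- **the covering groups in the defining characteristic** -/
theorem qd : AllC (fun r S _ => IsLieTypeChar r S) QPd := by
  intro r S _ _ hs hn _ hL p q K _ _ σ lam e h H P R h1
  have hS : commutator S = ⊤ := (hs.eq_bot_or_eq_top_of_normal _ inferInstance).resolve_left fun h2 =>
    hn ⟨⟨fun a b => commutatorElement_eq_one_iff_mul_comm.1 (Subgroup.mem_bot.1
      (h2 ▸ Subgroup.commutator_mem_commutator (Subgroup.mem_top a) (Subgroup.mem_top b)))⟩⟩
  have h2 := h.two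
  have h3 := h.lt
  rcases e with rfl | rfl
  · exact (Qd.main h.pp h.pq (by omega) (by omega) (by omega) hL h.dq h1.wa hS H).elim
  · exact (Qd.main h.pq h.pp (by omega) (by omega) (by omega) hL h.dp (wa_symm h1.wa) hS H.symm).elim

end Cfsg.Agent.PQ.EA
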