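import Cfsg.Agent.PQ.EA.Defs2
import Cfsg.Agent.PQ.EA.Cnt
import Cfsg.Agent.PQ.Red.A
import Cfsg.Agent.H800.Sp.Base

/-!
# S4982, the exceptional covers: tools (helper18)

* `No n S` : no element of order `n`; `Iso p S` : the prime `p` is isolated;
* `com_of_ne`, `bot_of_no`, `not_cy`, `not_notAb` : the case split;
* `au_eq`, `au_of_conj` : the automizer; `cnt_rel` : the numbers of the characters;
* `Mem2` : the members which are not treated in `QkA`.
-/

set_option autoImplicit false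
set_option linter.unusedSectionVars false

namespace Cfsg.Agent.PQ.EA.Qk

open Cfsg Subgroup Cfsg.Agent.LV

universe u v

/-- no element of order `n` -/
def No (n : ℕ) (S : Type u) [Group S] : Prop := ∀ x : S, orderOf x ≠ n

/-- `p` is isolated in the prime graph -/
def Iso (p : ℕ) (S : Type u) [Group S] : Prop := ∀ s : ℕ, s.Prime → s ≠ p → No (p * s) S

theorem No.congr {n : ℕ} {S : Type u} {T : Type v} [Group S] [Group T] (h : No n T) (e : S ≃* T) : No n S :=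
  fun x hx => h (e x) ((MulEquiv.orderOf_eq e x).trans hx)

theorem Iso.congr {p : ℕ} {S : Type u} {T : Type v} [Group S] [Group T] (h : Iso p T) (e : S ≃* T) : Iso p S :=
  fun s h1 h2 => (h s h1 h2).congr e

/-- from a list of multiples of all element orders -/
theorem no_of_list {S : Type u} [Group S] {L : List ℕ} (h : ∀ x : S, ∃ m ∈ L, orderOf x ∣ m) {n : ℕ}
    (hn : ∀ m ∈ L, ¬ n ∣ m) : No n S := fun x hx =>
  let ⟨m, h1, h2⟩ := h x
  hn m h1 (hx ▸ h2)

theorem iso_of_list {S : Type u} [Group S] {L : List ℕ} (h : ∀ x : S, ∃ m ∈ L, orderOf x ∣ m) {p : ℕ} (hp : p.Prime)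
    (hn : ∀ m ∈ L, p ∣ m → m = p) : Iso p S := fun s h1 _ => no_of_list h fun m h2 h3 => by
  rw [hn m h2 ((dvd_mul_right p s).trans h3)] at h3
  exact h1.one_lt.ne' (Nat.dvd_one.1 (Nat.dvd_of_mul_dvd_mul_left hp.pos (by rwa [mul_one])))

variable {S : Type} [Group S] [Finite S] {p q : ℕ} {P R : Subgroup S}

theorem exists_ord (H : EL.Hy p q P R) (h : R ≠ ⊥) :
    ∃ y ∈ R, orderOf y = q ∧ ∀ a ∈ P, a * y = y * a := by
  obtain ⟨⟨x, hx⟩, h1⟩ := ne_bot_iff_exists_ne_one.1 h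
  obtain ⟨⟨k, hk⟩, -⟩ := (H.mem x).1 hx
  have h2 : q ∣ orderOf x := by
    rcases k with _ | k
    · exact (h1 (Subtype.ext (orderOf_eq_one_iff.1 hk))).elim
    · exact hk ▸ dvd_pow_self q k.succ_ne_zero
  exact ⟨x ^ (orderOf x / q), pow_mem hx _, orderOf_pow_orderOf_div (orderOf_pos x).ne' h2, ((H.mem _).1 (pow_mem hx _)).2⟩

theorem card_syl (hp : p.Prime) (h1 : p ∣ Nat.card S) (h2 : ¬ p ^ 2 ∣ Nat.card S) (P : Sylow p S) :
    Nat.card (P : Subgroup S) = p := by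
  have := Fact.mk hp
  obtain ⟨n, hn⟩ := IsPGroup.iff_card.1 P.2
  have h3 := P.dvd_card_of_dvd_card h1
  have h4 := (P : Subgroup S).card_subgroup_dvd_card
  rw [hn] at h3 h4 ⊢
  obtain _ | _ | n := n
  · exact (hp.one_lt.ne' (Nat.dvd_one.1 h3)).elim
  · exact pow_one p
  · exact (h2 ((pow_dvd_pow p (by omega)).trans h4)).elim

/-- a Sylow `q`-subgroup of order `q` -/
theorem com_of_ne (h : Pr p q S) (H : EL.Hy p q P R) (h2 : ¬ q ^ 2 ∣ Nat.card S) (hR : R ≠ ⊥) : Com p q S := by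
  have := Fact.mk h.pp
  have := Fact.mk h.pq
  obtain ⟨y, -, h3, h4⟩ := exists_ord H hR
  obtain ⟨Q, hQ⟩ := (IsPGroup.of_card (n := 1) (by rw [Nat.card_zpowers, h3, pow_one]) : IsPGroup q (zpowers y)).exists_le_sylow
  have h5 : zpowers y = (Q : Subgroup S) :=
    eq_of_le_of_card_ge hQ (by rw [card_syl h.pq h.dq h2 Q, Nat.card_zpowers, h3])
  refine ⟨H.pP.toSylow H.iP, Q, fun a ha b hb => ?_⟩
  obtain ⟨k, rfl⟩ := h5.ge hb
  exact (Commute.zpow_right (h4 a ha) k).eq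

theorem bot_of_no (h : Pr p q S) (H : EL.Hy p q P R) (hno : No (p * q) S) : R = ⊥ := by
  by_contra hR
  have := Fact.mk h.pp
  obtain ⟨y, -, h3, h4⟩ := exists_ord H hR
  obtain ⟨⟨x, hx⟩, h5⟩ := exists_prime_orderOf_dvd_card' p (G := P) ((H.pP.toSylow H.iP).dvd_card_of_dvd_card h.dp)
  rw [orderOf_mk] at h5
  refine hno (x * y) ?_
  rw [Commute.orderOf_mul_eq_mul_orderOf_of_coprime (h4 x hx), h5, h3]
  rw [h5, h3]
  exact (Nat.coprime_primes h.pp h.pq).2 h.lt.ne'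

theorem not_cy (hq : q.Prime) (h2 : q ^ 2 ∣ Nat.card S) (hno : No (q ^ 2) S) : ¬ Cy q S := fun h => by
  have := Fact.mk hq
  obtain ⟨Q⟩ : Nonempty (Sylow q S) := inferInstance
  obtain ⟨⟨x, hx⟩, h1⟩ := (h Q).exists_ofOrder_eq_natCard
  rw [orderOf_mk] at h1
  exact hno _ (orderOf_pow_orderOf_div (orderOf_pos x).ne' (h1 ▸ Q.pow_dvd_card_of_pow_dvd_card h2))

theorem abS_of_wa (hq : q.Prime) (h : EL.WA p q S) : AbS q S := fun Q => by
  have := Fact.mk hq
  obtain ⟨n, hn⟩ := IsPGroup.iff_card.1 Q.2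
  exact ⟨⟨fun a b => Subtype.ext (h Q (fun r hr h1 => .inr ((Nat.prime_dvd_prime_iff_eq hr hq).1
    (hr.dvd_of_dvd_pow (hn ▸ h1)))) a a.2 b b.2)⟩⟩

theorem not_notAb {T : Type v} [Group T] (hq : q.Prime) (h : EL.WA p q S) (e : S ≃* T) : ¬ H800.Sp.NotAb q T := fun h1 => by
  have := Fact.mk hq
  obtain ⟨Q⟩ : Nonempty (Sylow q S) := inferInstance
  refine h1 (Q.mapSurjective (f := e.toMonoidHom) e.surjective) ⟨⟨?_⟩⟩
  rintro ⟨_, a, ha, rfl⟩ ⟨_, b, hb, rfl⟩
  exact Subtype.ext ((map_mul e a b).symm.trans ((congrArg e (congrArg Subtype.val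
    ((abS_of_wa hq h Q).is_comm.comm ⟨a, ha⟩ ⟨b, hb⟩))).trans (map_mul e b a)))

theorem au_dvd {G : Type u} [Group G] [Finite G] (hp : p.Prime) {A : Subgroup G} (h : Nat.card A = p) : au A ∣ p - 1 := by
  have := Fact.mk hp
  have : IsCyclic A := isCyclic_of_prime_card h
  rw [← Nat.totient_prime hp, ← h, ← IsCyclic.card_mulAut, au, relIndex, ← normalizerMonoidHom_ker, index_ker]
  exact card_subgroup_dvd_card _

theorem cent_eq (hp : p.Prime) (h1 : p ∣ Nat.card S) (h2 : ¬ p ^ 2 ∣ Nat.card S) (hI : Iso p S) (P : Sylow p S) :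
    centralizer ((P : Subgroup S) : Set S) = P := by
  have := Fact.mk hp
  have h3 := card_syl hp h1 h2 P
  have : IsCyclic (P : Subgroup S) := isCyclic_of_prime_card h3
  have h4 : (P : Subgroup S) ≤ centralizer ((P : Subgroup S) : Set S) := fun a ha b hb =>
    congrArg Subtype.val ((IsCyclic.commGroup (α := (P : Subgroup S))).mul_comm ⟨b, hb⟩ ⟨a, ha⟩)
  refine P.is_maximal' ?_ h4
  obtain ⟨⟨x, hx⟩, h5⟩ := exists_prime_orderOf_dvd_card' p (G := (P : Subgroup S)) (dvd_of_eq h3.symm)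
  rw [orderOf_mk] at h5
  refine IsPGroup.iff_card.2 ⟨_, Nat.eq_prime_pow_of_unique_prime_dvd Nat.card_pos.ne' fun {s} hs h6 => ?_⟩
  by_contra h7
  have := Fact.mk hs
  obtain ⟨⟨y, hy⟩, h8⟩ := exists_prime_orderOf_dvd_card' s h6
  rw [orderOf_mk] at h8
  refine hI s hs h7 (x * y) ?_
  rw [Commute.orderOf_mul_eq_mul_orderOf_of_coprime (hy x hx), h5, h8]
  rw [h5, h8]
  exact (Nat.coprime_primes hp hs).2 (Ne.symm h7)

/-- **the automizer from Sylow's theorem** -/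
theorem au_eq (hp : p.Prime) (h1 : p ∣ Nat.card S) (h2 : ¬ p ^ 2 ∣ Nat.card S) (hI : Iso p S) (P : Sylow p S) :
    au (P : Subgroup S) = Nat.card S / p % p := by
  have := Fact.mk hp
  have h3 := card_syl hp h1 h2 P
  have h4 := relIndex_mul_index (centralizer_le_normalizer ((P : Subgroup S) : Set S))
  have h5 := (P : Subgroup S).card_mul_index
  have h6 := card_sylow_modEq_one p S
  have h7 := Nat.le_of_dvd (by have := hp.two_le; omega) (au_dvd hp h3)
  rw [P.card_eq_index_normalizer] at h6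
  rw [h3, ← (congrArg Subgroup.index (cent_eq hp h1 h2 hI P)), ← h4] at h5
  rw [← h5, Nat.mul_div_cancel_left _ hp.pos]
  exact ((Nat.mod_eq_of_lt (by have := hp.two_le; omega)).symm.trans (congrArg (· % p) (mul_one _).symm)).trans
    (Nat.ModEq.mul_left _ h6).symm

theorem not_ac (hp : p.Prime) (h1 : p ∣ Nat.card S) (h2 : ¬ p ^ 2 ∣ Nat.card S) (hI : Iso p S)
    (h3 : ¬ Nat.card S / p % p ∣ q - 1) : ¬ EL.AC p q S := fun h =>
  have := Fact.mk hp
  h3 (au_eq hp h1 h2 hI default ▸ h default)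

/-- **the automizer from a conjugate power** -/
theorem au_of_conj (hp : p.Prime) (hA : AbS p S) {x : S} (hx : orderOf x = p) {k : ℕ} (h : IsConj x (x ^ k))
    (P : Sylow p S) : k ^ au (P : Subgroup S) ≡ 1 [MOD p] := by
  have := Fact.mk hp
  obtain ⟨Q, hQ⟩ := (IsPGroup.of_card (n := 1) (by rw [Nat.card_zpowers, hx, pow_one]) : IsPGroup p (zpowers x)).exists_le_sylow
  obtain ⟨g, rfl⟩ := MulAction.exists_smul_eq S Q P
  obtain ⟨c, hc⟩ := isConj_iff.1 h
  have h1 : g * x * g⁻¹ ∈ ((g • Q : Sylow p S) : Subgroup S) := ⟨x, hQ (mem_zpowers x), rfl⟩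
  have h2 : orderOf (g * x * g⁻¹) = p := ((MulAut.conj g).orderOf_eq x).trans hx
  have h3 : (g * c⁻¹ * g⁻¹)⁻¹ * (g * x * g⁻¹) * (g * c⁻¹ * g⁻¹) = (g * x * g⁻¹) ^ k := by rw [conj_pow, ← hc]; group
  generalize g * x * g⁻¹ = y at h1 h2 h3
  generalize g • Q = P at h1 ⊢
  have := hA P
  obtain ⟨n, hn, h4⟩ := P.conj_eq_normalizer_conj_of_mem y _ h1 (h3 ▸ pow_mem h1 k)
  rw [h3] at h4
  have h5 : ∀ j : ℕ, (n ^ j)⁻¹ * y * n ^ j = y ^ k ^ j := fun j => by
    induction j with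
    | zero => simp
    | succ j ih =>
      have h6 := conj_pow (a := (n ^ j)⁻¹) (b := y) (i := k)
      rw [inv_inv, ih, ← pow_mul, ← pow_succ] at h6
      rw [h6, h4, pow_succ']
      group
  have h6 : n ^ au (P : Subgroup S) ∈ centralizer ((P : Subgroup S) : Set S) :=
    ((centralizer ((P : Subgroup S) : Set S)).subgroupOf (normalizer ((P : Subgroup S) : Set S))).pow_index_mem ⟨n, hn⟩
  have h7 := h5 (au (P : Subgroup S))
  rw [mul_assoc, h6 y h1, inv_mul_cancel_left] at h7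
  generalize k ^ au (P : Subgroup S) = m at h7 ⊢
  have h8 := pow_eq_pow_iff_modEq.1 (h7.symm.trans (pow_one y).symm)
  rwa [h2] at h8

theorem not_ac_of_conj (hp : p.Prime) (hA : AbS p S) {x : S} (hx : orderOf x = p) {k : ℕ} (h : IsConj x (x ^ k))
    (h1 : ¬ k ^ (q - 1) ≡ 1 [MOD p]) : ¬ EL.AC p q S := fun h2 => by
  have := Fact.mk hp
  obtain ⟨m, hm⟩ : au ((default : Sylow p S) : Subgroup S) ∣ q - 1 := h2 default
  refine h1 ?_
  rw [hm, pow_mul]
  exact ((au_of_conj hp hA hx h default).pow m).trans (by rw [one_pow])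

/-- the case `q ∥ |S|` -/
theorem com_of_not_ac (hs : IsSimpleGroup S) (hn : ¬ IsMulCommutative S) (h : Pr p q S) (H : EL.Hy p q P R)
    (h2 : ¬ q ^ 2 ∣ Nat.card S) (h3 : ¬ EL.AC p q S) : Com p q S :=
  com_of_ne h H h2 fun e => h3 ((e ▸ H : EL.Hy p q P ⊥).ac hs hn h.dp h.dq)

/-- the case `q ^ 2 ∣ |S|` -/
theorem not_hy (h : Pr p q S) (h1 : No (p * q) S) (h2 : q ^ 2 ∣ Nat.card S) (h3 : No (q ^ 2) S) : ¬ EL.Hy p q P R :=
  fun H => not_cy h.pq h2 h3 (cy_of_hy (bot_of_no h H h1 ▸ H : EL.Hy p q P ⊥))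

variable {K : Type} [Group K] [Finite K] {σ : K →* S} {lam : σ.ker →* ℂˣ}

theorem cnt_eq (H : QH p q σ lam) : cnt p lam = cnt q lam :=
  Nat.card_congr (Equiv.subtypeEquivRight fun χ => and_congr_right fun h => H.ez χ h)

theorem card_cover (hσ : Function.Surjective σ) : Nat.card K = Nat.card σ.ker * Nat.card S := by
  rw [← σ.ker.card_mul_index, index_ker, MonoidHom.range_eq_top.2 hσ, card_top]

/-- a Sylow `q`-subgroup of the cover -/
theorem card_syl_cover (hq : q.Prime) (hσ : Function.Surjective σ) (h0 : ¬ q ∣ Nat.card σ.ker) (h1 : q ∣ Nat.card S)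
    (h2 : ¬ q ^ 2 ∣ Nat.card S) (Q : Sylow q K) : Nat.card (Q : Subgroup K) = q :=
  card_syl hq (card_cover hσ ▸ h1.mul_left _) (fun h => h2 ((Nat.Coprime.pow_left 2
    (hq.coprime_iff_not_dvd.2 h0)).dvd_of_dvd_mul_left (card_cover hσ ▸ h))) Q

/-- the number of the characters of degree prime to `q` -/
theorem cnt_list (hq : q.Prime) (H : QH p q σ lam) (h1 : q ∣ Nat.card S) (h2 : ¬ q ^ 2 ∣ Nat.card S) :
    ∃ L : List ℕ, (∀ e ∈ L, e ∣ q - 1) ∧ cnt q lam = (L.map fun e => e + (q - 1) / e).sum := by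
  have := Fact.mk hq
  obtain ⟨Q⟩ : Nonempty (Sylow q K) := inferInstance
  have h3 := card_syl_cover hq H.st.1 H.zq h1 h2 Q
  obtain ⟨L, h4, h5⟩ := boxCntQ q K σ.ker lam hq H.st.2.1 Q h3 H.zq ⊥ bot_le fun g hg c _ _ => by
    rw [mem_bot.1 hg, one_mul, mul_one]
  exact ⟨L, fun e he => (h4 e he).2.trans (au_dvd hq h3), h5⟩

/-- the number of the characters of degree prime to an isolated prime -/
theorem cnt_iso (hp : p.Prime) (H : QH p q σ lam) (h1 : p ∣ Nat.card S) (h2 : ¬ p ^ 2 ∣ Nat.card S) (hI : Iso p S) :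
    cnt p lam = Nat.card S / p % p + (p - 1) / (Nat.card S / p % p) :=
  have := Fact.mk hp
  (boxCntP p K S σ lam hp H.st.1 H.st.2.1 H.zp default (card_syl hp h1 h2 _) (cent_eq hp h1 h2 hI _) _
    (au_eq hp h1 h2 hI _)).1

theorem sum57 : ∀ L : List ℕ, (∀ e ∈ L, e ∣ 7 - 1) → (L.map fun e => e + (7 - 1) / e).sum ≠ 8 := by
  have h : ∀ L : List ℕ, (∀ e ∈ L, e ∣ 7 - 1) → ∃ a b, (L.map fun e => e + (7 - 1) / e).sum = 5 * a + 7 * b := fun L => by
    induction L with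
    | nil => exact fun _ => ⟨0, 0, rfl⟩
    | cons e L ih =>
      intro h
      obtain ⟨a, b, h1⟩ := ih fun x hx => h x (List.mem_cons_of_mem _ hx)
      have h2 := h e List.mem_cons_self
      have h3 := Nat.le_of_dvd (by norm_num) h2
      rw [List.map_cons, List.sum_cons, h1]
      interval_cases e
      all_goals first | exact ⟨a + 1, b, by omega⟩ | exact ⟨a, b + 1, by omega⟩
  intro L h1 h2
  obtain ⟨a, b, h3⟩ := h L h1
  omega

/-- **the pair `(13, 7)`** -/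
theorem two13 (H : QH 13 7 σ lam) (h1 : 13 ∣ Nat.card S) (h2 : ¬ 13 ^ 2 ∣ Nat.card S) (hI : Iso 13 S)
    (h3 : Nat.card S / 13 % 13 = 6) (h4 : 7 ∣ Nat.card S) (h5 : ¬ 7 ^ 2 ∣ Nat.card S) : False := by
  obtain ⟨L, h6, h7⟩ := cnt_list (by norm_num) H h4 h5
  have h8 := cnt_iso (by norm_num) H h1 h2 hI
  rw [h3, cnt_eq H, h7] at h8
  exact sum57 L h6 h8

/-- `QPk r` for the groups isomorphic to `X` -/
def At (r : ℕ) (X : Type) [Group X] : Prop :=
  ∀ (S : Type) [Group S] [Finite S], IsSimpleGroup S → ¬ IsMulCommutative S → ∀ _ : S ≃* X, QPk r S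

/-- the exceptional and the orthogonal members -/
structure Mem2 : Prop where
  g23 : ∀ (F : Type) [Field F] [Fintype F], Fintype.card F = 3 → At 3 ↥(Lie.chevG2.group F)
  g24 : ∀ (F : Type) [Field F] [Fintype F], Fintype.card F = 4 → At 2 ↥(Lie.chevG2.group F)
  f42 : ∀ (F : Type) [Field F] [Fintype F], Fintype.card F = 2 → At 2 ↥(Lie.chevF4.group F)
  te6 : ∀ (F : Type) [Field F] [Fintype F], Fintype.card F = 4 → At 2 ↥(Lie.twistedE6 F 2)
  sz8 : ∀ (F : Type) [Field F] [Fintype F], Fintype.card F = 8 → At 2 ↥(Lie.Sz F 4)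
  o73 : ∀ (F : Type) [Field F] [Fintype F], Fintype.card F = 3 → At 3 (POmega F (quadFormOdd 3 F))
  o82 : ∀ (F : Type) [Field F] [Fintype F], Fintype.card F = 2 → At 2 (POmega F (quadFormPlus 4 F))

end Cfsg.Agent.PQ.EA.Qk
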