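import Cfsg.Agent.PQ.EA.Qk2A
import Cfsg.Agent.H977.E6FW
import Cfsg.Agent.H286.EPK.TwEsix
import Cfsg.Agent.H329.Sec.TwE6
import Cfsg.Agent.S5743
import Cfsg.Agent.S1062
import Cfsg.Agent.S1066

/-!
# S4982, the exceptional covers of `F₄(2)`, `²E₆(2)`; the members `Mem2` (helper67)

* `no_e6`, `no25`, `no49`, `no77` : element orders of `²E₆(2)`; `f42`, `te6`, `mem2 : Mem2`.
-/

set_option autoImplicit false
set_option linter.unusedSectionVars false
set_option synthInstance.maxSize 1024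

namespace Cfsg.Agent.PQ.EA.Qk.M2

open Cfsg Cfsg.Lie Subgroup Cfsg.Agent.LV Cfsg.Agent.H129 Cfsg.Agent.H129.CycT

section

variable {S : Type} [Group S] [Finite S] {p : ℕ} {P R : Subgroup S}

/-- the prime `q = 5` -/
theorem five (h : Pr p 5 S) (H : EL.Hy p 5 P R) (h1 : CB 5 100800 S) (h2 : 5 ^ 2 ∣ Nat.card S) (h3 : No (5 ^ 2) S) {a : ℕ}
    (h4 : p ^ a ∣ Nat.card S) (h5 : ¬ p ^ a ∣ 100800) : False := by
  have := Fact.mk h.pp
  by_cases hR : R = ⊥
  · exact not_cy h.pq h2 h3 (cy_of_hy (hR ▸ H : EL.Hy p 5 P ⊥))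
  obtain ⟨y, -, y1, y2⟩ := exists_ord H hR
  exact h5 (((H.pP.toSylow H.iP).pow_dvd_card_of_pow_dvd_card h4).trans (h1 y y1 P y2))

end

variable {F : Type} [Field F] [Fintype F]

theorem no_e6 (hF : Fintype.card F = 4) {n : ℕ} (h0 : n ≠ 0) (h2 : n.Coprime 2)
    (h : ∀ w : CoxeterMatrix.E₆.Group, ∃ m, w ^ m = 1 ∧ ((∀ j, w ^ j = 1 → n ∣ 4 ^ j - 1) → ¬ n ∣ 4 ^ m - 1)) :
    No n ↥(twistedE6 F 2) := by
  have : CharP F 2 := charP_of_card_eq_prime_pow (p := 2) (f := 2) hF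
  have : Finite CoxeterMatrix.E₆.Group := Nat.finite_of_card_ne_zero (by rw [TwT.card_W6]; norm_num)
  refine no_inj (fun x hx => ?_) (inclusion (TwE6Fr.tw_le Nat.prime_two.isPrimePow hF)) (inclusion_injective _)
  obtain ⟨w, hw⟩ := H977.E6F.exists_w H897.Lat.hp CoxeterMatrix.E₆.toCoxeterSystem (r := 2) (x := x) (hx ▸ h0) (hx ▸ h2)
  rw [hF, hx] at hw
  obtain ⟨m, h3, h4⟩ := h w
  exact h4 hw (hw m h3)

theorem no49 (hF : Fintype.card F = 4) : No (7 ^ 2) ↥(twistedE6 F 2) :=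
  no_e6 hF (by norm_num) (by norm_num) fun w => ⟨51840, TwT.card_W6 ▸ pow_card_eq_one', fun _ => by decide +kernel⟩

theorem no77 (hF : Fintype.card F = 4) : No (11 * 7) ↥(twistedE6 F 2) :=
  no_e6 hF (by norm_num) (by norm_num) fun w => by
    by_cases h : 5 ∣ orderOf w
    · exact ⟨10, H977.E6F.pow_ten w h, fun _ => by decide +kernel⟩
    refine ⟨orderOf w, pow_orderOf_eq_one w, fun _ h1 => ?_⟩
    have h2 := Nat.dvd_gcd ((dvd_mul_right 11 7).trans h1) (show 11 ∣ 4 ^ 5 - 1 by norm_num)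
    rw [Nat.pow_sub_one_gcd_pow_sub_one, ((Nat.Prime.coprime_iff_not_dvd Nat.prime_five).2 h).symm] at h2
    omega

theorem no25 (hF : Fintype.card F = 4) : No (5 ^ 2) ↥(twistedE6 F 2) := fun z hz => by
  obtain ⟨f⟩ := (S2227.result hF).2 (z ^ 5) (by rw [orderOf_pow_of_dvd (by norm_num) (hz ▸ by norm_num), hz]; norm_num)
  have h1 : ∀ g : Multiplicative (ZMod 5) × ↥(alternatingGroup (Fin 8)), g ^ 20160 = 1 := fun g => by
    refine Prod.ext (orderOf_dvd_iff_pow_eq_one.1 ((orderOf_dvd_natCard g.1).trans ?_))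
      (orderOf_dvd_iff_pow_eq_one.1 ((orderOf_dvd_natCard g.2).trans ?_))
    · rw [Nat.card_congr Multiplicative.toAdd, Nat.card_zmod]
      norm_num
    · rw [nat_card_alternatingGroup, Nat.card_fin]
      decide
  have h2 := orderOf_dvd_of_pow_eq_one (h1 (f ⟨z, mem_centralizer_singleton_iff.2 ((Commute.refl z).pow_right 5)⟩))
  rw [f.orderOf_eq, orderOf_mk, hz] at h2
  omega

theorem cb5 (hF : Fintype.card F = 4) : CB 5 100800 ↥(twistedE6 F 2) :=
  cb_of fun x hx => dvd_of_eq (H286.EPK.card_cent_five hF x hx)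

theorem card_te (hF : Fintype.card F = 4) : Nat.card ↥(twistedE6 F 2) = 76532479683774853939200 := by
  have h := S1066.result (q := 2) Nat.prime_two.isPrimePow hF
  norm_num at h
  omega

theorem cb13 (hF : Fintype.card F = 4) : CB 13 (13 * 3) ↥(twistedE6 F 2) := by
  have hr : Nat.Prime 13 := by norm_num
  obtain ⟨T, -, h3, h4, h5, -⟩ := TwT.flip_T Nat.prime_two.isPrimePow hF DataTE6c.hA DataTE6c.chainOK DataTE6c.hd_pi
    DataTE6c.cycOK DataTE6c.rootOK DataTE6c.chain2OK DataTE6c.hd2_eq (N := 39) (by rw [DataTE6c.fN_eq]; norm_num) (by norm_num)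
  refine (cb_of_T hr (card_te hF ▸ by norm_num) ((Nat.Coprime.dvd_mul_left (by decide)).1 ((by norm_num : 13 ∣ 39).trans h4))
    (h5 13 hr (not_dvd_W_E6 hr (by norm_num) (by norm_num) (by norm_num)) fun s hs => ?_)).mono h3
  rcases DataTE6c.dvd_of_G (x := ((2 : ℕ) : ℤ)) (r := ((13 : ℕ) : ℤ)) (by norm_num) s hs with h | h
  · exact not_one hr h
  · exact not_prime hr Nat.prime_two (by norm_num) h

theorem cb17 (hF : Fintype.card F = 4) : CB 17 (17 * 3) ↥(twistedE6 F 2) :=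
  let ⟨_, h1, h2, h3⟩ := H329.Sec.TwE6.torus_8 hF
  (cb_of_T (by norm_num) (card_te hF ▸ by norm_num)
    ((Nat.Coprime.dvd_mul_left (by decide)).1 ((by norm_num : 17 ∣ 51).trans h2)) h3).mono h1

theorem cb19 (hF : Fintype.card F = 4) : CB 19 19 ↥(twistedE6 F 2) :=
  cb_of_exact (exact_tE6_18 Nat.prime_two.isPrimePow hF (N := 57) (by norm_num)) (by norm_num) dvd_rfl

theorem exists_emb (hF : Fintype.card F = 2) : ∃ (K : Type) (_ : Field K) (_ : Fintype K), Fintype.card K = 4 ∧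
    ∃ f : ↥(chevF4.group F) →* ↥(twistedE6 K 2), Function.Injective f := by
  have := Fintype.ofFinite (GaloisField 2 2)
  have hK : Fintype.card (GaloisField 2 2) = 4 := Nat.card_eq_fintype_card.symm.trans (GaloisField.card 2 2 two_ne_zero)
  obtain ⟨H, h, -⟩ := S5743.result hK
  obtain ⟨i⟩ := h 0
  have hD : ChevalleyStructure.Elts.InList chevF4 := typeF4.inList
  exact ⟨_, _, _, hK, (H 0).subtype.comp (i.symm.toMonoidHom.comp (GpExc.Field.emb hD
    (FiniteField.ringEquivOfCardEq (hF.trans (ZMod.card 2).symm)).toRingHom)),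
    (subtype_injective _).comp (i.symm.injective.comp (GpExc.Field.emb_injective hD _))⟩

variable (F)

theorem f42 (hF : Fintype.card F = 2) : At 2 ↥(chevF4.group F) := fun S _ _ hs hn e p q K _ _ σ lam _ _ _ h k P R H => by
  have hS : Nat.card S = 3311126603366400 := (Nat.card_congr e.toEquiv).trans (S1062.result hF)
  obtain rfl | ⟨rfl, rfl⟩ | ⟨rfl, h1⟩ | ⟨rfl, h1⟩ := primes h hS
    (fun p q => q = 3 ∨ (p = 7 ∧ q = 5) ∨ (p = 13 ∧ ¬ 12 ∣ q - 1) ∨ (p = 17 ∧ ¬ 8 ∣ q - 1)) (by decide +kernel)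
  · exact (not_notAb h.pq H.wa e (H371.HT.notAb_untw (by simp) (hF ▸ by norm_num))).elim
  · obtain ⟨E, _, _, hE, f, hf⟩ := exists_emb hF
    exact (five h H (((cb5 hE).inj f hf).congr e) (hS ▸ by norm_num) ((no_inj (no25 hE) f hf).congr e) (a := 2)
      (hS ▸ by norm_num) (by norm_num)).elim
  · exact (iso_case hs hn h H ((cb_of_exact (exact_F4_12 hF (by norm_num)) h.pp dvd_rfl).congr e) hS ⟨by norm_num, h1⟩).elim
  · exact (iso_case hs hn h H ((cb_of_exact (exact_F4_8 hF (by norm_num) (by norm_num)) h.pp dvd_rfl).congr e) hS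
      ⟨by norm_num, h1⟩).elim

theorem te6 (hF : Fintype.card F = 4) : At 2 ↥(twistedE6 F 2) := fun S _ _ hs hn e p q K _ _ σ lam _ _ _ h k P R H => by
  have hS : Nat.card S = 76532479683774853939200 := (Nat.card_congr e.toEquiv).trans (card_te hF)
  have h5 := fun (h : Pr p 5 S) (H : EL.Hy p 5 P R) =>
    @five S _ _ p P R h H ((cb5 hF).congr e) (hS ▸ by norm_num) ((no25 hF).congr e)
  have h7 := fun (h : Pr p 7 S) (h1 : No (p * 7) S) => not_hy (P := P) (R := R) h h1 (hS ▸ by norm_num) ((no49 hF).congr e)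
  obtain rfl | ⟨rfl, rfl⟩ | ⟨rfl, h1⟩ | ⟨rfl, rfl | rfl | rfl⟩ | ⟨rfl, rfl⟩ | ⟨rfl, rfl | rfl⟩ | ⟨rfl, h1⟩ := primes h hS
    (fun p q => q = 3 ∨ (p = 7 ∧ q = 5) ∨ (q = 5 ∧ ¬ p ∣ 100800) ∨ (q = 7 ∧ (p = 11 ∨ p = 13 ∨ p = 17)) ∨ (p = 13 ∧ q = 11) ∨
      (p = 17 ∧ (q = 11 ∨ q = 13)) ∨ (p = 19 ∧ ¬ 9 ∣ q - 1)) (by decide +kernel)
  · exact (not_notAb h.pq H.wa e (H371.HT.notAb_twE6 Nat.prime_two.isPrimePow hF (hF ▸ by norm_num))).elim
  · exact (h5 h H (a := 2) (hS ▸ by norm_num) (by norm_num)).elim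
  · exact (h5 h H (a := 1) ((pow_one p).symm ▸ h.dp) ((pow_one p).symm ▸ h1)).elim
  · exact (h7 h ((no77 hF).congr e) H).elim
  · exact (h7 h (((cb13 hF).congr e).no (by norm_num) (by norm_num)) H).elim
  · exact (h7 h (((cb17 hF).congr e).no (by norm_num) (by norm_num)) H).elim
  · exact com_of_not_ac hs hn h H (hS ▸ by norm_num) (not_ac_cb h.pp ((cb13 hF).congr e) (N := 5887113821828834918400) hS
      (by norm_num) (by norm_num) (by norm_num) (by decide +kernel))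
  · exact com_of_not_ac hs hn h H (hS ▸ by norm_num) (not_ac_cb h.pp ((cb17 hF).congr e) (N := 4501910569633814937600) hS
      (by norm_num) (by norm_num) (by norm_num) (by decide +kernel))
  · exact com_of_not_ac hs hn h H (hS ▸ by norm_num) (not_ac_cb h.pp ((cb17 hF).congr e) (N := 4501910569633814937600) hS
      (by norm_num) (by norm_num) (by norm_num) (by decide +kernel))
  · exact (iso_case hs hn h H ((cb19 hF).congr e) hS ⟨by norm_num, h1⟩).elim

end M2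

/-- **the exceptional and the orthogonal members** -/
theorem mem2 : Mem2 := ⟨M2.g23, M2.g24, M2.f42, M2.te6, M2.sz8, M2.o73, M2.o82⟩

end Cfsg.Agent.PQ.EA.Qk
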