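import Cfsg.Agent.PQ.EA.Qk0
import Cfsg.Agent.PQ.Fa.Sz
import Cfsg.Agent.H129.CycRow
import Cfsg.Agent.H17.NS.SzCyc
import Cfsg.Agent.H134.OmegaThree
import Cfsg.Agent.H833.RS.O73Geo
import Cfsg.Agent.H286.CS.PTor
import Cfsg.Agent.H371.HT.Three
import Cfsg.Agent.S0292
import Cfsg.Agent.S0293
import Cfsg.Agent.S1059
import Cfsg.Agent.S1082
import Cfsg.Agent.S1163

/-!
# S4982, the exceptional covers of `G₂(3)`, `G₂(4)`, `Sz(8)`, `Ω₇(3)`, `Ω₈⁺(2)` (helper67)

* `CB p M S` : the centralisers of the elements of order `p` have order dividing `M`;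
* `g23`, `g24`, `sz8`, `o73`, `o82`.
-/

set_option autoImplicit false
set_option linter.unusedSectionVars false
set_option synthInstance.maxSize 1024

namespace Cfsg.Agent.PQ.EA.Qk.M2

open Cfsg Cfsg.Lie Subgroup Cfsg.Agent.LV Cfsg.Agent.H129 Cfsg.Agent.H129.CycT

universe u v

/-- the centralisers of the elements of order `p` -/
def CB (p M : ℕ) (S : Type u) [Group S] : Prop :=
  ∀ x : S, orderOf x = p → ∀ H : Subgroup S, (∀ h ∈ H, h * x = x * h) → Nat.card H ∣ M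

section

variable {S : Type u} {T : Type v} [Group S] [Group T] {p M : ℕ}

theorem CB.inj (h : CB p M T) (f : S →* T) (hf : Function.Injective f) : CB p M S := fun x hx H hH =>
  Nat.card_congr (H.equivMapOfInjective f hf).toEquiv ▸ h (f x) ((orderOf_injective f hf x).trans hx) (H.map f) (by
    rintro _ ⟨y, hy, rfl⟩
    rw [← map_mul, ← map_mul, hH y hy])

theorem CB.congr (h : CB p M T) (e : S ≃* T) : CB p M S := h.inj e.toMonoidHom e.injective

theorem CB.mono (h : CB p M S) {M' : ℕ} (h1 : M ∣ M') : CB p M' S := fun x hx H hH => (h x hx H hH).trans h1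

theorem cb_of (h : ∀ x : S, orderOf x = p → Nat.card (centralizer ({x} : Set S)) ∣ M) : CB p M S := fun x hx _ hH =>
  (card_dvd_of_le fun y hy => mem_centralizer_singleton_iff.2 (hH y hy)).trans (h x hx)

theorem cb_of_exact [Finite S] (h : CycExact S M) (hp : p.Prime) (h1 : p ∣ M) : CB p M S :=
  cb_of fun _ hx => dvd_of_eq (h.card_centralizer hp h1 hx)

theorem CB.no (h : CB p M S) {s : ℕ} (hs : s ≠ 0) (h1 : ¬ p * s ∣ M) : No (p * s) S := fun z hz =>
  h1 (hz ▸ Nat.card_zpowers z ▸ h (z ^ s)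
    (by rw [orderOf_pow_of_dvd hs (hz ▸ dvd_mul_left s p), hz, Nat.mul_div_cancel _ (Nat.pos_of_ne_zero hs)]) _ (by
      rintro _ ⟨k, rfl⟩
      exact ((Commute.refl z).zpow_left k).pow_right s))

theorem CB.iso (h : CB p p S) (hp : p.Prime) : Iso p S := fun _ hs _ => h.no hs.ne_zero fun e =>
  hs.one_lt.ne' (Nat.dvd_one.1 (Nat.dvd_of_mul_dvd_mul_left hp.pos (by rwa [mul_one])))

theorem no_inj {n : ℕ} (h : No n T) (f : S →* T) (hf : Function.Injective f) : No n S :=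
  fun x hx => h (f x) ((orderOf_injective f hf x).trans hx)

end

variable {S : Type} [Group S] [Finite S] {p q M N : ℕ} {P R : Subgroup S}

theorem cb_of_T (hp : p.Prime) (h2 : ¬ p ^ 2 ∣ Nat.card S) {T : Subgroup S} (h1 : p ∣ Nat.card T)
    (h : ∀ y ∈ T, orderOf y = p → centralizer {y} ≤ T) : CB p (Nat.card T) S := fun x hx H hH => by
  have := Fact.mk hp
  obtain ⟨⟨y, hy⟩, h3⟩ := exists_prime_orderOf_dvd_card' p h1
  rw [orderOf_mk] at h3
  have key : ∀ z : S, orderOf z = p → ∃ Q : Sylow p S, zpowers z = (Q : Subgroup S) := fun z hz =>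
    let ⟨Q, hQ⟩ := (IsPGroup.of_card (n := 1) (by rw [Nat.card_zpowers, hz, pow_one]) : IsPGroup p (zpowers z)).exists_le_sylow
    ⟨Q, eq_of_le_of_card_ge hQ (by rw [card_syl hp (hz ▸ orderOf_dvd_natCard z) h2 Q, Nat.card_zpowers, hz])⟩
  obtain ⟨P, hP⟩ := key x hx
  obtain ⟨Q, hQ⟩ := key y h3
  obtain ⟨g, rfl⟩ := MulAction.exists_smul_eq S P Q
  have h4 : g * x * g⁻¹ ∈ T := zpowers_le.2 hy (hQ.ge ⟨x, hP.le (mem_zpowers x), rfl⟩)
  rw [Nat.card_congr (H.equivMapOfInjective (MulAut.conj g).toMonoidHom (MulAut.conj g).injective).toEquiv]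
  refine card_dvd_of_le (le_trans ?_ (h _ h4 (((MulAut.conj g).orderOf_eq x).trans hx)))
  rintro _ ⟨c, hc, rfl⟩
  exact mem_centralizer_singleton_iff.2 ((map_mul (MulAut.conj g) c x).symm.trans
    ((congrArg _ (hH c hc)).trans (map_mul (MulAut.conj g) x c)))

theorem cb_of_no (hS : Nat.card S = M * N)
    (h : ∀ s : ℕ, s.Prime → s ∣ N → ∀ x y : S, orderOf x = s → orderOf y = p → x * y ≠ y * x) : CB p M S := fun y hy H hH =>
  Nat.Coprime.dvd_of_dvd_mul_right (Nat.coprime_of_dvd fun s hs h1 h2 => by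
    have := Fact.mk hs
    obtain ⟨⟨x, hx⟩, h3⟩ := exists_prime_orderOf_dvd_card' s h1
    exact h s hs h2 x y (orderOf_mk x hx ▸ h3) hy (hH x hx)) (hS ▸ H.card_subgroup_dvd_card)

theorem not_ac_cb (hp : p.Prime) {m : ℕ} (h : CB p (p * m) S) (hS : Nat.card S = p * N) (h2 : ¬ p ∣ N) (hm : m ≠ 0)
    (hq : q - 1 ≠ 0) (h3 : ∀ c ∈ m.divisors, ∀ e ∈ (q - 1).divisors, e ∣ p - 1 → c * e % p ≠ N % p) : ¬ EL.AC p q S := fun hA => by
  have := Fact.mk hp
  obtain ⟨P⟩ : Nonempty (Sylow p S) := inferInstance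
  have h4 := card_syl hp (Dvd.intro N hS.symm) (fun e => h2 (Nat.dvd_of_mul_dvd_mul_left hp.pos (by rwa [hS, pow_two] at e))) P
  have : IsCyclic (P : Subgroup S) := isCyclic_of_prime_card h4
  obtain ⟨⟨x, hx⟩, h5⟩ := exists_prime_orderOf_dvd_card' p (G := (P : Subgroup S)) (dvd_of_eq h4.symm)
  rw [orderOf_mk] at h5
  have h6 := h x h5 (centralizer ((P : Subgroup S) : Set S)) fun c hc => (hc x hx).symm
  obtain ⟨c, hc⟩ : p ∣ Nat.card (centralizer ((P : Subgroup S) : Set S)) := (dvd_of_eq h4.symm).trans <| card_dvd_of_le fun a ha b hb =>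
    congrArg Subtype.val ((IsCyclic.commGroup (α := (P : Subgroup S))).mul_comm ⟨b, hb⟩ ⟨a, ha⟩)
  have h7 := relIndex_mul_index (centralizer_le_normalizer ((P : Subgroup S) : Set S))
  have h8 := (centralizer ((P : Subgroup S) : Set S)).card_mul_index
  have h9 := card_sylow_modEq_one p S
  rw [P.card_eq_index_normalizer] at h9
  rw [hc, ← h7, hS, mul_assoc] at h8
  rw [hc] at h6
  refine h3 c (Nat.mem_divisors.2 ⟨Nat.dvd_of_mul_dvd_mul_left hp.pos h6, hm⟩) _ (Nat.mem_divisors.2 ⟨hA P, hq⟩) (au_dvd hp h4) ?_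
  rw [← Nat.eq_of_mul_eq_mul_left hp.pos h8, ← mul_assoc]
  exact ((congrArg (· % p) (mul_one _)).symm.trans (Nat.ModEq.mul_left _ h9).symm)

theorem ac_case (hs : IsSimpleGroup S) (hn : ¬ IsMulCommutative S) (h : Pr p q S) (H : EL.Hy p q P R) (h1 : No (p * q) S)
    (h2 : ¬ EL.AC p q S) : False := h2 ((bot_of_no h H h1 ▸ H : EL.Hy p q P ⊥).ac hs hn h.dp h.dq)

theorem iso_case (hs : IsSimpleGroup S) (hn : ¬ IsMulCommutative S) (h : Pr p q S) (H : EL.Hy p q P R) (h1 : CB p p S)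
    (hS : Nat.card S = N) (h2 : ¬ p ^ 2 ∣ N ∧ ¬ N / p % p ∣ q - 1) : False :=
  ac_case hs hn h H (h1.iso h.pp q h.pq h.lt.ne) (not_ac h.pp h.dp (hS ▸ h2.1) (h1.iso h.pp) (hS ▸ h2.2))

theorem primes (h : Pr p q S) (hS : Nat.card S = N) (C : ℕ → ℕ → Prop) (hN : N ∣ [2, 3, 5, 7, 11, 13, 17, 19].prod ^ 36 ∧
    ∀ p ∈ [2, 3, 5, 7, 11, 13, 17, 19], ∀ q ∈ [2, 3, 5, 7, 11, 13, 17, 19], 2 < q → q < p → p ∣ N → q ∣ N → C p q) : C p q := by
  have key : ∀ r : ℕ, r.Prime → r ∣ Nat.card S → r ∈ [2, 3, 5, 7, 11, 13, 17, 19] := fun r hr h1 =>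
    mem_list_primes_of_dvd_prod hr.prime (fun s hs => Nat.Prime.prime (by revert s; decide +kernel))
      (hr.dvd_of_dvd_pow ((hS ▸ h1).trans hN.1))
  exact hN.2 p (key p h.pp h.dp) q (key q h.pq h.dq) h.two h.lt (hS ▸ h.dp) (hS ▸ h.dq)

variable {K : Type} [Group K] [Finite K] {σ : K →* S} {lam : σ.ker →* ℂˣ}

theorem signs {a b c a' b' c' : ℤ} (h1 : a' = a ∨ a' = -a) (h2 : b' = b ∨ b' = -b) (h3 : c' = c ∨ c' = -c)
    (h4 : c + (a + b) = 0) (h5 : a' + b' + 3 * c' = 0) (h6 : a ≡ b [ZMOD 7]) (h7 : ¬ 7 ∣ a) (h8 : c ≠ 0) : False := by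
  rw [Int.ModEq] at h6
  omega

/-- **the pair `(7, 5)` with automizers `2`, `4`** -/
theorem two7 (H : QH 7 5 σ lam) (h1 : CB 7 7 S) (h2 : CB 5 5 S) (hS : Nat.card S = 29120) : False := by
  classical
  have p7 : Nat.Prime 7 := by norm_num
  have := Fact.mk p7
  have := Fact.mk Nat.prime_five
  have a1 : 7 ∣ Nat.card S := hS ▸ by norm_num
  have a2 : ¬ 7 ^ 2 ∣ Nat.card S := hS ▸ by norm_num
  have b1 : 5 ∣ Nat.card S := hS ▸ by norm_num
  have b2 : ¬ 5 ^ 2 ∣ Nat.card S := hS ▸ by norm_num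
  obtain ⟨c1, X, Y, δ, x1, x2, x3, x4, x5, x6, -⟩ := boxCntP 7 K S σ lam p7 H.st.1 H.st.2.1 H.zp default (card_syl p7 a1 a2 _)
    (cent_eq p7 a1 a2 (h1.iso p7) _) 2 ((au_eq p7 a1 a2 (h1.iso p7) _).trans (by rw [hS]))
  obtain ⟨c2, X', Y', ε, y1, y2, y3, y4, y5, y6, y7⟩ := boxCntP 5 K S σ lam Nat.prime_five H.st.1 H.st.2.1 H.zq default
    (card_syl Nat.prime_five b1 b2 _) (cent_eq Nat.prime_five b1 b2 (h2.iso Nat.prime_five) _) 4
    ((au_eq Nat.prime_five b1 b2 (h2.iso Nat.prime_five) _).trans (by rw [hS]))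
  have e1 : cnt 7 lam = (X.disjUnion Y x2).card := Nat.subtype_card _ fun χ => Finset.mem_disjUnion.trans (x3 χ)
  have e2 : cnt 5 lam = (X'.disjUnion Y' y2).card := Nat.subtype_card _ fun χ => Finset.mem_disjUnion.trans (y3 χ)
  have e3 : X.disjUnion Y x2 = X'.disjUnion Y' y2 := Finset.ext fun χ => Finset.mem_disjUnion.trans ((x3 χ).trans
    ((and_congr_right fun h => H.ez χ h).trans ((y3 χ).symm.trans Finset.mem_disjUnion.symm)))
  rw [Finset.card_disjUnion] at e1 e2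
  obtain ⟨a, b, hab, rfl⟩ := Finset.card_eq_two.1 x1
  obtain ⟨ψ, rfl⟩ := Finset.card_eq_one.1 (show Y'.card = 1 by omega)
  obtain ⟨c, hc⟩ := Finset.card_pos.1 (show 0 < Y.card by omega)
  have f1 : ∑ χ ∈ X'.disjUnion {ψ} y2, ε χ * dg χ = 0 := by
    rw [Finset.sum_disjUnion, Finset.sum_singleton, add_comm]
    exact y5 ψ (Finset.mem_singleton_self ψ)
  have f2 : ∀ χ ∈ X'.disjUnion {ψ} y2, (ε ψ * dg ψ - ε χ * dg χ) % 5 = 0 := fun χ h => by
    rcases Finset.mem_disjUnion.1 h with h | h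
    · have := y7 ψ (Finset.mem_singleton_self ψ) χ h
      rw [Int.ModEq] at this
      omega
    · rw [Finset.mem_singleton.1 h, sub_self]
      rfl
  have f3 : ∀ χ ∈ Y, ε χ * dg χ = ε c * dg c := fun χ h => by
    have g1 := (x5 χ h).trans (x5 c hc).symm
    have g2 := f2 χ (e3 ▸ Finset.mem_disjUnion.2 (.inr h))
    have g3 := f2 c (e3 ▸ Finset.mem_disjUnion.2 (.inr hc))
    have g4 := ((y3 c).1 (Finset.mem_disjUnion.1 (e3 ▸ Finset.mem_disjUnion.2 (.inr hc)))).2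
    generalize ε ψ * dg ψ = t at g2 g3
    rcases x4 χ with k1 | k1 <;> rcases x4 c with k2 | k2 <;> rcases y4 χ with k3 | k3 <;> rcases y4 c with k4 | k4 <;>
      rw [k1, k2] at g1 <;> rw [k3] at g2 <;> rw [k4] at g3 <;> rw [k3, k4] <;> omega
  rw [← e3, Finset.sum_disjUnion, Finset.sum_pair hab, Finset.sum_congr rfl f3, Finset.sum_const,
    show Y.card = 3 by omega, nsmul_eq_mul, Nat.cast_ofNat] at f1
  have f4 := x5 c hc
  rw [Finset.sum_pair hab] at f4
  have sg : ∀ χ, ε χ * dg χ = δ χ * dg χ ∨ ε χ * dg χ = -(δ χ * dg χ) := fun χ => by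
    rcases x4 χ with k1 | k1 <;> rcases y4 χ with k2 | k2 <;> rw [k1, k2] <;> omega
  have g1 := ((x3 a).1 (.inl (Finset.mem_insert_self _ _))).2
  have g2 := ((x3 c).1 (.inr hc)).2
  refine signs (sg a) (sg b) (sg c) f4 f1 (x6 a (Finset.mem_insert_self _ _) b (by simp)) ?_ ?_
  · rcases x4 a with k | k <;> rw [k] <;> omega
  · rcases x4 c with k | k <;> rw [k] <;> omega

variable (F : Type) [Field F] [Fintype F]

theorem g23 (hF : Fintype.card F = 3) : At 3 ↥(chevG2.group F) := fun S _ _ _ _ e p q K _ _ σ lam _ h3 _ h k P R H => by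
  have hS : Nat.card S = 4245696 := (Nat.card_congr e.toEquiv).trans (S1059.result hF)
  have c13 : CB 13 13 S := (cb_of_exact (exact_G2_3 hF (by norm_num) (by norm_num)) (by norm_num) dvd_rfl).congr e
  obtain ⟨rfl, rfl⟩ := (primes h hS (fun p q => q = 3 ∨ p = 13 ∧ q = 7) (by decide +kernel)).resolve_left h3
  exact (two13 k h.dp (hS ▸ by norm_num) (c13.iso h.pp) (by rw [hS]) h.dq (hS ▸ by norm_num)).elim

theorem g24 (hF : Fintype.card F = 4) : At 2 ↥(chevG2.group F) := fun S _ _ hs hn e p q K _ _ σ lam _ _ _ h k P R H => by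
  have hG : Nat.card ↥(chevG2.group F) = 251596800 := S1059.result hF
  have hS : Nat.card S = 251596800 := (Nat.card_congr e.toEquiv).trans hG
  have c13 : CB 13 13 S := (cb_of_exact (exact_G2_6 hF (by norm_num) (by norm_num)) (by norm_num) dvd_rfl).congr e
  have c7 : CB 7 (7 * 3) S := by
    have : Finite CoxeterMatrix.G₂.Group := Nat.finite_of_card_ne_zero (by rw [cardW_G2]; norm_num)
    obtain ⟨T, -, t1, t2, t3, -⟩ := UntwT.untw_T typeG2 CoxeterMatrix.G₂.toCoxeterSystem (by norm_num) hF TorusChar.invC_G2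
      one_ne_zero DataG2.hA DataG2.chainOK DataG2.cycOK DataG2.rootOK (N := 21) (by rw [DataG2.fN_eq]; norm_num) (by norm_num)
      (d := 1) (.inl rfl)
    have t4 := good_G2_3 (q := 4) (N := 21) (r := 7) (by norm_num) (by norm_num) (by norm_num) (by norm_num)
    exact ((cb_of_T (by norm_num) (hG ▸ by norm_num) (by omega) (t3 7 (by norm_num) t4.1 t4.2)).mono t1).congr e
  obtain rfl | ⟨rfl, rfl⟩ | ⟨rfl, rfl⟩ | ⟨rfl, rfl⟩ :=
    primes h hS (fun p q => q = 3 ∨ (p = 7 ∧ q = 5) ∨ (p = 13 ∧ q = 5) ∨ (p = 13 ∧ q = 7)) (by decide +kernel)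
  · exact (not_notAb h.pq H.wa e (H371.HT.notAb_untw (by simp) (hF ▸ by norm_num))).elim
  · exact (ac_case hs hn h H (c7.no (by norm_num) (by norm_num))
      (not_ac_cb h.pp c7 (N := 35942400) hS (by norm_num) (by norm_num) (by norm_num) (by decide +kernel))).elim
  · exact (iso_case hs hn h H c13 hS (by decide +kernel)).elim
  · exact (two13 k h.dp (hS ▸ by norm_num) (c13.iso h.pp) (by rw [hS]) h.dq (hS ▸ by norm_num)).elim

theorem sz8 (hF : Fintype.card F = 8) : At 2 ↥(Lie.Sz F 4) := fun S _ _ hs hn e p q K _ _ σ lam _ _ _ h k P R H => by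
  have hS : Nat.card S = 29120 := (Nat.card_congr e.toEquiv).trans (S1163.result (m := 1) le_rfl hF).1
  have c : ∀ r : ℕ, r.Prime → r = 5 ∨ r = 7 ∨ r = 13 → CB r r S := fun r hr h1 => by
    obtain ⟨T, t1, -, t2, t3⟩ := H17.NS.SzCyc.sz_cyc (m := 1) le_rfl hF e hr (by omega)
      (by rcases h1 with rfl | rfl | rfl <;> omega)
    have t4 : Nat.card T = 7 ∨ Nat.card T = 13 ∨ Nat.card T = 5 := t3
    refine (cb_of_T hr ?_ t1 fun y hy h2 => t2 y hy fun e => hr.one_lt.ne' (h2 ▸ e ▸ orderOf_one)).mono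
      (dvd_of_eq (by rcases h1 with rfl | rfl | rfl <;> omega))
    rcases h1 with rfl | rfl | rfl <;> rw [hS] <;> norm_num
  obtain ⟨rfl, rfl⟩ | ⟨rfl, rfl⟩ | ⟨rfl, rfl⟩ :=
    primes h hS (fun p q => (p = 7 ∧ q = 5) ∨ (p = 13 ∧ q = 5) ∨ (p = 13 ∧ q = 7)) (by decide +kernel)
  · exact (two7 k (c 7 h.pp (by omega)) (c 5 h.pq (by omega)) hS).elim
  · have e1 := cnt_iso h.pp k h.dp (hS ▸ by norm_num) ((c 13 h.pp (by omega)).iso h.pp)
    have e2 := cnt_iso h.pq k.symm h.dq (hS ▸ by norm_num) ((c 5 h.pq (by omega)).iso h.pq)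
    rw [hS] at e1 e2
    exact absurd (e1.symm.trans ((cnt_eq k).trans e2)) (by norm_num)
  · exact (iso_case hs hn h H (c 13 h.pp (by omega)) hS (by decide +kernel)).elim

theorem o73 (hF : Fintype.card F = 3) : At 3 (POmega F (quadFormOdd 3 F)) :=
  fun S _ _ hs hn e p q K _ _ σ lam _ h3 _ h k P R H => by
  have hG : Nat.card (POmega F (quadFormOdd 3 F)) = 4585351680 := by
    have h1 := S0292.result hF (by decide) 3 le_rfl
    simp only [Finset.prod_range_succ, Finset.prod_range_zero] at h1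
    omega
  have hS : Nat.card S = 4585351680 := (Nat.card_congr e.toEquiv).trans hG
  have : Finite (POmega F (quadFormOdd 3 F)) := Finite.of_equiv _ e.toEquiv
  have c13 : CB 13 13 (POmega F (quadFormOdd 3 F)) := by
    obtain ⟨T, t1, t2⟩ := H134.OmegaThree.omega_odd_three hF
    refine (cb_of_T (T := T) (by norm_num) (hG ▸ by norm_num) (dvd_of_eq t1.symm) fun y hy h1 g hg => t2.le fun a ha => ?_).mono
      (dvd_of_eq t1)
    obtain ⟨n, rfl⟩ := (eq_of_le_of_card_ge (zpowers_le.2 hy) (by rw [t1, Nat.card_zpowers, h1])).ge ha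
    exact (Commute.zpow_left (hg y rfl) n).eq
  have c7 : CB 7 (7 * 512) (POmega F (quadFormOdd 3 F)) := by
    have n3 := @H833.RS.O73.not_21 F _ _ hF
    have n5 := @H833.RS.O73.not_35 F _ _ hF
    rw [LieClassical.OmegaReindex.coe_quadOdd] at n3 n5
    refine cb_of_no (N := 3 ^ 9 * 5 * 13) hG fun s h1 h2 x y hx hy h4 => ?_
    rcases (Nat.Prime.dvd_mul h1).1 h2 with h2 | h2
    · rcases (Nat.Prime.dvd_mul h1).1 h2 with h2 | h2
      · exact n3 (hx.trans ((Nat.prime_dvd_prime_iff_eq h1 Nat.prime_three).1 (h1.dvd_of_dvd_pow h2))) hy h4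
      · exact n5 (hx.trans ((Nat.prime_dvd_prime_iff_eq h1 Nat.prime_five).1 h2)) hy h4
    · have h5 := c13 x (hx.trans ((Nat.prime_dvd_prime_iff_eq h1 (by norm_num)).1 h2)) (zpowers y) (by
        rintro _ ⟨n, rfl⟩
        exact (Commute.zpow_left h4.symm n).eq)
      rw [Nat.card_zpowers, hy] at h5
      omega
  obtain ⟨rfl, rfl⟩ | ⟨rfl, rfl⟩ | ⟨rfl, rfl⟩ := (primes h hS
    (fun p q => q = 3 ∨ (p = 7 ∧ q = 5) ∨ (p = 13 ∧ q = 5) ∨ (p = 13 ∧ q = 7)) (by decide +kernel)).resolve_left h3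
  · exact com_of_not_ac hs hn h H (hS ▸ by norm_num)
      (not_ac_cb h.pp (c7.congr e) (N := 655050240) hS (by norm_num) (by norm_num) (by norm_num) (by decide +kernel))
  · exact (iso_case hs hn h H (c13.congr e) hS (by decide +kernel)).elim
  · exact (two13 k h.dp (hS ▸ by norm_num) ((c13.congr e).iso h.pp) (by rw [hS]) h.dq (hS ▸ by norm_num)).elim

theorem three_ne {n : ℕ} (hF : Fintype.card F = n) (h : ¬ 3 ∣ n) : (3 : F) ≠ 0 := fun h1 =>
  h (hF ▸ (prime_dvd_char_iff_dvd_card (R := F) 3).1 ((ringChar.spec F 3).1 (by exact_mod_cast h1) |> fun h2 =>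
    ((Nat.dvd_prime Nat.prime_three).1 h2).elim (fun h3 => absurd h3 (CharP.ringChar_ne_one)) fun h3 => dvd_of_eq h3.symm))

theorem o82 (hF : Fintype.card F = 2) : At 2 (POmega F (quadFormPlus 4 F)) :=
  fun S _ _ hs hn e p q K _ _ σ lam _ _ _ h k P R H => by
  have hG : Nat.card (POmega F (quadFormPlus 4 F)) = 174182400 := by
    have h1 := S0293.result hF 4 le_rfl
    simp only [Finset.prod_range_succ, Finset.prod_range_zero] at h1
    norm_num at h1
    exact h1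
  have hS : Nat.card S = 174182400 := (Nat.card_congr e.toEquiv).trans hG
  have c7 : CB 7 7 (POmega F (quadFormPlus 4 F)) := cb_of fun x hx => by
    have : Fact (Nat.Prime 3) := ⟨Nat.prime_three⟩
    have h1 := H286.CS.ptor (F := F) (n := 4) le_rfl (by decide) (r := 7) (by norm_num) (by
      rw [hF]
      exact orderOf_eq_prime (by decide) (by decide)) hx
    rw [hF] at h1
    norm_num at h1
    exact dvd_of_eq h1
  obtain rfl | ⟨rfl, rfl⟩ := primes h hS (fun p q => q = 3 ∨ (p = 7 ∧ q = 5)) (by decide +kernel)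
  · obtain ⟨i⟩ := S1082.result (F := F)
    exact (not_notAb h.pq H.wa (e.trans i.symm) (Fa.notAb_D4 (three_ne F hF (by norm_num)))).elim
  · exact (iso_case hs hn h H (c7.congr e) hS (by decide +kernel)).elim

end Cfsg.Agent.PQ.EA.Qk.M2
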