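import Cfsg.Agent.PQ.EA.Qk0
import Cfsg.Agent.PQ.Mu.Main
import Cfsg.Agent.S0243
import Cfsg.Agent.S0252
import Cfsg.Agent.S0254
import Cfsg.Agent.S0256
import Cfsg.Agent.S0280
import Cfsg.Agent.S2476
import Cfsg.Agent.H908.CarterPC
import Cfsg.Agent.H411.Six.UpSp6
import Cfsg.Agent.H503.BG.RowsS
import Cfsg.Agent.H164.ExplElt
import Cfsg.Agent.H800.Sp.NotAb

/-!
# S4982, the exceptional covers: the linear, unitary and symplectic members (helper18)
-/

set_option autoImplicit false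
set_option linter.unusedSectionVars false

namespace Cfsg.Agent.PQ.EA.Qk

open Cfsg Subgroup Cfsg.Agent.LV Matrix

theorem pr_of {p : ℕ} (hp : p.Prime) {a b c d e : ℕ} (h : p ∣ 2 ^ a * 3 ^ b * 5 ^ c * 7 ^ d * 11 ^ e) :
    p = 2 ∨ p = 3 ∨ p = 5 ∨ p = 7 ∨ p = 11 := by
  have k : ∀ {s n : ℕ}, s.Prime → p ∣ s ^ n → p = s := fun hs h =>
    (Nat.prime_dvd_prime_iff_eq hp hs).1 (hp.dvd_of_dvd_pow h)
  rcases hp.dvd_mul.1 h with h | h
  · rcases hp.dvd_mul.1 h with h | h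
    · rcases hp.dvd_mul.1 h with h | h
      · rcases hp.dvd_mul.1 h with h | h
        · exact .inl (k (by norm_num) h)
        · exact .inr (.inl (k (by norm_num) h))
      · exact .inr (.inr (.inl (k (by norm_num) h)))
    · exact .inr (.inr (.inr (.inl (k (by norm_num) h))))
  · exact .inr (.inr (.inr (.inr (k (by norm_num) h))))

/-- the pairs -/
theorem pairs {S : Type} [Group S] {p q : ℕ} (h : Pr p q S) {a b c d e : ℕ}
    (hc : Nat.card S = 2 ^ a * 3 ^ b * 5 ^ c * 7 ^ d * 11 ^ e) :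
    (q = 3 ∧ (p = 5 ∨ p = 7 ∨ p = 11)) ∨ (q = 5 ∧ (p = 7 ∨ p = 11)) ∨ (q = 7 ∧ p = 11) := by
  have h1 := pr_of h.pp (hc ▸ h.dp)
  have h2 := pr_of h.pq (hc ▸ h.dq)
  have h3 := h.two
  have h4 := h.lt
  omega

variable {F : Type} [Field F] [Fintype F]

/-- the alternating members -/
theorem at_alt (alt : All (fun S _ => IsAlternating S) EL.QPs) {r n : ℕ} (hn : 5 ≤ n) {X : Type} [Group X]
    (h : Nonempty (X ≃* alternatingGroup (Fin n))) : At r X := fun S _ _ hs hn' e p q K _ _ σ lam _ _ _ h1 h2 P R H =>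
  qpc_of (C := fun _ _ => True) (alt S hs hn' ⟨n, hn, h.map e.trans⟩) p q K σ lam trivial h1 h2 P R H

theorem spec3 (h2 : CharP F 2) (x : ProjectiveSpecialLinearGroup (Fin 3) F) :
    orderOf x ∣ (Fintype.card F ^ 2 + Fintype.card F + 1) / Nat.gcd 3 (Fintype.card F - 1) ∨
      orderOf x ∣ (Fintype.card F ^ 2 - 1) / Nat.gcd 3 (Fintype.card F - 1) ∨ orderOf x ∣ Fintype.card F - 1 ∨
      orderOf x ∣ 2 * (Fintype.card F - 1) / Nat.gcd 3 (Fintype.card F - 1) ∨ orderOf x ∣ 4 := by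
  have : Fact (Nat.Prime 2) := ⟨Nat.prime_two⟩
  have h3 : orderOf x ∈ Set.range (orderOf : ProjectiveSpecialLinearGroup (Fin 3) F → ℕ) := ⟨x, rfl⟩
  rw [S2476.result (F := F) 2] at h3
  exact h3.imp_right fun h => h.imp_right fun h => h.imp_right fun h => h.imp_right fun h => h.2

/-- `L₃(2)` -/
theorem l32 (hF : Fintype.card F = 2) : At 2 (ProjectiveSpecialLinearGroup (Fin 3) F) := by
  intro S _ _ hs hn e p q K _ _ σ lam _ _ _ h1 _ P R H
  have hc : Nat.card S = 168 := by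
    have h := S0243.result hF 3 (by norm_num)
    rw [Nat.card_congr e.toEquiv]
    simpa [Fin.prod_univ_succ] using h
  have hI : Iso 7 S := Iso.congr (iso_of_list (L := [7, 3, 4]) (fun x => by
    have h := spec3 (MuL.charP_of Nat.prime_two (dvd_of_eq hF.symm)) x
    rw [hF] at h
    rcases h with h | h | h | h | h
    exacts [⟨7, by simp, h⟩, ⟨3, by simp, h⟩, ⟨3, by simp, h.trans (by norm_num)⟩, ⟨4, by simp, h.trans (by norm_num)⟩,
      ⟨4, by simp, h⟩]) (by norm_num) (by decide)) e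
  have h3 := h1.dp
  have h4 := h1.dq
  rw [hc] at h3 h4
  obtain ⟨rfl, rfl⟩ : q = 3 ∧ p = 7 := by
    rcases pairs h1 (a := 3) (b := 1) (c := 0) (d := 1) (e := 0) hc with
      ⟨rfl, rfl | rfl | rfl⟩ | ⟨rfl, rfl | rfl⟩ | ⟨rfl, rfl⟩ <;> omega
  exact com_of_not_ac hs hn h1 H (by rw [hc]; norm_num)
    (not_ac h1.pp h1.dp (by rw [hc]; norm_num) hI (by rw [hc]; norm_num))

/-- `L₃(4)` -/
theorem l34 (hF : Fintype.card F = 4) : At 2 (ProjectiveSpecialLinearGroup (Fin 3) F) := by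
  intro S _ _ hs hn e p q K _ _ σ lam _ _ _ h1 _ P R H
  have hc : Nat.card S = 20160 := by
    have h := S0243.result hF 3 (by norm_num)
    rw [Nat.card_congr e.toEquiv]
    simp [Fin.prod_univ_succ] at h
    omega
  have hL : ∀ x : S, ∃ m ∈ [7, 5, 3, 4], orderOf x ∣ m := fun x => by
    have h := spec3 (MuL.charP_of Nat.prime_two (by rw [hF]; norm_num)) (e x)
    rw [hF, MulEquiv.orderOf_eq] at h
    rcases h with h | h | h | h | h
    exacts [⟨7, by simp, h⟩, ⟨5, by simp, h⟩, ⟨3, by simp, h⟩, ⟨4, by simp, h.trans (by norm_num)⟩, ⟨4, by simp, h⟩]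
  have h3 := h1.dp
  have h4 := h1.dq
  rw [hc] at h3 h4
  obtain ⟨rfl, rfl | rfl⟩ | ⟨rfl, rfl⟩ : (q = 3 ∧ (p = 5 ∨ p = 7)) ∨ (q = 5 ∧ p = 7) := by
    rcases pairs h1 (a := 6) (b := 2) (c := 1) (d := 1) (e := 0) hc with
      ⟨rfl, rfl | rfl | rfl⟩ | ⟨rfl, rfl | rfl⟩ | ⟨rfl, rfl⟩ <;> omega
  · exact (not_hy h1 (no_of_list hL (by decide)) (by rw [hc]; norm_num) (no_of_list hL (by decide)) H).elim
  · exact (not_hy h1 (no_of_list hL (by decide)) (by rw [hc]; norm_num) (no_of_list hL (by decide)) H).elim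
  · exact com_of_not_ac hs hn h1 H (by rw [hc]; norm_num)
      (not_ac h1.pp h1.dp (by rw [hc]; norm_num) (iso_of_list hL h1.pp (by decide)) (by rw [hc]; norm_num))

/-- an element which is conjugate to a power -/
theorem exists_conj {G : Type} [Group G] [Finite G] {l u : ℕ} (hl : l.Prime) (h1 : l ∣ Nat.card (G ⧸ center G))
    (h2 : ¬ l ∣ u + 1) (h : ∀ g : G, g ^ l = 1 → IsConj (g ^ u) g⁻¹) {S : Type} [Group S] (e : S ≃* G ⧸ center G) :
    ∃ x : S, orderOf x = l ∧ IsConj x (x ^ ((l - 1) * u)) := by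
  have := Fact.mk hl
  obtain ⟨g, hg⟩ := exists_prime_orderOf_dvd_card' l (h1.trans (card_quotient_dvd_card _))
  have h3 : g ^ l = 1 := hg ▸ pow_orderOf_eq_one g
  obtain ⟨c, hc⟩ := isConj_iff.1 (h g h3)
  let π : G →* S := e.symm.toMonoidHom.comp (QuotientGroup.mk' _)
  have h4 : g⁻¹ ^ (l - 1) = g := by
    rw [inv_pow, inv_eq_iff_mul_eq_one, ← pow_succ, Nat.sub_add_cancel hl.one_le, h3]
  refine ⟨π g⁻¹, orderOf_eq_prime (by rw [← map_pow, inv_pow, h3, inv_one, map_one]) fun h5 => h2 ?_, ?_⟩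
  · have h6 : g ∈ center G := inv_mem_iff.1 ((QuotientGroup.eq_one_iff _).1 (e.symm.map_eq_one_iff.1 h5))
    rw [mem_center_iff.1 (pow_mem h6 u) c, mul_inv_cancel_right] at hc
    rw [← hg, orderOf_dvd_iff_pow_eq_one, pow_succ, hc, inv_mul_cancel]
  · rw [← map_pow, pow_mul, h4]
    exact (π.map_isConj (h g h3)).symm

theorem not_ac_su {n u l q : ℕ} (hF : Fintype.card F = u ^ 2) {S : Type} [Group S] [Finite S] (e : S ≃* PSU n F u)
    (h : Pr l q S) (hw : EL.WA l q S) (h1 : ¬ l ∣ u) (h2 : ¬ l ∣ u + 1) (h3 : ¬ ((l - 1) * u) ^ (q - 1) ≡ 1 [MOD l]) :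
    ¬ EL.AC l q S := by
  obtain ⟨x, h4, h5⟩ := exists_conj h.pp (Nat.card_congr e.toEquiv ▸ h.dp) h2
    (fun g hg => H908.CarterPC.su_conj hF g h.pp h1 hg) e
  exact not_ac_of_conj h.pp (abS_of_wa h.pp (wa_symm hw)) h4 h5 h3

theorem not_wa_su {n p : ℕ} (hF : Fintype.card F = 2 ^ 2) (hn : 4 ≤ n) {S : Type} [Group S] [Finite S]
    (e : S ≃* PSU n F 2) : ¬ EL.WA p 3 S := fun h => by
  obtain ⟨w, hw⟩ := H341.Rel.exists_order (F := F) (r := 3) (by rw [hF]; norm_num)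
  have h1 : w ^ 3 = 1 := hw ▸ pow_orderOf_eq_one w
  exact H341.Rel.not_ab_psu (k := 1) (by omega) Nat.prime_three (by norm_num) (by omega) h1 h1
    (MuL.ne_one_of Nat.prime_three hw) (.inl hn) (MuL.absylow (abS_of_wa Nat.prime_three h) e)

/-- `U₄(2)` -/
theorem u42 (hF : Fintype.card F = 2 ^ 2) : At 2 (PSU 4 F 2) := by
  intro S _ _ hs hn e p q K _ _ σ lam _ _ _ h1 _ P R H
  have hc : Nat.card S = 25920 := by
    have h := S0280.result hF 4 (by norm_num)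
    rw [Nat.card_congr e.toEquiv]
    simp [Finset.prod_range_succ, Nat.even_iff] at h
    omega
  have h3 := h1.dp
  have h4 := h1.dq
  rw [hc] at h3 h4
  obtain rfl : q = 3 := by
    rcases pairs h1 (a := 6) (b := 4) (c := 1) (d := 0) (e := 0) hc with
      ⟨rfl, rfl | rfl | rfl⟩ | ⟨rfl, rfl | rfl⟩ | ⟨rfl, rfl⟩ <;> omega
  exact (not_wa_su hF le_rfl e H.wa).elim

/-- `U₄(3)` -/
theorem u43 (hF : Fintype.card F = 3 ^ 2) : At 3 (PSU 4 F 3) := by
  intro S _ _ hs hn e p q K _ _ σ lam _ h0 _ h1 _ P R H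
  have hc : Nat.card S = 3265920 := by
    have h := S0280.result hF 4 (by norm_num)
    rw [Nat.card_congr e.toEquiv]
    simp [Finset.prod_range_succ, Nat.even_iff] at h
    omega
  have h3 := h1.dp
  have h4 := h1.dq
  rw [hc] at h3 h4
  obtain ⟨rfl, rfl⟩ : q = 5 ∧ p = 7 := by
    rcases pairs h1 (a := 7) (b := 6) (c := 1) (d := 1) (e := 0) hc with
      ⟨rfl, rfl | rfl | rfl⟩ | ⟨rfl, rfl | rfl⟩ | ⟨rfl, rfl⟩ <;> omega
  exact com_of_not_ac hs hn h1 H (by rw [hc]; norm_num)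
    (not_ac_su hF e h1 H.wa (by norm_num) (by norm_num) (by decide))

/-- `U₆(2)` -/
theorem u62 (hF : Fintype.card F = 2 ^ 2) : At 2 (PSU 6 F 2) := by
  intro S _ _ hs hn e p q K _ _ σ lam _ _ _ h1 _ P R H
  have hc : Nat.card S = 9196830720 := by
    have h := S0280.result hF 6 (by norm_num)
    rw [Nat.card_congr e.toEquiv]
    simp [Finset.prod_range_succ, Nat.even_iff] at h
    omega
  obtain ⟨rfl, -⟩ | ⟨rfl, rfl | rfl⟩ | ⟨rfl, rfl⟩ := pairs h1 (a := 15) (b := 6) (c := 1) (d := 1) (e := 1) hc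
  · exact (not_wa_su hF (by norm_num) e H.wa).elim
  all_goals
    exact com_of_not_ac hs hn h1 H (by rw [hc]; norm_num)
      (not_ac_su hF e h1 H.wa (by norm_num) (by norm_num) (by decide))

open H164.ExplElt in
theorem notAb_sp : H800.Sp.NotAb 3 (PSp 3 (ZMod 2)) := by
  have : Fact (Nat.Prime 3) := ⟨Nat.prime_three⟩
  let x : symplecticGroup (Fin 3) (ZMod 2) :=
    ⟨tab (idP 3) [1, 16, 36, 8, 18, 4], SymplecticGroup.mem_iff.2 (by decide +kernel)⟩
  let y : symplecticGroup (Fin 3) (ZMod 2) :=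
    ⟨tab (idP 3) [2, 4, 1, 16, 32, 8], SymplecticGroup.mem_iff.2 (by decide +kernel)⟩
  let z : symplecticGroup (Fin 3) (ZMod 2) :=
    ⟨tab (idP 3) [9, 18, 36, 1, 2, 4], SymplecticGroup.mem_iff.2 (by decide +kernel)⟩
  let c : symplecticGroup (Fin 3) (ZMod 2) :=
    ⟨tab (idP 3) [8, 2, 4, 1, 16, 32], SymplecticGroup.mem_iff.2 (by decide +kernel)⟩
  let π := QuotientGroup.mk' (center (symplecticGroup (Fin 3) (ZMod 2)))
  have h3 : ∀ g : symplecticGroup (Fin 3) (ZMod 2), g.1 * (g.1 * g.1) = 1 → π g ^ 3 = 1 := fun g h => by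
    rw [← map_pow, pow_three, show g * (g * g) = 1 from Subtype.ext h, map_one]
  refine H800.Sp.notAb_of_heis (x := π x) (y := π y) (z := π z) (h3 x (by decide +kernel)) (h3 y (by decide +kernel))
    (h3 z (by decide +kernel)) ?_ ?_ ?_ fun h => ?_
  · rw [← map_mul, ← map_mul, show x * z = z * x from Subtype.ext (show x.1 * z.1 = z.1 * x.1 by decide +kernel)]
  · rw [← map_mul, ← map_mul, show y * z = z * y from Subtype.ext (show y.1 * z.1 = z.1 * y.1 by decide +kernel)]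
  · rw [← map_mul, ← map_mul, ← map_mul,
      show x * y = y * x * z from Subtype.ext (show x.1 * y.1 = y.1 * x.1 * z.1 by decide +kernel)]
  · exact (show c.1 * z.1 ≠ z.1 * c.1 by decide +kernel)
      (congrArg Subtype.val (mem_center_iff.1 ((QuotientGroup.eq_one_iff _).1 h) c))

/-- `Sp₆(2)` -/
theorem s62 (hF : Fintype.card F = 2) : At 2 (PSp 3 F) := by
  intro S _ _ hs hn e p q K _ _ σ lam _ _ _ h1 _ P R H
  have hc : Nat.card S = 1451520 := (Nat.card_congr e.toEquiv).trans (H503.BG.card_s62 hF)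
  have h3 := h1.dp
  have h4 := h1.dq
  rw [hc] at h3 h4
  obtain rfl | ⟨rfl, rfl⟩ : q = 3 ∨ (q = 5 ∧ p = 7) := by
    rcases pairs h1 (a := 9) (b := 4) (c := 1) (d := 1) (e := 0) hc with
      ⟨rfl, rfl | rfl | rfl⟩ | ⟨rfl, rfl | rfl⟩ | ⟨rfl, rfl⟩ <;> omega
  · obtain ⟨τ⟩ := H164.ExplElt.exists_equiv hF
    exact (not_notAb h1.pq H.wa (e.trans (LieClassical.FieldTransfer.pspCongr 3 τ).symm) notAb_sp).elim
  have := MuL.charP_of Nat.prime_two (dvd_of_eq hF.symm)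
  have hI : Iso 7 S := Iso.congr (iso_of_list (L := [7, 9, 15, 10, 12, 8]) (fun x => by
    have h := H411.Six.ub_two' x
    rw [hF] at h
    rcases h with h | h | h | h | h | h | h | h | h
    exacts [⟨7, by simp, h⟩, ⟨9, by simp, h⟩, ⟨15, by simp, h.trans (by norm_num)⟩, ⟨15, by simp, h⟩, ⟨10, by simp, h⟩,
      ⟨12, by simp, h.trans (by norm_num)⟩, ⟨12, by simp, h⟩, ⟨12, by simp, h.trans (by norm_num)⟩,
      ⟨8, by simp, h⟩]) (by norm_num) (by decide)) e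
  exact com_of_not_ac hs hn h1 H (by rw [hc]; norm_num)
    (not_ac h1.pp h1.dp (by rw [hc]; norm_num) hI (by rw [hc]; norm_num))

end Cfsg.Agent.PQ.EA.Qk
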