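import Cfsg.Agent.PQ.EA.QkA
import Cfsg.Agent.H315.Cov.All

/-!
# S4982, the exceptional covers: the reduction to the list (helper18)

`qk_of` : the row `QPk` from the alternating row and the members `Mem2`.
-/

set_option autoImplicit false
set_option linter.unusedSectionVars false

namespace Cfsg.Agent.PQ.EA

open Cfsg Subgroup Cfsg.Agent.LV Matrix Cfsg.Agent.H315.Cov

namespace Qk

theorem at_no {r : ℕ} {X : Type} [Group X] (h : NoMul.{0} r X) : At r X :=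
  fun _ _ _ _ _ e _ _ K _ _ σ _ _ _ h0 _ h2 _ _ _ => (h.congr e K σ h2.st h0).elim

theorem dvd_card {r : ℕ} (F : Type) [Field F] [Fintype F] [CharP F r] : r ∣ Fintype.card F := by
  obtain ⟨n, -, hn⟩ := FiniteField.card F r
  exact hn ▸ dvd_pow_self r n.ne_zero

theorem eq_of {r s k n : ℕ} (hr : r.Prime) (hs : s.Prime) (h : r ∣ n) (e : n = s ^ k) : r = s :=
  (Nat.prime_dvd_prime_iff_eq hr hs).1 (hr.dvd_of_dvd_pow (e ▸ h))

variable {r : ℕ} {F : Type} [Field F] [Fintype F]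

theorem psl (alt : All (fun S _ => IsAlternating S) EL.QPs) (hr : r.Prime) (h : r ∣ Fintype.card F) {n : ℕ} (hn : 2 ≤ n)
    (h2 : n = 2 → 4 ≤ Fintype.card F) : At r (ProjectiveSpecialLinearGroup (Fin n) F) := by
  by_cases he : (n, Fintype.card F) ∈ ({(2, 4), (2, 9), (3, 2), (3, 4), (4, 2)} : Set (ℕ × ℕ))
  swap
  · exact at_no (noMul_psl_own hr h n hn h2 he)
  simp only [Set.mem_insert_iff, Set.mem_singleton_iff, Prod.mk.injEq] at he
  rcases he with ⟨rfl, e⟩ | ⟨rfl, e⟩ | ⟨rfl, e⟩ | ⟨rfl, e⟩ | ⟨rfl, e⟩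
  · exact at_alt alt le_rfl (S0252.result e)
  · exact at_alt alt (by norm_num) (S0254.result e)
  · exact eq_of (k := 1) hr Nat.prime_two h e ▸ l32 e
  · exact eq_of (k := 2) hr Nat.prime_two h e ▸ l34 e
  · exact at_alt alt (by norm_num) (S0256.result e)

theorem psu (hr : r.Prime) {n q : ℕ} (hF : Fintype.card F = q ^ 2) (h : r ∣ Fintype.card F) (hn : 3 ≤ n)
    (h2 : ¬ (n = 3 ∧ q = 2)) : At r (PSU n F q) := by
  by_cases he : (n, q) ∈ ({(4, 2), (4, 3), (6, 2)} : Set (ℕ × ℕ))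
  swap
  · exact at_no (noMul_psu_own hr n q hF hn h2 (hr.dvd_of_dvd_pow (hF ▸ h)) he)
  simp only [Set.mem_insert_iff, Set.mem_singleton_iff, Prod.mk.injEq] at he
  rcases he with ⟨rfl, rfl⟩ | ⟨rfl, rfl⟩ | ⟨rfl, rfl⟩
  · exact eq_of hr Nat.prime_two h hF ▸ u42 hF
  · exact eq_of hr Nat.prime_three h hF ▸ u43 hF
  · exact eq_of hr Nat.prime_two h hF ▸ u62 hF

theorem psp (hr : r.Prime) (h : r ∣ Fintype.card F) {m : ℕ} (hm : 2 ≤ m) (h2 : m = 2 → 3 ≤ Fintype.card F) :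
    At r (PSp m F) := by
  by_cases he : m = 3 ∧ Fintype.card F = 2
  · obtain ⟨rfl, e⟩ := he
    exact eq_of (k := 1) hr Nat.prime_two h e ▸ s62 e
  · exact at_no (noMul_psp hr m hm h2 fun e => ⟨even_iff_two_dvd.2 (e ▸ h), he⟩)

end Qk

open Qk in
/-- **the row `QPk`** -/
theorem qk_of (alt : All (fun S _ => IsAlternating S) EL.QPs) (M : Mem2) :
    AllC (fun r S _ => IsLieTypeChar r S) QPk := by
  intro r S _ _ hs hn hr h
  rcases h with h | h | h | h | h | h | h | h | h | h | h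
  · obtain ⟨F, _, _, _, n, h1, h2, ⟨e⟩⟩ := h
    exact psl alt hr (dvd_card F) h1 h2 S hs hn e
  · obtain ⟨F, _, _, _, n, h1, h2, ⟨e⟩⟩ := h
    exact psp hr (dvd_card F) h1 h2 S hs hn e
  · obtain ⟨F, _, _, _, n, q, h1, h2, h3, ⟨e⟩⟩ := h
    exact psu hr h1 (dvd_card F) h2 h3 S hs hn e
  · obtain ⟨F, _, _, _, m, h1, h2, ⟨e⟩⟩ := h
    by_cases he : r = 3 ∧ m = 3 ∧ Fintype.card F = 3
    · obtain ⟨rfl, rfl, h3⟩ := he
      exact M.o73 F h3 S hs hn e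
    · exact at_no (noMul_omegaOdd hr (fun h3 => Nat.not_even_iff_odd.2 h2 (even_iff_two_dvd.2 (h3 ▸ dvd_card (r := r) F)))
        m h1 h2 he) S hs hn e
  · obtain ⟨F, _, _, _, m, h1, ⟨e⟩⟩ := h
    by_cases he : m = 4 ∧ Fintype.card F = 2
    · obtain ⟨rfl, h3⟩ := he
      exact eq_of (k := 1) hr Nat.prime_two (dvd_card F) h3 ▸ M.o82 F h3 S hs hn e
    · exact at_no (noMul_omegaPlus hr m h1 fun h3 => ⟨even_iff_two_dvd.2 (h3 ▸ dvd_card (r := r) F), he⟩) S hs hn e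
  · obtain ⟨F, _, _, _, m, a, b, h1, h2, ⟨e⟩⟩ := h
    exact at_no (noMul_omegaMinus hr m h1 a b h2 fun h3 => even_iff_two_dvd.2 (h3 ▸ dvd_card (r := r) F)) S hs hn e
  · obtain ⟨F, _, _, _, ⟨h1, ⟨e⟩⟩ | ⟨⟨e⟩⟩ | ⟨⟨e⟩⟩ | ⟨⟨e⟩⟩ | ⟨⟨e⟩⟩⟩ := h
    · by_cases h3 : r = 3 ∧ Fintype.card F = 3
      · exact h3.1 ▸ M.g23 F h3.2 S hs hn e
      by_cases h4 : r = 2 ∧ Fintype.card F = 4
      · exact h4.1 ▸ M.g24 F h4.2 S hs hn e
      exact at_no (noMul_g2 hr h1 h3 h4) S hs hn e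
    · by_cases h3 : r = 2 ∧ Fintype.card F = 2
      · exact h3.1 ▸ M.f42 F h3.2 S hs hn e
      exact at_no (noMul_f4 hr h3) S hs hn e
    · exact at_no (noMul_e6_own hr (dvd_card F)) S hs hn e
    · exact at_no (noMul_e7_own hr (dvd_card F)) S hs hn e
    · exact at_no (noMul_e8 hr) S hs hn e
  · obtain ⟨F, _, _, _, q, h1, ⟨h2, ⟨e⟩⟩ | ⟨h2, ⟨e⟩⟩⟩ := h
    · by_cases h3 : q = 2
      · subst h3
        exact eq_of hr Nat.prime_two (dvd_card F) h2 ▸ M.te6 F h2 S hs hn e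
      exact at_no (noMul_te6_own hr h1 h2 (hr.dvd_of_dvd_pow (h2 ▸ dvd_card F)) h3) S hs hn e
    · exact at_no (noMul_td4 hr h1 h2) S hs hn e
  · obtain ⟨rfl, F, _, _, m, h1, h2, ⟨e⟩⟩ := h
    by_cases h3 : m = 1
    · subst h3
      exact M.sz8 F h2 S hs hn e
    exact at_no (noMul_sz hr h1 h2 fun h4 => h3 h4.2) S hs hn e
  · obtain ⟨rfl, F, _, _, m, h1, h2, ⟨e⟩⟩ := h
    exact at_no (noMul_tf4 hr h1 h2) S hs hn e
  · obtain ⟨rfl, F, _, _, m, h1, h2, ⟨e⟩⟩ := h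
    exact at_no (noMul_ree hr h1 h2) S hs hn e

end Cfsg.Agent.PQ.EA
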