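import Cfsg.Agent.PQ.EA.Defs3
import Cfsg.Agent.H501.PIrr

/-!
# S4982: transfer along a central extension (helper99)

`abs_up`, `act_up`, `px_up`, `cent_map`, `defl`.
-/

set_option autoImplicit false

namespace Cfsg.Agent.PQ.EA.Qz

open Cfsg Subgroup Cfsg.Agent.LV

variable {H S : Type} [Group H] [Group S] {π : H →* S} {l c o : ℕ}

theorem eq_one (hl : l.Prime) (hk : ¬ l ∣ Nat.card π.ker) {z : H} (h1 : π z = 1) {j : ℕ} (h2 : z ^ l ^ j = 1) :
    z = 1 := by
  have h3 : orderOf z ∣ Nat.card π.ker := orderOf_dvd_natCard _ h1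
  have h4 : (l ^ j).Coprime (Nat.card π.ker) := (hl.coprime_iff_not_dvd.2 hk).pow_left j
  exact orderOf_eq_one_iff.1 (Nat.eq_one_of_dvd_coprimes h4 (orderOf_dvd_of_pow_eq_one h2) h3)

theorem eq_one' (hl : l.Prime) (hk : ¬ l ∣ Nat.card π.ker) {A : Subgroup H} (hA : IsPGroup l A) {z : H} (hz : z ∈ A)
    (h1 : π z = 1) : z = 1 :=
  let ⟨_, hj⟩ := hA ⟨z, hz⟩
  eq_one hl hk h1 (congrArg Subtype.val hj)

/-- abelian Sylow subgroups -/
theorem abs_up (hl : l.Prime) (hk : ¬ l ∣ Nat.card π.ker) (h : AbS l S) : AbS l H := fun P => by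
  obtain ⟨Q, hQ⟩ := (P.2.map π).exists_le_sylow
  refine ⟨⟨fun a b => Subtype.ext ?_⟩⟩
  have h1 : π a * π b = π b * π a := congrArg Subtype.val
    ((h Q).is_comm.comm ⟨π a, hQ (mem_map_of_mem π a.2)⟩ ⟨π b, hQ (mem_map_of_mem π b.2)⟩)
  refine mul_inv_eq_one.1 (eq_one' hl hk P.2 (mul_mem (a * b).2 (inv_mem (b * a).2)) ?_)
  rw [map_mul, map_inv, coe_mul, coe_mul, map_mul, map_mul, h1, mul_inv_cancel]

theorem abs_of_wa [Finite S] (hc : c.Prime) (h : EL.WA c o S) : AbS c S := fun P => by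
  have := Fact.mk hc
  obtain ⟨j, hj⟩ := IsPGroup.iff_card.1 P.2
  exact ⟨⟨fun a b => Subtype.ext (h P (fun t ht hd => .inl ((Nat.prime_dvd_prime_iff_eq ht hc).1
    (ht.dvd_of_dvd_pow (hj ▸ hd)))) a a.2 b b.2)⟩⟩

theorem comm_of_wa [Finite H] (hc : c.Prime) (ho : o.Prime) (h : EL.WA c o S) (f : H →* S) {A : Subgroup H} [A.Normal]
    (hA : IsPGroup c A) {b : H} (hb : EL.El o b) {a : H} (ha : a ∈ A) : f a * f b = f b * f a := by
  have := Fact.mk hc
  refine h ((zpowers b ⊔ A).map f) (fun t ht hd => ?_) _ (mem_map_of_mem f (mem_sup_right ha)) _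
    (mem_map_of_mem f (mem_sup_left (mem_zpowers b)))
  have h1 := hd.trans (card_map_dvd _ f)
  rw [← card_mul_index (A.subgroupOf (zpowers b ⊔ A))] at h1
  obtain ⟨j, hj⟩ := IsPGroup.iff_card.1 (hA.comap_of_injective _ (zpowers b ⊔ A).subtype_injective)
  obtain ⟨i, hi⟩ := hb
  rcases (Nat.Prime.dvd_mul ht).1 h1 with h2 | h2
  · exact .inl ((Nat.prime_dvd_prime_iff_eq ht hc).1 (ht.dvd_of_dvd_pow (hj ▸ h2)))
  · have h3 : A.relIndex (zpowers b ⊔ A) ∣ o ^ i := by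
      rw [relIndex_sup_right, ← hi, ← Nat.card_zpowers]
      exact relIndex_dvd_card _ _
    exact .inr ((Nat.prime_dvd_prime_iff_eq ht ho).1 (ht.dvd_of_dvd_pow (h2.trans h3)))

/-- the action of the `o`-elements -/
theorem act_up [Finite H] (hc : c.Prime) (ho : o.Prime) (hk : ¬ c ∣ Nat.card π.ker) (h : EL.WA c o S) : Act c o H := by
  intro A hA b hb hn
  refine mem_centralizer_iff.2 fun a ha => ?_
  have h1 := comm_of_wa hc ho h (π.comp (normalizer (A : Set H)).subtype) (A := A.subgroupOf _)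
    (hA.comap_of_injective _ (normalizer (A : Set H)).subtype_injective) (b := ⟨b, hn⟩)
    (by simpa only [EL.El, ← orderOf_coe] using hb) (a := ⟨a, le_normalizer ha⟩) ha
  have h2 : π a * π b = π b * π a := h1
  have h3 : a * (b * a⁻¹ * b⁻¹) = 1 := eq_one' hc hk hA (mul_mem ha ((mem_normalizer_iff.1 hn _).1 (inv_mem ha))) (by
    rw [map_mul, map_mul, map_mul, map_inv, map_inv, ← mul_assoc, ← mul_assoc, h2]
    group)
  calc a * b = a * (b * a⁻¹ * b⁻¹) * (b * a) := by group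
    _ = b * a := by rw [h3, one_mul]

/-- class sizes -/
theorem px_up [Finite H] (hc : c.Prime) (hs : Function.Surjective π) (h : SS.PX c o S) : SS.PX c o H := by
  obtain ⟨x, ⟨j, hj⟩, h1⟩ := h
  obtain ⟨y, i, rfl, hi⟩ := H501.PIrr.exists_lift_pow π hs hc hj
  refine ⟨y, ⟨i, hi⟩, h1.trans ?_⟩
  rw [SS.cls, ← index_comap_of_surjective _ hs]
  refine index_dvd_of_le fun g hg => ?_
  rw [mem_comap, mem_centralizer_singleton_iff, ← map_mul, ← map_mul, mem_centralizer_singleton_iff.1 hg]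

/-- centralisers -/
theorem cent_map (hl : l.Prime) (hs : Function.Surjective π) (hz : π.ker ≤ center H) (hk : ¬ l ∣ Nat.card π.ker)
    {A : Subgroup H} (hA : IsPGroup l A) : centralizer ((A.map π : Subgroup S) : Set S) = (centralizer (A : Set H)).map π := by
  ext x
  obtain ⟨y, rfl⟩ := hs x
  refine ⟨fun h => mem_map_of_mem π (mem_centralizer_iff.2 fun a ha => ?_), ?_⟩
  · have h1 : π a * π y = π y * π a := mem_centralizer_iff.1 h _ (mem_map_of_mem π ha)
    have h2 : π (y * a * y⁻¹ * a⁻¹) = 1 := by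
      rw [map_mul, map_mul, map_mul, map_inv, map_inv, ← h1]
      group
    obtain ⟨j, hj⟩ := hA ⟨a, ha⟩
    have h3 : a ^ l ^ j = 1 := congrArg Subtype.val hj
    have h4 : Commute (y * a * y⁻¹ * a⁻¹) a := (mem_center_iff.1 (hz h2) a).symm
    have h5 := h4.mul_pow (l ^ j)
    rw [inv_mul_cancel_right, conj_pow, h3, mul_one, mul_one, mul_inv_cancel] at h5
    have h6 := eq_one hl hk h2 h5.symm
    rw [mul_inv_eq_one, mul_inv_eq_iff_eq_mul] at h6
    exact h6.symm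
  · rintro ⟨g, hg, h1⟩
    rw [← h1]
    refine mem_centralizer_iff.2 ?_
    rintro _ ⟨a, ha, rfl⟩
    rw [← map_mul, ← map_mul, mem_centralizer_iff.1 hg a ha]

/-- deflation -/
theorem defl [Finite H] (hs : Function.Surjective π) (χ : IrrCharacter H)
    (h : ∀ z, π z = 1 → (χ : H → ℂ) z = (χ : H → ℂ) 1) : ∃ θ : IrrCharacter S, ∀ g, (θ : S → ℂ) (π g) = (χ : H → ℂ) g := by
  have := Fintype.ofFinite π.ker
  obtain ⟨θ, hθ⟩ := Blocks.Deflate.exists_deflation π.ker χ χ.2 (by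
    rw [Finset.sum_congr rfl fun n _ => h n.1 n.2, Finset.sum_const, nsmul_eq_mul, Finset.card_univ]
    exact mul_ne_zero (Nat.cast_ne_zero.2 Fintype.card_ne_zero) (Blocks.Basic.irr_one_ne_zero χ.2))
  let e := QuotientGroup.quotientKerEquivOfSurjective π hs
  refine ⟨H684.BlockTools.infl e.symm.toMonoidHom e.symm.surjective θ, fun g => ?_⟩
  rw [hθ]
  exact congrArg (θ : _ → ℂ) (e.symm_apply_eq.2 (show π g = e (g : H ⧸ π.ker) from rfl))

end Cfsg.Agent.PQ.EA.Qz
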