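import Mathlib.RingTheory.Nakayama
import Mathlib.RingTheory.Polynomial.Resultant.Basic
import Mathlib.RingTheory.Polynomial.Cyclotomic.Roots
import Mathlib.FieldTheory.Finite.Basic
import Mathlib.Data.Nat.Choose.Dvd

/-!
# S4982, box Same: the lattice part (helper52)

* `nak` : Nakayama's lemma for a lattice which is killed by an irreducible polynomial;
* `mink` : an automorphism of odd prime power order which is trivial modulo the prime;
* `exists_q` : the cyclotomic polynomial modulo a prime; `split` : the two parts of an element of finite order.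
-/

set_option autoImplicit false
set_option linter.unusedSectionVars false
set_option linter.style.haveILetI false

namespace Cfsg.Agent.PQ.EA.SameL

open Polynomial Matrix

theorem bezout {Φ r : ℤ[X]} (hm : Φ.Monic) (hi : Irreducible (Φ.map (Int.castRingHom ℚ))) (h : ¬ Φ ∣ r) :
    ∃ (n : ℤ) (a b : ℤ[X]), n ≠ 0 ∧ Φ * a + r * b = C n := by
  have hj := (Int.castRingHom ℚ).injective_int
  obtain ⟨a, b, -, -, h1⟩ := exists_mul_add_mul_eq_C_resultant Φ r le_rfl le_rfl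
    (.inl (natDegree_map_eq_of_injective hj Φ ▸ hi.natDegree_pos.ne'))
  refine ⟨_, a, b, fun h2 => resultant_ne_zero _ _
    (hi.coprime_iff_not_dvd.2 fun h3 => h ((map_dvd_map _ hj hm).1 h3)) ?_, h1⟩
  rw [natDegree_map_eq_of_injective hj, natDegree_map_eq_of_injective hj, resultant_map_map, h2, map_zero]

variable {l : ℕ} [hl : Fact l.Prime] {Φ q : ℤ[X]}

theorem nakM {M : Type} [AddCommGroup M] [Module ℤ[X] M] [Module.Finite ℤ M] (ev : ℤ[X] →+* ZMod l) (hm : Φ.Monic)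
    (hi : Irreducible (Φ.map (Int.castRingHom ℚ))) (h0 : ev Φ = 0) (hq : ev q ≠ 0) (V V' : Submodule ℤ[X] M)
    (h1 : ∀ x ∈ V, Φ • x = 0) (h2 : ∀ x ∈ V, ∃ v ∈ V', ∃ y ∈ V, q • x = v + (l : ℤ) • y) :
    ∃ n : ℤ, n ≠ 0 ∧ ∀ x ∈ V, n • x ∈ V' := by
  obtain ⟨a, ha⟩ := ZMod.ringHom_surjective ev (ev q)⁻¹
  obtain ⟨r, h3, h4⟩ := Submodule.exists_sub_one_mem_and_smul_le_of_fg_of_le_sup (I := RingHom.ker ev) (N := V')
    (Submodule.FG.of_restrictScalars ℤ (IsNoetherian.noetherian (V.restrictScalars ℤ))) le_rfl fun x hx => by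
      obtain ⟨v, hv, y, hy, e⟩ := h2 x hx
      have e' : x = a • v + ((a * (l : ℤ)) • y + (1 - a * q) • x) := by
        rw [sub_smul, mul_smul a q, e, smul_add, mul_smul, Int.cast_smul_eq_zsmul, one_smul]
        abel
      rw [e']
      refine add_mem (Submodule.mem_sup_left (V'.smul_mem a hv)) (Submodule.mem_sup_right
        (add_mem (Submodule.smul_mem_smul ?_ hy) (Submodule.smul_mem_smul ?_ hx)))
      · rw [RingHom.mem_ker, map_mul, map_intCast, Int.cast_natCast, ZMod.natCast_self, mul_zero]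
      · rw [RingHom.mem_ker, map_sub, map_mul, ha, inv_mul_cancel₀ hq, map_one, sub_self]
  obtain ⟨n, b, c, h5, h6⟩ := bezout hm hi (r := r) (by
    rintro ⟨s, rfl⟩
    rw [RingHom.mem_ker, map_sub, map_mul, h0, zero_mul, map_one, zero_sub, neg_eq_zero] at h3
    exact one_ne_zero h3)
  refine ⟨n, h5, fun x hx => ?_⟩
  rw [← Int.cast_smul_eq_zsmul ℤ[X], ← eq_intCast C, ← h6, add_smul, mul_comm Φ, mul_smul, h1 x hx, smul_zero,
    zero_add, mul_smul]
  exact h4 (Submodule.smul_mem_pointwise_smul _ _ _ (V.smul_mem c hx))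

variable {R : Type} [Fintype R] [DecidableEq R] {g t : Matrix R R ℤ}

theorem aeval_mem {V : Submodule ℤ (R → ℤ)} (hV : ∀ x ∈ V, g *ᵥ x ∈ V) (p : ℤ[X]) : ∀ x ∈ V, aeval g p *ᵥ x ∈ V := by
  induction p using Polynomial.induction_on with
  | C a =>
    intro x hx
    rw [aeval_C, Algebra.algebraMap_eq_smul_one, smul_mulVec, one_mulVec]
    exact V.smul_mem a hx
  | add p q hp hq =>
    intro x hx
    rw [map_add, add_mulVec]
    exact add_mem (hp x hx) (hq x hx)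
  | monomial n a h =>
    intro x hx
    rw [pow_succ, ← mul_assoc, map_mul, aeval_X, ← mulVec_mulVec]
    exact h _ (hV x hx)

/-- **Nakayama** -/
theorem nak (ev : ℤ[X] →+* ZMod l) (hm : Φ.Monic) (hi : Irreducible (Φ.map (Int.castRingHom ℚ))) (h0 : ev Φ = 0)
    (hq : ev q ≠ 0) {V V' : Submodule ℤ (R → ℤ)} (hV : ∀ x ∈ V, g *ᵥ x ∈ V) (hV' : ∀ x ∈ V', g *ᵥ x ∈ V')
    (h1 : ∀ x ∈ V, aeval g Φ *ᵥ x = 0) (h2 : ∀ x ∈ V, ∃ v ∈ V', ∃ y ∈ V, aeval g q *ᵥ x = v + (l : ℤ) • y) :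
    ∃ n : ℤ, n ≠ 0 ∧ ∀ x ∈ V, n • x ∈ V' := by
  letI : Module ℤ[X] (R → ℤ) := Module.compHom _
    ((Matrix.toLinAlgEquiv' (R := ℤ) (n := R)).toRingEquiv.toRingHom.comp (aeval g).toRingHom)
  exact nakM ev hm hi h0 hq { V.toAddSubmonoid with smul_mem' := fun p x hx => aeval_mem hV p x hx }
    { V'.toAddSubmonoid with smul_mem' := fun p x hx => aeval_mem hV' p x hx } h1 h2

theorem comm_aeval (h : Commute g t) (p : ℤ[X]) : Commute (aeval g p) t := by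
  induction p using Polynomial.induction_on with
  | C a => rw [aeval_C]; exact Algebra.commutes a t
  | add p q hp hq => rw [map_add]; exact hp.add_left hq
  | monomial n a h1 => rw [pow_succ, ← mul_assoc, map_mul, aeval_X]; exact h1.mul_left h

theorem vec_comm (h : Commute g t) (x : R → ℤ) : g *ᵥ (t *ᵥ x) = t *ᵥ (g *ᵥ x) := by
  rw [mulVec_mulVec, mulVec_mulVec, h.eq]

theorem aeval_congr {P : Matrix R R ℤ} (h : g * P = t * P) (h' : Commute t P) (p : ℤ[X]) :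
    aeval g p * P = aeval t p * P := by
  induction p using Polynomial.induction_on with
  | C a => rw [aeval_C, aeval_C]
  | add p q hp hq => rw [map_add, map_add, add_mul, add_mul, hp, hq]
  | monomial n a h1 =>
    rw [pow_succ, ← mul_assoc, map_mul, map_mul (aeval t), aeval_X, aeval_X, mul_assoc, h, h'.eq, ← mul_assoc, h1,
      mul_assoc, ← h'.eq, mul_assoc]

theorem binom (n : ℕ) : ∃ ρ : ℤ[X], (1 + X) ^ n = 1 + X * (C (n : ℤ) + C (n.choose 2 : ℤ) * X + ρ * X * X) := by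
  induction n with
  | zero => exact ⟨0, by simp⟩
  | succ n ih =>
    obtain ⟨ρ, h⟩ := ih
    refine ⟨ρ + C (n.choose 2 : ℤ) + ρ * X, ?_⟩
    rw [pow_succ, h, Nat.choose_succ_succ' n 1, Nat.choose_one_right]
    simp only [Nat.cast_add, Nat.cast_one, map_add, map_one]
    ring

/-- the vectors which are killed by `A` -/
abbrev kr (A : Matrix R R ℤ) : Submodule ℤ (R → ℤ) := LinearMap.ker (Matrix.toLin' A)

theorem mem_kr {x : R → ℤ} : x ∈ kr g ↔ g *ᵥ x = 0 := Iff.rfl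

theorem kr_stab (h : Commute g t) (x : R → ℤ) (hx : x ∈ kr g) : t *ᵥ x ∈ kr g := by
  rw [mem_kr, vec_comm h, mem_kr.1 hx, mulVec_zero]

theorem exists_div {x : R → ℤ} (h : ∀ i, (l : ℤ) ∣ x i) : ∃ y, x = (l : ℤ) • y :=
  let ⟨y, hy⟩ := Classical.skolem.1 h
  ⟨y, funext hy⟩

theorem l_ne : (l : ℤ) ≠ 0 := Int.natCast_ne_zero.2 hl.out.ne_zero

theorem mink1 (ev : ℤ[X] →+* ZMod l) (hm : Φ.Monic) (hi : Irreducible (Φ.map (Int.castRingHom ℚ))) (h0 : ev Φ = 0)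
    (hq : ev q ≠ 0) (h2 : l ≠ 2) (hc : Commute g t)
    (h : ∀ x ∈ kr (aeval g Φ), ∀ i, (l : ℤ) ∣ (t *ᵥ (aeval g q *ᵥ x)) i)
    (h1 : ∀ x ∈ kr (aeval g Φ), (1 + t) ^ l *ᵥ x = x) : ∀ x ∈ kr (aeval g Φ), t *ᵥ x = 0 := by
  have c1 := comm_aeval hc Φ
  have c2 := comm_aeval hc q
  have c3 : Commute (aeval g Φ) (aeval g q) := (Commute.all Φ q).map (aeval g)
  have h3 : ∀ x ∈ kr (aeval g Φ), ∃ y ∈ kr (aeval g Φ), t *ᵥ (aeval g q *ᵥ x) = (l : ℤ) • y := fun x hx => by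
    obtain ⟨y, hy⟩ := exists_div (h x hx)
    have h4 := kr_stab c1 _ (kr_stab c3 x hx)
    rw [hy, mem_kr, mulVec_smul] at h4
    exact ⟨y, (smul_eq_zero.1 h4).resolve_left l_ne, hy⟩
  obtain ⟨e, he⟩ : l ∣ l.choose 2 := hl.out.dvd_choose_self two_ne_zero (lt_of_le_of_ne hl.out.two_le h2.symm)
  obtain ⟨ρ, hρ⟩ := binom l
  have h4 := congrArg (aeval t) hρ
  simp only [map_pow, map_add, map_mul, map_one, aeval_X, aeval_C, Algebra.algebraMap_eq_smul_one] at h4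
  obtain ⟨n, h5, h6⟩ := nak (g := g) (q := q * q) ev hm hi h0 (by rw [map_mul]; exact mul_ne_zero hq hq)
    (V := (kr (aeval g Φ)).map (Matrix.toLin' t)) (V' := ⊥)
    (by
      rintro _ ⟨x, hx, rfl⟩
      exact ⟨_, kr_stab (comm_aeval (Commute.refl g) Φ) x hx, (vec_comm hc x).symm⟩)
    (fun x hx => by rw [(Submodule.mem_bot ℤ).1 hx, mulVec_zero]; exact zero_mem _)
    (by
      rintro _ ⟨x, hx, rfl⟩
      exact kr_stab c1 x hx)
    (by
      rintro _ ⟨x, hx, rfl⟩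
      obtain ⟨y₁, a1, b1⟩ := h3 _ (kr_stab c3 x hx)
      obtain ⟨y₂, a2, b2⟩ := h3 x hx
      obtain ⟨y₃, a3, b3⟩ := h3 y₂ a2
      have h5 := h1 _ (kr_stab c3 _ (kr_stab c3 x hx))
      have h6 : t *ᵥ (t *ᵥ (aeval g q *ᵥ (aeval g q *ᵥ x))) = (l : ℤ) • (l : ℤ) • y₃ := by
        rw [← vec_comm c2 (aeval g q *ᵥ x), b2, mulVec_smul, mulVec_smul, b3]
      rw [h4, add_mulVec, one_mulVec, add_eq_left, ← mulVec_mulVec, add_mulVec, add_mulVec, ← mulVec_mulVec,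
        ← mulVec_mulVec, ← mulVec_mulVec, h6, smul_mulVec, smul_mulVec, one_mulVec, one_mulVec, b1, he, Nat.cast_mul,
        mul_smul, mulVec_smul, ← smul_add, ← smul_add, mulVec_smul] at h5
      have h7 := (smul_eq_zero.1 h5).resolve_left l_ne
      refine ⟨0, zero_mem _, _, ⟨-((e : ℤ) • y₁ + aeval t ρ *ᵥ y₃), neg_mem (add_mem (Submodule.smul_mem _ _ a1)
        (kr_stab (comm_aeval c1.symm ρ).symm _ a3)), rfl⟩, ?_⟩
      rw [add_assoc, mulVec_add, smul_comm (e : ℤ), mulVec_smul, ← smul_add, mulVec_smul, add_eq_zero_iff_eq_neg] at h7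
      rw [toLin'_apply, toLin'_apply, zero_add, map_mul, ← mulVec_mulVec, vec_comm c2, vec_comm c2, h7, mulVec_neg,
        smul_neg])
  exact fun x hx => (smul_eq_zero.1 ((Submodule.mem_bot ℤ).1 (h6 _ ⟨x, hx, rfl⟩))).resolve_left h5

/-- **Minkowski** -/
theorem mink (ev : ℤ[X] →+* ZMod l) (hm : Φ.Monic) (hi : Irreducible (Φ.map (Int.castRingHom ℚ))) (h0 : ev Φ = 0)
    (hq : ev q ≠ 0) (h2 : l ≠ 2) (hc : Commute g t)
    (h : ∀ x ∈ kr (aeval g Φ), ∀ i, (l : ℤ) ∣ ((t - 1) *ᵥ (aeval g q *ᵥ x)) i) (a : ℕ)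
    (h1 : ∀ x ∈ kr (aeval g Φ), t ^ l ^ a *ᵥ x = x) : ∀ x ∈ kr (aeval g Φ), t *ᵥ x = x := by
  induction a with
  | zero => simpa using h1
  | succ a ih =>
    refine ih fun x hx => ?_
    have h3 := mink1 (t := t ^ l ^ a - 1) ev hm hi h0 hq h2 ((hc.pow_right _).sub_right (Commute.one_right g))
      (fun x hx i => by
        obtain ⟨y, hy⟩ := exists_div (h x hx)
        rw [← geom_sum_mul, ← mulVec_mulVec, hy, mulVec_smul]
        exact dvd_mul_right _ _)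
      (fun x hx => by rw [add_sub_cancel, ← pow_mul, ← pow_succ, h1 x hx]) x hx
    rwa [sub_mulVec, one_mulVec, sub_eq_zero] at h3

theorem ev_int (u : ℤ) (p : ℤ[X]) : aeval (u : ZMod l) p = ((p.eval u : ℤ) : ZMod l) :=
  aeval_algebraMap_apply_eq_algebraMap_eval u p

theorem ord_pos {u : ℤ} (hu : (u : ZMod l) ≠ 0) : 0 < orderOf (u : ZMod l) ∧ ¬ l ∣ orderOf (u : ZMod l) := by
  have h1 := ZMod.orderOf_dvd_card_sub_one hu
  have h2 := hl.out.two_le
  have h3 := Nat.pos_of_dvd_of_pos h1 (by omega)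
  have h4 := Nat.le_of_dvd (by omega) h1
  exact ⟨h3, fun h => by have := Nat.le_of_dvd h3 h; omega⟩

/-- the cyclotomic polynomial has the simple root `u⁻¹` modulo `l` -/
theorem exists_q {u : ℤ} (hu : (u : ZMod l) ≠ 0) {d m : ℕ} (hd : orderOf (u : ZMod l) = d) (h1 : d ∣ m) (h2 : ¬ l ∣ m) :
    ∃ q ρ σ h : ℤ[X], (C u * X - 1) * q = ρ * cyclotomic d ℤ + C (l : ℤ) * σ ∧ X ^ m - 1 = cyclotomic d ℤ * h ∧
      aeval (u : ZMod l)⁻¹ (cyclotomic d ℤ) = 0 ∧ aeval (u : ZMod l)⁻¹ q ≠ 0 ∧ aeval (u : ZMod l)⁻¹ h ≠ 0 := by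
  obtain ⟨v, hv⟩ := ZMod.intCast_surjective (u : ZMod l)⁻¹
  obtain ⟨h, hh⟩ : cyclotomic d ℤ ∣ X ^ m - 1 := by
    obtain ⟨j, rfl⟩ := h1
    rw [pow_mul]
    exact (cyclotomic.dvd_X_pow_sub_one d ℤ).trans (sub_one_dvd_pow_sub_one _ j)
  have h3 : aeval (u : ZMod l)⁻¹ (cyclotomic d ℤ) = 0 := by
    rw [aeval_def, ← eval_map, map_cyclotomic]
    exact (hd ▸ (IsPrimitiveRoot.orderOf (u : ZMod l)).inv).isRoot_cyclotomic (hd ▸ (ord_pos hu).1)
  have h4 := modByMonic_add_div (cyclotomic d ℤ) (X - C v)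
  rw [modByMonic_X_sub_C_eq_C_eval] at h4
  obtain ⟨a, ha⟩ := (ZMod.intCast_zmod_eq_zero_iff_dvd _ l).1 ((ev_int v (cyclotomic d ℤ)).symm.trans (hv.symm ▸ h3))
  obtain ⟨b, hb⟩ := (ZMod.intCast_zmod_eq_zero_iff_dvd (u * v - 1) l).1 (by
    rw [Int.cast_sub, Int.cast_mul, hv, mul_inv_cancel₀ hu, Int.cast_one, sub_self])
  set q := cyclotomic d ℤ /ₘ (X - C v) with hq
  have h5 : aeval (u : ZMod l)⁻¹ (q * h) ≠ 0 := fun h0 => by
    have h6 : X ^ m - 1 = (X - C v) * (q * h) + C (l : ℤ) * (C a * h) := by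
      rw [hh, ← h4, ha, map_mul]
      ring
    have h7 := congrArg (fun p => aeval (u : ZMod l)⁻¹ (derivative p)) h6
    have h8 : aeval (u : ZMod l)⁻¹ (X - C v) = 0 := by rw [map_sub, aeval_X, aeval_C, eq_intCast, hv, sub_self]
    have h9 : aeval (u : ZMod l)⁻¹ (C (l : ℤ)) = 0 := by rw [aeval_C, eq_intCast, Int.cast_natCast, ZMod.natCast_self]
    beta_reduce at h7
    rw [derivative_add, derivative_mul, derivative_C_mul, map_add, map_add, map_mul, map_mul _ (X - C v),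
      map_mul _ (C (l : ℤ)), h0, h8, h9, mul_zero, zero_mul, zero_mul, add_zero, add_zero, derivative_sub,
      derivative_one, sub_zero, derivative_X_pow, map_mul, map_pow, aeval_X, aeval_C, map_natCast] at h7
    exact mul_ne_zero (fun h8 => h2 ((ZMod.natCast_eq_zero_iff m l).1 h8)) (pow_ne_zero _ (inv_ne_zero hu)) h7
  rw [map_mul] at h5
  refine ⟨q, C u, C b * q - C u * C a, h, ?_, hh, h3, left_ne_zero_of_mul h5, right_ne_zero_of_mul h5⟩
  have h6 := congrArg C hb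
  rw [ha, map_mul] at h4
  rw [map_sub, map_mul, map_mul, map_one] at h6
  linear_combination C u * h4 + q * h6

theorem split {A : Type} [Monoid A] {x : A} {m n : ℕ} (hm : 0 < m) (hn : 0 < n) (h : m.Coprime n) (h1 : x ^ (m * n) = 1) :
    ∃ s s' : ℕ, s ≡ 1 [MOD m] ∧ m ∣ s' ∧ x ^ s * x ^ s' = x ∧ (x ^ s) ^ m = 1 ∧ (x ^ s') ^ n = 1 := by
  have h2 := dvd_pow_self n (Nat.totient_pos.2 hm).ne'
  have h3 := dvd_pow_self m (Nat.totient_pos.2 hn).ne'
  have h4 := Nat.ModEq.pow_totient h.symm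
  refine ⟨n ^ m.totient, m ^ n.totient, h4, h3, ?_, ?_, ?_⟩
  · rw [← pow_add, pow_eq_pow_of_modEq ((Nat.modEq_and_modEq_iff_modEq_mul h).1
      ⟨h4.add (Nat.modEq_zero_iff_dvd.2 h3), (Nat.modEq_zero_iff_dvd.2 h2).add (Nat.ModEq.pow_totient h)⟩) h1, pow_one]
  · obtain ⟨j, hj⟩ := h2
    rw [hj, ← pow_mul, mul_comm, ← mul_assoc, pow_mul, h1, one_pow]
  · obtain ⟨j, hj⟩ := h3
    rw [hj, ← pow_mul, mul_right_comm, pow_mul, h1, one_pow]

end Cfsg.Agent.PQ.EA.SameL
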