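import Cfsg.Agent.PQ.EA.Defs2
import Cfsg.Agent.PQ.EA.SameA
import Cfsg.Agent.KM.Ht.Lev
import Cfsg.Agent.LV.Blk.Sit

/-!
# S4982, box Same: two primes with the same parameter (helper52)

* `SameL.exists_h` : no eigenvalue of order `d l ^ j`, `j > 0`;
* `SameL.sz_le` : the roots which are trivial on the `l`-part of `Z0`;
* `boxSame`.
-/

set_option autoImplicit false
set_option linter.unusedSectionVars false
set_option linter.style.haveILetI false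

namespace Cfsg.Agent.PQ.EA

open Cfsg Cfsg.Agent.LV Cfsg.Agent.DL Cfsg.Agent.KZ.Lie Cfsg.Agent.KM.Ht Cfsg.Agent.KM.Tor Polynomial Matrix

namespace SameL

variable {r : ℕ} [Fact r.Prime] {k : Type} [Field k] [CharP k r] {Y : Type} [Group Y] {N : Type} [Fintype N]
  [DecidableEq N] {ρ : Y →* GL N k} {F : MulAut Y} {G : Subgroup Y} [IsAlgClosed k] {D : Datum r ρ F G}
  {u : ℤ} {c l n : ℕ} {γ : Matrix D.R D.R ℤ}

theorem u_ne [hl : Fact l.Prime] [Nonempty D.R] (hp : l ≠ r) (h1 : D.Mx = u • γ) : (u : ZMod l) ≠ 0 := fun h => by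
  obtain ⟨d, e, H⟩ := D.exists_split'
  obtain ⟨i⟩ := ‹Nonempty D.R›
  have h2 := congrFun (congrFun (D.Mx_pow H) i) i
  rw [h1, _root_.smul_pow, Matrix.smul_apply, Matrix.smul_apply, one_apply_eq, smul_eq_mul, smul_eq_mul, mul_one] at h2
  have h3 : (l : ℤ) ∣ (r : ℤ) ^ e :=
    h2 ▸ (((ZMod.intCast_zmod_eq_zero_iff_dvd u l).1 h).trans (dvd_pow_self u H.d_pos.ne')).mul_right _
  rw [← Int.natCast_pow, Int.natCast_dvd_natCast] at h3
  exact hp ((Nat.prime_dvd_prime_iff_eq hl.out Fact.out).1 (hl.out.dvd_of_dvd_pow h3))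

theorem ga_Wm (h1 : D.Mx = u • γ) (hu : u ≠ 0) (v : D.W) : γ * D.Wm v = D.Wm (D.Fw v) * γ :=
  smul_right_injective _ hu (by
    show u • _ = u • _
    rw [← Matrix.smul_mul, ← Matrix.mul_smul, ← h1, D.Mx_Wm])

theorem pow_W (h1 : D.Mx = u • γ) (hu : u ≠ 0) (w : D.W) (i : ℕ) : ∃ v, (D.Wm w * γ) ^ i = D.Wm v * γ ^ i := by
  induction i with
  | zero => exact ⟨1, by rw [pow_zero, pow_zero, D.Wm_one, mul_one]⟩
  | succ i ih =>
    obtain ⟨v, hv⟩ := ih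
    exact ⟨w * D.Fw v, by rw [pow_succ', hv, mul_assoc, ← mul_assoc γ, ga_Wm h1 hu, D.Wm_mul, pow_succ', mul_assoc,
      mul_assoc]⟩

theorem Wm_pow (v : D.W) (i : ℕ) : D.Wm (v ^ i) = D.Wm v ^ i := map_pow D.WmHom v i

/-- **no eigenvalue of order `d l ^ j`** -/
theorem exists_h [hl : Fact l.Prime] (hp : l ≠ r) (h2 : l ≠ 2) (hA : AbS l ↥(GF F G)) (h1 : D.Mx = u • γ) (hn : γ ^ n = 1)
    (hn' : ¬ l ∣ n) (hu : (u : ZMod l) ≠ 0) {d : ℕ} (hd : orderOf (u : ZMod l) = d) (w : D.W) :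
    ∃ h : ℤ[X], aeval (D.Wm w * γ) (cyclotomic d ℤ) * aeval (D.Wm w * γ) h = 0 ∧ aeval (u : ZMod l)⁻¹ h ≠ 0 := by
  have := D.amb.finite_GF G
  letI := Fintype.ofFinite ↥(GF F G)
  have hu0 : u ≠ 0 := fun e => hu (by rw [e, Int.cast_zero])
  obtain ⟨hd0, hd1⟩ := hd ▸ ord_pos hu
  obtain ⟨w₁, h3⟩ := pow_W h1 hu0 w n
  rw [hn, mul_one] at h3
  obtain ⟨a, m₀, h4, h5⟩ := Nat.exists_eq_pow_mul_and_not_dvd (Nat.card_pos (α := D.W)).ne' l hl.out.ne_one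
  have h6 : ¬ l ∣ n * (m₀ * d) := fun h => (hl.out.dvd_mul.1 h).elim hn' fun h => (hl.out.dvd_mul.1 h).elim h4 hd1
  have h7 : ∀ j, (D.Wm w * γ) ^ (n * j) = D.Wm (w₁ ^ j) := fun j => by rw [pow_mul, h3, Wm_pow]
  obtain ⟨s, s', a1, ⟨j, a2⟩, a3, a4, a5⟩ := split (x := D.Wm w * γ) (m := n * (m₀ * d))
    (Nat.pos_of_ne_zero fun e => h6 (e ▸ dvd_zero l)) (pow_pos hl.out.pos a) ((hl.out.coprime_iff_not_dvd.2 h6).symm.pow_right a) (by
      rw [mul_assoc, h7, mul_right_comm, mul_comm m₀, ← h5, pow_mul, pow_card_eq_one', one_pow, D.Wm_one])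
  set v := w₁ ^ (m₀ * d * j) with hv
  set g := D.Wm w * γ with hg
  have h8 : g ^ s' = D.Wm v := by rw [a2, mul_assoc, h7]
  have hc : Commute (g ^ s) (D.Wm v) := h8 ▸ (Commute.refl g).pow_pow s s'
  rw [h8] at a3 a5
  have h9 : D.Wm (v⁻¹ * w) * γ = g ^ s := by
    rw [D.Wm_mul, mul_assoc, ← hg, ← a3, hc.eq, ← mul_assoc, ← D.Wm_mul, inv_mul_cancel, D.Wm_one, one_mul]
    rw [← hc.eq, a3]
  have h10 : v ∈ CW D (v⁻¹ * w) := D.Wm_injective ((IsUnit.of_pow_eq_one hn fun e => hn' (e ▸ dvd_zero l)).mul_right_cancel (by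
    rw [D.Wm_mul, mul_assoc, ← ga_Wm h1 hu0, ← mul_assoc, h9, D.Wm_mul v, mul_assoc, h9, hc.eq]))
  obtain ⟨q, ρ', σ, h, b1, b2, b3, b4, b5⟩ := exists_q hu hd (m := n * (m₀ * d)) ⟨n * m₀, by ring⟩ h6
  have h11 := mink (g := g ^ s) (t := D.Wm v) (aeval (u : ZMod l)⁻¹).toRingHom (cyclotomic.monic d ℤ)
    (by rw [map_cyclotomic]; exact cyclotomic.irreducible_rat hd0) b3 b4 h2 hc (fun x hx => by
      by_contra h11
      refine Blk.not_abS hl.out hp h10 ⟨a, D.Wm_injective (by rw [Wm_pow, a5, D.Wm_one])⟩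
        ⟨1, aeval (g ^ s) q *ᵥ x, fun i => ?_, by simpa only [pow_one] using h11⟩ hA
      have h12 := congrArg (fun p => aeval (g ^ s) p *ᵥ x) b1
      simp only [map_mul, map_sub, map_add, aeval_C, aeval_X, map_one, Algebra.algebraMap_eq_smul_one, smul_mul_assoc,
        one_mul, add_mulVec, ← mulVec_mulVec, mem_kr.1 hx, mulVec_zero, zero_add, smul_mulVec] at h12
      rw [h1, Matrix.mul_smul, h9, h12, pow_one]
      exact dvd_mul_right _ _) a fun x _ => by rw [a5, one_mulVec]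
  have h12 : aeval (g ^ s) (cyclotomic d ℤ) * aeval (g ^ s) h = 0 := by
    rw [← map_mul, ← b2, map_sub, map_pow, aeval_X, a4, map_one, sub_self]
  have h13 : D.Wm v * aeval (g ^ s) h = aeval (g ^ s) h := Matrix.toLin'.injective (LinearMap.ext fun y => by
    rw [toLin'_apply, toLin'_apply, ← mulVec_mulVec]
    exact h11 _ (by rw [mem_kr, mulVec_mulVec, h12, zero_mulVec]))
  refine ⟨expand ℤ s h, ?_, ?_⟩
  · rw [expand_aeval, aeval_congr (t := g ^ s) ?_ (comm_aeval (Commute.refl _) h).symm, h12]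
    conv_lhs => lhs; rw [← a3]
    rw [mul_assoc, h13]
  · rwa [expand_aeval, pow_eq_pow_of_modEq a1 (by
      rw [inv_pow, ← mul_assoc, mul_comm, pow_mul, ← hd, pow_orderOf_eq_one, one_pow, inv_one]), pow_one]

theorem mon_aeval {R : Type} [Fintype R] [DecidableEq R] {g : Matrix R R ℤ} {x : R → kˣ} {v : ℤ} (h : mon g x = x ^ v)
    (p : ℤ[X]) : mon (aeval g p) x = x ^ p.eval v := by
  induction p using Polynomial.induction_on with
  | C a => rw [aeval_C, Algebra.algebraMap_eq_smul_one, mon_zsmul, mon_one, eval_C]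
  | add p q hp hq => rw [map_add, mon_add, hp, hq, eval_add, _root_.zpow_add]
  | monomial n a h1 =>
    rw [pow_succ, ← mul_assoc, map_mul, aeval_X, mon_mul, h, map_zpow, h1, eval_mul_X, _root_.zpow_mul]

variable (D) in
/-- the `Φ`-part of the lattice of `Z0` -/
def VV (P : Matrix D.R D.R ℤ) (Z : Set Y) : Submodule ℤ (D.R → ℤ) where
  carrier := {v | (∀ b ∈ D.Sz Z, D.wt b ⬝ᵥ v = 0) ∧ P *ᵥ v = 0}
  add_mem' := fun hu hv => ⟨fun b hb => by rw [dotProduct_add, hu.1 b hb, hv.1 b hb, add_zero],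
    by rw [mulVec_add, hu.2, hv.2, add_zero]⟩
  zero_mem' := ⟨fun b _ => dotProduct_zero _, mulVec_zero _⟩
  smul_mem' := fun n v hv => ⟨fun b hb => by rw [dotProduct_smul, hv.1 b hb, smul_zero],
    by rw [mulVec_smul, hv.2, smul_zero]⟩

variable {P : Matrix D.R D.R ℤ} {Z Z' : Set Y}

theorem VV_sat (m : ℤ) (hm : m ≠ 0) (v : D.R → ℤ) (h : m • v ∈ VV D P Z) : v ∈ VV D P Z :=
  ⟨fun b hb => (smul_eq_zero.1 ((dotProduct_smul m _ _).symm.trans (h.1 b hb))).resolve_left hm,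
    (smul_eq_zero.1 ((mulVec_smul _ m _).symm.trans h.2)).resolve_left hm⟩

theorem stab (h1 : D.Mx = u • γ) (hu : u ≠ 0) (hZ : Z ⊆ D.T) (hF : ∀ z ∈ Z, F z = z) (hP : Commute P γ) (v : D.R → ℤ)
    (hv : v ∈ VV D P Z) : γ *ᵥ v ∈ VV D P Z := by
  refine VV_sat u hu _ ⟨fun b hb => ?_, by rw [mulVec_smul, vec_comm hP, hv.2, mulVec_zero, smul_zero]⟩
  obtain ⟨a, ha, rfl⟩ := (D.g_bijOn (A := D.Sz Z) D.Sz_root fun a ha =>
    D.g_mem_Sz hZ (fun z hz => (hF z hz).symm ▸ hz) ha).surjOn hb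
  rw [← smul_mulVec, ← h1, dotProduct_mulVec, D.wt_g ha.1, smul_dotProduct, hv.1 a ha, smul_zero]

theorem kill (h1 : D.Mx = u • γ) (hu : u ≠ 0) (hZ : Z ⊆ D.T) (hF : ∀ z ∈ Z, F z = z) {h : ℤ[X]}
    (hh : P * aeval γ h = 0) {m : D.R → ℤ} (hm : ∀ v ∈ VV D P Z, m ⬝ᵥ v = 0) {x : D.R → kˣ} (hx : D.τ x ∈ Z0 D Z) :
    chr m (mon (aeval γ h) x) = 1 := by
  have h2 : Z0 D Z ≤ ((chr m).comp (mon (aeval γ h))).ker.map D.τ := (Subgroup.closure_le _).2 (by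
    rintro _ ⟨v, a, hv, rfl⟩
    refine ⟨_, ?_, rfl⟩
    show chr m (mon _ _) = 1
    rw [mon_coch, chr_coch, show ∑ j, m j * _ = 0 from hm _ ⟨(aeval_mem (stab h1 hu hZ hF (Commute.zero_left γ)) h v
      ⟨hv, zero_mulVec v⟩).1, by rw [mulVec_mulVec, hh, zero_mulVec]⟩, zpow_zero])
  obtain ⟨y, h3, h4⟩ := h2 hx
  exact D.τ_inj h4 ▸ h3

/-- the roots which are orthogonal to the `Φ`-part are trivial on `Z` -/
theorem mem_Sz [hl : Fact l.Prime] (h1 : D.Mx = u • γ) (hu : (u : ZMod l) ≠ 0) (hF : ∀ z ∈ Z, F z = z) (he : El l Z)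
    (h0 : Z ⊆ Z0 D Z) {h : ℤ[X]} (hh : P * aeval γ h = 0) (hh' : aeval (u : ZMod l)⁻¹ h ≠ 0) {a : D.I → ℤ} (ha : D.Rt a)
    (hm : ∀ v ∈ VV D P Z, D.wt a ⬝ᵥ v = 0) : a ∈ D.Sz Z := ⟨ha, fun z hz => by
  have hZ : Z ⊆ D.T := h0.trans (Z0_le_T D Z)
  obtain ⟨x, rfl⟩ := (D.mem_T z).1 (hZ hz)
  obtain ⟨j, hj⟩ := he _ hz
  have h2 : x ^ (l : ℤ) ^ (j + 1) = 1 :=
    D.τ_inj (by rw [← Int.natCast_pow, zpow_natCast, map_pow, pow_succ, pow_mul, hj, one_pow, map_one])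
  have hc : ∀ y : ℤ, (y : ZMod l) ≠ 0 → IsCoprime y ((l : ℤ) ^ (j + 1)) := fun y hy =>
    ((Nat.prime_iff_prime_int.1 hl.out).irreducible.coprime_iff_not_dvd.2
      fun e => hy ((ZMod.intCast_zmod_eq_zero_iff_dvd y l).2 e)).symm.pow_right
  obtain ⟨v, b, h3⟩ := hc u hu
  have h4 : mon γ x ^ u = x := by rw [← mon_zsmul, ← h1, ← D.τ_inj.eq_iff, ← D.F_τ, hF _ hz]
  have h5 : mon γ x = x ^ v := by
    rw [← h4, ← _root_.zpow_mul, h4, mul_comm, eq_sub_of_add_eq h3, _root_.zpow_sub, zpow_one, mul_comm b,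
      _root_.zpow_mul, ← map_zpow, h2, map_one, _root_.one_zpow, inv_one, mul_one]
  have h6 := kill h1 (fun e => hu (by rw [e, Int.cast_zero])) hZ hF hh hm (h0 hz)
  rw [mon_aeval h5, map_zpow] at h6
  have h7 : (v : ZMod l) = (u : ZMod l)⁻¹ := by
    have h8 := congrArg (Int.cast : ℤ → ZMod l) h3
    rw [Int.cast_add, Int.cast_mul, Int.cast_mul, pow_succ, Int.cast_mul, Int.cast_natCast, ZMod.natCast_self, mul_zero,
      mul_zero, add_zero, Int.cast_one] at h8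
    exact eq_inv_of_mul_eq_one_left h8
  obtain ⟨α, β, h8⟩ := hc (h.eval v) (by rwa [← ev_int, h7])
  rw [D.χ_τ, ← zpow_one (chr _ x), ← h8, _root_.zpow_add, mul_comm α, mul_comm β, _root_.zpow_mul, h6, _root_.zpow_mul,
    ← map_zpow, h2, map_one, _root_.one_zpow, _root_.one_zpow, mul_one, Units.val_one]⟩

/-- **the `l`-part sees the whole `Φ`-part** -/
theorem orth [hl : Fact l.Prime] (hp : l ≠ r) (h1 : D.Mx = u • γ) (hu : (u : ZMod l) ≠ 0) {d : ℕ}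
    (hd : orderOf (u : ZMod l) = d) (hZ : Z ⊆ D.T) (hF : ∀ z ∈ Z, F z = z) (hF' : ∀ z ∈ Z', F z = z) (h0 : Z' ⊆ Z0 D Z')
    (hs : D.Sz Z ⊆ D.Sz Z') (hz : ∀ z ∈ Z0 D Z, F z = z → z ^ l = 1 → z ∈ Z') {h : ℤ[X]}
    (hh : aeval γ (cyclotomic d ℤ) * aeval γ h = 0) (hh' : aeval (u : ZMod l)⁻¹ h ≠ 0) {a : D.I → ℤ} (ha : a ∈ D.Sz Z')
    (v : D.R → ℤ) (hv : v ∈ VV D (aeval γ (cyclotomic d ℤ)) Z) : D.wt a ⬝ᵥ v = 0 := by
  have hZ' : Z' ⊆ D.T := h0.trans (Z0_le_T D Z')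
  have hu0 : u ≠ 0 := fun e => hu (by rw [e, Int.cast_zero])
  obtain ⟨hd0, hd1⟩ := hd ▸ ord_pos hu
  have hP := comm_aeval (Commute.refl γ) (cyclotomic d ℤ)
  obtain ⟨q, ρ', σ, -, b1, -, b3, b4, -⟩ := exists_q hu hd dvd_rfl hd1
  obtain ⟨s, J, K, hK, hJ⟩ := OP.exists_JK (VV D (aeval γ (cyclotomic d ℤ)) Z') VV_sat
  obtain ⟨ζ, hζ⟩ := Blk.exists_primL (k := k) hl.out hp 1
  rw [pow_one] at hζ
  obtain ⟨m, h2, h3⟩ := nak (q := h * q) (aeval (u : ZMod l)⁻¹).toRingHom (cyclotomic.monic d ℤ)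
    (by rw [map_cyclotomic]; exact cyclotomic.irreducible_rat hd0) b3 (by rw [map_mul]; exact mul_ne_zero hh' b4)
    (stab h1 hu0 hZ hF hP) (stab h1 hu0 hZ' hF' hP) (fun x hx => hx.2) fun x hx => by
      have h2 := aeval_mem (stab h1 hu0 hZ hF hP) q x hx
      have h3 : D.τ (coch (aeval γ q *ᵥ x) ζ) ∈ Z' := hz _ (mem_Z0 h2.1 ζ) (by
        rw [D.F_τ, (mon_coch_iff hζ _ _).2 fun i => ?_]
        have h12 := congrArg (fun p => aeval γ p *ᵥ x) b1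
        simp only [map_mul, map_sub, map_add, aeval_C, aeval_X, map_one, Algebra.algebraMap_eq_smul_one, smul_mul_assoc,
          one_mul, add_mulVec, ← mulVec_mulVec, hx.2, mulVec_zero, zero_add, smul_mulVec] at h12
        rw [h1, h12]
        exact dvd_mul_right _ _) (by rw [← map_pow, ← map_pow, hζ.pow_eq_one, map_one, map_one])
      obtain ⟨y, hy⟩ := exists_div (l := l) (x := (1 - J * K) *ᵥ (aeval γ (h * q) *ᵥ x)) fun i => by
        have h4 := kill h1 hu0 hZ' hF' hh (m := (1 - J * K : Matrix D.R D.R ℤ) i) (fun v hv => by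
          obtain ⟨y, rfl⟩ := (hJ v).1 hv
          show ((1 - J * K) *ᵥ (J *ᵥ y)) i = 0
          rw [mulVec_mulVec, Matrix.sub_mul, Matrix.mul_assoc, hK, Matrix.one_mul, Matrix.mul_one, sub_self, zero_mulVec,
            Pi.zero_apply]) (h0 h3)
        rw [mon_coch, chr_coch, hζ.zpow_eq_one_iff_dvd, mulVec_mulVec, ← map_mul] at h4
        exact h4
      rw [sub_mulVec, one_mulVec, ← mulVec_mulVec] at hy
      have h4 := (hJ _).2 ⟨K *ᵥ (aeval γ (h * q) *ᵥ x), rfl⟩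
      exact ⟨_, h4, y, VV_sat l l_ne y (hy ▸ sub_mem (aeval_mem (stab h1 hu0 hZ hF hP) _ x hx)
        ⟨fun b hb => h4.1 b (hs hb), h4.2⟩), by rw [← hy, add_sub_cancel]⟩
  exact (VV_sat m h2 v (h3 v hv)).1 a ha

end SameL

open SameL in
/-- **[Same]** -/
theorem boxSame : BoxSame := by
  intro r _ k _ _ Y _ N _ _ ρ F G _ D u c l hc hl hd A hA
  have := D.amb.finite_GF G
  have := Fact.mk hc.gd.pr
  have := Fact.mk hl.gd.pr
  obtain ⟨f, hf, hf'⟩ := hc.gd.pi1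
  obtain ⟨f', hg, hg'⟩ := hl.gd.pi1
  obtain ⟨P, hP⟩ := hA.exists_le_sylow
  have hF : ∀ B : Subgroup ↥(GF F G), ∀ z ∈ (B.map (GF F G).subtype : Set Y), F z = z := fun _ _ ⟨z, _, e⟩ => e ▸ z.2.2
  have hfin : ∀ B : Subgroup ↥(GF F G), (B.map (GF F G).subtype : Set Y).Finite := fun B =>
    (Set.toFinite (B : Set ↥(GF F G))).image _
  have he : ∀ (t : ℕ) (B : Subgroup ↥(GF F G)), IsPGroup t B → El t (B.map (GF F G).subtype : Set Y) :=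
    fun t B hB _ ⟨z, hz, e⟩ => let ⟨j, hj⟩ := hB ⟨z, hz⟩; ⟨j, e ▸ congrArg (fun x : B => ((x : GF F G) : Y)) hj⟩
  obtain ⟨y, hy, hN, h1, h2, h3⟩ := exists_frame hf hc.gd.pr hc.gd.ne hf' hc.gd.lev (hfin A) (fun _ ⟨z, _, e⟩ => e ▸ z.2.1)
    (fun z hz => (hF A z hz).symm ▸ hz) (he c A hA) fun _ ⟨a, ha, e⟩ _ ⟨b, hb, e'⟩ => e ▸ e' ▸
      congrArg (fun x : (P : Subgroup ↥(GF F G)) => ((x : GF F G) : Y)) ((hc.ab P).is_comm.comm ⟨a, hP ha⟩ ⟨b, hP hb⟩)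
  set A' := rZ (D.conj hy hN) (A.map (GF F G).subtype) (GF F G) l with hA'
  have h4 : (A'.map (GF F G).subtype : Set Y) ⊆ Z0 (D.conj hy hN) (A.map (GF F G).subtype) := fun _ ⟨z, hz, e⟩ => e ▸ hz.1
  have h5 := h4.trans (Z0_le_T _ _)
  have h6 := he l A' (rZ_p _ _ _ l)
  have h7 := cc (hg.conj hy hN) hl.gd.pr hl.gd.ne hg' (hl.gd.lev.conj hy hN) (hfin A') h5 h6
  have h8 := (Sz_le_Z0 _ _).trans (Sz_anti h4)
  have h9 : (D.conj hy hN).Sz (A.map (GF F G).subtype) = (D.conj hy hN).Sz (A'.map (GF F G).subtype) :=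
    h8.antisymm fun a ha => by
    have : Nonempty D.R := not_isEmpty_iff.1 fun _ => (D.conj hy hN).wt_ne_zero ha.1 (funext isEmptyElim)
    obtain ⟨γ, n, a1, a2, a3⟩ := hc.sca
    obtain ⟨γ', n', b1, b2, b3⟩ := hl.sca
    have hu := u_ne hc.gd.ne a1
    have hu' := u_ne hl.gd.ne a1
    obtain rfl : γ = γ' := smul_right_injective _ (fun e => hu (by rw [e, Int.cast_zero]) : u ≠ 0) (a1.symm.trans b1)
    have e : (D.conj hy hN).Mx = u • (D.Wm (D.pr (y⁻¹ * F y)) * γ) := by rw [D.conj_Mx, a1, Matrix.mul_smul]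
    obtain ⟨h, c1, c2⟩ := exists_h hc.gd.ne hc.two hc.ab a1 a2 a3 hu hd (D.pr (y⁻¹ * F y))
    obtain ⟨h', d1, d2⟩ := exists_h hl.gd.ne hl.two hl.ab a1 b2 b3 hu' rfl (D.pr (y⁻¹ * F y))
    exact mem_Sz e hu (hF A) (he c A hA) h2 c1 c2 ha.1 (orth hl.gd.ne e hu' rfl h1 (hF A) (hF A')
      ((hl.gd.lev.conj hy hN).le_Z0 hl.gd.pr h5 h6) h8 (fun z hz e1 e2 =>
        ⟨⟨z, (D.conj hy hN).T_le_G (Z0_le_T _ _ hz), e1⟩, ⟨hz, 1, Subtype.ext (by rwa [pow_one])⟩, rfl⟩) d1 d2 ha)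
  refine ⟨A', rZ_p _ _ _ l, fun g hg => ⟨fun h a ha => ?_, fun h a ha => ?_⟩⟩
  · exact ((D.conj hy hN).cen_le_centralizer h5 (cen_congr h9 ▸ h3 g hg fun _ ⟨z, hz, e⟩ => e ▸ (h z hz).symm)
      _ ⟨a, ha, rfl⟩).symm
  · exact ((D.conj hy hN).cen_le_centralizer h1 (cen_congr h9 ▸ h7 g hg fun _ ⟨z, hz, e⟩ => e ▸ (h z hz).symm)
      _ ⟨a, ha, rfl⟩).symm

end Cfsg.Agent.PQ.EA
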