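import Cfsg.Agent.PQ.EA.SporQE
import Cfsg.Agent.PQ.Spor.Tabs
import Cfsg.Agent.TH.Spor.J3Tab
import Cfsg.Agent.LV.Spor.Row35
import Cfsg.Agent.KM.Sp.Eng
import Cfsg.Agent.BHZ.Spor.Asm

/-!
# S4982: the row `QPs` for the sporadic groups and the Tits group (helper82)

`sporQ_of`, `titsQ`.
-/

set_option autoImplicit false

namespace Cfsg.Agent.PQ.EA

open Cfsg Subgroup Cfsg.Agent.TAB Cfsg.Agent.PQ.Spor Cfsg.Agent.PQ.EA.SQ Cfsg.Agent.H573.Spor Cfsg.Agent.LV.SpH

namespace SQ

/-- the Sylow `7`-subgroups of the O'Nan group are not abelian -/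
theorem on_7 {S : Type} [Group S] [Finite S] (h : Spor.IsoON S) : ¬ LV.AbS 7 S := fun hA => by
  have : Fact (Nat.Prime 7) := ⟨by norm_num⟩
  obtain ⟨e⟩ := h
  have : Finite Spor.ON := Finite.of_equiv S e.toEquiv
  obtain ⟨T, hm, hr, -⟩ := ON.exists_tab
  obtain ⟨x, hx⟩ := exists_ty hm (s := 8) (by decide +kernel) (by decide +kernel)
  refine (pcent hA).congr e x ⟨1, by rw [T.ord, hx]; decide +kernel⟩ ?_
  have h1 := KM.Sp.rat_dvd hm hr x
  rw [hx, ← hm.1, ← card_mul_index (centralizer {x}), mul_comm (Nat.card _), ← mul_assoc] at h1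
  exact Nat.Coprime.dvd_of_dvd_mul_left (by decide +kernel)
    (dvd_trans (by decide +kernel) (Nat.dvd_of_mul_dvd_mul_right Nat.card_pos h1))

end SQ

/-- **the sporadic groups** -/
theorem sporQ_of (hP : BoxCntP) (hQ : BoxCntQ) : All (fun S _ => IsSporadicGroup S) EL.QPs := by
  intro S _ _ hs hn h
  have : Fact (Nat.Prime 3) := ⟨Nat.prime_three⟩
  have : Fact (Nat.Prime 5) := ⟨Nat.prime_five⟩
  have : Fact (Nat.Prime 7) := ⟨by norm_num⟩
  have key : ∀ {D R} {m : ℕ}, HasT S D R → SQ.Mu m S → ∀ NA : List ℕ, (∀ l ∈ NA, ¬ LV.AbS l S) → SQ.chk D m NA = true →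
    EL.QPs S := fun ⟨_, hm, _⟩ hM => qps_of_mass hP hQ hs hn hm hM
  rcases h with h | h | h | h | h | h | h | h | h | h | h | h | h | h | h | h | h | h | h | h | h | h | h | h | h | h
  · exact h.elim fun e => (mu_of S2034.result e).qps
  · exact h.elim fun e => key (tM12.pull e) (mu_of S2035.result e) [] (List.forall_mem_nil _) (by decide +kernel)
  · exact h.elim fun e => key (tM22.pull e) (mu_of S2036.result e) [] (List.forall_mem_nil _) (by decide +kernel)
  · exact h.elim fun e => (mu_of S2037.result e).qps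
  · exact h.elim fun e => (mu_of S2038.result e).qps
  · exact h.elim fun e => (mu_of S2039.result e).qps
  · exact h.elim fun e => key (tJ2.pull e) (mu_of S2040.result e) [3]
      (List.forall_mem_singleton.2 fun a => j2_3 h (pcent a)) (by decide +kernel)
  · obtain ⟨T, hm, -⟩ := TH.Spor.J3.exists_tab h
    obtain ⟨F, _, _, ω, hF, hω, ⟨e⟩⟩ := h
    exact qps_of_mass hP hQ hs hn hm (mu_of (S2041.result hF ω hω) e) [] (List.forall_mem_nil _) (by decide +kernel)
  · exact h.elim fun e => (mu_of S2042.result e).qps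
  · exact h.elim fun e => key (tCo1.pull e) (mu_of S2043.result e) [3, 5] (List.forall_mem_cons.2
      ⟨fun a => co1_3 h (pcent a), List.forall_mem_singleton.2 fun a => co1_5 h (pcent a)⟩) (by decide +kernel)
  · exact h.elim fun e => (mu_of S2044.result e).qps
  · exact h.elim fun e => (mu_of S2045.result e).qps
  · exact h.elim fun e => key (tMcL.pull e) (mu_of S2047.result e) [] (List.forall_mem_nil _) (by decide +kernel)
  · exact h.elim fun e => key (tHS.pull e) (mu_of S2046.result e) [5]
      (List.forall_mem_singleton.2 fun a => hs_5 h (pcent a)) (by decide +kernel)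
  · exact h.elim fun e => key (tSuz.pull e) (mu_of S2048.result e) [3]
      (List.forall_mem_singleton.2 fun a => suz_3 h (pcent a)) (by decide +kernel)
  · exact h.elim fun e => (mu_of S2049.result e).qps
  · exact h.elim fun e => key (tRu.pull e) (mu_of S2051.result e) [5]
      (List.forall_mem_singleton.2 fun a => ru_5 h (pcent a)) (by decide +kernel)
  · exact h.elim fun e => key (tON.pull e) (mu_of S2052.result e) [7]
      (List.forall_mem_singleton.2 (SQ.on_7 h)) (by decide +kernel)
  · exact h.elim fun e => (mu_of S2050.result e).qps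
  · exact h.elim fun e => key (tFi22.pull e) (mu_of S2053.result e) [3]
      (List.forall_mem_singleton.2 fun a => fi22_3 h (pcent a)) (by decide +kernel)
  · exact h.elim fun e => (mu_of S2054.result e).qps
  · exact h.elim fun e => key (tFi24.pull e) (mu_of S2055.result e) [7]
      (List.forall_mem_singleton.2 fun a => fi24_7 h (pcent a)) (by decide +kernel)
  · exact h.elim fun e => (mu_of S2056.result e).qps
  · exact h.elim fun e => (mu_of S2057.result e).qps
  · exact h.elim fun e => key (tB.pull e) (mu_of S2058.result e) [3, 5] (List.forall_mem_cons.2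
      ⟨fun a => b_3 h (pcent a), List.forall_mem_singleton.2 fun a => b_5 h (pcent a)⟩) (by decide +kernel)
  · exact h.elim fun e => (mu_of S2059.result e).qps

/-- **the Tits group** -/
theorem titsQ : All (fun S _ => Lie.IsoTits S) EL.QPs := fun _ _ _ _ _ h =>
  h.elim fun e => (mu_of (X := Lie.TitsGroup) S2115.result (by exact e)).qps

end Cfsg.Agent.PQ.EA
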