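import Cfsg.Agent.PQ.EA.Defs
import Cfsg.Agent.PQ.Spor.Eng
import Cfsg.Agent.N2.Cl.RSp.Cnt
import Cfsg.Agent.H180.MElNum
import Cfsg.Agent.H404.Nse
import Cfsg.Agent.J2Type.SylowSeven

/-!
# S4982: the row `QPs` from the numbers of elements (helper82)

`Mu m S` : the kernels of the stem extensions have order dividing `m`; `au_mul` : the order of the automiser of a Sylow
subgroup of prime order; `chk`, `qps_of_mass`.
-/

set_option autoImplicit false
set_option linter.unusedSectionVars false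

namespace Cfsg.Agent.PQ.EA.SQ

open Cfsg Subgroup Cfsg.Agent.TAB.Eng Cfsg.Agent.PQ.Spor Cfsg.Agent.N2C.RSp

/-- the kernels of the stem extensions -/
def Mu (m : ℕ) (S : Type) [Group S] : Prop :=
  ∀ (K : Type) [Group K] [Finite K] (σ : K →* S), IsStemExtension σ → Nat.card σ.ker ∣ m

theorem mu_of {m : ℕ} {S X : Type} [Group S] [Group X] (h : HasCyclicSchurMultiplier X m) (e : S ≃* X) : Mu m S :=
  fun K _ _ σ k => by
    have h1 : (e.toMonoidHom.comp σ).ker = σ.ker := by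
      ext x
      exact e.map_eq_one_iff
    obtain ⟨π, hπ⟩ := h.2 K (e.toMonoidHom.comp σ) ⟨e.surjective.comp k.1, h1 ▸ k.2.1, h1 ▸ k.2.2⟩
    have h2 := card_dvd_of_surjective π hπ
    rwa [h1, Nat.card_congr Multiplicative.toAdd, Nat.card_zmod] at h2

theorem Mu.qps {S : Type} [Group S] (h : Mu 1 S) : EL.QPs S :=
  qps_of_triv fun K _ _ σ k => card_eq_one.1 (Nat.dvd_one.1 (h K σ k))

/-- no element of order `n` -/
def noOrd (D : Dat) (n : ℕ) : Bool := (List.range D.n).all fun j => D.ord j != n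

/-- the pair `13`, `7` -/
def surB (D : Dat) : Bool :=
  D.N % 169 != 0 && D.N % 49 != 0 && cntP D (· == 13) == cntP D (· % 13 == 0) && 78 * cntP D (· % 13 == 0) == D.N * 12

/-- **the check** -/
def chk (D : Dat) (m : ℕ) (NA : List ℕ) : Bool :=
  PL.prod ^ 50 % D.N == 0 && PL.all fun p => PL.all fun q =>
    D.N % p != 0 || D.N % q != 0 || decide (q ≤ 2) || decide (p ≤ q) || m == q || (NA.any fun c => c == p || c == q) ||
      (noOrd D (p * q) && ((D.N % q ^ 2 == 0 && noOrd D (q ^ 2)) ||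
        (D.N % p ^ 2 != 0 && (q - 1) * (p * cntP D (· % p == 0)) % (D.N * (p - 1)) != 0) ||
        (p == 13 && q == 7 && surB D)))

variable {S : Type} [Group S] [Finite S] {D : Dat} {T : TD S D} {p q : ℕ}

theorem ne_of_noOrd (T : TD S D) {n : ℕ} (h : noOrd D n = true) (x : S) : orderOf x ≠ n := by
  rw [T.ord]
  simpa using List.all_eq_true.1 h _ (List.mem_range.2 (T.lt x))

theorem exists_ord (U : Subgroup S) (hp : p.Prime) (h : p ∣ Nat.card U) : ∃ x ∈ U, orderOf x = p :=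
  have := Fact.mk hp
  let ⟨x, hx⟩ := exists_prime_orderOf_dvd_card' p h
  ⟨x, x.2, (Subgroup.orderOf_coe x).trans hx⟩

theorem abS_of_wa {l : ℕ} (hl : l.Prime) (h1 : l = p ∨ l = q) (hw : EL.WA p q S) : LV.AbS l S := fun P => by
  have := Fact.mk hl
  obtain ⟨j, hj⟩ := IsPGroup.iff_card.1 P.2
  exact ⟨⟨fun a b => Subtype.ext (hw P (fun r hr h8 => by
    rw [(Nat.prime_dvd_prime_iff_eq hr hl).1 (hr.dvd_of_dvd_pow (hj ▸ h8))]
    exact h1) a a.2 b b.2)⟩⟩

theorem nA_eq (hm : T.Mass) (p : ℕ) : nA S p = cntP D (· == p) :=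
  (Nat.card_congr (Equiv.subtypeEquivRight fun _ => beq_iff_eq.symm)).trans (card_P hm (· == p))

theorem nB_eq (hm : T.Mass) (p : ℕ) : nB S p = cntP D (· % p == 0) :=
  (Nat.card_congr (Equiv.subtypeEquivRight fun _ => Nat.dvd_iff_mod_eq_zero.trans beq_iff_eq.symm)).trans
    (card_P hm (· % p == 0))

/-- the orders of the centraliser and of the automiser of a Sylow subgroup of prime order -/
theorem au_mul [hp : Fact p.Prime] (h1 : p ∣ Nat.card S) (h2 : ¬ p ^ 2 ∣ Nat.card S) (P : Sylow p S) :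
    0 < nA S p ∧ nA S p * Nat.card (centralizer ((P : Subgroup S) : Set S)) = p * nB S p ∧
      au (P : Subgroup S) * (p * nB S p) = Nat.card S * (p - 1) := by
  have h0 := H404.Nse.card_sylow_eq h1 h2 P
  have h3 : (Nat.card S).factorization p = 1 := by
    have h4 := h0
    rw [P.card_eq_multiplicity] at h4
    exact Nat.pow_right_injective hp.out.two_le (h4.trans (pow_one p).symm)
  have h4 : Nat.card (Sylow p S) = (normalizer ((P : Subgroup S) : Set S)).index := P.card_eq_index_normalizer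
  obtain ⟨x, hx, h5⟩ := exists_ord (P : Subgroup S) hp.out h0.symm.dvd
  have h6 : zpowers x = P := eq_of_le_of_card_ge (zpowers_le.2 hx) (by rw [Nat.card_zpowers, h5, h0])
  have h7 : nA S p * Nat.card (centralizer ((P : Subgroup S) : Set S)) = p * nB S p := by
    rw [← h6, zpowers_eq_closure, centralizer_closure]
    exact card_cent hp.out h2 h5
  refine ⟨@Nat.card_pos _ ⟨⟨x, h5⟩⟩ _, h7, ?_⟩
  rw [← h7, nA, H180.MEl.card_order_prime h3, h4, ← index_mul_card (normalizer ((P : Subgroup S) : Set S)),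
    ← index_mul_card ((centralizer _).subgroupOf (normalizer _)),
    Nat.card_congr (subgroupOfEquivOfLe (centralizer_le_normalizer _)).toEquiv, au, relIndex]
  ring

theorem sum_ne (L : List ℕ) (h : ∀ e ∈ L, e ∣ 6) :
    (L.map fun e => e + (7 - 1) / e).sum ∈ [0, 5, 7] ∨ 10 ≤ (L.map fun e => e + (7 - 1) / e).sum := by
  induction L with
  | nil => simp
  | cons e L ih =>
    have h1 := h e List.mem_cons_self
    have h2 := Nat.le_of_dvd (by norm_num) h1
    have h3 := ih fun e he => h e (List.mem_cons_of_mem _ he)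
    rw [List.map_cons, List.sum_cons]
    generalize (L.map fun e => e + (7 - 1) / e).sum = s at *
    simp only [List.mem_cons, List.not_mem_nil, or_false] at *
    interval_cases e <;> omega

/-- **the pair `13`, `7`** : a self-centralising Sylow `13`-subgroup with automiser of order `6` -/
theorem not_qh (hP : BoxCntP) (hQ : BoxCntQ) (P : Sylow 13 S) (h6 : Nat.card (P : Subgroup S) = 13)
    (h9 : centralizer ((P : Subgroup S) : Set S) = P) (h11 : au (P : Subgroup S) = 6) (h7 : 7 ∣ Nat.card S)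
    (h2 : ¬ 7 ^ 2 ∣ Nat.card S) {K : Type} [Group K] [Finite K] {σ : K →* S} {lam : σ.ker →* ℂˣ} (k : QH 13 7 σ lam) :
    False := by
  have : Fact (Nat.Prime 7) := ⟨by norm_num⟩
  obtain ⟨Q⟩ : Nonempty (Sylow 7 K) := inferInstance
  have h12 := (hP 13 K S σ lam (by norm_num) k.st.1 k.st.2.1 k.zp P h6 h9 6 h11).1
  have h14 : Nat.card K = Nat.card S * Nat.card σ.ker := by
    rw [card_eq_card_quotient_mul_card_subgroup σ.ker,
      Nat.card_congr (QuotientGroup.quotientKerEquivOfSurjective σ k.st.1).toEquiv]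
  have h15 := H404.Nse.card_sylow_eq (h14 ▸ h7.mul_right _) (fun e => h2
    ((Nat.Coprime.pow_left 2 ((Nat.Prime.coprime_iff_not_dvd Fact.out).2 k.zq)).dvd_of_dvd_mul_right (h14 ▸ e))) Q
  obtain ⟨L, h16, h17⟩ := hQ 7 K σ.ker lam Fact.out k.st.2.1 Q h15 k.zq ⊥ bot_le fun g hg c _ _ => by
    rw [mem_bot.1 hg, one_mul, mul_one]
  have h18 : cnt 13 lam = cnt 7 lam := Nat.card_congr (Equiv.subtypeEquivRight fun χ => and_congr_right (k.ez χ))
  have h19 := sum_ne L fun e he => (h16 e he).2.trans (J2Type.SylowSeven.relIndex_dvd_of_card_prime _ Fact.out h15)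
  rw [← h17, ← h18, h12] at h19
  simp at h19

theorem not_sur (hP : BoxCntP) (hQ : BoxCntQ) (hm : T.Mass) (h : surB D = true)
    (h13 : 13 ∣ Nat.card S) (h7 : 7 ∣ Nat.card S) {K : Type} [Group K] [Finite K] {σ : K →* S} {lam : σ.ker →* ℂˣ}
    (k : QH 13 7 σ lam) : False := by
  simp only [surB, Bool.and_eq_true, bne_iff_ne, beq_iff_eq] at h
  obtain ⟨⟨⟨h1, h2⟩, h3⟩, h4⟩ := h
  have : Fact (Nat.Prime 13) := ⟨by norm_num⟩
  obtain ⟨P⟩ : Nonempty (Sylow 13 S) := inferInstance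
  have h5 : ¬ 13 ^ 2 ∣ Nat.card S := fun e => h1 (Nat.mod_eq_zero_of_dvd (hm.1 ▸ e))
  have h6 := H404.Nse.card_sylow_eq h13 h5 P
  obtain ⟨h8, h9, h10⟩ := au_mul h13 h5 P
  rw [← nA_eq hm, ← nB_eq hm] at h3
  rw [← nB_eq hm, ← hm.1] at h4
  rw [← h3, mul_comm 13] at h9 h10
  have := isCyclic_of_prime_card h6
  refine not_qh hP hQ P h6 (eq_of_le_of_card_ge (Subgroup.le_centralizer _) ((Nat.eq_of_mul_eq_mul_left h8 h9).trans
    h6.symm).le).symm (Nat.eq_of_mul_eq_mul_right (show 0 < nA S 13 * 13 by omega) ?_) h7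
    (fun e => h2 (Nat.mod_eq_zero_of_dvd (hm.1 ▸ e))) k
  omega

/-- **the row from the numbers of elements** -/
theorem qps_of_mass (hP : BoxCntP) (hQ : BoxCntQ) (hs : IsSimpleGroup S) (hn : ¬ IsMulCommutative S) (hm : T.Mass)
    {m : ℕ} (hM : Mu m S) (NA : List ℕ) (hA : ∀ l ∈ NA, ¬ LV.AbS l S) (h : chk D m NA = true) : EL.QPs S := by
  intro p q hp hq h3 h4 h5 h6 K _ _ σ k1 k2 k3 k4 lam k5 k6 P U H
  exfalso
  simp only [chk, Bool.and_eq_true, bne_iff_ne, beq_iff_eq, List.all_eq_true, Bool.or_eq_true, List.any_eq_true,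
    decide_eq_true_eq] at h
  obtain ⟨hN, h⟩ := h
  have := Fact.mk hp
  have := Fact.mk hq
  rcases h p (mem_PL hN hp (hm.1 ▸ h5)) q (mem_PL hN hq (hm.1 ▸ h6)) with
    (((((h | h) | h) | h) | h) | ⟨l, h1, h⟩) | ⟨h1, h⟩
  · exact h (Nat.mod_eq_zero_of_dvd (hm.1 ▸ h5))
  · exact h (Nat.mod_eq_zero_of_dvd (hm.1 ▸ h6))
  · omega
  · omega
  · rcases (Nat.dvd_prime hq).1 (h ▸ hM K σ k1) with e | e
    · exact k2 (card_eq_one.1 e)
    · exact k4 e.symm.dvd
  · exact hA l h1 (abS_of_wa (h.elim (fun e => e ▸ hp) fun e => e ▸ hq) h H.wa)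
  obtain rfl : U = ⊥ := by
    by_contra h7
    obtain ⟨⟨y, hy⟩, h8⟩ := ne_bot_iff_exists_ne_one.1 h7
    obtain ⟨⟨j, hj⟩, -⟩ := (H.mem y).1 hy
    obtain ⟨z, hz, h9⟩ := exists_ord (zpowers y) hq (by
      rw [Nat.card_zpowers, hj]
      exact dvd_pow_self q fun e => h8 (Subtype.ext (orderOf_eq_one_iff.1 (by rw [hj, e, pow_zero]))))
    obtain ⟨x, hx, h10⟩ := exists_ord P hp ((hp.dvd_mul.1 (P.index_mul_card ▸ h5)).resolve_left H.iP)
    refine ne_of_noOrd T h1 (x * z) ?_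
    rw [Commute.orderOf_mul_eq_mul_orderOf_of_coprime (((H.mem z).1 (zpowers_le.2 hy hz)).2 x hx)
      (by rw [h10, h9]; exact (Nat.coprime_primes hp hq).2 h4.ne'), h10, h9]
  rcases h with (⟨h7, h8⟩ | ⟨h7, h8⟩) | ⟨⟨rfl, rfl⟩, h7⟩
  · obtain ⟨Q⟩ : Nonempty (Sylow q S) := inferInstance
    have := cy_of_hy H Q
    obtain ⟨y, hy⟩ := IsCyclic.exists_ofOrder_eq_natCard (α := (Q : Subgroup S))
    have h9 := hy ▸ Q.pow_dvd_card_of_pow_dvd_card (hm.1 ▸ Nat.dvd_of_mod_eq_zero h7)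
    exact ne_of_noOrd T h8 _ ((Subgroup.orderOf_coe _).trans (orderOf_pow_orderOf_div (orderOf_pos y).ne' h9))
  · obtain ⟨Q⟩ : Nonempty (Sylow p S) := inferInstance
    refine h8 (Nat.mod_eq_zero_of_dvd ?_)
    rw [← hm.1, ← nB_eq hm, ← (au_mul h5 (fun e => h7 (Nat.mod_eq_zero_of_dvd (hm.1 ▸ e))) Q).2.2]
    exact Nat.mul_dvd_mul_right (H.ac hs hn h5 h6 Q) _
  · exact not_sur hP hQ hm h7 h5 h6 ⟨k1, k2, k3, k4, k5, k6⟩

end Cfsg.Agent.PQ.EA.SQ
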